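import Cfsg.Agent.S5626
import Cfsg.Agent.S5627
import Cfsg.Agent.S5628
import Cfsg.Agent.Lib.Classical.Linear

/-!
# Simple groups of order 20160 of collineations of the plane of order four are `PSL₃(4)`
-/

set_option autoImplicit false
set_option linter.style.haveILetI false
set_option linter.unusedSectionVars false

namespace Cfsg.Agent.CIT.PlaneAut

open scoped Pointwise LinearAlgebra.Projectivization

universe u v

theorem exists_hyperoval {α : Type u} [Fintype α] [DecidableEq α] (hα : Fintype.card α = 21)
    {L : Set (Finset α)} (hL : Cfsg.IsSteinerSystem 2 5 L) :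
    ∃ H : Finset α, H.card = 6 ∧ ∀ l ∈ L, (l ∩ H).card ≤ 2 := by
  have h := (Cfsg.Agent.S5627.result hα L hL).2.1
  have hne : {H : Finset α | (H.card = 6 ∧ ∀ l ∈ L, (l ∩ H).card ≤ 2)}.ncard ≠ 0 := by
    rw [h]; omega
  obtain ⟨H, hH⟩ := Set.nonempty_of_ncard_ne_zero hne
  exact ⟨H, hH⟩

theorem card_aut_le {α : Type u} [Fintype α] [DecidableEq α] (hα : Fintype.card α = 21)
    {L : Set (Finset α)} (hL : Cfsg.IsSteinerSystem 2 5 L) :
    Nat.card (Cfsg.setSystemAut L) ≤ 120960 := by
  classical
  obtain ⟨H, hH⟩ := exists_hyperoval hα hL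
  set W := Cfsg.setSystemAut L
  have himage : ∀ (g : W) (s : Finset α), g • s = s.image (g : Equiv.Perm α) := fun g s => rfl
  have horb : MulAction.orbit W H ⊆
      {H : Finset α | (H.card = 6 ∧ ∀ l ∈ L, (l ∩ H).card ≤ 2)} := by
    rintro _ ⟨g, rfl⟩
    refine ⟨by simp only [himage]; rw [Finset.card_image_of_injective _ (Equiv.injective _)]; exact hH.1,
      fun l hl => ?_⟩
    have hmem : g⁻¹ • l ∈ L := by
      have := (Cfsg.Agent.S5628.mem_aut_iff L _).1 (g⁻¹).2 l
      rw [himage]
      exact this.2 hl
    calc (l ∩ g • H).card = (g • ((g⁻¹ • l) ∩ H)).card := by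
          congr 1
          rw [himage g (_ ∩ H), Finset.image_inter _ _ (Equiv.injective _), ← himage, ← himage,
            smul_inv_smul]
      _ ≤ 2 := by
          rw [himage, Finset.card_image_of_injective _ (Equiv.injective _)]
          exact hH.2 _ hmem
  have h1 : Nat.card (MulAction.orbit W H) ≤ 168 := by
    rw [Nat.card_coe_set_eq]
    exact (Set.ncard_le_ncard horb (Set.toFinite _)).trans (Cfsg.Agent.S5627.result hα L hL).2.1.le
  have hstab : ∀ g : MulAction.stabilizer W H, ∀ p : α,
      p ∈ H ↔ ((g : W) : Equiv.Perm α) p ∈ H := by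
    intro g p
    have hg : H.image ((g : W) : Equiv.Perm α) = H := g.2
    refine Iff.trans ((Equiv.injective ((g : W) : Equiv.Perm α)).mem_finset_image).symm ?_
    rw [hg]
  have h2 : Nat.card (MulAction.stabilizer W H) ≤ 720 := by
    let f : MulAction.stabilizer W H → Equiv.Perm H := fun g =>
      (((g : W) : Equiv.Perm α)).subtypeEquiv (hstab g)
    have hf : Function.Injective f := by
      intro g k e
      obtain ⟨w, -, huniq⟩ := Cfsg.Agent.S5628.result hα L hL H hH (f g)
      refine Subtype.ext (Subtype.ext ?_)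
      rw [huniq ((g : W) : Equiv.Perm α) ⟨(g : W).2, fun p => rfl⟩,
        huniq ((k : W) : Equiv.Perm α) ⟨(k : W).2, fun p => by rw [e]; rfl⟩]
    refine (Nat.card_le_card_of_injective f hf).trans (le_of_eq ?_)
    rw [Nat.card_perm, Nat.card_eq_fintype_card, Fintype.card_coe, hH.1]
    rfl
  calc Nat.card W = Nat.card (MulAction.orbit W H) * Nat.card (MulAction.stabilizer W H) :=
        ((Nat.card_congr (MulAction.orbitProdStabilizerEquivGroup W H)).symm.trans (Nat.card_prod _ _))
    _ ≤ 168 * 720 := Nat.mul_le_mul h1 h2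

/-- A simple subgroup of order greater than `k!` lies in every subgroup of index `k`. -/
theorem le_of_simple {W : Type u} [Group W] [Finite W] (X Y : Subgroup W) [IsSimpleGroup X]
    (hY : Y.index.factorial < Nat.card X) : X ≤ Y := by
  classical
  let φ : X →* Equiv.Perm (W ⧸ Y) := (MulAction.toPermHom W (W ⧸ Y)).comp X.subtype
  rcases Subgroup.Normal.eq_bot_or_eq_top (inferInstance : φ.ker.Normal) with hk | hk
  · have := Nat.card_le_card_of_injective φ ((MonoidHom.ker_eq_bot_iff φ).1 hk)
    rw [Nat.card_perm] at this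
    exact absurd this (not_le.2 hY)
  · intro x hx
    have h1 : φ ⟨x, hx⟩ = 1 := (MonoidHom.mem_ker).1 (hk ▸ Subgroup.mem_top _)
    have h2 : x • ((1 : W) : W ⧸ Y) = ((1 : W) : W ⧸ Y) :=
      congrArg (fun f : Equiv.Perm (W ⧸ Y) => f ((1 : W) : W ⧸ Y)) h1
    rw [MulAction.Quotient.smul_coe, smul_eq_mul, mul_one, QuotientGroup.eq, mul_one] at h2
    exact inv_mem_iff.1 h2

section Model

variable (F : Type) [Field F]

/-- The lines of the projective plane over `F`. -/
def lineSet [Fintype F] : Set (Finset (ℙ F (Fin 3 → F))) :=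
  {s | ∃ W : Submodule F (Fin 3 → F), Module.finrank F W = 2 ∧ ∀ p, p ∈ s ↔ p.submodule ≤ W}

variable [Fintype F]

theorem card_points (hF : Fintype.card F = 4) : Nat.card (ℙ F (Fin 3 → F)) = 21 := by
  rw [Projectivization.card'', Nat.card_eq_fintype_card, Nat.card_eq_fintype_card,
    Fintype.card_fun, Fintype.card_fin, hF]
  norm_num

theorem steiner_lineSet (hF : Fintype.card F = 4) : Cfsg.IsSteinerSystem 2 5 (lineSet F) := by
  classical
  haveI : Fintype (ℙ F (Fin 3 → F)) := Fintype.ofFinite _
  refine ⟨?_, ?_⟩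
  · rintro s ⟨W, hW, hs⟩
    have hmem : ∀ q : ℙ F W, Projectivization.map W.subtype W.injective_subtype q ∈ s := fun q => by
      induction q using Projectivization.ind with
      | h v hv =>
        rw [hs, Projectivization.map_mk, Projectivization.submodule_mk,
          Submodule.span_singleton_le_iff_mem]
        exact v.2
    let f : ℙ F W → s := fun q => ⟨_, hmem q⟩
    have hbij : Function.Bijective f := by
      refine ⟨fun a b e => Projectivization.map_injective W.subtype W.injective_subtype (congrArg Subtype.val e), ?_⟩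
      rintro ⟨p, hp⟩
      rw [hs, Projectivization.submodule_eq, Submodule.span_singleton_le_iff_mem] at hp
      refine ⟨Projectivization.mk F (⟨p.rep, hp⟩ : W) (fun e => p.rep_nonzero (congrArg Subtype.val e)),
        Subtype.ext ?_⟩
      exact (Projectivization.map_mk W.subtype W.injective_subtype _ _).trans p.mk_rep
    rw [← Fintype.card_coe, ← Nat.card_eq_fintype_card, ← Nat.card_congr (Equiv.ofBijective f hbij),
      Projectivization.card_of_finrank_two F W hW, Nat.card_eq_fintype_card, hF]
  · intro t ht
    obtain ⟨p, q, hpq, rfl⟩ := Finset.card_eq_two.1 ht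
    have h2 : Module.finrank F (p.submodule ⊔ q.submodule : Submodule F (Fin 3 → F)) = 2 := by
      have hi : p.submodule ⊓ q.submodule = ⊥ := by
        by_contra hne
        have hle := Submodule.one_le_finrank_iff.2 hne
        have e1 : p.submodule ⊓ q.submodule = p.submodule :=
          Submodule.eq_of_le_of_finrank_le inf_le_left (by rw [p.finrank_submodule]; exact hle)
        have e2 : p.submodule ⊓ q.submodule = q.submodule :=
          Submodule.eq_of_le_of_finrank_le inf_le_right (by rw [q.finrank_submodule]; exact hle)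
        exact hpq (Projectivization.submodule_injective (e1.symm.trans e2))
      have := Submodule.finrank_sup_add_finrank_inf_eq p.submodule q.submodule
      rw [hi, finrank_bot, p.finrank_submodule, q.finrank_submodule] at this
      omega
    refine ⟨Finset.univ.filter fun r => r.submodule ≤ p.submodule ⊔ q.submodule,
      ⟨⟨_, h2, fun r => by simp⟩, ?_⟩, ?_⟩
    · intro r hr
      simp only [Finset.mem_insert, Finset.mem_singleton] at hr
      rcases hr with rfl | rfl <;> simp
    · rintro s ⟨⟨W, hW, hs⟩, hsub⟩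
      simp only [Finset.insert_subset_iff, Finset.singleton_subset_iff, hs] at hsub
      have e : p.submodule ⊔ q.submodule = W :=
        Submodule.eq_of_le_of_finrank_le (sup_le hsub.1 hsub.2) (by rw [hW, h2])
      ext r
      simp [hs, e]

variable {F}

theorem submodule_smul (g : Matrix.SpecialLinearGroup (Fin 3) F) (p : ℙ F (Fin 3 → F)) :
    (g • p).submodule = p.submodule.map (Matrix.SpecialLinearGroup.toLin' g).toLinearMap := by
  induction p using Projectivization.ind with
  | h v hv =>
    rw [Projectivization.matrixSpecialLinearGroup_smul_def, Projectivization.smul_mk,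
      Projectivization.submodule_mk, Projectivization.submodule_mk, Submodule.map_span,
      Set.image_singleton]
    rfl

theorem exists_model [DecidableEq (ℙ F (Fin 3 → F))] :
    ∃ φ : Matrix.ProjectiveSpecialLinearGroup (Fin 3) F →* Equiv.Perm (ℙ F (Fin 3 → F)),
      Function.Injective φ ∧ φ.range ≤ Cfsg.setSystemAut (lineSet F) := by
  haveI : Fintype (ℙ F (Fin 3 → F)) := Fintype.ofFinite _
  let φ := MulAction.toPermHom (Matrix.ProjectiveSpecialLinearGroup (Fin 3) F) (ℙ F (Fin 3 → F))
  refine ⟨φ, ?_, ?_⟩
  · haveI := Classical.Linear.isSimpleGroup_PSL (n := Fin 3) (F := F) (by simp)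
    rcases Subgroup.Normal.eq_bot_or_eq_top (inferInstance : φ.ker.Normal) with hk | hk
    · exact (MonoidHom.ker_eq_bot_iff φ).1 hk
    · exfalso
      let t : Matrix.SpecialLinearGroup (Fin 3) F :=
        Matrix.SpecialLinearGroup.transvection (show (0 : Fin 3) ≠ 1 by decide) 1
      have hv : (Pi.single 1 1 : Fin 3 → F) ≠ 0 := by simp
      have h1 : φ (t : Matrix.ProjectiveSpecialLinearGroup (Fin 3) F) = 1 :=
        MonoidHom.mem_ker.1 (hk ▸ Subgroup.mem_top _)
      have h2 : (t : Matrix.ProjectiveSpecialLinearGroup (Fin 3) F) • Projectivization.mk F _ hv =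
          Projectivization.mk F _ hv :=
        congrArg (fun f : Equiv.Perm (ℙ F (Fin 3 → F)) => f (Projectivization.mk F _ hv)) h1
      rw [Matrix.ProjectiveSpecialLinearGroup.smul_proj_mk] at h2
      have h3 := congrArg Projectivization.submodule h2
      rw [submodule_smul, Projectivization.submodule_mk, Submodule.map_span, Set.image_singleton] at h3
      have h4 : Matrix.mulVec (t : Matrix (Fin 3) (Fin 3) F) (Pi.single 1 1) ∈
          F ∙ (Pi.single 1 1 : Fin 3 → F) := h3 ▸ Submodule.mem_span_singleton_self _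
      obtain ⟨a, ha⟩ := Submodule.mem_span_singleton.1 h4
      have := congrFun ha 0
      simp [t, Matrix.SpecialLinearGroup.transvection_coe] at this
  · rintro _ ⟨x, rfl⟩
    obtain ⟨g, rfl⟩ := QuotientGroup.mk_surjective x
    rw [Cfsg.Agent.S5628.mem_aut_iff]
    have key : ∀ (g : Matrix.SpecialLinearGroup (Fin 3) F) (s : Finset (ℙ F (Fin 3 → F))),
        s ∈ lineSet F → s.image (fun p => g • p) ∈ lineSet F := by
      rintro g s ⟨W, hW, hs⟩
      set e := Matrix.SpecialLinearGroup.toLin' g
      refine ⟨W.map e.toLinearMap, by rw [LinearEquiv.finrank_map_eq]; exact hW, fun p => ?_⟩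
      constructor
      · intro hp
        obtain ⟨q, hq, rfl⟩ := Finset.mem_image.1 hp
        rw [submodule_smul]
        exact Submodule.map_mono ((hs q).1 hq)
      · intro hp
        refine Finset.mem_image.2 ⟨g⁻¹ • p, (hs _).2 ?_, smul_inv_smul g p⟩
        rw [← smul_inv_smul g p, submodule_smul] at hp
        exact (Submodule.map_le_map_iff_of_injective e.injective _ _).1 hp
    intro s
    have himg : ∀ (g : Matrix.SpecialLinearGroup (Fin 3) F) (s : Finset (ℙ F (Fin 3 → F))),
        s.image (φ (g : Matrix.ProjectiveSpecialLinearGroup (Fin 3) F)) = s.image (fun p => g • p) :=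
      fun g s => Finset.image_congr fun p _ => Matrix.ProjectiveSpecialLinearGroup.smul_proj_mk g p
    refine ⟨fun h => ?_, fun h => ?_⟩
    · have := key g⁻¹ _ h
      rw [Finset.image_image] at this
      convert this using 1
      conv_lhs => rw [← Finset.image_id (s := s)]
      refine Finset.image_congr fun p _ => ?_
      show p = g⁻¹ • φ (g : Matrix.ProjectiveSpecialLinearGroup (Fin 3) F) p
      rw [show φ (g : Matrix.ProjectiveSpecialLinearGroup (Fin 3) F) p = g • p from
        Matrix.ProjectiveSpecialLinearGroup.smul_proj_mk g p, inv_smul_smul]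
    · rw [himg]; exact key g _ h

theorem card_psl (hF : Fintype.card F = 4) :
    Nat.card (Matrix.ProjectiveSpecialLinearGroup (Fin 3) F) = 20160 := by
  have h1 := Classical.Linear.gcd_mul_natCard_PSL_fin (F := F) (show 1 ≤ 3 by norm_num)
  have h2 := Classical.Linear.mul_natCard_SL_fin (F := F) (show 1 ≤ 3 by norm_num)
  rw [hF] at h1 h2
  simp [Fin.prod_univ_three] at h2
  have hg : Nat.gcd 3 (4 - 1) = 3 := by decide
  rw [hg] at h1
  omega

end Model

/-- A simple group of order 20160 of automorphisms of a Steiner system `S(2,5,21)`. -/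
theorem psl_of_steiner {G : Type u} [Group G] [Finite G] [IsSimpleGroup G] (hG : Nat.card G = 20160)
    {α : Type v} [Fintype α] [DecidableEq α] (hα : Fintype.card α = 21)
    {L : Set (Finset α)} (hL : Cfsg.IsSteinerSystem 2 5 L) (θ : G →* Equiv.Perm α)
    (hinj : Function.Injective θ) (hθ : θ.range ≤ Cfsg.setSystemAut L) :
    ∃ (F : Type) (_ : Field F) (_ : Fintype F), Fintype.card F = 4 ∧
      Nonempty (G ≃* Matrix.ProjectiveSpecialLinearGroup (Fin 3) F) := by
  classical
  haveI : Fact (Nat.Prime 2) := ⟨Nat.prime_two⟩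
  haveI : Fintype (GaloisField 2 2) := Fintype.ofFinite _
  have hF : Fintype.card (GaloisField 2 2) = 4 := by
    rw [← Nat.card_eq_fintype_card, GaloisField.card 2 2 (by norm_num)]; norm_num
  refine ⟨GaloisField 2 2, inferInstance, inferInstance, hF, ?_⟩
  haveI : Fintype (ℙ (GaloisField 2 2) (Fin 3 → GaloisField 2 2)) := Fintype.ofFinite _
  have h21 : Fintype.card (ℙ (GaloisField 2 2) (Fin 3 → GaloisField 2 2)) = 21 := by
    rw [← Nat.card_eq_fintype_card]; exact card_points _ hF
  obtain ⟨e, he⟩ := Cfsg.Agent.S5626.result hα h21 hL (steiner_lineSet _ hF)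
  obtain ⟨φ, hφi, hφ⟩ := exists_model (F := GaloisField 2 2)
  let W := Cfsg.setSystemAut (lineSet (GaloisField 2 2))
  let ψ : G →* Equiv.Perm (ℙ (GaloisField 2 2) (Fin 3 → GaloisField 2 2)) :=
    e.permCongrHom.toMonoidHom.comp θ
  have hψi : Function.Injective ψ := fun a b h => hinj (e.permCongrHom.injective h)
  have hψ : ∀ g, ψ g ∈ W := fun g => by
    rw [Cfsg.Agent.S5628.mem_aut_iff]
    have hg := (Cfsg.Agent.S5628.mem_aut_iff L _).1 (hθ ⟨g, rfl⟩)
    intro s
    obtain ⟨t, rfl⟩ : ∃ t : Finset α, t.image e = s :=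
      ⟨s.image e.symm, by simp [Finset.image_image]⟩
    have hiff : ∀ t : Finset α, t.image e ∈ lineSet (GaloisField 2 2) ↔ t ∈ L := fun t => by
      rw [← he]
      exact Function.Injective.mem_set_image (Finset.image_injective e.injective)
    rw [show (t.image e).image (ψ g) = (t.image (θ g)).image e by
      rw [Finset.image_image, Finset.image_image]
      exact Finset.image_congr fun x _ => by simp [ψ], hiff, hiff, hg]
  let ψ' := ψ.codRestrict W hψ
  let φ' := φ.codRestrict W fun x => hφ ⟨x, rfl⟩
  have hψ'i : Function.Injective ψ' := fun a b h => hψi (congrArg Subtype.val h)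
  have hφ'i : Function.Injective φ' := fun a b h => hφi (congrArg Subtype.val h)
  have hY : Nat.card φ'.range = 20160 := by
    rw [← Nat.card_congr (MonoidHom.ofInjective hφ'i).toEquiv]; exact card_psl hF
  have hX : Nat.card ψ'.range = 20160 := by
    rw [← Nat.card_congr (MonoidHom.ofInjective hψ'i).toEquiv]; exact hG
  have hsimple : IsSimpleGroup ψ'.range :=
    (MulEquiv.isSimpleGroup_congr (MonoidHom.ofInjective hψ'i)).1 inferInstance
  have hidx : φ'.range.index ≤ 6 := by
    have h1 := φ'.range.card_mul_index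
    have h2 : Nat.card W ≤ 120960 := card_aut_le h21 (steiner_lineSet _ hF)
    rw [hY] at h1
    omega
  have hle : ψ'.range ≤ φ'.range := le_of_simple _ _ (by
    rw [hX]
    calc φ'.range.index.factorial ≤ (6 : ℕ).factorial := Nat.factorial_le hidx
      _ < 20160 := by decide)
  have heq : ψ'.range = φ'.range := Subgroup.eq_of_le_of_card_ge hle (by rw [hX, hY])
  exact ⟨(MonoidHom.ofInjective hψ'i).trans
    ((MulEquiv.subgroupCongr heq).trans (MonoidHom.ofInjective hφ'i).symm)⟩

end Cfsg.Agent.CIT.PlaneAut
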