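import Cfsg.Agent.Lib.CIT.Defs

/-!
# CIT groups: interface of the offender lemma

`M` has `R` as largest normal 2-subgroup, `C_M(R) ≤ R`, `P` is a Sylow 2-subgroup of `M` and the
Thompson subgroup of `P` does not lie in `R`. See `notes/cit-lead.md`, sections 0b and 3.
-/

set_option autoImplicit false

namespace Cfsg.Agent.CIT

open Subgroup

universe u

variable {G : Type u} [Group G]

/-- The hypotheses of the offender lemma. -/
structure OffenderHyp (M R P : Subgroup G) : Prop where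
  R_le : R ≤ M
  R_normal : M ≤ normalizer (R : Set G)
  R_pgroup : IsPGroup 2 R
  R_max : ∀ Q : Subgroup G, Q ≤ M → M ≤ normalizer (Q : Set G) → IsPGroup 2 Q → Q ≤ R
  cent : centralizer (R : Set G) ⊓ M ≤ R
  P_le : P ≤ M
  P_pgroup : IsPGroup 2 P
  P_odd : Odd (P.relIndex M)
  offender : ¬ jOf P ≤ R

/-- The case `M/R ≅ S₃`: here `W = Ω₁(Z(R))` is a four-group holding all involutions of `R`. -/
structure ThreeOffender (M R P : Subgroup G) : Prop where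
  card_M : Nat.card M = 6 * Nat.card R
  R_le_P : R ≤ P
  card_P : Nat.card P = 2 * Nat.card R
  W_card : Nat.card (Cfsg.omegaCenterOf R) = 4
  W_le : Cfsg.omegaCenterOf R ≤ R
  W_sq : ∀ x ∈ Cfsg.omegaCenterOf R, x * x = 1
  W_cent : ∀ x ∈ Cfsg.omegaCenterOf R, ∀ r ∈ R, x * r = r * x
  W_normal : M ≤ normalizer (Cfsg.omegaCenterOf R : Set G)
  cent_W : centralizer (Cfsg.omegaCenterOf R : Set G) ⊓ M = R
  involutions : ∀ x ∈ R, x * x = 1 → x ∈ Cfsg.omegaCenterOf R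
  elem_le : ∀ B : Subgroup G, B ≤ P → (∀ x ∈ B, x * x = 1) → Nat.card B ≤ 4
  four : ∃ A : Subgroup G, A ≤ P ∧ (∀ x ∈ A, x * x = 1) ∧ Nat.card A = 4 ∧ ¬ A ≤ R

/-- The case of a natural `SL₂(2ⁿ)`-module: `R` and `A` are the two maximal elementary abelian
subgroups of `P`. -/
structure NaturalOffender (M R P A : Subgroup G) (n : ℕ) : Prop where
  two_le : 2 ≤ n
  R_le_P : R ≤ P
  A_le : A ≤ P
  sup_eq : R ⊔ A = P
  A_not_le : ¬ A ≤ R
  R_sq : ∀ x ∈ R, x * x = 1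
  A_sq : ∀ x ∈ A, x * x = 1
  R_card : Nat.card R = (2 ^ n) ^ 2
  A_card : Nat.card A = (2 ^ n) ^ 2
  inf_card : Nat.card (R ⊓ A : Subgroup G) = 2 ^ n
  card_P : Nat.card P = (2 ^ n) ^ 3
  involutions : ∀ x ∈ P, x * x = 1 → x ∈ R ∨ x ∈ A
  elem_le : ∀ B : Subgroup G, B ≤ P → (∀ x ∈ B, x * x = 1) → B ≤ R ∨ B ≤ A
  commute_iff : ∀ r ∈ R, ∀ a ∈ A, a ∉ R → (r * a = a * r ↔ r ∈ A)
  center : ∀ x ∈ P, ((∀ y ∈ P, x * y = y * x) ↔ x ∈ R ⊓ A)
  jOf_eq : jOf P = P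
  cent_z : ∀ z ∈ R ⊓ A, z ≠ 1 → centralizer ({z} : Set G) ⊓ M = P
  natural : ∃ (K : Type) (_ : Field K) (_ : Fintype K) (M₁ : Subgroup G),
    Fintype.card K = 2 ^ n ∧ P ≤ M₁ ∧ M₁ ≤ M ∧ M ≤ normalizer (M₁ : Set G) ∧
      Odd (M₁.relIndex M) ∧ centralizer (R : Set G) ⊓ M₁ = R ∧
      Cfsg.ActsAsSL2OnSection K ⊤ M₁ R ⊥

/-- The offender lemma. -/
def OffenderLemma : Prop :=
  ∀ (G : Type u) [Group G] [Finite G], IsCIT G → ListBelow.{u} (Nat.card G) →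
    ∀ M R P : Subgroup G, OffenderHyp M R P →
      ThreeOffender M R P ∨ ∃ (n : ℕ) (A : Subgroup G), NaturalOffender M R P A n

end Cfsg.Agent.CIT
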