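import Cfsg.Agent.Lib.CIT.Defs
import Cfsg.Agent.Lib.CIT.OffenderDefs

/-!
# CIT groups: the statements between the pieces

The offender lemma is in `OffenderDefs`; `MainConfig` is the configuration reached in
section 4B of `notes/cit-lead.md`, `RankOneInput` section 4C, `NaturalInput` sections 4D and 4E, `IdentInput` section 5.
-/

set_option autoImplicit false

namespace Cfsg.Agent.CIT

open Subgroup

universe u

variable {G : Type u} [Group G]

/-- The configuration of section 4B: `D = U ∩ U'` is largest among the intersections of adjacent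
Sylow 2-subgroups with different Thompson subgroups, and `S₀` is the trace of `U` on `N(D)`. -/
structure MainConfig (U U' : Sylow 2 G) (D S₀ : Subgroup G) : Prop where
  adjacent : Adjacent U U'
  jOf_ne : jOf (U : Subgroup G) ≠ jOf (U' : Subgroup G)
  D_eq : D = (U : Subgroup G) ⊓ U'
  maximal : ∀ S T : Sylow 2 G, Adjacent S T → jOf (S : Subgroup G) ≠ jOf (T : Subgroup G) →
    Nat.card ((S : Subgroup G) ⊓ T : Subgroup G) ≤ Nat.card D
  D_core : D = Cfsg.pCoreTwoOf (normalizer (D : Set G))
  D_cent : centralizer (D : Set G) ≤ D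
  normalizer_ne_top : normalizer (D : Set G) ≠ ⊤
  S₀_eq : S₀ = (U : Subgroup G) ⊓ normalizer (D : Set G)
  S₀_odd : Odd (S₀.relIndex (normalizer (D : Set G)))
  T₀_odd : Odd (((U' : Subgroup G) ⊓ normalizer (D : Set G)).relIndex (normalizer (D : Set G)))
  offender : OffenderHyp (normalizer (D : Set G)) D S₀

/-- Section 4C. -/
def RankOneInput : Prop :=
  ∀ (G : Type u) [Group G] [Finite G] [IsSimpleGroup G],
    ¬ IsMulCommutative G → IsCIT G → ListBelow.{u} (Nat.card G) →
    ∀ (U U' : Sylow 2 G) (D S₀ : Subgroup G), MainConfig U U' D S₀ →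
      ThreeOffender (normalizer (D : Set G)) D S₀ → CITList G

/-- Sections 4D and 4E. -/
def NaturalInput : Prop :=
  ∀ (G : Type u) [Group G] [Finite G] [IsSimpleGroup G],
    ¬ IsMulCommutative G → IsCIT G → ListBelow.{u} (Nat.card G) →
    OffenderLemma.{u} → ∀ (U U' : Sylow 2 G) (D S₀ A : Subgroup G) (n : ℕ), MainConfig U U' D S₀ →
      NaturalOffender (normalizer (D : Set G)) D S₀ A n →
      ∃ (V : Sylow 2 G) (R₁ A₁ : Subgroup G), LThreeFour V R₁ A₁

/-- Section 5. -/
def IdentInput : Prop :=
  ∀ (G : Type u) [Group G] [Finite G] [IsSimpleGroup G],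
    ¬ IsMulCommutative G → IsCIT G →
    ∀ (V : Sylow 2 G) (R₁ A₁ : Subgroup G), LThreeFour V R₁ A₁ → CITList G

/-- Section 1 applied to a CIT group: the normaliser of a Sylow 2-subgroup is strongly embedded. -/
def StronglyEmbeddedInput : Prop :=
  ∀ (G : Type u) [Group G] [Finite G] [IsSimpleGroup G],
    ¬ IsMulCommutative G → IsCIT G → ∀ S : Sylow 2 G,
      Cfsg.IsStronglyEmbedded (normalizer ((S : Subgroup G) : Set G)) → CITList G

end Cfsg.Agent.CIT
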