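import Cfsg.Agent.Lib.CIT.IdOrder
import Cfsg.Agent.Lib.CIT.Identify
import Cfsg.Agent.Lib.CIT.Interfaces

/-!
# Section 5: the rank one configuration is `PSL₃(4)`
-/

set_option autoImplicit false

namespace Cfsg.Agent.CIT

universe u

/-- Piece ID. -/
theorem identInput : IdentInput.{u} := by
  intro G _ _ _ _ _ V R₁ A₁ h
  exact Or.inr (Or.inl (psl_three_four_of_card h h.card_eq))

end Cfsg.Agent.CIT
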