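import Cfsg.Agent.Lib.CIT.NaturalSwap

/-!
# CIT groups: the weights force `q = 4`

If one torus element acts on both natural modules `R` and `A`, then `τ³` centralises a commutator
`[r, a]` of order two, so `q - 1` divides three.
-/

set_option autoImplicit false
set_option linter.unusedSectionVars false
set_option linter.style.haveILetI false

namespace Cfsg.Agent.CIT

open Subgroup Matrix

universe u

namespace SLTwoAct

variable {K : Type} [Field K]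

theorem slAct_sub (a : SpecialLinearGroup (Fin 2) K) (v w : Fin 2 → K) :
    slAct a (v - w) = slAct a v - slAct a w := Matrix.mulVec_sub a.1 v w

theorem slAct_apply (a : SpecialLinearGroup (Fin 2) K) (v : Fin 2 → K) (i : Fin 2) :
    slAct a v i = a.1 i 0 * v 0 + a.1 i 1 * v 1 := by
  simp [slAct, Matrix.mulVec, dotProduct, Fin.sum_univ_two]

theorem fix_e₀_entries {a : SpecialLinearGroup (Fin 2) K} (ha : slAct a e₀ = e₀) :
    a.1 0 0 = 1 ∧ a.1 1 0 = 0 ∧ a.1 1 1 = 1 := by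
  have h0 : a.1 0 0 = 1 := by simpa [slAct_apply, e₀] using congrFun ha 0
  have h1 : a.1 1 0 = 0 := by simpa [slAct_apply, e₀] using congrFun ha 1
  have hd : a.1.det = 1 := a.2
  rw [Matrix.det_fin_two, h0, h1, one_mul, mul_zero, sub_zero] at hd
  exact ⟨h0, h1, hd⟩

/-- An upper triangular `x` moves commutators with a transvection as the square root of its
weight does. -/
theorem weight_e₀ {a x : SpecialLinearGroup (Fin 2) K} (ha : slAct a e₀ = e₀)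
    (hx : x.1 1 0 = 0) (u : Fin 2 → K) :
    slAct x⁻¹ u - slAct a (slAct x⁻¹ u) = slAct x (u - slAct a u) := by
  obtain ⟨a0, a1, a2⟩ := fix_e₀_entries ha
  have hd : x.1.det = 1 := x.2
  rw [Matrix.det_fin_two, hx, mul_zero, sub_zero] at hd
  have hinv : (x⁻¹).1 = !![x.1 1 1, -x.1 0 1; -x.1 1 0, x.1 0 0] := Matrix.adjugate_fin_two x.1
  funext i
  fin_cases i <;>
    simp [slAct_apply, hinv, a0, a1, a2, hx, Pi.sub_apply]
  ring

theorem weight_identity {v : Fin 2 → K} (hv : v ≠ 0) {a x : SpecialLinearGroup (Fin 2) K}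
    (ha : slAct a v = v) (ha1 : a ≠ 1) (hax : slAct a (slAct x v) = slAct x v) (u : Fin 2 → K) :
    slAct x⁻¹ u - slAct a (slAct x⁻¹ u) = slAct x (u - slAct a u) := by
  obtain ⟨g, hg⟩ := exists_slAct_e₀ hv
  obtain ⟨a', hae⟩ : ∃ a', a = g * a' * g⁻¹ := ⟨g⁻¹ * a * g, by group⟩
  obtain ⟨x', hxe⟩ : ∃ x', x = g * x' * g⁻¹ := ⟨g⁻¹ * x * g, by group⟩
  subst hae hxe
  have hcancel : ∀ w, slAct (g * w * g⁻¹) v = slAct g (slAct w e₀) := fun w => by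
    rw [slAct_mul, slAct_mul, ← hg, slAct_inv_cancel]
  have hinj : ∀ p q : Fin 2 → K, slAct g p = slAct g q → p = q := fun p q e => by
    rw [← slAct_inv_cancel g p, e, slAct_inv_cancel]
  have ha' : slAct a' e₀ = e₀ := hinj _ _ (by rw [← hcancel, ha, hg])
  have hα : a'.1 0 1 ≠ 0 := fun e => ha1 (by
    rw [eq_of_fix_e₀ ha' (slAct_one _) (e.trans (show (0 : K) = (1 : Matrix (Fin 2) (Fin 2) K) 0 1
      by simp))]
    group)
  have hax' : slAct a' (slAct x' e₀) = slAct x' e₀ := hinj _ _ (by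
    rw [← hcancel x', ← hax, hcancel x', slAct_mul, slAct_mul, slAct_inv_cancel])
  have hx' : x'.1 1 0 = 0 := by
    obtain ⟨a0, a1, a2⟩ := fix_e₀_entries ha'
    have h0 := congrFun hax' 0
    simp [slAct_apply, e₀, a0] at h0
    exact h0.resolve_left hα
  have key := congrArg (slAct g) (weight_e₀ ha' hx' (slAct g⁻¹ u))
  rw [slAct_sub, slAct_sub x', slAct_sub] at key
  rw [slAct_sub, show (g * x' * g⁻¹)⁻¹ = g * x'⁻¹ * g⁻¹ by group]
  simp only [← slAct_mul] at key ⊢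
  simp only [mul_assoc, inv_mul_cancel_left] at key ⊢
  exact key

end SLTwoAct

open SLTwoAct SwapKill

namespace NaturalOffender

variable {G : Type u} [Group G] [Finite G] {M R P A : Subgroup G} {n : ℕ}
variable (h : NaturalOffender M R P A n)
include h

/-- The torus lies in every witness of the natural action. -/
theorem mem_witness {K : Type} [Field K] [Fintype K] {M₁ : Subgroup G}
    (hK : Fintype.card K = 2 ^ n) (hPM : P ≤ M₁) (hM₁ : M₁ ≤ M)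
    (hC : centralizer (R : Set G) ⊓ M₁ = R) (hact : Cfsg.ActsAsSL2OnSection K ⊤ M₁ R ⊥)
    {g : G} (hgM : g ∈ M) (hgN : g ∈ normalizer (P : Set G)) : g ∈ M₁ := by
  obtain ⟨⟨τ, hτ₁, hτN, hτo⟩, -⟩ := h.exists_torus_witness hK hPM hC hact
  obtain ⟨z, hz, hz1⟩ := h.exists_central
  let f : zpowers τ → {g : G | g ∈ R ⊓ A ∧ g ≠ 1} := fun t =>
    ⟨(t : G) * z * (t : G)⁻¹, h.center_invariant (zpowers_le.2 hτN t.2) hz,
      fun e => hz1 (conj_eq_one_iff.1 e)⟩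
  have hcent : ∀ s : G, s ∈ M → s * z = z * s → s ∈ P := fun s hs hsz =>
    (h.cent_z z hz hz1).le (Subgroup.mem_inf.2 ⟨mem_centralizer_singleton_iff.2 hsz, hs⟩)
  have hf : Function.Injective f := by
    intro s t e
    have e' : (s : G) * z * (s : G)⁻¹ = t * z * (t : G)⁻¹ := congrArg Subtype.val e
    have hst : (t : G)⁻¹ * s ∈ zpowers τ := mul_mem (inv_mem t.2) s.2
    have hc : (t : G)⁻¹ * s ∈ P := by
      refine hcent _ (hM₁ (zpowers_le.2 hτ₁ hst)) ?_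
      calc (t : G)⁻¹ * s * z = (t : G)⁻¹ * ((s : G) * z * (s : G)⁻¹) * s := by group
        _ = z * ((t : G)⁻¹ * s) := by rw [e']; group
    have hone : (t : G)⁻¹ * s = 1 := by
      have h1 := Subgroup.orderOf_dvd_natCard _ hst
      have h2 := Subgroup.orderOf_dvd_natCard _ hc
      rw [Nat.card_zpowers, hτo] at h1
      rw [h.card_P, ← pow_mul] at h2
      exact orderOf_eq_one_iff.1 (Nat.eq_one_of_dvd_coprimes
        ((Nat.coprime_two_left.2 h.odd_pred).pow_left _) h2 h1)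
    exact Subtype.ext (inv_mul_eq_one.1 hone).symm
  have hcardS : Nat.card {g : G | g ∈ R ⊓ A ∧ g ≠ 1} = 2 ^ n - 1 := by
    have e : {g : G | g ∈ R ⊓ A ∧ g ≠ 1} = ((R ⊓ A : Subgroup G) : Set G) \ {1} := by ext x; simp
    rw [Nat.card_coe_set_eq, e, Set.ncard_sdiff_singleton_of_mem (one_mem (R ⊓ A)),
      ← Nat.card_coe_set_eq]
    exact congrArg (· - 1) h.inf_card
  obtain ⟨t, ht⟩ := ((Nat.bijective_iff_injective_and_card f).2 ⟨hf, by
    rw [Nat.card_zpowers, hτo, hcardS]⟩).2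
      ⟨g * z * g⁻¹, h.center_invariant hgN hz, fun e => hz1 (conj_eq_one_iff.1 e)⟩
  have ht' : (t : G) * z * (t : G)⁻¹ = g * z * g⁻¹ := congrArg Subtype.val ht
  have htM := zpowers_le.2 hτ₁ t.2
  have hmem : (t : G)⁻¹ * g ∈ P := by
    refine hcent _ (mul_mem (inv_mem (hM₁ htM)) hgM) ?_
    calc (t : G)⁻¹ * g * z = (t : G)⁻¹ * (g * z * g⁻¹) * g := by group
      _ = z * ((t : G)⁻¹ * g) := by rw [← ht']; group
  rw [show g = (t : G) * ((t : G)⁻¹ * g) by group]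
  exact mul_mem htM (hPM hmem)

/-- Conjugation by a torus element moves commutators of `R` with `A` by the inverse weight. -/
theorem comm_conj {τ : G} (hτ : τ ∈ M) (hτN : τ ∈ normalizer (P : Set G)) {r a : G}
    (hr : r ∈ R) (ha : a ∈ A) :
    (τ⁻¹ * r * τ) * a * (τ⁻¹ * r * τ)⁻¹ * a⁻¹ = τ * (r * a * r⁻¹ * a⁻¹) * τ⁻¹ := by
  obtain ⟨K, _, _, M₁, hK, hPM, hM₁, -, -, hC, hact⟩ := h.natural
  have hτ₁ := h.mem_witness hK hPM hM₁ hC hact hτ hτN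
  obtain ⟨hn, -, ρ, ψ, -, -, hψk, hψ⟩ := hact
  have hr' : τ⁻¹ * r * τ ∈ R := by
    have := (Subgroup.mem_normalizer_iff.1 (inv_mem (hn hτ₁)) r).1 hr
    rwa [inv_inv] at this
  by_cases haR : a ∈ R
  · rw [show r * a * r⁻¹ * a⁻¹ = 1 by rw [h.R_comm hr haR]; group, mul_one, mul_inv_cancel,
      h.R_comm hr' haR]
    group
  have hinj : Function.Injective ψ := (injective_iff_map_eq_one ψ).2 fun u hu =>
    Subtype.ext (Subgroup.mem_bot.1 ((hψk u).1 hu))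
  let V : R → Fin 2 → K := fun u => Multiplicative.toAdd (ψ u)
  have hVinj : Function.Injective V := fun u w e => hinj (Multiplicative.toAdd.injective e)
  have hVsub : ∀ u w : R, V (u * w⁻¹) = V u - V w := fun u w => by
    show Multiplicative.toAdd (ψ (u * w⁻¹)) = _
    rw [map_mul, map_inv, toAdd_mul, toAdd_inv, sub_eq_add_neg]
  have hV : ∀ (e : M₁) (u : R), ∃ w : R, (w : G) = (e : G) * u * (e : G)⁻¹ ∧
      V w = slAct (ρ e) (V u) := fun e u => hψ e u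
  have hVe : ∀ (e : M₁) (u w : R), (w : G) = (e : G) * u * (e : G)⁻¹ → V w = slAct (ρ e) (V u) := by
    intro e u w hw
    obtain ⟨w', hw', hw''⟩ := hV e u
    rw [← hw'']
    exact congrArg V (Subtype.ext (hw.trans hw'.symm))
  obtain ⟨z, hz, hz1⟩ := h.exists_central
  obtain ⟨hzR, -⟩ := Subgroup.mem_inf.1 hz
  set aM : M₁ := ⟨a, hPM (h.A_le ha)⟩
  set τM : M₁ := ⟨τ, hτ₁⟩
  have hfix : ∀ (w : G) (hw : w ∈ R ⊓ A), slAct (ρ aM) (V ⟨w, (Subgroup.mem_inf.1 hw).1⟩) =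
      V ⟨w, (Subgroup.mem_inf.1 hw).1⟩ := fun w hw =>
    (hVe aM _ _ (show w = a * w * a⁻¹ by
      rw [← h.center_mem hw (h.A_le ha), mul_inv_cancel_right])).symm
  have hv : V ⟨z, hzR⟩ ≠ 0 := fun e => hz1 (congrArg Subtype.val (hVinj (e.trans
    (show (0 : Fin 2 → K) = V 1 by
      show _ = Multiplicative.toAdd (ψ 1); rw [map_one]; rfl))))
  have hτz : τ * z * τ⁻¹ ∈ R ⊓ A := h.center_invariant hτN hz
  have ha1 : ρ aM ≠ 1 := by
    intro e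
    refine haR (hC.le (Subgroup.mem_inf.2
      ⟨Subgroup.mem_centralizer_iff.2 fun u hu => ?_, aM.2⟩))
    obtain ⟨w, hw, hw'⟩ := hV aM ⟨u, hu⟩
    rw [e, slAct_one] at hw'
    rw [hVinj hw'] at hw
    calc u * a = (a * u * a⁻¹) * a := by rw [← show u = a * u * a⁻¹ from hw]
      _ = a * u := by group
  have hτv : V ⟨τ * z * τ⁻¹, (Subgroup.mem_inf.1 hτz).1⟩ = slAct (ρ τM) (V ⟨z, hzR⟩) :=
    hVe τM _ _ rfl
  have key := weight_identity hv (hfix z hz) ha1 (hτv ▸ hfix _ hτz) (V ⟨r, hr⟩)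
  have har : ∀ u ∈ R, a * u * a⁻¹ ∈ R := fun u hu =>
    (Subgroup.mem_normalizer_iff.1 (h.le_normalizer_R a (h.A_le ha)) u).1 hu
  have hc : r * (a * r * a⁻¹)⁻¹ ∈ R := mul_mem hr (inv_mem (har r hr))
  have hτc : τ * (r * (a * r * a⁻¹)⁻¹) * τ⁻¹ ∈ R :=
    (Subgroup.mem_normalizer_iff.1 (hn hτ₁) _).1 hc
  have e1 : V (⟨τ⁻¹ * r * τ, hr'⟩ * ⟨a * (τ⁻¹ * r * τ) * a⁻¹, har _ hr'⟩⁻¹) =
      V ⟨τ * (r * (a * r * a⁻¹)⁻¹) * τ⁻¹, hτc⟩ := by
    have hb : V ⟨τ⁻¹ * r * τ, hr'⟩ = slAct (ρ τM)⁻¹ (V ⟨r, hr⟩) := by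
      rw [hVe τM⁻¹ ⟨r, hr⟩ ⟨τ⁻¹ * r * τ, hr'⟩ (by simp [τM]), map_inv]
    rw [hVsub, hVe aM ⟨τ⁻¹ * r * τ, hr'⟩ ⟨a * (τ⁻¹ * r * τ) * a⁻¹, har _ hr'⟩ rfl, hb, key,
      hVe τM ⟨_, hc⟩ ⟨_, hτc⟩ rfl,
      show (⟨r * (a * r * a⁻¹)⁻¹, hc⟩ : R) = ⟨r, hr⟩ * ⟨a * r * a⁻¹, har r hr⟩⁻¹ from rfl, hVsub,
      hVe aM ⟨r, hr⟩ ⟨a * r * a⁻¹, har r hr⟩ rfl]
  have e2 : τ⁻¹ * r * τ * (a * (τ⁻¹ * r * τ) * a⁻¹)⁻¹ = τ * (r * (a * r * a⁻¹)⁻¹) * τ⁻¹ :=
    congrArg Subtype.val (hVinj e1)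
  calc (τ⁻¹ * r * τ) * a * (τ⁻¹ * r * τ)⁻¹ * a⁻¹
      = τ⁻¹ * r * τ * (a * (τ⁻¹ * r * τ) * a⁻¹)⁻¹ := by group
    _ = τ * (r * (a * r * a⁻¹)⁻¹) * τ⁻¹ := e2
    _ = τ * (r * a * r⁻¹ * a⁻¹) * τ⁻¹ := by group

/-- One torus on two natural modules forces `q = 4`. -/
theorem n_eq_two {M' : Subgroup G} (h' : NaturalOffender M' A P R n) {τ : G} (hτ : τ ∈ M)
    (hτ' : τ ∈ M') (hτN : τ ∈ normalizer (P : Set G)) (hτo : orderOf τ = 2 ^ n - 1) : n = 2 := by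
  obtain ⟨a, ha, haR⟩ := SetLike.not_le_iff_exists.1 h.A_not_le
  obtain ⟨r, hr, hrA⟩ := SetLike.not_le_iff_exists.1 h'.A_not_le
  have hc : r * a * r⁻¹ * a⁻¹ ≠ 1 := fun e => hrA ((h.commute_iff r hr a ha haR).1
    (mul_inv_eq_iff_eq_mul.1 (mul_inv_eq_one.1 e)))
  obtain ⟨K, _, _, M₁, hK, hPM, hM₁, -, -, hC, hact⟩ := h.natural
  obtain ⟨K', _, _, M₂, hK', hPM', hM₂, -, -, hC', hact'⟩ := h'.natural
  have hτR : τ ∈ normalizer (R : Set G) :=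
    hact.1 (h.mem_witness hK hPM hM₁ hC hact hτ hτN)
  have hτA : τ ∈ normalizer (A : Set G) :=
    hact'.1 (h'.mem_witness hK' hPM' hM₂ hC' hact' hτ' hτN)
  have hr2 : τ * r * τ⁻¹ ∈ R := (Subgroup.mem_normalizer_iff.1 hτR r).1 hr
  have hb : τ * a * τ⁻¹ ∈ A := (Subgroup.mem_normalizer_iff.1 hτA a).1 ha
  have E1 := h.comm_conj hτ hτN hr2 hb
  rw [show τ⁻¹ * (τ * r * τ⁻¹) * τ = r by group] at E1
  have E2 := congrArg (fun w => w⁻¹) (h'.comm_conj hτ' hτN hb hr)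
  simp only [show τ⁻¹ * (τ * a * τ⁻¹) * τ = a by group] at E2
  have E3 : r * a * r⁻¹ * a⁻¹ =
      τ * (r * (τ * a * τ⁻¹) * r⁻¹ * (τ * a * τ⁻¹)⁻¹) * τ⁻¹ := by
    calc r * a * r⁻¹ * a⁻¹ = (a * r * a⁻¹ * r⁻¹)⁻¹ := by group
      _ = _ := E2
      _ = _ := by group
  rw [E1] at E3
  have hcomm : (τ * τ * τ) * (r * a * r⁻¹ * a⁻¹) = (r * a * r⁻¹ * a⁻¹) * (τ * τ * τ) := by
    conv_rhs => rw [E3]
    group
  have hmem : τ * τ * τ ∈ P := (h.cent_z _ (h.comm_mem_center hr ha) hc).le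
    (Subgroup.mem_inf.2 ⟨mem_centralizer_singleton_iff.2 hcomm, mul_mem (mul_mem hτ hτ) hτ⟩)
  have h3 : τ ^ 3 = 1 := by
    have e : τ ^ 3 = τ * τ * τ := by rw [pow_succ, pow_two]
    have h1 : orderOf (τ ^ 3) ∣ 2 ^ n - 1 := hτo ▸ orderOf_pow_dvd 3
    have h2 := Subgroup.orderOf_dvd_natCard _ (e ▸ hmem : τ ^ 3 ∈ P)
    rw [h.card_P, ← pow_mul] at h2
    exact orderOf_eq_one_iff.1 (Nat.eq_one_of_dvd_coprimes
      ((Nat.coprime_two_left.2 h.odd_pred).pow_left _) h2 h1)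
  have hd : 2 ^ n - 1 ∣ 3 := hτo ▸ orderOf_dvd_of_pow_eq_one h3
  have h4 := h.four_le
  have hle := Nat.le_of_dvd (by norm_num) hd
  refine Nat.pow_right_injective (le_refl 2) (show 2 ^ n = 2 ^ 2 from ?_)
  omega

end NaturalOffender

end Cfsg.Agent.CIT
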