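import Cfsg.Agent.Lib.CIT.NaturalSecond
import Cfsg.Agent.Lib.CIT.NaturalWeights

/-!
# CIT groups: the natural offender leads to `LThreeFour`

Sections 4D and 4E of `notes/cit-lead.md`, put together: `NaturalInput`.
-/

set_option autoImplicit false
set_option linter.unusedSectionVars false

namespace Cfsg.Agent.CIT

open Subgroup

universe u

/-- Sections 4D and 4E. -/
theorem naturalInput : NaturalInput.{u} := by
  intro G _ _ _ hnab hC hL hoff U U' D S₀ A n c h
  obtain rfl : (U : Subgroup G) = S₀ := h.sylow_eq hnab hC le_rfl U c.S₀_eq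
  have h' := h.second hC c.normalizer_ne_top hL hoff
  obtain ⟨τ, hτ, hτN, hτo⟩ := h.exists_torus.1
  have hτA : τ ∈ normalizer (A : Set G) := by
    rcases h.map_cases (Or.inr rfl) (g := τ)
      (fun b hb => (mem_normalizer_iff.1 hτN b).1 (h.A_le hb)) with e | e
    · refine absurd (Subgroup.map_injective (f := (MulAut.conj τ).toMonoidHom) (MulAut.conj τ).injective
        (e.trans ?_)) h.R_ne_A.symm
      exact (SwapKill.conj_map_eq_of_le τ (fun b hb => (mem_normalizer_iff.1 hτ b).1 hb) le_rfl).symm
    · exact SwapKill.mem_normalizer_of_map_eq e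
  obtain rfl : n = 2 := h.n_eq_two h' hτ hτA hτN hτo
  exact ⟨U, D, A, lThreeFour_of_natural hC h h'⟩

end Cfsg.Agent.CIT
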