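import Cfsg.Prelude

/-!
# CIT groups: interfaces

See `notes/cit-lead.md`.
-/

set_option autoImplicit false

namespace Cfsg.Agent.CIT

open Subgroup

universe u

/-- The centraliser of every involution is a 2-group. -/
def IsCIT (G : Type*) [Group G] : Prop :=
  ∀ t : G, orderOf t = 2 → IsPGroup 2 (centralizer ({t} : Set G))

/-- The simple CIT groups, with explicit models. -/
def CITList (G : Type*) [Group G] : Prop :=
  (∃ (F : Type) (_ : Field F) (_ : Fintype F),
    (Fintype.card F = 9 ∨ (∃ n : ℕ, 2 ≤ n ∧ Fintype.card F = 2 ^ n) ∨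
      (5 ≤ Fintype.card F ∧ (Fintype.card F).Prime ∧
        ∃ k : ℕ, Fintype.card F = 2 ^ k + 1 ∨ Fintype.card F + 1 = 2 ^ k)) ∧
    Nonempty (G ≃* Matrix.ProjectiveSpecialLinearGroup (Fin 2) F)) ∨
  (∃ (F : Type) (_ : Field F) (_ : Fintype F), Fintype.card F = 4 ∧
    Nonempty (G ≃* Matrix.ProjectiveSpecialLinearGroup (Fin 3) F)) ∨
  Cfsg.Lie.IsoSuzuki G

/-- The classification holds below the order `n`. -/
def ListBelow (n : ℕ) : Prop :=
  ∀ (H : Type u) [Group H] [Finite H] [IsSimpleGroup H],
    Nat.card H < n → ¬ IsMulCommutative H → IsCIT H → CITList H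

/-- The classification of simple CIT groups. -/
def CITTheorem : Prop :=
  ∀ (H : Type u) [Group H] [Finite H] [IsSimpleGroup H], ¬ IsMulCommutative H → IsCIT H → CITList H

variable {G : Type u} [Group G]

/-- The subgroup generated by the elementary abelian subgroups of greatest order. -/
noncomputable def jOf (P : Subgroup G) : Subgroup G := Cfsg.thompsonSubgroupOf 2 P

/-- Adjacent Sylow 2-subgroups: distinct, and some central involution of one lies in the other. -/
def Adjacent (S T : Sylow 2 G) : Prop :=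
  (S : Subgroup G) ≠ T ∧
    ∃ z ∈ (S : Subgroup G), orderOf z = 2 ∧ (∀ s ∈ (S : Subgroup G), z * s = s * z) ∧ z ∈ (T : Subgroup G)

/-- The configuration of rank one left for identification: `U` of order 64 is the product of two
elementary abelian subgroups of order 16 whose normalisers induce `SL₂(4)` on them. -/
structure LThreeFour (U : Sylow 2 G) (R A : Subgroup G) : Prop where
  card_U : Nat.card (U : Subgroup G) = 64
  R_le : R ≤ U
  A_le : A ≤ U
  R_card : Nat.card R = 16
  A_card : Nat.card A = 16
  R_sq : ∀ x ∈ R, x * x = 1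
  A_sq : ∀ x ∈ A, x * x = 1
  inf_card : Nat.card (R ⊓ A : Subgroup G) = 4
  involutions : ∀ x ∈ (U : Subgroup G), x * x = 1 → x ∈ R ∨ x ∈ A
  cent_R : centralizer (R : Set G) = R
  cent_A : centralizer (A : Set G) = A
  norm_R : Nat.card (normalizer (R : Set G)) = 960
  norm_A : Nat.card (normalizer (A : Set G)) = 960
  norm_U : Nat.card (normalizer ((U : Subgroup G) : Set G)) = 192
  cent_z : ∀ z ∈ R ⊓ A, z ≠ 1 → centralizer ({z} : Set G) = (U : Subgroup G)
  one_class : ∀ s t : G, orderOf s = 2 → orderOf t = 2 → IsConj s t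

end Cfsg.Agent.CIT
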