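import Mathlib
import Cfsg.Agent.Lib.CIT.Defs
import Cfsg.Agent.InvChar.Core
import Cfsg.Agent.Lib.Hall.MinimalNormal
import Cfsg.Agent.Lib.ZStar.Consequences
import Cfsg.Agent.Lib.CentralTwoAlt.Base
import Cfsg.Agent.Lib.TimesPSLTwo.AffineBad
import Cfsg.Agent.Lib.GL2.PSLProducts

/-!
# Groups with 2-groups as involution centralisers and trivial 2-core

The socle in 2-rank at least two, the structure in 2-rank one, and a criterion for the socle to have
odd index.
-/

set_option autoImplicit false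
set_option linter.all false

namespace Cfsg.Agent.CIT

open Subgroup
open scoped MatrixGroups

universe u

variable {X : Type u} [Group X]

theorem IsCIT.subgroup (h : IsCIT X) (H : Subgroup X) : IsCIT H := by
  intro t ht x
  have hmem : ((x : H) : X) ∈ centralizer ({(t : X)} : Set X) :=
    mem_centralizer_singleton_iff.2 (congrArg Subtype.val (mem_centralizer_singleton_iff.1 x.2))
  obtain ⟨k, hk⟩ := h (t : X) (by rw [Subgroup.orderOf_coe]; exact ht) ⟨_, hmem⟩
  exact ⟨k, Subtype.ext (Subtype.ext (by simpa using congrArg Subtype.val hk))⟩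

/-- An element of odd order commuting with an involution is trivial. -/
theorem IsCIT.eq_one_of_commute (h : IsCIT X) {t y : X} (ht : orderOf t = 2)
    (hy : Odd (orderOf y)) (hty : Commute t y) : y = 1 := by
  obtain ⟨k, hk⟩ := h t ht ⟨y, mem_centralizer_singleton_iff.2 hty.eq.symm⟩
  have hk' : y ^ 2 ^ k = 1 := congrArg Subtype.val hk
  obtain ⟨j, -, hj⟩ := (Nat.dvd_prime_pow Nat.prime_two).1 (orderOf_dvd_of_pow_eq_one hk')
  have : j = 0 := by
    rcases Nat.eq_zero_or_pos j with hj0 | hj0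
    · exact hj0
    · exact absurd (Nat.even_pow.2 ⟨even_two, hj0.ne'⟩) (Nat.not_even_iff_odd.2 (hj ▸ hy))
  rw [this, pow_zero] at hj
  exact orderOf_eq_one_iff.1 hj

theorem odd_orderOf_of_mem {N : Subgroup X} (hN : Odd (Nat.card N)) {y : X} (hy : y ∈ N) :
    Odd (orderOf y) := by
  refine hN.of_dvd_nat ?_
  have := orderOf_dvd_natCard (⟨y, hy⟩ : N)
  rwa [Subgroup.orderOf_mk] at this

theorem sq_eq_one_of_orderOf {t : X} (ht : orderOf t = 2) : t * t = 1 := by
  rw [← sq, ← ht, pow_orderOf_eq_one]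

/-- An involution inverts every normal subgroup of odd order. -/
theorem IsCIT.inverts [Finite X] (h : IsCIT X) {N : Subgroup X} (hn : N.Normal)
    (hN : Odd (Nat.card N)) {t : X} (ht : orderOf t = 2) {o : X} (ho : o ∈ N) : t * o * t⁻¹ = o⁻¹ := by
  let f : N → N := fun a => ⟨(a : X)⁻¹ * (t * a * t⁻¹), mul_mem (inv_mem a.2) (hn.conj_mem _ a.2 t)⟩
  have hf : Function.Injective f := by
    intro a b hab
    have h' : (a : X)⁻¹ * (t * a * t⁻¹) = (b : X)⁻¹ * (t * b * t⁻¹) := congrArg Subtype.val hab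
    refine Subtype.ext (mul_inv_eq_one.1
      (h.eq_one_of_commute ht (odd_orderOf_of_mem hN (mul_mem b.2 (inv_mem a.2))) ?_)).symm
    show t * ((b : X) * (a : X)⁻¹) = b * (a : X)⁻¹ * t
    calc t * ((b : X) * (a : X)⁻¹) = b * ((b : X)⁻¹ * (t * b * t⁻¹)) * (t * (a : X)⁻¹) := by group
      _ = b * ((a : X)⁻¹ * (t * a * t⁻¹)) * (t * (a : X)⁻¹) := by rw [h']
      _ = _ := by group
  obtain ⟨a, ha⟩ := Finite.surjective_of_injective hf ⟨o, ho⟩
  have ha' : (a : X)⁻¹ * (t * a * t⁻¹) = o := congrArg Subtype.val ha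
  have hti : t⁻¹ = t := inv_eq_of_mul_eq_one_right (sq_eq_one_of_orderOf ht)
  rw [← ha', hti]
  calc t * ((a : X)⁻¹ * (t * a * t)) * t = t * (a : X)⁻¹ * t * a * (t * t) := by group
    _ = _ := by rw [sq_eq_one_of_orderOf ht, mul_one, mul_inv_rev, mul_inv_rev, mul_inv_rev, inv_inv, hti]; group

/-- In 2-rank at least two the odd core is trivial. -/
theorem IsCIT.oddCore_eq_bot [Finite X] (h : IsCIT X) {a b : X} (ha : orderOf a = 2)
    (hb : orderOf b = 2) (hne : a ≠ b) (hab : Commute a b) : Cfsg.oddCore X = ⊥ := by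
  have hnc : (Cfsg.oddCore X).Normal :=
    haveI := InvChar.Core.pPrimeCore_characteristic (G := X) 2
    Subgroup.normal_of_characteristic _
  have habo : orderOf (a * b) = 2 := by
    refine orderOf_eq_prime ?_ fun e => hne ?_
    · rw [hab.mul_pow, ← ha, pow_orderOf_eq_one, one_mul, ha, ← hb, pow_orderOf_eq_one]
    · rw [eq_inv_of_mul_eq_one_left e]
      exact inv_eq_of_mul_eq_one_right (sq_eq_one_of_orderOf hb)
  have f : ∀ c : X, orderOf c = 2 → ∀ m ∈ Cfsg.oddCore X, Commute c m → m = 1 := fun c hc m hm hcm =>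
    h.eq_one_of_commute hc (odd_orderOf_of_mem InvChar.Core.odd_card_oddCore hm) hcm
  exact CentralTwoAlt.eq_bot_of_four _ (sq_eq_one_of_orderOf ha) (sq_eq_one_of_orderOf hb) hab.eq
    (fun m hm => hnc.conj_mem m hm a) (fun m hm => hnc.conj_mem m hm b) (f a ha) (f b hb) (f _ habo)

theorem eq_bot_of_twoGroup (hO : Cfsg.pCore 2 X = ⊥) {N : Subgroup X} (hn : N.Normal)
    (h2 : IsPGroup 2 N) : N = ⊥ :=
  le_bot_iff.1 (hO ▸ TimesPSLTwo.Affine.le_pCore_two hn h2)

theorem exists_involution_mem [Finite X] {N : Subgroup X} (hN : ¬ Odd (Nat.card N)) :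
    ∃ t ∈ N, orderOf t = 2 := by
  haveI : Fact (Nat.Prime 2) := ⟨Nat.prime_two⟩
  obtain ⟨t, ht⟩ := exists_prime_orderOf_dvd_card' (G := N) 2 (Nat.not_odd_iff_even.1 hN).two_dvd
  exact ⟨t, t.2, by rw [Subgroup.orderOf_coe]; exact ht⟩

/-- A group centralising an involution of a group with 2-groups as involution centralisers. -/
theorem IsCIT.isPGroup_of_commute (h : IsCIT X) {N : Subgroup X} {t : X} (ht : orderOf t = 2)
    (hc : ∀ n ∈ N, t * n = n * t) : IsPGroup 2 N :=
  (h t ht).to_le fun n hn => mem_centralizer_singleton_iff.2 (hc n hn).symm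

theorem pCore_map_normal [Finite X] (L : Subgroup X) [L.Normal] :
    ((Cfsg.pCore 2 L).map L.subtype).Normal := by
  refine ⟨?_⟩
  rintro _ ⟨y, hy, rfl⟩ g
  have hle : (Cfsg.pCore 2 L).map (MulAut.conjNormal g : MulAut L).toMonoidHom ≤ Cfsg.pCore 2 L :=
    TimesPSLTwo.Affine.le_pCore_two
      ((TimesPSLTwo.Affine.pCore_two_normal L).map _ (MulAut.conjNormal g : MulAut L).surjective)
      ((TimesPSLTwo.Affine.pCore_two_isPGroup L).map _)
  exact ⟨_, hle ⟨y, hy, rfl⟩, by simp⟩

/-- **Socle.** A group with 2-groups as involution centralisers, trivial 2-core and 2-rank at least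
two has a simple socle with trivial centraliser. -/
theorem socle [Finite X] (h : IsCIT X) (hO : Cfsg.pCore 2 X = ⊥) {a b : X} (ha : orderOf a = 2)
    (hb : orderOf b = 2) (hne : a ≠ b) (hab : Commute a b) :
    ∃ L : Subgroup X, L.Normal ∧ IsSimpleGroup L ∧ ¬ IsMulCommutative L ∧ IsCIT L ∧
      centralizer (L : Set X) = ⊥ ∧ ∀ N : Subgroup X, N.Normal → N ≠ ⊥ → L ≤ N := by
  have hodd := h.oddCore_eq_bot ha hb hne hab
  have htop : (⊤ : Subgroup X) ≠ ⊥ := by
    intro e
    rw [(mem_bot.1 (e ▸ mem_top a : a ∈ (⊥ : Subgroup X))), orderOf_one] at ha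
    exact absurd ha (by norm_num)
  obtain ⟨L, hLn, -, hL0, hmin⟩ := Hall.exists_minimal_normal (⊤ : Subgroup X) htop
  haveI := hLn
  have hLodd : ¬ Odd (Nat.card L) := fun e =>
    hL0 (le_bot_iff.1 (hodd ▸ InvChar.Core.le_oddCore hLn e))
  obtain ⟨t, htL, ht⟩ := exists_involution_mem hLodd
  have hC : centralizer (L : Set X) = ⊥ :=
    eq_bot_of_twoGroup hO inferInstance
      (h.isPGroup_of_commute ht fun n hn => mem_centralizer_iff.1 hn t htL)
  refine ⟨L, hLn, ?_, ?_, h.subgroup L, hC, ?_⟩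
  · haveI : Nontrivial L := (L.nontrivial_iff_ne_bot).2 hL0
    refine ⟨fun N hN => or_iff_not_imp_left.2 fun hN0 => ?_⟩
    haveI := hN
    obtain ⟨T, hTn, hTN, hT0, hTmin⟩ := Hall.exists_minimal_normal N hN0
    haveI := hTn
    have hTeven : ¬ Odd (Nat.card T) := fun e => hT0 (le_bot_iff.1
      ((InvChar.Core.oddCore_eq_bot_of_isSubnormal hodd hLn.isSubnormal) ▸
        InvChar.Core.le_oddCore hTn e))
    obtain ⟨s, hsT, hs⟩ := exists_involution_mem hTeven
    have hTnX : (T.map L.subtype).Normal := by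
      refine ⟨?_⟩
      rintro _ ⟨y, hy, rfl⟩ g
      set e : MulAut L := MulAut.conjNormal g with he
      set T' : Subgroup L := T.map e.toMonoidHom with hT'
      haveI hT'n : T'.Normal := hTn.map _ e.surjective
      rcases hTmin (T ⊓ T') inferInstance inf_le_left with h0 | h1
      · exfalso
        have hcomm : ∀ n ∈ T', (s : X) * (n : X) = n * s := fun n hn =>
          congrArg Subtype.val (Subgroup.commute_of_normal_of_disjoint T T' hTn hT'n
            (disjoint_iff.2 h0) s n hsT hn)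
        have h2' : IsPGroup 2 (T'.map L.subtype) := by
          refine h.isPGroup_of_commute (N := T'.map L.subtype) (t := (s : X))
            (by rw [Subgroup.orderOf_coe]; exact hs) ?_
          rintro _ ⟨n, hn, rfl⟩
          exact hcomm n hn
        have h2 : IsPGroup 2 T' :=
          h2'.of_equiv (T'.equivMapOfInjective _ L.subtype_injective).symm
        have h3 := eq_bot_of_twoGroup hO (pCore_map_normal L)
          ((TimesPSLTwo.Affine.pCore_two_isPGroup L).map _)
        rw [Subgroup.map_eq_bot_iff_of_injective _ L.subtype_injective] at h3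
        have h4 : T' = ⊥ := le_bot_iff.1 (h3 ▸ TimesPSLTwo.Affine.le_pCore_two hT'n h2)
        exact hT0 ((Subgroup.map_eq_bot_iff_of_injective T (f := e.toMonoidHom) e.injective).1 h4)
      · have hle : T ≤ T' := inf_eq_left.1 h1
        have hcard : Nat.card T' = Nat.card T := Subgroup.card_map_of_injective e.injective
        have heq : T' = T := (Subgroup.eq_of_le_of_card_ge hle hcard.le).symm
        refine ⟨e y, heq ▸ ⟨y, hy, rfl⟩, ?_⟩
        simp [he]
    rcases hmin _ hTnX (Subgroup.map_subtype_le T) with h0 | h1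
    · exact absurd ((Subgroup.map_eq_bot_iff_of_injective _ L.subtype_injective).1 h0) hT0
    · refine top_le_iff.1 (le_trans ?_ hTN)
      intro x _
      obtain ⟨y, hy, hyx⟩ : (x : X) ∈ T.map L.subtype := by rw [h1]; exact x.2
      rwa [← L.subtype_injective hyx]
  · intro hc
    refine hL0 (le_bot_iff.1 (hC ▸ fun x hx => mem_centralizer_iff.2 fun y hy => ?_))
    exact congrArg Subtype.val (hc.is_comm.comm (⟨y, hy⟩ : L) ⟨x, hx⟩)
  · intro N hN hN0
    haveI := hN
    rcases hmin (L ⊓ N) inferInstance inf_le_left with h0 | h1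
    · exfalso
      refine hN0 (le_bot_iff.1 (hC ▸ fun x hx => mem_centralizer_iff.2 fun y hy => ?_))
      exact Subgroup.commute_of_normal_of_disjoint L N hLn hN (disjoint_iff.2 h0) y x hy hx
    · exact inf_eq_left.1 h1

/-- The unique involution of a Sylow subgroup is central in it. -/
theorem exists_central_involution [Finite X] (S : Sylow 2 X) (h2 : 2 ∣ Nat.card X) :
    ∃ z ∈ (S : Subgroup X), orderOf z = 2 ∧ ∀ s ∈ (S : Subgroup X), z * s = s * z := by
  haveI : Fact (Nat.Prime 2) := ⟨Nat.prime_two⟩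
  haveI : Nontrivial (S : Subgroup X) :=
    (Subgroup.nontrivial_iff_ne_bot _).2 (S.ne_bot_of_dvd_card h2)
  haveI := S.isPGroup'.center_nontrivial
  obtain ⟨n, hn, hcard⟩ := (S.isPGroup'.to_subgroup (center _)).nontrivial_iff_card.1 inferInstance
  obtain ⟨z, hz⟩ := exists_prime_orderOf_dvd_card' (G := center (S : Subgroup X)) 2
    (hcard ▸ dvd_pow_self 2 hn.ne')
  refine ⟨((z : (S : Subgroup X)) : X), (z : (S : Subgroup X)).2,
    by rw [Subgroup.orderOf_coe, Subgroup.orderOf_coe]; exact hz, fun s hs => ?_⟩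
  exact congrArg Subtype.val (mem_center_iff.1 z.2 ⟨s, hs⟩).symm

/-- **2-rank one.** With commuting involutions equal, the group is an abelian odd core, inverted by
every involution and self-centralising, extended by a Sylow 2-subgroup. -/
theorem rankOne [Finite X] (h : IsCIT X) (hO : Cfsg.pCore 2 X = ⊥) (h2 : 2 ∣ Nat.card X)
    (hone : ∀ a b : X, orderOf a = 2 → orderOf b = 2 → Commute a b → a = b) :
    Cfsg.oddCore X ≠ ⊥ ∧
      (∀ x ∈ Cfsg.oddCore X, ∀ y ∈ Cfsg.oddCore X, x * y = y * x) ∧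
      centralizer (Cfsg.oddCore X : Set X) = Cfsg.oddCore X ∧
      (∀ S : Sylow 2 X, Cfsg.oddCore X ⊔ S = ⊤) ∧
      (∀ t : X, orderOf t = 2 → ∀ o ∈ Cfsg.oddCore X, t * o * t⁻¹ = o⁻¹) ∧
      ∀ t w : X, orderOf t = 2 → orderOf w = 2 → t * w ∈ Cfsg.oddCore X := by
  haveI : Fact (Nat.Prime 2) := ⟨Nat.prime_two⟩
  haveI := InvChar.Core.pPrimeCore_characteristic (G := X) 2
  haveI hOn : (Cfsg.oddCore X).Normal := Subgroup.normal_of_characteristic _
  have hOodd := InvChar.Core.odd_card_oddCore (G := X)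
  have hinv : ∀ t : X, orderOf t = 2 → ∀ o ∈ Cfsg.oddCore X, t * o * t⁻¹ = o⁻¹ :=
    fun t ht o ho => h.inverts hOn hOodd ht ho
  have hcomm : ∀ z : X, orderOf z = 2 → ∀ g : X, z * g * z⁻¹ * g⁻¹ ∈ Cfsg.oddCore X := by
    intro z hz g
    obtain ⟨S, hS⟩ := (IsPGroup.of_card (G := zpowers z) (n := 1)
      (by rw [Nat.card_zpowers, hz, pow_one])).exists_le_sylow
    obtain ⟨c, hcS, hc, hcen⟩ := exists_central_involution S h2
    have huniq : ∀ w ∈ (S : Subgroup X), orderOf w = 2 → c = w := fun w hw hwo =>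
      hone c w hc hwo (hcen w hw)
    have hzS : z ∈ S := hS (mem_zpowers z)
    refine ZStar.Main.commutator_mem_oddCore
      ((Involutions.Isolated.iff_unique_in_sylow S hz hzS).2 fun g' hg' => ?_) g
    have ho : orderOf (g' * z * g'⁻¹) = 2 := ((MulAut.conj g').orderOf_eq z).trans hz
    exact (huniq _ hg' ho).symm.trans (huniq _ hzS hz)
  have hroot : ∀ o ∈ Cfsg.oddCore X, ∃ r ∈ Cfsg.oddCore X, r * r = o := by
    intro o ho
    obtain ⟨k, hk⟩ := odd_orderOf_of_mem hOodd ho
    refine ⟨o ^ (k + 1), pow_mem ho _, ?_⟩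
    rw [← pow_add, show k + 1 + (k + 1) = orderOf o + 1 by omega, pow_succ, pow_orderOf_eq_one, one_mul]
  have hfrat : ∀ z : X, orderOf z = 2 → ∀ g : X, ∃ r ∈ Cfsg.oddCore X, Commute z (r * g) := by
    intro z hz g
    obtain ⟨r, hr, hrr⟩ := hroot _ (hcomm z hz g)
    refine ⟨r, hr, ?_⟩
    show z * (r * g) = r * g * z
    calc z * (r * g) = z * r * z⁻¹ * (z * g * z⁻¹ * g⁻¹) * (g * z) := by group
      _ = r⁻¹ * (r * r) * (g * z) := by rw [hinv z hz r hr, hrr]
      _ = _ := by group
  have hsup : ∀ S : Sylow 2 X, Cfsg.oddCore X ⊔ S = ⊤ := by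
    intro S
    obtain ⟨c, hcS, hc, hcen⟩ := exists_central_involution S h2
    have hCS : centralizer ({c} : Set X) = S :=
      S.is_maximal' (h c hc) fun s hs => mem_centralizer_singleton_iff.2 (hcen s hs).symm
    refine eq_top_iff.2 fun g _ => ?_
    obtain ⟨r, hr, hrc⟩ := hfrat c hc g
    have h1 : r * g ∈ (S : Subgroup X) := hCS ▸ mem_centralizer_singleton_iff.2 hrc.eq.symm
    have h3 := mul_mem (mem_sup_left (T := (S : Subgroup X)) (inv_mem hr)) (mem_sup_right h1)
    rwa [inv_mul_cancel_left] at h3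
  have hne : Cfsg.oddCore X ≠ ⊥ := by
    intro e
    obtain ⟨S⟩ : Nonempty (Sylow 2 X) := inferInstance
    have hS : (S : Subgroup X) = ⊤ := by rw [← hsup S, e, bot_sup_eq]
    have := eq_bot_of_twoGroup hO (N := (S : Subgroup X)) (by rw [hS]; infer_instance) S.isPGroup'
    exact S.ne_bot_of_dvd_card h2 this
  have hab : ∀ x ∈ Cfsg.oddCore X, ∀ y ∈ Cfsg.oddCore X, x * y = y * x := by
    intro x hx y hy
    obtain ⟨t, ht⟩ := exists_prime_orderOf_dvd_card' (G := X) 2 h2
    have h1 := hinv t ht _ (mul_mem hx hy)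
    rw [show t * (x * y) * t⁻¹ = t * x * t⁻¹ * (t * y * t⁻¹) by group, hinv t ht x hx,
      hinv t ht y hy, ← mul_inv_rev] at h1
    exact (inv_injective h1).symm
  refine ⟨hne, hab, le_antisymm ?_ fun x hx => mem_centralizer_iff.2 fun y hy => hab y hy x hx,
    hsup, hinv, ?_⟩
  · refine InvChar.Core.le_oddCore inferInstance (Decidable.of_not_not fun hev => hne ?_)
    obtain ⟨t, htC, ht⟩ := exists_involution_mem hev
    refine (eq_bot_iff_forall _).2 fun o ho => ?_
    exact h.eq_one_of_commute ht (odd_orderOf_of_mem hOodd ho) (mem_centralizer_iff.1 htC o ho).symm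
  · intro t w ht hw
    obtain ⟨r, hr, hrc⟩ := hfrat t ht (1 : X)
    obtain ⟨S, hS⟩ := (IsPGroup.of_card (G := zpowers w) (n := 1)
      (by rw [Nat.card_zpowers, hw, pow_one])).exists_le_sylow
    obtain ⟨T, hT⟩ := (IsPGroup.of_card (G := zpowers t) (n := 1)
      (by rw [Nat.card_zpowers, ht, pow_one])).exists_le_sylow
    obtain ⟨g, hg⟩ := MulAction.exists_smul_eq X S T
    have hwT : g * w * g⁻¹ ∈ (T : Subgroup X) := by
      rw [← hg]
      exact Subgroup.smul_mem_pointwise_smul w (MulAut.conj g) _ (hS (mem_zpowers w))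
    obtain ⟨c, hcT, hc, hcen⟩ := exists_central_involution T h2
    have hwo : orderOf (g * w * g⁻¹) = 2 := ((MulAut.conj g).orderOf_eq w).trans hw
    have htw : t = g * w * g⁻¹ := by
      rw [← hone c t hc ht (hcen t (hT (mem_zpowers t))), hone c _ hc hwo (hcen _ hwT)]
    have h1 := inv_mem (hcomm w hw g)
    rw [htw]
    have h4 : g * w * g⁻¹ * w = (w * g * w⁻¹ * g⁻¹)⁻¹ := by
      rw [inv_eq_of_mul_eq_one_right (sq_eq_one_of_orderOf hw)]
      simp only [mul_inv_rev, inv_inv]
      rw [inv_eq_of_mul_eq_one_right (sq_eq_one_of_orderOf hw)]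
      group
    rw [h4]; exact h1

/-- A normal subgroup containing a single class of some element of odd order has odd index. -/
theorem index_odd_of_class [Finite X] (h : IsCIT X) (L : Subgroup X) [L.Normal] {k : X} (hk : k ≠ 1)
    (hko : Odd (orderOf k)) (hconj : ∀ g : X, ∃ l ∈ L, l * k * l⁻¹ = g * k * g⁻¹) : Odd L.index := by
  haveI : Fact (Nat.Prime 2) := ⟨Nat.prime_two⟩
  refine Decidable.of_not_not fun hev => hk ?_
  obtain ⟨q, hq⟩ := exists_prime_orderOf_dvd_card' (G := X ⧸ L) 2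
    (by rw [← Subgroup.index_eq_card]; exact (Nat.not_odd_iff_even.1 hev).two_dvd)
  obtain ⟨g, rfl⟩ := QuotientGroup.mk'_surjective L q
  obtain ⟨l, hl, hlg⟩ := hconj g
  set c : X := l⁻¹ * g with hc
  have hck : Commute c k := by
    show c * k = k * c
    calc c * k = l⁻¹ * (g * k * g⁻¹) * g := by rw [hc]; group
      _ = l⁻¹ * (l * k * l⁻¹) * g := by rw [hlg]
      _ = _ := by rw [hc]; group
  have hcq : QuotientGroup.mk' L c = QuotientGroup.mk' L g := by
    rw [hc, map_mul, (QuotientGroup.eq_one_iff _).2 (inv_mem hl) |> fun e => show QuotientGroup.mk' L l⁻¹ = 1 from e,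
      one_mul]
  have hev2 : 2 ∣ orderOf c := hq ▸ hcq ▸ orderOf_map_dvd (QuotientGroup.mk' L) c
  have ht : orderOf (c ^ (orderOf c / 2)) = 2 := orderOf_pow_orderOf_div (orderOf_pos c).ne' hev2
  exact h.eq_one_of_commute ht hko (hck.pow_left _)

/-- Over a socle `PSL₂` in characteristic two the outer part has odd order. -/
theorem index_odd_of_pslTwo [Finite X] (h : IsCIT X) (L : Subgroup X) [L.Normal] {F : Type*} [Field F]
    [Fintype F] {n : ℕ} (hF : Fintype.card F = 2 ^ n)
    (e : L ≃* Matrix.ProjectiveSpecialLinearGroup (Fin 2) F) : Odd L.index := by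
  classical
  haveI : Fact (Nat.Prime 2) := ⟨Nat.prime_two⟩
  haveI hch : CharP F 2 := charP_of_card_eq_prime_pow (f := n) (by rw [hF])
  have h2 : (2 : F) = 0 := CharTwo.two_eq_zero
  have hdet : (!![(0 : F), 1; 1, 1]).det = 1 := by
    rw [Matrix.det_fin_two_of]; linear_combination (-1 : F) * h2
  let k₀ : SL(2, F) := ⟨!![(0 : F), 1; 1, 1], hdet⟩
  set π : SL(2, F) →* Matrix.ProjectiveSpecialLinearGroup (Fin 2) F :=
    QuotientGroup.mk' (Subgroup.center SL(2, F)) with hπ
  have hcen : ∀ g : SL(2, F), g ∈ Subgroup.center SL(2, F) → g = 1 := by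
    intro g hg
    obtain ⟨r, hr, hrg⟩ := Matrix.SpecialLinearGroup.mem_center_iff.1 hg
    have hr1 : r = 1 := by
      rw [Fintype.card_fin] at hr
      have : (r - 1) * (r - 1) = 0 := by linear_combination hr - (r - 1) * h2
      exact sub_eq_zero.1 (mul_self_eq_zero.1 this)
    apply Subtype.ext
    rw [← hrg, hr1]
    simp
  have hπinj : Function.Injective π := by
    rw [← MonoidHom.ker_eq_bot_iff, hπ, QuotientGroup.ker_mk', Subgroup.eq_bot_iff_forall]
    exact hcen
  have htr : ∀ g : SL(2, F), g ≠ 1 → g ^ 3 = 1 → (g : Matrix (Fin 2) (Fin 2) F).trace = 1 := by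
    intro g hg1 hg3
    have hM : (g : Matrix (Fin 2) (Fin 2) F) ^ 3 = 1 := by
      rw [← Matrix.SpecialLinearGroup.coe_pow, hg3, Matrix.SpecialLinearGroup.coe_one]
    have hd := g.2
    rw [Matrix.det_fin_two] at hd
    rw [pow_succ, pow_two] at hM
    have e00 := congrArg (fun Z : Matrix (Fin 2) (Fin 2) F => Z 0 0) hM
    have e01 := congrArg (fun Z : Matrix (Fin 2) (Fin 2) F => Z 0 1) hM
    have e10 := congrArg (fun Z : Matrix (Fin 2) (Fin 2) F => Z 1 0) hM
    have e11 := congrArg (fun Z : Matrix (Fin 2) (Fin 2) F => Z 1 1) hM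
    simp [Matrix.mul_apply, Fin.sum_univ_two] at e00 e01 e10 e11
    rw [Matrix.trace_fin_two]
    set a := (g : Matrix (Fin 2) (Fin 2) F) 0 0 with ha
    set b := (g : Matrix (Fin 2) (Fin 2) F) 0 1 with hb
    set c := (g : Matrix (Fin 2) (Fin 2) F) 1 0 with hc
    set d := (g : Matrix (Fin 2) (Fin 2) F) 1 1 with hd'
    by_contra ht
    have ht2 : (a + d) ^ 2 - 1 ≠ 0 := by
      intro e0
      refine ht ?_
      have : (a + d - 1) * (a + d - 1) = 0 := by linear_combination e0 - (a + d - 1) * h2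
      exact sub_eq_zero.1 (mul_self_eq_zero.1 this)
    have hb0 : b = 0 := mul_left_cancel₀ ht2 (by rw [mul_zero]; linear_combination e01 + b * hd)
    have hc0 : c = 0 := mul_left_cancel₀ ht2 (by rw [mul_zero]; linear_combination e10 + c * hd)
    have hda : a = d := by
      have : ((a + d) ^ 2 - 1) * (a - d) = 0 := by linear_combination e00 - e11 + (a - d) * hd
      rcases mul_eq_zero.1 this with e0 | e0
      · exact absurd e0 ht2
      · exact sub_eq_zero.1 e0
    have ha1 : a = 1 := by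
      have : (a - 1) * (a - 1) = 0 := by
        rw [hb0, ← hda] at hd; linear_combination hd - (a - 1) * h2
      exact sub_eq_zero.1 (mul_self_eq_zero.1 this)
    apply hg1
    apply Subtype.ext
    ext i j
    fin_cases i <;> fin_cases j <;> simp [← ha, ← hb, ← hc, ← hd', hb0, hc0, ← hda, ha1]
  have hk1 : k₀ ≠ 1 := fun e => by
    have := congrArg (fun Z : SL(2, F) => (Z : Matrix (Fin 2) (Fin 2) F) 0 0) e
    simp [k₀] at this
  have hk3 : k₀ ^ 3 = 1 := by
    apply Subtype.ext
    rw [Matrix.SpecialLinearGroup.coe_pow, Matrix.SpecialLinearGroup.coe_one, pow_succ, pow_two]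
    ext i j
    fin_cases i <;> fin_cases j <;> simp [k₀, Matrix.mul_apply, Fin.sum_univ_two] <;>
      linear_combination h2
  have hkt := htr k₀ hk1 hk3
  set k : L := e.symm (π k₀) with hkdef
  have hk : orderOf k = 3 := by
    haveI : Fact (Nat.Prime 3) := ⟨Nat.prime_three⟩
    refine orderOf_eq_prime ?_ fun e0 => hk1 (hπinj ?_)
    · rw [hkdef, ← map_pow, ← map_pow, hk3, map_one, map_one]
    · rw [map_one]; exact e.symm.injective (by rw [map_one]; exact e0)
  refine index_odd_of_class h L (k := (k : X)) (fun e0 => ?_) ?_ fun g => ?_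
  · rw [show k = 1 from Subtype.ext e0, orderOf_one] at hk; exact absurd hk (by norm_num)
  · rw [Subgroup.orderOf_coe, hk]; decide
  · set k' : L := (MulAut.conjNormal g : MulAut L) k with hk'
    obtain ⟨g₀, hg₀⟩ := QuotientGroup.mk'_surjective (Subgroup.center SL(2, F)) (e k')
    have hg3 : g₀ ^ 3 = 1 := hπinj (by
      rw [map_pow, hπ, hg₀, map_one, ← map_pow, hk', ← map_pow, ← hk, pow_orderOf_eq_one, map_one, map_one])
    have hg1 : g₀ ≠ 1 := fun e0 => by
      rw [e0, map_one] at hg₀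
      have h1 : k' = 1 := e.injective (by rw [← hg₀, map_one])
      rw [hk'] at h1
      rw [show k = 1 from (MulAut.conjNormal g : MulAut L).injective (by rw [h1, map_one]), orderOf_one] at hk
      exact absurd hk (by norm_num)
    have hc : IsConj k₀ g₀ := GL2.PSLProducts.isConj_of_trace (hkt.trans (htr g₀ hg1 hg3).symm) (by
      rw [hkt]; intro e0
      have : (1 : F) = 0 := by linear_combination e0 + 2 * h2
      exact one_ne_zero this)
    obtain ⟨c, hc⟩ := isConj_iff.1 hc
    have h5 : e.symm (π c) * k * (e.symm (π c))⁻¹ = k' := by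
      rw [hkdef, ← map_inv, ← map_mul, ← map_mul, ← map_inv, ← map_mul, ← map_mul, hc]
      rw [show π g₀ = e k' from hg₀, MulEquiv.symm_apply_apply]
    refine ⟨(e.symm (π c) : L), SetLike.coe_mem _, ?_⟩
    have h6 := congrArg (fun z : L => (z : X)) h5
    simpa [hk'] using h6

end Cfsg.Agent.CIT
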