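import Cfsg.Agent.Lib.CIT.Defs
import Cfsg.Agent.Lib.GW.CountTorusPSL
import Cfsg.Agent.Lib.Fusion.SimpleTwoRankTwo
import Cfsg.Agent.S0483
import Cfsg.Agent.S1240
import Cfsg.Agent.S3784
import Cfsg.Agent.Lib.Cores.Basic

/-!
# CIT groups with dihedral or semidihedral Sylow 2-subgroups
-/

set_option autoImplicit false

namespace Cfsg.Agent.CIT

open Subgroup

universe u v

/-- Being a CIT group is an isomorphism invariant. -/
theorem isCIT_of_equiv {G : Type u} [Group G] {H : Type v} [Group H] (e : G ≃* H) (h : IsCIT G) :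
    IsCIT H := by
  intro t ht g
  have hg : (g : H) * t = t * g := mem_centralizer_singleton_iff.1 g.2
  obtain ⟨k, hk⟩ := h (e.symm t) (by rw [MulEquiv.orderOf_eq]; exact ht)
    ⟨e.symm g, mem_centralizer_singleton_iff.2 (by rw [← map_mul, hg, map_mul])⟩
  refine ⟨k, Subtype.ext (e.symm.injective ?_)⟩
  simpa using congrArg Subtype.val hk

/-- An element of odd order commuting with an involution is trivial in a CIT group. -/
theorem eq_one_of_odd_commute {G : Type u} [Group G] (h : IsCIT G) {t x : G} (ht : orderOf t = 2)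
    (hx : Odd (orderOf x)) (hc : Commute x t) : x = 1 := by
  obtain ⟨k, hk⟩ := h t ht ⟨x, mem_centralizer_singleton_iff.2 hc.eq⟩
  have hd : orderOf x ∣ 2 ^ k := orderOf_dvd_of_pow_eq_one (congrArg Subtype.val hk)
  have hco : Nat.Coprime (orderOf x) (2 ^ k) :=
    Nat.Coprime.pow_right k (Nat.coprime_two_right.2 hx)
  exact orderOf_eq_one_iff.1 (hco.eq_one_of_dvd hd)

/-- The alternating group of degree seven is not a CIT group. -/
theorem not_isCIT_alt_seven : ¬ IsCIT (alternatingGroup (Fin 7)) := by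
  intro h
  let t : alternatingGroup (Fin 7) := ⟨Equiv.swap 3 4 * Equiv.swap 5 6, Equiv.Perm.mem_alternatingGroup.2 (by decide)⟩
  let x : alternatingGroup (Fin 7) := ⟨Equiv.swap 0 1 * Equiv.swap 1 2, Equiv.Perm.mem_alternatingGroup.2 (by decide)⟩
  have ht : orderOf t = 2 := orderOf_eq_prime (by decide) (by decide)
  have hx : orderOf x = 3 := by
    have : Fact (Nat.Prime 3) := ⟨Nat.prime_three⟩
    exact orderOf_eq_prime (by decide) (by decide)
  have := eq_one_of_odd_commute h ht (hx ▸ by decide) (show x * t = t * x by decide)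
  rw [this, orderOf_one] at hx
  omega

/-- The fields of the projective special linear CIT groups of odd characteristic. -/
theorem field_cases {q p m : ℕ} (hp : p.Prime) (hm : 1 ≤ m) (hq : q = p ^ m) (hodd : Odd q)
    (h3 : 3 < q) {k : ℕ} (hk : q - 1 = 2 ^ k ∨ q + 1 = 2 ^ k) :
    q = 9 ∨ (5 ≤ q ∧ q.Prime ∧ ∃ k : ℕ, q = 2 ^ k + 1 ∨ q + 1 = 2 ^ k) := by
  have hp2 : p ≠ 2 := by
    rintro rfl
    rw [hq, Nat.odd_pow_iff (by omega)] at hodd
    exact absurd hodd (by decide)
  have hk1 : 1 ≤ k := by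
    rcases Nat.eq_zero_or_pos k with rfl | h
    · rcases hk with h | h <;> omega
    · exact h
  have hfive : 5 ≤ q := by rcases hodd with ⟨r, hr⟩; omega
  rcases hk with hk | hk
  · rcases S3784.result p 2 m k hp Nat.prime_two hm hk1 (by omega) with
      ⟨h, -⟩ | ⟨-, rfl, -⟩ | ⟨h, -⟩
    · exact absurd h hp2
    · exact Or.inr ⟨hfive, by rw [hq, pow_one]; exact hp, k, Or.inl (by omega)⟩
    · exact Or.inl (hq.trans h)
  · rcases S3784.result 2 p k m Nat.prime_two hp hk1 hm (by omega) with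
      ⟨-, rfl, -⟩ | ⟨h, -⟩ | ⟨h, -⟩
    · exact Or.inr ⟨hfive, by rw [hq, pow_one]; exact hp, k, Or.inr hk⟩
    · exact absurd h hp2
    · rw [← hk, hq] at h
      have : 2 ∣ p ^ m + 1 := by
        rw [← hq]; rcases hodd with ⟨r, hr⟩; exact ⟨r + 1, by omega⟩
      omega

variable {G : Type u} [Group G] [Finite G] [IsSimpleGroup G]

/-- A simple CIT group with dihedral Sylow 2-subgroups is a listed linear group. -/
theorem citList_of_dihedral (hna : ¬ IsMulCommutative G) (hC : IsCIT G) (S : Sylow 2 G) {n : ℕ}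
    (hn : 2 ≤ n) (e : (S : Subgroup G) ≃* DihedralGroup n) : CITList G := by
  have hperf : Group.IsPerfect G := by
    refine Group.isPerfect_def.2 (((inferInstance : (commutator G).Normal)).eq_bot_or_eq_top.resolve_left
      fun h => hna ⟨⟨fun a b => ?_⟩⟩)
    exact commutatorElement_eq_one_iff_mul_comm.1
      ((Subgroup.mem_bot).1 (h ▸ Subgroup.commutator_mem_commutator (mem_top a) (mem_top b)))
  have hO : Cfsg.oddCore G = ⊥ := by
    rcases (inferInstance : (Cfsg.oddCore G).Normal).eq_bot_or_eq_top with h | h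
    · exact h
    · exfalso
      have hc : Odd (Nat.card ↥(Cfsg.oddCore G)) := Cores.oddCore_odd
      rw [h, Subgroup.card_top] at hc
      have h2 : 2 ∣ Nat.card G := by
        refine dvd_trans ?_ (S : Subgroup G).card_subgroup_dvd_card
        rw [Nat.card_congr e.toEquiv, DihedralGroup.nat_card]
        exact dvd_mul_right 2 n
      exact absurd (Nat.odd_iff.1 hc) (by omega)
  let q0 : G ⧸ Cfsg.oddCore G ≃* G :=
    (QuotientGroup.quotientMulEquivOfEq hO).trans QuotientGroup.quotientBot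
  rcases S0483.result S n hn ⟨e⟩ with ⟨F, iF, iT, hodd, h3, hf⟩ | hf

  · obtain ⟨f⟩ := hf
    obtain ⟨t, ht⟩ : ∃ t : G, orderOf t = 2 := by
      refine exists_prime_orderOf_dvd_card' 2 ?_
      refine dvd_trans ?_ (S : Subgroup G).card_subgroup_dvd_card
      rw [Nat.card_congr e.toEquiv, DihedralGroup.nat_card]
      exact dvd_mul_right 2 n
    obtain ⟨p₀, hp₀, X, iX, hT⟩ := GW.Count.exists_torus hodd (q0.symm.trans f) ht
    obtain ⟨k, hk⟩ := (hC t ht).exists_card_eq
    obtain ⟨p, hp⟩ := CharP.exists F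
    obtain ⟨m, hpr, hm⟩ := FiniteField.card F p
    have hcases : Fintype.card F - 1 = 2 ^ k ∨ Fintype.card F + 1 = 2 ^ k := by
      rcases hT.natCard_cent_cases with h | h
      · exact Or.inl (h.symm.trans hk)
      · exact Or.inr (h.symm.trans hk)
    refine Or.inl ⟨F, iF, iT, ?_, ⟨q0.symm.trans f⟩⟩
    rcases field_cases hpr m.2 hm hodd h3 hcases with h | h
    · exact Or.inl h
    · exact Or.inr (Or.inr h)
  · obtain ⟨f⟩ := hf
    exact absurd (isCIT_of_equiv (q0.symm.trans f) hC) not_isCIT_alt_seven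

/-- No simple CIT group has semidihedral Sylow 2-subgroups. -/
theorem not_quasiDihedral (hC : IsCIT G) (S : Sylow 2 G)
    (hS : Cfsg.IsQuasiDihedral (S : Subgroup G)) : False := by
  have : Fact (Nat.Prime 2) := ⟨Nat.prime_two⟩
  have hG : ∀ H : Subgroup G, H.index ≠ 2 := by
    intro H hH
    rcases (Subgroup.normal_of_index_eq_two hH).eq_bot_or_eq_top with h | h
    · rw [h, Subgroup.index_bot] at hH
      have h1 := Nat.le_of_dvd two_pos (hH ▸ (S : Subgroup G).card_subgroup_dvd_card)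
      obtain ⟨n, hn, hc, -⟩ := hS
      have := Nat.pow_le_pow_right two_pos (show 2 ≤ n + 1 by omega)
      omega
    · rw [h, Subgroup.index_top] at hH
      omega
  obtain ⟨D⟩ := Involutions.QuasiDihedral.exists_gens hS
  have hone : ∀ a b : G, orderOf a = 2 → orderOf b = 2 → IsConj a b := fun a b ha hb =>
    (Involutions.CentralizerInvolution.qd_one_class D hG ha).trans
      (Involutions.CentralizerInvolution.qd_one_class D hG hb).symm
  obtain ⟨t, ht⟩ : ∃ t : G, orderOf t = 2 := by
    obtain ⟨n, hn, hc, -⟩ := hS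
    exact exists_prime_orderOf_dvd_card' 2
      (dvd_trans (hc ▸ dvd_pow_self 2 (by omega)) (S : Subgroup G).card_subgroup_dvd_card)
  obtain ⟨F, iF, iT, hodd, ⟨f⟩⟩ := S1240.result S (Or.inl hS) hG hone t ht
  have h2 : IsPGroup 2 (Matrix.SpecialLinearGroup (Fin 2) F) :=
    (((hC t ht).to_quotient _).to_subgroup _).of_equiv f
  obtain ⟨p, hp⟩ := CharP.exists F
  obtain ⟨m, hpr, hm⟩ := FiniteField.card F p
  have hp2 : p ≠ 2 := by
    rintro rfl
    rw [hm, Nat.odd_pow_iff m.ne_zero] at hodd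
    exact absurd hodd (by decide)
  let x : Matrix.SpecialLinearGroup (Fin 2) F := ⟨!![1, 1; 0, 1], by simp [Matrix.det_fin_two_of]⟩
  obtain ⟨k, hk⟩ := h2 x
  have hpow : ∀ j : ℕ, ((x ^ j : Matrix.SpecialLinearGroup (Fin 2) F) : Matrix (Fin 2) (Fin 2) F)
      = !![1, (j : F); 0, 1] := by
    intro j
    induction j with
    | zero => simp [Matrix.one_fin_two]
    | succ j ih =>
      rw [pow_succ, Matrix.SpecialLinearGroup.coe_mul, ih]
      ext r s
      fin_cases r <;> fin_cases s <;> simp [x, Matrix.mul_apply, Fin.sum_univ_two] <;> ring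
  have h0 := congrFun (congrFun ((hpow (2 ^ k)).symm.trans
    (congrArg (fun y : Matrix.SpecialLinearGroup (Fin 2) F => (y : Matrix (Fin 2) (Fin 2) F)) hk)) 0) 1
  simp at h0
  have hdvd : p ∣ 2 ^ k := (CharP.cast_eq_zero_iff F p _).1 (by simpa using h0)
  exact hp2 ((Nat.prime_dvd_prime_iff_eq hpr Nat.prime_two).1 (hpr.dvd_of_dvd_pow hdvd))

end Cfsg.Agent.CIT
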