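import Cfsg.Agent.Lib.CIT.Defs

/-!
# The configuration `LThreeFour`: first properties
-/

set_option autoImplicit false
set_option linter.unusedSectionVars false

namespace Cfsg.Agent.CIT

open Subgroup

universe u

variable {G : Type u} [Group G]

/-- A subgroup inside the union of two subgroups lies in one of them. -/
theorem le_or_le_of_subset {E R A : Subgroup G} (h : ∀ x ∈ E, x ∈ R ∨ x ∈ A) : E ≤ R ∨ E ≤ A := by
  by_contra hne
  rw [not_or, SetLike.not_le_iff_exists, SetLike.not_le_iff_exists] at hne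
  obtain ⟨⟨a, ha, haR⟩, b, hb, hbA⟩ := hne
  have haA : a ∈ A := (h a ha).resolve_left haR
  have hbR : b ∈ R := (h b hb).resolve_right hbA
  rcases h (a * b) (mul_mem ha hb) with h1 | h1
  · exact haR ((Subgroup.mul_mem_cancel_right R hbR).1 h1)
  · exact hbA ((Subgroup.mul_mem_cancel_left A haA).1 h1)

/-- Membership in the normaliser, for finite subgroups. -/
theorem mem_normalizer_of_forall [Finite G] {g : G} {H : Subgroup G}
    (h : ∀ x ∈ H, g * x * g⁻¹ ∈ H) : g ∈ normalizer (H : Set G) := by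
  have hle : H.map (MulAut.conj g).toMonoidHom ≤ H := by
    rintro _ ⟨x, hx, rfl⟩
    exact h x hx
  have heq := Subgroup.eq_of_le_of_card_ge hle
    (Subgroup.card_map_of_injective (MulAut.conj g).injective).ge
  refine Subgroup.mem_normalizer_iff.2 fun x => ⟨h x, fun hx => ?_⟩
  rw [← SetLike.mem_coe, ← heq] at hx
  obtain ⟨y, hy, e⟩ := hx
  exact (MulAut.conj g).injective e ▸ hy

namespace LThreeFour

variable {U : Sylow 2 G} {R A : Subgroup G} [Finite G] (h : LThreeFour U R A)
include h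

theorem symm : LThreeFour U A R where
  card_U := h.card_U
  R_le := h.A_le
  A_le := h.R_le
  R_card := h.A_card
  A_card := h.R_card
  R_sq := h.A_sq
  A_sq := h.R_sq
  inf_card := by rw [inf_comm]; exact h.inf_card
  involutions := fun x hx hx2 => (h.involutions x hx hx2).symm
  cent_R := h.cent_A
  cent_A := h.cent_R
  norm_R := h.norm_A
  norm_A := h.norm_R
  norm_U := h.norm_U
  cent_z := fun z hz hz1 => h.cent_z z (inf_comm A R ▸ hz) hz1
  one_class := h.one_class

theorem R_neq_A : R ≠ A := fun e => by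
  have h4 := h.inf_card
  rw [e, inf_idem, h.A_card] at h4
  omega

/-- An elementary subgroup of order 16 of `U` is `R` or `A`. -/
theorem eq_R_or_A {E : Subgroup G} (hle : E ≤ (U : Subgroup G)) (hcard : Nat.card E = 16)
    (hsq : ∀ x ∈ E, x * x = 1) : E = R ∨ E = A := by
  rcases le_or_le_of_subset fun x hx => h.involutions x (hle hx) (hsq x hx) with hR | hA
  · exact Or.inl (Subgroup.eq_of_le_of_card_ge hR (by rw [hcard, h.R_card]))
  · exact Or.inr (Subgroup.eq_of_le_of_card_ge hA (by rw [hcard, h.A_card]))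

/-- A conjugate of `R` lying in `U` is `R` or `A`. -/
theorem conj_R_cases {g : G} (hg : ∀ x ∈ R, g * x * g⁻¹ ∈ (U : Subgroup G)) :
    (∀ x ∈ R, g * x * g⁻¹ ∈ R) ∨ (∀ x ∈ R, g * x * g⁻¹ ∈ A) := by
  have hle : R.map (MulAut.conj g).toMonoidHom ≤ (U : Subgroup G) := by
    rintro _ ⟨x, hx, rfl⟩
    exact hg x hx
  rcases h.eq_R_or_A hle (by rw [Subgroup.card_map_of_injective (MulAut.conj g).injective, h.R_card])
    (by
      rintro _ ⟨x, hx, rfl⟩
      rw [← map_mul, h.R_sq x hx, map_one]) with e | e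
  · exact Or.inl fun x hx => e ▸ Subgroup.mem_map_of_mem (MulAut.conj g).toMonoidHom hx
  · exact Or.inr fun x hx => e ▸ Subgroup.mem_map_of_mem (MulAut.conj g).toMonoidHom hx

theorem exists_mul_eq {u : G} (hu : u ∈ (U : Subgroup G)) : ∃ r ∈ R, ∃ a ∈ A, r * a = u := by
  let f : (R ⧸ A.subgroupOf R) × A → (U : Subgroup G) := fun p =>
    ⟨(p.1.out : G) * (p.2 : G), mul_mem (h.R_le p.1.out.2) (h.A_le p.2.2)⟩
  have hinj : Function.Injective f := by
    rintro ⟨q, a⟩ ⟨q', a'⟩ e
    have e' : (q.out : G) * a = q'.out * a' := congrArg Subtype.val e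
    have hq : q = q' := by
      rw [← q.out_eq, ← q'.out_eq]
      refine QuotientGroup.eq.2 (Subgroup.mem_subgroupOf.2 ?_)
      have : ((q.out : G))⁻¹ * (q'.out : G) = a * (a' : G)⁻¹ := by
        rw [eq_mul_inv_iff_mul_eq, mul_assoc, ← e', inv_mul_cancel_left]
      rw [Subgroup.coe_mul, Subgroup.coe_inv, this]
      exact mul_mem a.2 (inv_mem a'.2)
    subst hq
    exact Prod.ext rfl (Subtype.ext (mul_left_cancel e'))
  have hq : Nat.card (R ⧸ A.subgroupOf R) = 4 := by
    have h2 := Subgroup.card_eq_card_quotient_mul_card_subgroup (A.subgroupOf R)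
    have h3 : Nat.card (A.subgroupOf R) = Nat.card (A ⊓ R : Subgroup G) := by
      rw [← Subgroup.inf_subgroupOf_right]
      exact Nat.card_congr (Subgroup.subgroupOfEquivOfLe inf_le_right).toEquiv
    rw [h3, inf_comm, h.inf_card, h.R_card] at h2
    omega
  have hbij : Function.Bijective f := (Nat.bijective_iff_injective_and_card f).2
    ⟨hinj, by rw [Nat.card_prod, hq, h.A_card, h.card_U]⟩
  obtain ⟨⟨q, a⟩, he⟩ := hbij.2 ⟨u, hu⟩
  exact ⟨q.out, q.out.2, a, a.2, congrArg Subtype.val he⟩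

theorem le_norm_A : (U : Subgroup G) ≤ normalizer (A : Set G) := by
  intro u hu
  have hA : ∀ a ∈ A, a ∈ normalizer (A : Set G) := fun a ha => Subgroup.le_normalizer ha
  obtain ⟨r, hr, a, ha, rfl⟩ := h.exists_mul_eq hu
  refine mul_mem ?_ (hA a ha)
  rcases h.symm.conj_R_cases (g := r) (fun x hx =>
    mul_mem (mul_mem (h.R_le hr) (h.A_le hx)) (inv_mem (h.R_le hr))) with hc | hc
  · exact mem_normalizer_of_forall hc
  · exfalso
    refine h.R_neq_A (Subgroup.eq_of_le_of_card_ge ?_ (by rw [h.R_card, h.A_card])).symm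
    intro x hx
    have := mul_mem (mul_mem (inv_mem hr) (hc x hx)) hr
    simpa [mul_assoc] using this

theorem le_norm_R : (U : Subgroup G) ≤ normalizer (R : Set G) := h.symm.le_norm_A

theorem normalizer_inf_le :
    normalizer (R : Set G) ⊓ normalizer (A : Set G) ≤ normalizer ((U : Subgroup G) : Set G) := by
  rintro g ⟨hgR, hgA⟩
  refine mem_normalizer_of_forall fun u hu => ?_
  obtain ⟨r, hr, a, ha, rfl⟩ := h.exists_mul_eq hu
  rw [show g * (r * a) * g⁻¹ = (g * r * g⁻¹) * (g * a * g⁻¹) by group]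
  exact mul_mem (h.R_le ((Subgroup.mem_normalizer_iff.1 hgR r).1 hr))
    (h.A_le ((Subgroup.mem_normalizer_iff.1 hgA a).1 ha))

/-- Elements of `N(U)` of 2-power order lie in `U`; in fact the cube of every element does. -/
theorem pow_three_mem {g : G} (hg : g ∈ normalizer ((U : Subgroup G) : Set G)) :
    g ^ 3 ∈ (U : Subgroup G) := by
  set N := normalizer ((U : Subgroup G) : Set G) with hN
  have hle : (U : Subgroup G) ≤ N := Subgroup.le_normalizer
  have : ((U : Subgroup G).subgroupOf N).Normal := Subgroup.normal_in_normalizer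
  have hidx : ((U : Subgroup G).subgroupOf N).index = 3 := by
    have h2 := ((U : Subgroup G).subgroupOf N).card_mul_index
    rw [Nat.card_congr (Subgroup.subgroupOfEquivOfLe hle).toEquiv, h.card_U, hN, h.norm_U] at h2
    rw [hN]
    omega
  have := Subgroup.pow_index_mem ((U : Subgroup G).subgroupOf N) ⟨g, hg⟩
  rw [hidx, Subgroup.mem_subgroupOf] at this
  exact this

theorem mem_U_of_pow_two {g : G} (hg : g ∈ normalizer ((U : Subgroup G) : Set G)) {k : ℕ}
    (hk : g ^ (2 ^ k) = 1) : g ∈ (U : Subgroup G) := by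
  have h3 := h.pow_three_mem hg
  obtain ⟨m, -, hm⟩ := (Nat.dvd_prime_pow Nat.prime_two).1 (orderOf_dvd_of_pow_eq_one hk)
  have hco : Nat.Coprime 3 (orderOf g) := by rw [hm]; exact Nat.Coprime.pow_right _ (by norm_num)
  obtain ⟨n, hn⟩ := exists_pow_eq_self_of_coprime hco
  rw [← hn]
  exact pow_mem h3 n

theorem normalizer_U_le_R :
    normalizer ((U : Subgroup G) : Set G) ≤ normalizer (R : Set G) := by
  intro g hg
  have hU : ∀ x ∈ R, g * x * g⁻¹ ∈ (U : Subgroup G) :=
    fun x hx => (Subgroup.mem_normalizer_iff.1 hg x).1 (h.R_le hx)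
  rcases h.conj_R_cases hU with hc | hc
  · exact mem_normalizer_of_forall hc
  · exfalso
    rcases h.symm.conj_R_cases (g := g) (fun x hx =>
      (Subgroup.mem_normalizer_iff.1 hg x).1 (h.A_le hx)) with hA | hA
    · -- both `R` and `A` would go into `A`
      refine h.R_neq_A (Subgroup.eq_of_le_of_card_ge ?_ (by rw [h.R_card, h.A_card]))
      intro x hx
      have hgN : g ∈ normalizer (A : Set G) := mem_normalizer_of_forall hA
      exact (Subgroup.mem_normalizer_iff.1 hgN x).2 (hc x hx)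
    · have hs : ∀ x ∈ R, g ^ 2 * x * (g ^ 2)⁻¹ ∈ R := fun x hx => by
        rw [show g ^ 2 * x * (g ^ 2)⁻¹ = g * (g * x * g⁻¹) * g⁻¹ by rw [pow_two]; group]
        exact hA _ (hc x hx)
      have h2 : g ^ 2 ∈ normalizer (R : Set G) := mem_normalizer_of_forall hs
      have h3 : g ^ 3 ∈ normalizer (R : Set G) := h.le_norm_R (h.pow_three_mem hg)
      have hgR : g ∈ normalizer (R : Set G) := by
        have := mul_mem h3 (inv_mem h2)
        rwa [show g ^ 3 * (g ^ 2)⁻¹ = g by group] at this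
      refine h.R_neq_A (Subgroup.eq_of_le_of_card_ge ?_ (by rw [h.R_card, h.A_card]))
      intro x hx
      have := hc _ ((Subgroup.mem_normalizer_iff''.1 hgR x).1 hx)
      simpa [mul_assoc] using this

theorem normalizer_U_le_A :
    normalizer ((U : Subgroup G) : Set G) ≤ normalizer (A : Set G) := h.symm.normalizer_U_le_R

theorem normalizer_inf_eq :
    normalizer (R : Set G) ⊓ normalizer (A : Set G) = normalizer ((U : Subgroup G) : Set G) :=
  le_antisymm h.normalizer_inf_le (le_inf h.normalizer_U_le_R h.normalizer_U_le_A)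

/-- `R` and `A` are not conjugate. -/
theorem not_conj (g : G) : ¬ ∀ x ∈ R, g * x * g⁻¹ ∈ A := by
  intro hg
  have hmap : R.map (MulAut.conj g).toMonoidHom = A := by
    refine Subgroup.eq_of_le_of_card_ge ?_
      (by rw [Subgroup.card_map_of_injective (MulAut.conj g).injective, h.R_card, h.A_card])
    rintro _ ⟨x, hx, rfl⟩
    exact hg x hx
  have hU' : ((g • U : Sylow 2 G) : Subgroup G) ≤ normalizer (A : Set G) := by
    intro y hy
    rw [Sylow.coe_subgroup_smul] at hy
    obtain ⟨u, hu, rfl⟩ := hy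
    refine mem_normalizer_of_forall fun x hx => ?_
    rw [← hmap] at hx ⊢
    obtain ⟨r, hr, rfl⟩ := hx
    refine ⟨u * r * u⁻¹, (Subgroup.mem_normalizer_iff.1 (h.le_norm_R hu) r).1 hr, ?_⟩
    show MulAut.conj g (u * r * u⁻¹) = MulAut.conj g u * MulAut.conj g r * (MulAut.conj g u)⁻¹
    simp only [map_mul, map_inv]
  obtain ⟨k, hk⟩ := MulAction.exists_smul_eq (normalizer (A : Set G))
    ((g • U).subtype hU') (U.subtype h.le_norm_A)
  have hk' : (k : G) • (g • U) = U := by
    simp_rw [Sylow.smul_subtype, Subgroup.smul_def] at hk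
    exact Sylow.subtype_injective hk
  rw [smul_smul, Sylow.smul_eq_iff_mem_normalizer] at hk'
  have hkgR := h.normalizer_U_le_R hk'
  refine h.R_neq_A (Subgroup.eq_of_le_of_card_ge ?_ (by rw [h.R_card, h.A_card]))
  intro x hx
  have h2 := hg _ ((Subgroup.mem_normalizer_iff''.1 hkgR x).1 hx)
  have h3 := (Subgroup.mem_normalizer_iff.1 k.2 _).1 h2
  simpa [mul_assoc] using h3

/-- The only conjugate of `R` inside `U` is `R`. -/
theorem conj_R_mem {g : G} (hg : ∀ x ∈ R, g * x * g⁻¹ ∈ (U : Subgroup G)) :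
    g ∈ normalizer (R : Set G) :=
  mem_normalizer_of_forall ((h.conj_R_cases hg).resolve_right (h.not_conj g))

/-- `R` meets another conjugate of itself only trivially: the conjugating element normalises `R`
as soon as a nonidentity element is shared. -/
theorem mem_norm_R_of_mem {g r : G} (hr : r ∈ R) (hr1 : r ≠ 1) (hgr : g⁻¹ * r * g ∈ R) :
    g ∈ normalizer (R : Set G) := by
  obtain ⟨z, hz, hz1⟩ : ∃ z ∈ R ⊓ A, z ≠ 1 := by
    by_contra hne
    push Not at hne
    have : R ⊓ A = ⊥ := (Subgroup.eq_bot_iff_forall _).2 hne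
    have h4 := h.inf_card
    rw [this, Subgroup.card_bot] at h4
    omega
  have ho : ∀ x ∈ R, x ≠ 1 → orderOf x = 2 := fun x hx hx1 =>
    orderOf_eq_prime (by rw [pow_two]; exact h.R_sq x hx) hx1
  obtain ⟨c, hc⟩ := isConj_iff.1 (h.one_class z r (ho z hz.1 hz1) (ho r hr hr1))
  have hcomm : ∀ y, Commute r y → c⁻¹ * y * c ∈ (U : Subgroup G) := fun y hy => by
    rw [← h.cent_z z hz hz1, Subgroup.mem_centralizer_singleton_iff]
    subst hc
    have := hy.eq
    calc c⁻¹ * y * c * z = c⁻¹ * (y * (c * z * c⁻¹)) * c := by group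
      _ = c⁻¹ * ((c * z * c⁻¹) * y) * c := by rw [this]
      _ = z * (c⁻¹ * y * c) := by group
  have hRcomm : ∀ a ∈ R, ∀ b ∈ R, Commute a b := fun a ha b hb => by
    have hab := h.R_sq _ (mul_mem ha hb)
    have ea : a⁻¹ = a := inv_eq_of_mul_eq_one_right (h.R_sq a ha)
    have eb : b⁻¹ = b := inv_eq_of_mul_eq_one_right (h.R_sq b hb)
    have eab : (a * b)⁻¹ = a * b := inv_eq_of_mul_eq_one_right hab
    rw [mul_inv_rev, ea, eb] at eab
    exact eab.symm
  have h1 : c⁻¹ ∈ normalizer (R : Set G) := h.conj_R_mem fun x hx => by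
    rw [inv_inv]; exact hcomm x (hRcomm r hr x hx)
  have h2 : c⁻¹ * g ∈ normalizer (R : Set G) := h.conj_R_mem fun x hx => by
    rw [show c⁻¹ * g * x * (c⁻¹ * g)⁻¹ = c⁻¹ * (g * x * g⁻¹) * c by group]
    refine hcomm _ ?_
    have := (hRcomm _ hgr x hx).map (MulAut.conj g).toMonoidHom
    simpa [mul_assoc] using this
  have := mul_mem (inv_mem h1) h2
  simpa using this

end LThreeFour

end Cfsg.Agent.CIT
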