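import Cfsg.Agent.Lib.CIT.Base
import Cfsg.Agent.Lib.CIT.Endgame
import Cfsg.Agent.Lib.Transfer.Frobenius
import Cfsg.Agent.Lib.Cores.Nilpotent
import Cfsg.Agent.Lib.CIT.LThreeFourBasic
import Cfsg.Agent.S3224

/-!
# CIT groups: the case `q = 2`

Section 4C of `notes/cit-lead.md`: `N = N(R)` with `N/R ≅ S₃` and a four-group `W` in `Z(R)` holding all
involutions of `R`. Then a Sylow 2-subgroup `U` over a Sylow 2-subgroup of `N` has an involution with
centraliser of order four, so it is dihedral or semidihedral.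
-/

set_option autoImplicit false
set_option linter.unusedSectionVars false

namespace Cfsg.Agent.CIT

open Subgroup Cfsg.Agent.Involutions

universe u

variable {G : Type u} [Group G] [Finite G]

/-- An element of a four-group is determined by two of its involutions. -/
theorem four_mem {W : Subgroup G} (hcard : Nat.card W = 4) (hsq : ∀ x ∈ W, x * x = 1) {x y v : G}
    (hx : x ∈ W) (hy : y ∈ W) (hx1 : x ≠ 1) (hy1 : y ≠ 1) (hxy : x ≠ y) (hv : v ∈ W) :
    v = 1 ∨ v = x ∨ v = y ∨ v = x * y := by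
  classical
  have h1 : x * y ≠ 1 := fun h => hxy (mul_right_cancel (h.trans (hsq y hy).symm))
  have h2 : x * y ≠ x := fun h => hy1 (mul_eq_left.1 h)
  have h3 : x * y ≠ y := fun h => hx1 (mul_eq_right.1 h)
  by_contra! h
  let g : Fin 5 → W := ![1, ⟨x, hx⟩, ⟨y, hy⟩, ⟨x * y, mul_mem hx hy⟩, ⟨v, hv⟩]
  have hinj : Function.Injective g := by
    intro i j hij
    fin_cases i <;> fin_cases j <;>
      simp [g, Subtype.ext_iff, hx1, Ne.symm hx1, hy1, Ne.symm hy1, hxy, Ne.symm hxy, h1, Ne.symm h1,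
        h2, Ne.symm h2, h3, Ne.symm h3, h.1, Ne.symm h.1, h.2.1, Ne.symm h.2.1, h.2.2.1,
        Ne.symm h.2.2.1, h.2.2.2, Ne.symm h.2.2.2] at hij ⊢
  have := Nat.card_le_card_of_injective g hinj
  simp [hcard] at this

/-- The data of the case `q = 2`. -/
structure RankOneData (U : Sylow 2 G) (R W : Subgroup G) (z : G) : Prop where
  R_le : R ≤ (U : Subgroup G)
  R_cent : centralizer (R : Set G) ≤ R
  W_le : W ≤ R
  W_card : Nat.card W = 4
  W_sq : ∀ x ∈ W, x * x = 1
  W_comm : ∀ x ∈ W, ∀ r ∈ R, x * r = r * x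
  W_normal : ∀ g ∈ normalizer (R : Set G), ∀ x ∈ W, g * x * g⁻¹ ∈ W
  cent_W : ∀ g ∈ normalizer (R : Set G), (∀ x ∈ W, g * x = x * g) → g ∈ R
  inv_four : ∀ r ∈ R, r * r = 1 → r ∈ W
  three : ∃ y ∈ normalizer (R : Set G), orderOf y = 3
  exists_out : ∃ a ∈ (U : Subgroup G), a ∈ normalizer (R : Set G) ∧ a ∉ R ∧ a * a = 1
  z_mem : z ∈ W
  z_ne : z ≠ 1
  z_cent : ∀ g ∈ (U : Subgroup G), g ∈ normalizer (R : Set G) → z * g = g * z

namespace RankOneData

variable {U : Sylow 2 G} {R W : Subgroup G} {z : G} (d : RankOneData U R W z)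

include d

theorem z_order : orderOf z = 2 :=
  Basic.orderOf_two_iff.2 ⟨d.W_sq z d.z_mem, d.z_ne⟩

theorem W_commute {x y : G} (hx : x ∈ W) (hy : y ∈ W) : x * y = y * x :=
  d.W_comm x hx y (d.W_le hy)

/-- An element fixing `z` and another element of `W` centralises `W`. -/
theorem comm_of_fix {g w : G} (hgz : g * z = z * g) (hw : w ∈ W) (hw1 : w ≠ 1) (hwz : w ≠ z)
    (hgw : g * w = w * g) : ∀ x ∈ W, g * x = x * g := by
  intro x hx
  rcases four_mem d.W_card d.W_sq d.z_mem hw d.z_ne hw1 (Ne.symm hwz) hx with h | h | h | h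
  · rw [h, mul_one, one_mul]
  · rwa [h]
  · rwa [h]
  · rw [h, ← mul_assoc, hgz, mul_assoc, hgw, mul_assoc]

/-- An element of `U ∩ N(R)` outside `R` fixes only `1` and `z` in `W`. -/
theorem eq_of_fix {g w : G} (hg : g ∈ (U : Subgroup G)) (hgn : g ∈ normalizer (R : Set G))
    (hgR : g ∉ R) (hw : w ∈ W) (hgw : g * w = w * g) : w = 1 ∨ w = z := by
  by_contra! h
  exact hgR (d.cent_W g hgn (d.comm_of_fix (d.z_cent g hg hgn).symm hw h.1 h.2 hgw))

/-- Elements of `W` moved by an element of order three. -/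
theorem move_ne (hC : IsCIT G) {y w : G} (hy : orderOf y = 3) (hw : w ∈ W) (hw1 : w ≠ 1) :
    y * w * y⁻¹ ≠ w := fun h => by
  have h2 : orderOf w = 2 := Basic.orderOf_two_iff.2 ⟨d.W_sq w hw, hw1⟩
  have := eq_one_of_odd_commute hC h2 (hy ▸ by decide) (mul_inv_eq_iff_eq_mul.1 h)
  rw [this, orderOf_one] at hy
  omega

/-- `N(R)` is transitive on the involutions of `W`. -/
theorem exists_conj (hC : IsCIT G) {w : G} (hw : w ∈ W) (hw1 : w ≠ 1) :
    ∃ n ∈ normalizer (R : Set G), n * z * n⁻¹ = w := by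
  obtain ⟨y, hyn, hy⟩ := d.three
  set z₁ := y * z * y⁻¹ with hz₁
  have hz₁W : z₁ ∈ W := d.W_normal y hyn z d.z_mem
  have hz₁1 : z₁ ≠ 1 := fun h => d.z_ne (conj_eq_one_iff.1 h)
  have hne : z ≠ z₁ := fun h => d.move_ne hC hy d.z_mem d.z_ne h.symm
  rcases four_mem d.W_card d.W_sq d.z_mem hz₁W d.z_ne hz₁1 hne hw with h | h | h | h
  · exact absurd h hw1
  · exact ⟨1, one_mem _, by rw [h]; group⟩
  · exact ⟨y, hyn, h.symm⟩
  · have h2W : y * z₁ * y⁻¹ ∈ W := d.W_normal y hyn z₁ hz₁W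
    refine ⟨y * y, mul_mem hyn hyn, ?_⟩
    rw [show y * y * z * (y * y)⁻¹ = y * z₁ * y⁻¹ by rw [hz₁]; group, h]
    rcases four_mem d.W_card d.W_sq d.z_mem hz₁W d.z_ne hz₁1 hne h2W with e | e | e | e
    · exact absurd (conj_eq_one_iff.1 e) hz₁1
    · exfalso
      have hy3 : y ^ 3 = 1 := hy ▸ pow_orderOf_eq_one y
      refine d.move_ne hC hy d.z_mem d.z_ne ?_
      have e' : y * (y * (y * z * y⁻¹) * y⁻¹) * y⁻¹ = y * z * y⁻¹ := by rw [← hz₁, e]
      calc y * z * y⁻¹ = y * (y * (y * z * y⁻¹) * y⁻¹) * y⁻¹ := e'.symm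
        _ = y ^ 3 * z * (y ^ 3)⁻¹ := by simp only [pow_succ, pow_zero, one_mul, mul_inv_rev, mul_assoc]
        _ = z := by rw [hy3, inv_one, one_mul, mul_one]
    · exact absurd e (d.move_ne hC hy hz₁W hz₁1)
    · exact e

/-- If some involution outside `R` induces only inner automorphisms modulo `W`, then `R = W`. -/
theorem R_eq (hC : IsCIT G) {a : G} (haU : a ∈ (U : Subgroup G))
    (han : a ∈ normalizer (R : Set G)) (haR : a ∉ R) (ha2 : a * a = 1)
    (hK : ∀ r ∈ R, a * r * a⁻¹ * r⁻¹ ∈ W) : R = W := by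
  classical
  let P : G → Prop := fun g => g ∈ normalizer (R : Set G) ∧ ∀ r ∈ R, g * r * g⁻¹ * r⁻¹ ∈ W
  have hPmul : ∀ g h, P g → P h → P (g * h) := fun g h hg hh =>
    ⟨mul_mem hg.1 hh.1, fun r hr => by
      rw [show g * h * r * (g * h)⁻¹ * r⁻¹ =
        (g * (h * r * h⁻¹ * r⁻¹) * g⁻¹) * (g * r * g⁻¹ * r⁻¹) by group]
      exact mul_mem (d.W_normal g hg.1 _ (hh.2 r hr)) (hg.2 r hr)⟩
  have hPone : P 1 := ⟨one_mem _, fun r _ => by simp⟩
  have hPpow : ∀ g, P g → ∀ m : ℕ, P (g ^ m) := fun g hg m => by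
    induction m with
    | zero => rw [pow_zero]; exact hPone
    | succ m ih => rw [pow_succ]; exact hPmul _ _ ih hg
  obtain ⟨y, hyn, hy⟩ := d.three
  set b := y * a * y⁻¹ with hb
  have hPb : P b := by
    refine ⟨mul_mem (mul_mem hyn han) (inv_mem hyn), fun r hr => ?_⟩
    have hr' : y⁻¹ * r * y ∈ R := by
      simpa using (mem_normalizer_iff.1 (inv_mem hyn) r).1 hr
    rw [show b * r * b⁻¹ * r⁻¹ = y * (a * (y⁻¹ * r * y) * a⁻¹ * (y⁻¹ * r * y)⁻¹) * y⁻¹ by
      rw [hb]; group]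
    exact d.W_normal y hyn _ (hK _ hr')
  -- the action on `W`
  set z₁ := y * z * y⁻¹ with hz₁
  have hz₁W : z₁ ∈ W := d.W_normal y hyn z d.z_mem
  have hz₁1 : z₁ ≠ 1 := fun h => d.z_ne (conj_eq_one_iff.1 h)
  have hne : z ≠ z₁ := fun h => d.move_ne hC hy d.z_mem d.z_ne h.symm
  have haz : a * z * a⁻¹ = z := mul_inv_eq_iff_eq_mul.2 (d.z_cent a haU han).symm
  have haz₁ : a * z₁ * a⁻¹ = z * z₁ := by
    rcases four_mem d.W_card d.W_sq d.z_mem hz₁W d.z_ne hz₁1 hne
      (d.W_normal a han z₁ hz₁W) with e | e | e | e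
    · exact absurd (conj_eq_one_iff.1 e) hz₁1
    · exact absurd ((MulAut.conj a).injective (e.trans haz.symm)) (Ne.symm hne)
    · rcases d.eq_of_fix haU han haR hz₁W (mul_inv_eq_iff_eq_mul.1 e) with h | h
      · exact absurd h hz₁1
      · exact absurd h.symm hne
    · exact e
  have hbz₁ : b * z₁ * b⁻¹ = z₁ := by
    calc b * z₁ * b⁻¹ = y * (a * z * a⁻¹) * y⁻¹ := by rw [hb, hz₁]; group
      _ = z₁ := by rw [haz]
  have hbW : ∀ {w : G}, w ∈ W → b * w * b⁻¹ ∈ W := fun hw => d.W_normal b hPb.1 _ hw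
  have hbz : b * z * b⁻¹ = z * z₁ := by
    rcases four_mem d.W_card d.W_sq d.z_mem hz₁W d.z_ne hz₁1 hne (hbW d.z_mem) with e | e | e | e
    · exact absurd (conj_eq_one_iff.1 e) d.z_ne
    · exfalso
      have hall : ∀ x ∈ W, b * x = x * b := d.comm_of_fix (mul_inv_eq_iff_eq_mul.1 e) hz₁W hz₁1
        (Ne.symm hne) (mul_inv_eq_iff_eq_mul.1 hbz₁)
      refine haR ?_
      have hbR := d.cent_W b hPb.1 hall
      have := (mem_normalizer_iff.1 (inv_mem hyn) b).1 hbR
      rwa [show y⁻¹ * b * y⁻¹⁻¹ = a by rw [hb]; group] at this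
    · exact absurd ((MulAut.conj b).injective (e.trans hbz₁.symm)) hne
    · exact e
  set k := b * a with hk
  have hPk : P k := hPmul b a hPb ⟨han, hK⟩
  have hkz : k * z * k⁻¹ = z * z₁ := by
    calc k * z * k⁻¹ = b * (a * z * a⁻¹) * b⁻¹ := by rw [hk]; group
      _ = _ := by rw [haz, hbz]
  have hkz₁ : k * z₁ * k⁻¹ = z := by
    calc k * z₁ * k⁻¹ = b * (a * z₁ * a⁻¹) * b⁻¹ := by rw [hk]; group
      _ = (b * z * b⁻¹) * (b * z₁ * b⁻¹) := by rw [haz₁]; group
      _ = z := by rw [hbz, hbz₁, mul_assoc, d.W_sq z₁ hz₁W, mul_one]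
  have hk2z : k * (z * z₁) * k⁻¹ = z₁ := by
    calc k * (z * z₁) * k⁻¹ = (k * z * k⁻¹) * (k * z₁ * k⁻¹) := by group
      _ = z * z₁ * z := by rw [hkz, hkz₁]
      _ = z₁ := by
        rw [d.W_commute d.z_mem hz₁W, mul_assoc, d.W_sq z d.z_mem, mul_one]
  have h3z : k ^ 3 * z * (k ^ 3)⁻¹ = z := by
    calc k ^ 3 * z * (k ^ 3)⁻¹ = k * (k * (k * z * k⁻¹) * k⁻¹) * k⁻¹ := by
          simp only [pow_succ, pow_zero, one_mul, mul_inv_rev, mul_assoc]
      _ = z := by rw [hkz, hk2z, hkz₁]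
  have h3z₁ : k ^ 3 * z₁ * (k ^ 3)⁻¹ = z₁ := by
    calc k ^ 3 * z₁ * (k ^ 3)⁻¹ = k * (k * (k * z₁ * k⁻¹) * k⁻¹) * k⁻¹ := by
          simp only [pow_succ, pow_zero, one_mul, mul_inv_rev, mul_assoc]
      _ = z₁ := by rw [hkz₁, hkz, hk2z]
  have hk3R : k ^ 3 ∈ R := d.cent_W _ (pow_mem hPk.1 3)
    (d.comm_of_fix (mul_inv_eq_iff_eq_mul.1 h3z) hz₁W hz₁1 (Ne.symm hne)
      (mul_inv_eq_iff_eq_mul.1 h3z₁))
  have hkR : k ∉ R := fun h => by
    have : k * z * k⁻¹ = z := mul_inv_eq_iff_eq_mul.2 (d.W_comm z d.z_mem k h).symm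
    exact hz₁1 (mul_eq_left.1 (hkz.symm.trans this))
  have hR2 : IsPGroup 2 R := U.2.to_le d.R_le
  obtain ⟨j, hj⟩ := hR2 ⟨k ^ 3, hk3R⟩
  replace hj : (k ^ 3) ^ 2 ^ j = 1 := congrArg Subtype.val hj
  set y' := k ^ 2 ^ j with hy'
  have hy'3 : y' ^ 3 = 1 := by rw [hy', ← pow_mul, mul_comm, pow_mul, hj]
  have hy'1 : y' ≠ 1 := by
    intro h
    have hsplit : k ^ 2 ^ j = (k ^ 3) ^ (2 ^ j / 3) * k ^ (2 ^ j % 3) := by
      rw [← pow_mul, ← pow_add, Nat.div_add_mod]
    have hmem : k ^ (2 ^ j % 3) ∈ R := by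
      rw [← hy', h] at hsplit
      rw [eq_inv_of_mul_eq_one_right hsplit.symm]
      exact inv_mem (pow_mem hk3R _)
    have hmod : 2 ^ j % 3 = 1 ∨ 2 ^ j % 3 = 2 := by
      have hn : ¬ 3 ∣ 2 ^ j := fun hd => by
        have := Nat.prime_three.dvd_of_dvd_pow hd
        omega
      omega
    rcases hmod with e | e <;> rw [e] at hmem
    · exact hkR (by rwa [pow_one] at hmem)
    · refine hkR ?_
      rw [show k = k ^ 3 * (k ^ 2)⁻¹ by group]
      exact mul_mem hk3R (inv_mem hmem)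
  have hy'o : orderOf y' = 3 := by
    have : Fact (Nat.Prime 3) := ⟨Nat.prime_three⟩
    exact orderOf_eq_prime hy'3 hy'1
  have hPy' : P y' := hPpow k hPk _
  have hinj : Function.Injective
      (fun r : R => (⟨y' * r * y'⁻¹ * (r : G)⁻¹, hPy'.2 r r.2⟩ : W)) := by
    intro r s hrs
    replace hrs : y' * r * y'⁻¹ * (r : G)⁻¹ = y' * s * y'⁻¹ * (s : G)⁻¹ := congrArg Subtype.val hrs
    by_contra hne'
    set e := (s : G)⁻¹ * r with he
    have he1 : e ≠ 1 := fun h => hne' (Subtype.ext (inv_mul_eq_one.1 h).symm)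
    have hfix : y' * e * y'⁻¹ = e := by
      calc y' * e * y'⁻¹ = (s : G)⁻¹ * (y' * s * y'⁻¹ * (s : G)⁻¹)⁻¹ *
            (y' * r * y'⁻¹ * (r : G)⁻¹) * r := by rw [he]; group
        _ = e := by rw [hrs, inv_mul_cancel_right, he]
    obtain ⟨i, hi⟩ := IsPGroup.iff_orderOf.1 hR2 ((s⁻¹ * r : R))
    obtain ⟨l, hl⟩ := two_power_of_commute hC ⟨i, by rw [← hi, ← Subgroup.orderOf_coe]; rfl⟩ he1
      (mul_inv_eq_iff_eq_mul.1 hfix)
    rw [hy'o] at hl
    exact absurd (hl ▸ dvd_refl 3 : 3 ∣ 2 ^ l) fun hd => by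
      have := Nat.prime_three.dvd_of_dvd_pow hd
      omega
  exact (Subgroup.eq_of_le_of_card_ge d.W_le (Nat.card_le_card_of_injective _ hinj)).symm

/-- A Sylow 2-subgroup reaching out of `N(R)`: some involution of `W` has centraliser `W` in `U`. -/
theorem exists_four_of_not_le (hC : IsCIT G)
    (hle : ¬ (U : Subgroup G) ≤ normalizer (R : Set G)) :
    ∃ x ∈ (U : Subgroup G), orderOf x = 2 ∧
      Nat.card ((U : Subgroup G) ⊓ centralizer ({x} : Set G) : Subgroup G) = 4 := by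
  haveI : Fact (Nat.Prime 2) := ⟨Nat.prime_two⟩
  set S₀ := (U : Subgroup G) ⊓ normalizer (R : Set G) with hS₀
  have hlt : S₀ < (U : Subgroup G) :=
    lt_of_le_of_ne inf_le_left fun h => hle (inf_eq_left.1 h)
  obtain ⟨x, ⟨hxU, hxn⟩, hxS⟩ :=
    SetLike.exists_of_lt (Transfer.Frobenius.lt_inf_normalizer (p := 2) U.2 hlt)
  have hS₀conj : ∀ g ∈ S₀, x * g * x⁻¹ ∈ S₀ := fun g hg => (mem_normalizer_iff.1 hxn g).1 hg
  have hS₀conj' : ∀ g ∈ S₀, x⁻¹ * g * x ∈ S₀ := fun g hg => by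
    simpa using (mem_normalizer_iff.1 (inv_mem hxn) g).1 hg
  have hRS : R ≤ S₀ := le_inf d.R_le le_normalizer
  have hWS : W ≤ S₀ := d.W_le.trans hRS
  obtain ⟨w₀, hw₀, hw₀R⟩ : ∃ w ∈ W, x * w * x⁻¹ ∉ R := by
    by_contra! h
    have hWx : ∀ w ∈ W, x * w * x⁻¹ ∈ W := fun w hw => d.inv_four _ (h w hw) (by
      rw [show x * w * x⁻¹ * (x * w * x⁻¹) = x * (w * w) * x⁻¹ by group, d.W_sq w hw]; group)
    have hWN : x ∈ normalizer (W : Set G) := mem_normalizer_of_forall hWx
    refine hxS ⟨hxU, mem_normalizer_of_forall fun r hr => ?_⟩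
    refine d.cent_W _ (hS₀conj r (hRS hr)).2 fun w hw => ?_
    have hw' : x⁻¹ * w * x ∈ W := by simpa using (mem_normalizer_iff.1 (inv_mem hWN) w).1 hw
    have := (Commute.conj_iff x).2 (show Commute r (x⁻¹ * w * x) from (d.W_comm _ hw' r hr).symm)
    rw [show x * (x⁻¹ * w * x) * x⁻¹ = w by group] at this
    exact this.eq
  set a := x * w₀ * x⁻¹ with ha
  have haS : a ∈ S₀ := hS₀conj _ (hWS hw₀)
  have ha2 : a * a = 1 := by
    rw [ha, show x * w₀ * x⁻¹ * (x * w₀ * x⁻¹) = x * (w₀ * w₀) * x⁻¹ by group, d.W_sq w₀ hw₀]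
    group
  have hai : a⁻¹ = a := inv_eq_of_mul_eq_one_right ha2
  have hRW : R = W := by
    refine d.R_eq hC haS.1 haS.2 hw₀R ha2 fun r hr => ?_
    have hmemR : a * r * a⁻¹ * r⁻¹ ∈ R :=
      mul_mem ((mem_normalizer_iff.1 haS.2 r).1 hr) (inv_mem hr)
    refine d.inv_four _ hmemR ?_
    -- the commutator also lies in the conjugate of `W`
    set u := x⁻¹ * r * x with hu
    have huS : u ∈ S₀ := hS₀conj' r (hRS hr)
    set v := w₀ * (u * w₀ * u⁻¹) with hv
    have hvW : v ∈ W := mul_mem hw₀ (d.W_normal u huS.2 w₀ hw₀)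
    have hform : a * r * a⁻¹ * r⁻¹ = x * v * x⁻¹ := by
      rw [hai, ha, hv, hu]; group
    rw [hform, show x * v * x⁻¹ * (x * v * x⁻¹) = x * (v * v) * x⁻¹ by group, d.W_sq v hvW]
    group
  subst hRW
  obtain ⟨w, hw, hw1, hwz⟩ : ∃ w ∈ R, w ≠ 1 ∧ w ≠ z := by
    by_contra! h
    have hle' : Nat.card R ≤ 2 := by
      have hsub : (R : Set G) ⊆ {1, z} := fun w hw => by
        by_cases h1 : w = 1
        · exact Or.inl h1
        · exact Or.inr (h w hw h1)
      have := Set.ncard_le_ncard hsub (by simp)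
      rw [← Nat.card_coe_set_eq] at this
      exact this.trans (Set.ncard_insert_le _ _ |>.trans (by simp))
    rw [d.W_card] at hle'
    omega
  refine ⟨w, d.R_le hw, Basic.orderOf_two_iff.2 ⟨d.W_sq w hw, hw1⟩, ?_⟩
  set C := (U : Subgroup G) ⊓ centralizer ({w} : Set G) with hCdef
  have hRC : R ≤ C := le_inf d.R_le fun v hv =>
    mem_centralizer_singleton_iff.2 (d.W_commute hv hw)
  rcases hRC.eq_or_lt with h | h
  · rw [← h, d.W_card]
  exfalso
  obtain ⟨g, ⟨hgC, hgn⟩, hgR⟩ :=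
    SetLike.exists_of_lt (Transfer.Frobenius.lt_inf_normalizer (p := 2) (U.2.to_le inf_le_left) h)
  rcases d.eq_of_fix hgC.1 hgn hgR hw (mem_centralizer_singleton_iff.1 hgC.2) with e | e
  · exact hw1 e
  · exact hwz e

/-- A Sylow 2-subgroup inside `N(R)`: an involution outside `R` conjugate to `z` has centraliser
of order four in `U`. -/
theorem exists_four_of_le [IsSimpleGroup G] (hG : ¬ IsMulCommutative G) (hC : IsCIT G)
    (hle : (U : Subgroup G) ≤ normalizer (R : Set G)) :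
    ∃ x ∈ (U : Subgroup G), orderOf x = 2 ∧
      Nat.card ((U : Subgroup G) ⊓ centralizer ({x} : Set G) : Subgroup G) = 4 := by
  haveI : Fact (Nat.Prime 2) := ⟨Nat.prime_two⟩
  have hzc : CenInv U z :=
    ⟨d.R_le (d.W_le d.z_mem), d.z_order, fun s hs => d.z_cent s hs (hle hs)⟩
  have hR2 : IsPGroup 2 R := U.2.to_le d.R_le
  have hR1 : R ≠ ⊥ := fun h => d.z_ne (by simpa [h] using d.W_le d.z_mem)
  -- conjugation of `z` into `W` lies in `N(R)`
  have hfusW : ∀ g : G, g * z * g⁻¹ ∈ W → g ∈ normalizer (R : Set G) := by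
    intro g hg
    obtain ⟨n, hn, hnz⟩ := d.exists_conj hC hg (fun h => d.z_ne (conj_eq_one_iff.1 h))
    have hcomm : (n⁻¹ * g) * z = z * (n⁻¹ * g) := by
      refine mul_inv_eq_iff_eq_mul.1 ?_
      calc n⁻¹ * g * z * (n⁻¹ * g)⁻¹ = n⁻¹ * (g * z * g⁻¹) * n := by group
        _ = z := by rw [← hnz]; group
    have := mul_mem hn (hle (hzc.mem_of_commute hC hcomm))
    rwa [mul_inv_cancel_left] at this
  obtain ⟨g, hgU, hgW⟩ : ∃ g : G, g * z * g⁻¹ ∈ (U : Subgroup G) ∧ g * z * g⁻¹ ∉ W := by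
    by_contra! hall
    -- otherwise `N(R)` is strongly embedded
    have hne : normalizer (R : Set G) ≠ ⊤ := fun h => by
      have htop : R = ⊤ := ((normalizer_eq_top_iff.1 h).eq_bot_or_eq_top).resolve_left hR1
      obtain ⟨a, -, -, haR, -⟩ := d.exists_out
      exact haR (htop ▸ mem_top a)
    have hSE : Cfsg.IsStronglyEmbedded (normalizer (R : Set G)) := by
      refine stronglyEmbedded_of hne hle hzc (fun g hg => hfusW g (hall g hg))
        fun t ht ht2 => ?_
      obtain ⟨T, hT⟩ := IsPGroup.exists_le_sylow (hC t ht2)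
      obtain ⟨e, he⟩ := MulAction.exists_smul_eq G U T
      have heT : ∀ u : G, u ∈ (T : Subgroup G) ↔ e⁻¹ * u * e ∈ (U : Subgroup G) := fun u => by
        rw [← he, Sylow.coe_subgroup_smul, Subgroup.mem_pointwise_smul_iff_inv_smul_mem]
        simp
      have hzT : z ∈ (T : Subgroup G) :=
        hT (mem_centralizer_singleton_iff.2 (hzc.comm t ht))
      have he' : e⁻¹ ∈ normalizer (R : Set G) := by
        have h1 : e⁻¹ * z * e⁻¹⁻¹ ∈ (U : Subgroup G) := by
          rw [inv_inv]; exact (heT z).1 hzT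
        exact hfusW _ (hall _ h1)
      intro c hc
      have := mul_mem (mul_mem (inv_mem he') (hle ((heT c).1 (hT hc)))) he'
      rwa [inv_inv, show e * (e⁻¹ * c * e) * e⁻¹ = c by group] at this
    obtain ⟨a, -, han, haR, ha2⟩ := d.exists_out
    exact haR (involution_mem_of_stronglyEmbedded hSE le_normalizer le_rfl hR2 hR1 han
      (Basic.orderOf_two_iff.2 ⟨ha2, fun h => haR (h ▸ one_mem _)⟩)).1
  set a := g * z * g⁻¹ with ha
  have ha2 : a * a = 1 := by
    rw [ha, show g * z * g⁻¹ * (g * z * g⁻¹) = g * (z * z) * g⁻¹ by group, d.W_sq z d.z_mem]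
    group
  have han := hle hgU
  have haR : a ∉ R := fun h => hgW (d.inv_four a h ha2)
  have haz : a * z = z * a := (hzc.comm a hgU).symm
  refine ⟨a, hgU, by rw [ha, Basic.orderOf_conj, d.z_order], ?_⟩
  set T := g • U with hTdef
  have hgT : ∀ u : G, u ∈ (T : Subgroup G) ↔ g⁻¹ * u * g ∈ (U : Subgroup G) := fun u => by
    rw [hTdef, Sylow.coe_subgroup_smul, Subgroup.mem_pointwise_smul_iff_inv_smul_mem]
    simp
  have hTc : ∀ u : G, u ∈ (T : Subgroup G) ↔ u * a = a * u := fun u => by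
    rw [hgT]
    refine ⟨fun hu => ?_, fun hu => hzc.mem_of_commute hC ?_⟩
    · have := (Commute.conj_iff g).2 (show Commute (g⁻¹ * u * g) z from (hzc.comm _ hu).symm)
      rw [show g * (g⁻¹ * u * g) * g⁻¹ = u by group] at this
      exact this.eq
    · have := (Commute.conj_iff g⁻¹).2 (show Commute u a from hu)
      rw [ha, inv_inv, show g⁻¹ * (g * z * g⁻¹) * g = z by group] at this
      exact this.eq
  -- an element of order four in `C_R(a)` is impossible
  have hR_fix : ∀ r ∈ R, r * a = a * r → r * r = 1 := by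
    intro r hr hra
    by_contra hrr
    obtain ⟨m, hm⟩ := IsPGroup.iff_orderOf.1 hR2 ⟨r, hr⟩
    rw [Subgroup.orderOf_mk] at hm
    have hm2 : 2 ≤ m := by
      by_contra hlt
      have hdvd : orderOf r ∣ 2 := hm ▸ (pow_dvd_pow 2 (Nat.lt_succ_iff.1 (not_le.1 hlt))).trans
        (by simp)
      exact hrr (by rw [← sq]; exact orderOf_dvd_iff_pow_eq_one.1 hdvd)
    set c := r ^ 2 ^ (m - 2) with hc
    have hcR : c ∈ R := pow_mem hr _
    have hca : c * a = a * c := ((show Commute r a from hra).pow_left _).eq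
    have hcc : c * c = r ^ 2 ^ (m - 1) := by
      rw [hc, ← pow_add, ← two_mul, ← pow_succ', show m - 2 + 1 = m - 1 by omega]
    have hcc2 : c * c * (c * c) = 1 := by
      rw [hcc, ← pow_add, ← two_mul, ← pow_succ', show m - 1 + 1 = m by omega, ← hm,
        pow_orderOf_eq_one]
    have hcc1 : c * c ≠ 1 := by
      rw [hcc]
      intro h
      have := orderOf_dvd_of_pow_eq_one h
      rw [hm, Nat.pow_dvd_pow_iff_le_right (by omega)] at this
      omega
    have hinv : ∀ u ∈ R, u * u = 1 → u ≠ 1 → u * a = a * u → u = z := fun u hu hu2 hu1 hua =>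
      (d.eq_of_fix hgU han haR (d.inv_four u hu hu2) hua.symm).resolve_left hu1
    have hcz : c * c = z := hinv _ (mul_mem hcR hcR) hcc2 hcc1
      ((show Commute c a from hca).mul_left (show Commute c a from hca)).eq
    -- squares in `U ∩ T` lie in `R`
    have hsq : ∀ p ∈ (U : Subgroup G), p * p ∈ R := by
      intro p hp
      by_cases hpR : p ∈ R
      · exact mul_mem hpR hpR
      refine d.cent_W _ (hle (mul_mem hp hp)) ?_
      obtain ⟨w, hw, hw1, hwz⟩ : ∃ w ∈ W, w ≠ 1 ∧ w ≠ z := by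
        obtain ⟨y, hyn, hy⟩ := d.three
        exact ⟨y * z * y⁻¹, d.W_normal y hyn z d.z_mem, fun h => d.z_ne (conj_eq_one_iff.1 h),
          d.move_ne hC hy d.z_mem d.z_ne⟩
      have hpz : p * z * p⁻¹ = z := mul_inv_eq_iff_eq_mul.2 (hzc.comm p hp).symm
      have hpw : p * w * p⁻¹ = z * w := by
        rcases four_mem d.W_card d.W_sq d.z_mem hw d.z_ne hw1 (Ne.symm hwz)
          (d.W_normal p (hle hp) w hw) with e | e | e | e
        · exact absurd (conj_eq_one_iff.1 e) hw1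
        · exact absurd ((MulAut.conj p).injective (e.trans hpz.symm)) hwz
        · rcases d.eq_of_fix hp (hle hp) hpR hw (mul_inv_eq_iff_eq_mul.1 e) with h | h
          · exact absurd h hw1
          · exact absurd h hwz
        · exact e
      refine d.comm_of_fix (hzc.comm _ (mul_mem hp hp)).symm hw hw1 hwz
        (mul_inv_eq_iff_eq_mul.1 ?_)
      calc p * p * w * (p * p)⁻¹ = p * (p * w * p⁻¹) * p⁻¹ := by group
        _ = p * (z * w) * p⁻¹ := by rw [hpw]
        _ = (p * z * p⁻¹) * (p * w * p⁻¹) := by group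
        _ = w := by rw [hpz, hpw, ← mul_assoc, d.W_sq z d.z_mem, one_mul]
    set Q := (U : Subgroup G) ⊓ T with hQ
    have hzQ : ∀ n ∈ (T : Subgroup G), n ∈ normalizer (Q : Set G) → n ∈ Q := by
      intro n hnT hnQ
      have hcQ : c ∈ Q := ⟨d.R_le hcR, (hTc c).2 hca⟩
      have hn : n * c * n⁻¹ ∈ Q := (mem_normalizer_iff.1 hnQ c).1 hcQ
      have hQa : ∀ p ∈ Q, p * a = a * p := fun p hp => (hTc p).1 hp.2
      have hsqn : n * c * n⁻¹ * (n * c * n⁻¹) = n * z * n⁻¹ := by rw [← hcz]; group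
      have hnz : n * z * n⁻¹ = z := by
        refine hinv _ (hsqn ▸ hsq _ hn.1) ?_ ?_ ?_
        · rw [show n * z * n⁻¹ * (n * z * n⁻¹) = n * (z * z) * n⁻¹ by group, d.W_sq z d.z_mem]
          group
        · exact fun h => d.z_ne (conj_eq_one_iff.1 h)
        · rw [← hsqn]; exact hQa _ (mul_mem hn hn)
      exact ⟨hzc.mem_of_commute hC (mul_inv_eq_iff_eq_mul.1 hnz), hnT⟩
    have hTU : (T : Subgroup G) ≤ U := by
      by_contra h
      have hlt : Q < (T : Subgroup G) := lt_of_le_of_ne inf_le_right fun e => h (inf_eq_right.1 e)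
      obtain ⟨n, ⟨hnT, hnN⟩, hnQ⟩ :=
        SetLike.exists_of_lt (Transfer.Frobenius.lt_inf_normalizer (p := 2) T.2 hlt)
      exact hnQ (hzQ n hnT hnN)
    have hUT : (U : Subgroup G) = (T : Subgroup G) := T.3 U.2 hTU
    obtain ⟨y, hyn, hy⟩ := d.three
    have hw : y * z * y⁻¹ ∈ W := d.W_normal y hyn z d.z_mem
    have hwa : a * (y * z * y⁻¹) = y * z * y⁻¹ * a :=
      ((hTc _).1 (hUT ▸ d.R_le (d.W_le hw))).symm
    rcases d.eq_of_fix hgU han haR hw hwa with e | e
    · exact d.z_ne (conj_eq_one_iff.1 e)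
    · exact d.move_ne hC hy d.z_mem d.z_ne e
  -- the four elements
  have hset : (((U : Subgroup G) ⊓ centralizer ({a} : Set G) : Subgroup G) : Set G)
      = ({1, z, a, a * z} : Set G) := by
    ext p
    simp only [SetLike.mem_coe, Subgroup.mem_inf, mem_centralizer_singleton_iff,
      Set.mem_insert_iff, Set.mem_singleton_iff]
    constructor
    · rintro ⟨hpU, hpa⟩
      have hRcase : ∀ r ∈ R, r * a = a * r → r = 1 ∨ r = z := fun r hr hra =>
        d.eq_of_fix hgU han haR (d.inv_four r hr (hR_fix r hr hra)) hra.symm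
      by_cases hpR : p ∈ R
      · rcases hRcase p hpR hpa with e | e <;> simp [e]
      · -- `a` and `p` act alike on `W`
        have hap : a * p ∈ R := by
          refine d.cent_W _ (hle (mul_mem hgU hpU)) ?_
          obtain ⟨y, hyn, hy⟩ := d.three
          set w := y * z * y⁻¹ with hw
          have hwW : w ∈ W := d.W_normal y hyn z d.z_mem
          have hw1 : w ≠ 1 := fun h => d.z_ne (conj_eq_one_iff.1 h)
          have hwz : w ≠ z := d.move_ne hC hy d.z_mem d.z_ne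
          have hact : ∀ q ∈ (U : Subgroup G), q ∉ R → q * w * q⁻¹ = z * w := by
            intro q hq hqR
            rcases four_mem d.W_card d.W_sq d.z_mem hwW d.z_ne hw1 (Ne.symm hwz)
              (d.W_normal q (hle hq) w hwW) with e | e | e | e
            · exact absurd (conj_eq_one_iff.1 e) hw1
            · exact absurd ((MulAut.conj q).injective
                (e.trans (mul_inv_eq_iff_eq_mul.2 (hzc.comm q hq).symm).symm)) hwz
            · rcases d.eq_of_fix hq (hle hq) hqR hwW (mul_inv_eq_iff_eq_mul.1 e) with h | h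
              · exact absurd h hw1
              · exact absurd h hwz
            · exact e
          refine d.comm_of_fix (hzc.comm _ (mul_mem hgU hpU)).symm hwW hw1 hwz
            (mul_inv_eq_iff_eq_mul.1 ?_)
          calc a * p * w * (a * p)⁻¹ = a * (p * w * p⁻¹) * a⁻¹ := by group
            _ = a * (z * w) * a⁻¹ := by rw [hact p hpU hpR]
            _ = (a * z * a⁻¹) * (a * w * a⁻¹) := by group
            _ = w := by
              rw [hact a hgU haR, mul_inv_eq_iff_eq_mul.2 haz, ← mul_assoc, d.W_sq z d.z_mem,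
                one_mul]
        have hapa : a * p * a = a * (a * p) := by rw [mul_assoc, hpa]
        rcases hRcase _ hap hapa with e | e
        · have := congrArg (a * ·) e
          simp only [← mul_assoc, ha2, one_mul, mul_one] at this
          simp [this]
        · have := congrArg (a * ·) e
          simp only [← mul_assoc, ha2, one_mul] at this
          simp [this]
    · rintro (e | e | e | e) <;> rw [e]
      · exact ⟨one_mem _, by simp⟩
      · exact ⟨hzc.mem, haz.symm⟩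
      · exact ⟨hgU, rfl⟩
      · refine ⟨mul_mem hgU hzc.mem, ?_⟩
        rw [mul_assoc, ← haz]
  have ha1 : a ≠ 1 := fun h => haR (h ▸ one_mem _)
  have haz' : a ≠ z := fun h => haR (h ▸ d.W_le d.z_mem)
  have h5 : a * z ≠ 1 := fun h => haz' (mul_right_cancel (h.trans (d.W_sq z d.z_mem).symm))
  have h6 : a * z ≠ z := fun h => ha1 (mul_eq_right.1 h)
  have h7 : a * z ≠ a := fun h => d.z_ne (mul_eq_left.1 h)
  rw [← SetLike.coe_sort_coe, Nat.card_coe_set_eq, hset]
  rw [Set.ncard_insert_of_notMem (by simp [Ne.symm d.z_ne, Ne.symm ha1, Ne.symm h5]) (by simp),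
    Set.ncard_insert_of_notMem (by simp [Ne.symm haz', Ne.symm h6]) (by simp),
    Set.ncard_pair (Ne.symm h7)]

/-- The Sylow 2-subgroups are dihedral or semidihedral, so the group is listed. -/
theorem citList [IsSimpleGroup G] (hG : ¬ IsMulCommutative G) (hC : IsCIT G) : CITList G := by
  haveI : Fact (Nat.Prime 2) := ⟨Nat.prime_two⟩
  obtain ⟨x, hxU, hx, hcard⟩ : ∃ x ∈ (U : Subgroup G), orderOf x = 2 ∧
      Nat.card ((U : Subgroup G) ⊓ centralizer ({x} : Set G) : Subgroup G) = 4 := by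
    by_cases hle : (U : Subgroup G) ≤ normalizer (R : Set G)
    · exact d.exists_four_of_le hG hC hle
    · exact d.exists_four_of_not_le hC hle
  have hW : Nat.card W ≤ Nat.card (U : Subgroup G) :=
    Subgroup.card_le_of_le (d.W_le.trans d.R_le)
  have hCU : Nat.card (centralizer ({⟨x, hxU⟩} : Set (U : Subgroup G))) = 4 := by
    rw [← hcard]
    refine Nat.card_congr
      { toFun := fun c => ⟨c.1.1, c.1.2, mem_centralizer_singleton_iff.2
          (congrArg Subtype.val (mem_centralizer_singleton_iff.1 c.2))⟩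
        invFun := fun c => ⟨⟨c.1, c.2.1⟩, mem_centralizer_singleton_iff.2
          (Subtype.ext (mem_centralizer_singleton_iff.1 c.2.2))⟩
        left_inv := fun c => rfl
        right_inv := fun c => rfl }
  rcases S3224.result U.2 ⟨x, hxU⟩ (by rw [← Subgroup.orderOf_coe]; exact hx) hCU with
    ⟨n, ⟨e⟩⟩ | h | h
  · refine citList_of_dihedral hG hC U ?_ e
    have hn := Nat.card_congr e.toEquiv
    rw [DihedralGroup.nat_card] at hn
    rw [d.W_card, hn] at hW
    omega
  · exact absurd h fun h => not_quasiDihedral hC U h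
  · have hUW : W = (U : Subgroup G) :=
      Subgroup.eq_of_le_of_card_ge (d.W_le.trans d.R_le) (by rw [h, d.W_card])
    have hexp : Monoid.exponent (U : Subgroup G) = 2 := by
      haveI : Nontrivial (U : Subgroup G) := Finite.one_lt_card_iff_nontrivial.1 (by omega)
      exact (Monoid.exponent_eq_prime_iff Nat.prime_two).2 fun g hg => orderOf_eq_prime
        (by rw [sq]; exact Subtype.ext (d.W_sq _ (hUW.ge g.2))) hg
    haveI : IsKleinFour (U : Subgroup G) := ⟨h, hexp⟩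
    obtain ⟨e⟩ : Nonempty ((U : Subgroup G) ≃* DihedralGroup 2) := IsKleinFour.nonempty_mulEquiv
    exact citList_of_dihedral hG hC U le_rfl e

end RankOneData

/-- Section 4C. -/
theorem rankOneInput : RankOneInput.{u} := by
  intro G _ _ _ hG hC _ U U' D S₀ hM hT
  haveI : Fact (Nat.Prime 2) := ⟨Nat.prime_two⟩
  set N := normalizer (D : Set G) with hN
  set W := Cfsg.omegaCenterOf D with hW
  have hS₀U : S₀ ≤ (U : Subgroup G) := hM.S₀_eq ▸ inf_le_left
  have hS₀2 : IsPGroup 2 S₀ := U.2.to_le hS₀U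
  have hWS : W ≤ S₀ := hT.W_le.trans hT.R_le_P
  have hS₀W : S₀ ≤ normalizer (W : Set G) := (hM.S₀_eq ▸ inf_le_right).trans hT.W_normal
  haveI : (W.subgroupOf S₀).Normal := normal_subgroupOf_of_le_normalizer hS₀W
  haveI := hS₀2.isNilpotent
  obtain ⟨⟨⟨z, hzS⟩, hzW, hzc⟩, hz1⟩ := (Subgroup.ne_bot_iff_exists_ne_one).1
    (Cores.inf_center_ne_bot (G := S₀) (N := W.subgroupOf S₀) (fun h => by
      have h1 : Nat.card (W.subgroupOf S₀) = 4 := by
        rw [Nat.card_congr (subgroupOfEquivOfLe hWS).toEquiv]; exact hT.W_card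
      rw [h, Subgroup.card_bot] at h1
      omega))
  have hcardN : 3 ∣ Nat.card N := by rw [hT.card_M]; exact Dvd.dvd.mul_right (by norm_num) _
  haveI : Fact (Nat.Prime 3) := ⟨Nat.prime_three⟩
  obtain ⟨y, hy⟩ := exists_prime_orderOf_dvd_card' 3 hcardN
  obtain ⟨A, hAS, hA2, -, hAD⟩ := hT.four
  obtain ⟨a, haA, haD⟩ := SetLike.not_le_iff_exists.1 hAD
  have d : RankOneData U D W z :=
    { R_le := hM.D_eq ▸ inf_le_left
      R_cent := hM.D_cent
      W_le := hT.W_le
      W_card := hT.W_card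
      W_sq := hT.W_sq
      W_comm := hT.W_cent
      W_normal := fun g hg x hx => (mem_normalizer_iff.1 (hT.W_normal hg) x).1 hx
      cent_W := fun g hg h => hT.cent_W.le
        ⟨mem_centralizer_iff.2 fun x hx => (h x hx).symm, hg⟩
      inv_four := hT.involutions
      three := ⟨y, y.2, by rw [Subgroup.orderOf_coe, hy]⟩
      exists_out := ⟨a, hS₀U (hAS haA), (hM.S₀_eq.le (hAS haA)).2, haD, hA2 a haA⟩
      z_mem := hzW
      z_ne := fun h => hz1 (Subtype.ext (Subtype.ext h))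
      z_cent := fun g hg hgn => (congrArg Subtype.val
        (mem_center_iff.1 hzc ⟨g, hM.S₀_eq.ge ⟨hg, hgn⟩⟩)).symm }
  exact d.citList hG hC

end Cfsg.Agent.CIT
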