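import Cfsg.Agent.Lib.CIT.Assembly
import Cfsg.Agent.Lib.CIT.Offender.Final
import Cfsg.Agent.Lib.CIT.RankOne
import Cfsg.Agent.Lib.CIT.NaturalMain
import Cfsg.Agent.Lib.CIT.IdentMain

/-!
# The classification of simple CIT groups
-/

set_option autoImplicit false

namespace Cfsg.Agent.CIT

universe u

/-- Every nonabelian finite simple group in which all involution centralisers are 2-groups is on
the list `CITList`. -/
theorem citTheorem : CITTheorem.{u} :=
  citTheorem_of offenderLemma rankOneInput naturalInput identInput

end Cfsg.Agent.CIT
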