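import Cfsg.Agent.Lib.CIT.Interfaces
import Cfsg.Agent.Lib.JComp.Thompson
import Cfsg.Agent.Lib.Cores.Basic
import Cfsg.Agent.Lib.Involutions.StronglyEmbedded
import Cfsg.Agent.Lib.Involutions.BaerSuzuki

/-!
# CIT groups: Sylow 2-subgroups, adjacency, strong embedding

Section 0a of `notes/cit-lead.md` and the facts on strongly embedded 2-local subgroups used in
section 4.
-/

set_option autoImplicit false
set_option linter.style.haveILetI false
set_option linter.unusedSectionVars false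

namespace Cfsg.Agent.CIT

open Subgroup Cfsg.Agent.Involutions

universe u

variable {G : Type u} [Group G] [Finite G]

/-- A central involution of a Sylow 2-subgroup. -/
structure CenInv (S : Sylow 2 G) (z : G) : Prop where
  mem : z ∈ (S : Subgroup G)
  order : orderOf z = 2
  comm : ∀ s ∈ (S : Subgroup G), z * s = s * z

theorem exists_cenInv (S : Sylow 2 G) (hS : (S : Subgroup G) ≠ ⊥) : ∃ z, CenInv S z := by
  haveI : Fact (Nat.Prime 2) := ⟨Nat.prime_two⟩
  haveI : Nontrivial (S : Subgroup G) := (nontrivial_iff_ne_bot _).2 hS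
  haveI := IsPGroup.center_nontrivial (S.2 : IsPGroup 2 (S : Subgroup G))
  obtain ⟨n, hn⟩ := IsPGroup.iff_card.1 (S.2.to_subgroup (center (S : Subgroup G)))
  have hn0 : n ≠ 0 := fun e => by
    rw [e, pow_zero] at hn
    exact (Finite.one_lt_card (α := center (S : Subgroup G))).ne' hn
  obtain ⟨z, hz⟩ := exists_prime_orderOf_dvd_card' (G := center (S : Subgroup G)) 2
    (hn ▸ dvd_pow_self 2 hn0)
  exact ⟨((z : (S : Subgroup G)) : G), (z : (S : Subgroup G)).2,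
    by rw [Subgroup.orderOf_coe, Subgroup.orderOf_coe, hz],
    fun s hs => congrArg Subtype.val (mem_center_iff.1 z.2 ⟨s, hs⟩).symm⟩

theorem isPGroup_of_commute (hC : IsCIT G) {t : G} (ht : orderOf t = 2) {K : Subgroup G}
    (hK : ∀ x ∈ K, x * t = t * x) : IsPGroup 2 K :=
  (hC t ht).to_le fun x hx => mem_centralizer_singleton_iff.2 (hK x hx)

/-- An element commuting with a nontrivial 2-element is a 2-element. -/
theorem two_power_of_commute (hC : IsCIT G) {x y : G} (hx : ∃ k : ℕ, orderOf x = 2 ^ k)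
    (hx1 : x ≠ 1) (h : Commute y x) : ∃ k : ℕ, orderOf y = 2 ^ k := by
  haveI : Fact (Nat.Prime 2) := ⟨Nat.prime_two⟩
  obtain ⟨k, hk⟩ := hx
  rcases k with _ | k
  · exact absurd (orderOf_eq_one_iff.1 hk) hx1
  have ht : orderOf (x ^ 2 ^ k) = 2 := by
    rw [orderOf_pow' _ (by positivity), hk, Nat.gcd_eq_right (pow_dvd_pow 2 (Nat.le_succ k)),
      pow_succ, Nat.mul_div_cancel_left _ (by positivity)]
  obtain ⟨j, hj⟩ := IsPGroup.iff_orderOf.1 (hC _ ht)
    ⟨y, mem_centralizer_singleton_iff.2 (h.pow_right _).eq⟩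
  exact ⟨j, by rw [← hj, Subgroup.orderOf_mk]⟩

/-- The centralizer of a central involution is the Sylow subgroup. -/
theorem CenInv.centralizer_eq {S : Sylow 2 G} {z : G} (h : CenInv S z) (hC : IsCIT G) :
    centralizer ({z} : Set G) = (S : Subgroup G) :=
  S.3 (hC z h.order) fun s hs => mem_centralizer_singleton_iff.2 (h.comm s hs).symm

theorem CenInv.mem_of_commute {S : Sylow 2 G} {z x : G} (h : CenInv S z) (hC : IsCIT G)
    (hx : x * z = z * x) : x ∈ (S : Subgroup G) :=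
  (h.centralizer_eq hC).le (mem_centralizer_singleton_iff.2 hx)

theorem adjacent_of_mem {S T : Sylow 2 G} (hne : (S : Subgroup G) ≠ T) {z : G} (h : CenInv S z)
    (hz : z ∈ (T : Subgroup G)) : Adjacent S T :=
  ⟨hne, z, h.mem, h.order, h.comm, hz⟩

theorem Adjacent.exists_cenInv {S T : Sylow 2 G} (h : Adjacent S T) :
    ∃ z, CenInv S z ∧ z ∈ (T : Subgroup G) := by
  obtain ⟨-, z, h1, h2, h3, h4⟩ := h
  exact ⟨z, ⟨h1, h2, h3⟩, h4⟩

theorem Adjacent.mem_left {S T : Sylow 2 G} (h : Adjacent S T) (hC : IsCIT G) {w : G}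
    (hw : CenInv T w) : w ∈ (S : Subgroup G) := by
  obtain ⟨z, hz, hzT⟩ := h.exists_cenInv
  exact hz.mem_of_commute hC (hw.comm z hzT)

theorem Adjacent.symm {S T : Sylow 2 G} (h : Adjacent S T) (hC : IsCIT G)
    (hT : (T : Subgroup G) ≠ ⊥) : Adjacent T S := by
  obtain ⟨w, hw⟩ := CIT.exists_cenInv T hT
  exact adjacent_of_mem (Ne.symm h.1) hw (h.mem_left hC hw)

theorem Adjacent.ne_bot {S T : Sylow 2 G} (h : Adjacent S T) : (T : Subgroup G) ≠ ⊥ := by
  obtain ⟨z, hz, hzT⟩ := h.exists_cenInv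
  intro e
  rw [e, mem_bot] at hzT
  exact Basic.ne_one hz.order hzT

theorem Adjacent.mem_inter_left {S T : Sylow 2 G} (h : Adjacent S T) (hC : IsCIT G) {z : G}
    (hz : CenInv S z) : z ∈ (S : Subgroup G) ⊓ T :=
  ⟨hz.mem, (h.symm hC h.ne_bot).mem_left hC hz⟩

theorem Adjacent.mem_inter_right {S T : Sylow 2 G} (h : Adjacent S T) (hC : IsCIT G) {w : G}
    (hw : CenInv T w) : w ∈ (S : Subgroup G) ⊓ T :=
  ⟨h.mem_left hC hw, hw.mem⟩

/-- The intersection of adjacent Sylow 2-subgroups contains its centralizer. -/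
theorem Adjacent.centralizer_le {S T : Sylow 2 G} (h : Adjacent S T) (hC : IsCIT G) :
    centralizer (((S : Subgroup G) ⊓ T : Subgroup G) : Set G) ≤ (S : Subgroup G) ⊓ T := by
  intro x hx
  obtain ⟨z, hz, -⟩ := h.exists_cenInv
  obtain ⟨w, hw⟩ := CIT.exists_cenInv T h.ne_bot
  exact ⟨hz.mem_of_commute hC (mem_centralizer_iff.1 hx z (h.mem_inter_left hC hz)).symm,
    hw.mem_of_commute hC (mem_centralizer_iff.1 hx w (h.mem_inter_right hC hw)).symm⟩

/-- Sylow subgroups containing the intersection of an adjacent pair have their centres in it. -/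
theorem Adjacent.cenInv_mem {S T U : Sylow 2 G} (h : Adjacent S T) (hC : IsCIT G)
    (hU : (S : Subgroup G) ⊓ T ≤ U) {z : G} (hz : CenInv U z) : z ∈ (S : Subgroup G) ⊓ T :=
  h.centralizer_le hC (mem_centralizer_iff.2 fun x hx => (hz.comm x (hU hx)).symm)

/-- Two Sylow subgroups containing the intersection of an adjacent pair are equal or adjacent. -/
theorem Adjacent.adjacent_of_le {S T U V : Sylow 2 G} (h : Adjacent S T) (hC : IsCIT G)
    (hU : (S : Subgroup G) ⊓ T ≤ U) (hV : (S : Subgroup G) ⊓ T ≤ V)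
    (hne : (U : Subgroup G) ≠ V) : Adjacent U V := by
  have hU1 : (U : Subgroup G) ≠ ⊥ := fun e => by
    obtain ⟨z, hz, -⟩ := h.exists_cenInv
    have := hU (h.mem_inter_left hC hz)
    rw [e, mem_bot] at this
    exact Basic.ne_one hz.order this
  obtain ⟨z, hz⟩ := CIT.exists_cenInv U hU1
  exact adjacent_of_mem hne hz (hV (h.cenInv_mem hC hU hz))

/-- The Thompson subgroup of a nontrivial 2-subgroup contains an involution. -/
theorem exists_involution_jOf {P : Subgroup G} (hP : IsPGroup 2 P) (h1 : P ≠ ⊥) :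
    ∃ t ∈ jOf P, orderOf t = 2 := by
  haveI : Fact (Nat.Prime 2) := ⟨Nat.prime_two⟩
  obtain ⟨n, hn⟩ := IsPGroup.iff_card.1 hP
  have hn0 : n ≠ 0 := fun e => h1 (by rw [e, pow_zero, card_eq_one] at hn; exact hn)
  obtain ⟨x, hx⟩ := exists_prime_orderOf_dvd_card' (G := P) 2 (hn ▸ dvd_pow_self 2 hn0)
  rw [← Subgroup.orderOf_coe] at hx
  have he : Cfsg.IsElementaryAbelian 2 (zpowers (x : G)) := by
    refine ⟨inferInstance, fun a => ?_⟩
    rintro ⟨k, rfl⟩
    rw [← zpow_natCast, ← zpow_mul, mul_comm, zpow_mul, zpow_natCast, ← hx, pow_orderOf_eq_one,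
      one_zpow]
  obtain ⟨A, hA⟩ := JComp.exists_maxEA P
  have h2 : 2 ≤ Nat.card A := by
    refine le_trans ?_ (hA.2.2 _ (zpowers_le.2 x.2) he)
    rw [Nat.card_zpowers, hx]
  haveI : Nontrivial A := Finite.one_lt_card_iff_nontrivial.1 (by omega)
  obtain ⟨a, ha1⟩ := exists_ne (1 : A)
  exact ⟨a.1, hA.le_J a.2, orderOf_eq_prime (hA.2.1.2 _ a.2) (fun e => ha1 (Subtype.ext e))⟩

theorem isPGroup_centralizer_jOf (hC : IsCIT G) {P : Subgroup G} (hP : IsPGroup 2 P) (h1 : P ≠ ⊥) :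
    IsPGroup 2 (centralizer (jOf P : Set G) : Subgroup G) := by
  obtain ⟨t, ht, ht2⟩ := exists_involution_jOf hP h1
  exact isPGroup_of_commute hC ht2 fun x hx => (mem_centralizer_iff.1 hx t ht).symm

/-- A 2-element of an overgroup of a Sylow subgroup is conjugate into it. -/
theorem exists_conj_mem {H : Subgroup G} {S : Sylow 2 G} (hSH : (S : Subgroup G) ≤ H) {t : G}
    (ht : t ∈ H) (h2 : ∃ k : ℕ, orderOf t = 2 ^ k) :
    ∃ h ∈ H, h * t * h⁻¹ ∈ (S : Subgroup G) := by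
  haveI : Fact (Nat.Prime 2) := ⟨Nat.prime_two⟩
  obtain ⟨k, hk⟩ := h2
  have hT : IsPGroup 2 (zpowers (⟨t, ht⟩ : H)) :=
    IsPGroup.of_card (n := k) (by rw [Nat.card_zpowers, Subgroup.orderOf_mk, hk])
  obtain ⟨Q, hQ⟩ := hT.exists_le_sylow
  obtain ⟨e, he⟩ := MulAction.exists_smul_eq H Q (S.subtype hSH)
  have hmem : e * ⟨t, ht⟩ * e⁻¹ ∈ ((e • Q : Sylow 2 H) : Subgroup H) :=
    Subgroup.smul_mem_pointwise_smul _ (MulAut.conj e) _ (hQ (mem_zpowers _))
  rw [he] at hmem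
  exact ⟨e, e.2, hmem⟩

/-- A criterion for strong embedding. -/
theorem stronglyEmbedded_of {H : Subgroup G} {S : Sylow 2 G} (hne : H ≠ ⊤)
    (hSH : (S : Subgroup G) ≤ H) {z : G} (hz : CenInv S z)
    (hfus : ∀ g : G, g * z * g⁻¹ ∈ (S : Subgroup G) → g ∈ H)
    (hcen : ∀ t ∈ (S : Subgroup G), orderOf t = 2 → centralizer ({t} : Set G) ≤ H) :
    Cfsg.IsStronglyEmbedded H := by
  have heven : Even (Nat.card H) := by
    have h := Subgroup.orderOf_dvd_natCard H (hSH hz.mem)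
    rw [hz.order] at h
    exact even_iff_two_dvd.2 h
  refine StronglyEmbedded.of_conj hne heven fun t ht ht2 g hg => ?_
  obtain ⟨h₁, h₁H, h₁t⟩ := exists_conj_mem hSH ht ⟨1, by rw [ht2, pow_one]⟩
  obtain ⟨h₂, h₂H, h₂s⟩ := exists_conj_mem hSH hg
    ⟨1, by rw [Basic.orderOf_conj, ht2, pow_one]⟩
  suffices hk : h₂ * g * h₁⁻¹ ∈ H by
    have := mul_mem (mul_mem (inv_mem h₂H) hk) h₁H
    rwa [show h₂⁻¹ * (h₂ * g * h₁⁻¹) * h₁ = g by group] at this
  set k := h₂ * g * h₁⁻¹ with hk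
  have hkt : k * (h₁ * t * h₁⁻¹) * k⁻¹ = h₂ * (g * t * g⁻¹) * h₂⁻¹ := by rw [hk]; group
  have hzc : Commute z (h₁ * t * h₁⁻¹) := hz.comm _ h₁t
  have hkz : k * z * k⁻¹ ∈ H := by
    refine hcen _ h₂s (by rw [Basic.orderOf_conj, Basic.orderOf_conj, ht2])
      (mem_centralizer_singleton_iff.2 ?_)
    rw [← hkt]
    exact ((Commute.conj_iff k).2 hzc).eq
  obtain ⟨h, hH, hhS⟩ := exists_conj_mem hSH hkz
    ⟨1, by rw [Basic.orderOf_conj, hz.order, pow_one]⟩
  have := mul_mem (inv_mem hH) (hfus (h * k) (by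
    rwa [show h * k * z * (h * k)⁻¹ = h * (k * z * k⁻¹) * h⁻¹ by group]))
  rwa [inv_mul_cancel_left] at this

/-- The involutions of a strongly embedded subgroup lie in the centre of each normal 2-subgroup. -/
theorem involution_mem_of_stronglyEmbedded {H R : Subgroup G} (hH : Cfsg.IsStronglyEmbedded H)
    (hR : R ≤ H) (hn : H ≤ normalizer (R : Set G)) (hp : IsPGroup 2 R) (h1 : R ≠ ⊥) {s : G}
    (hs : s ∈ H) (hs2 : orderOf s = 2) : s ∈ R ∧ ∀ r ∈ R, s * r = r * s := by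
  haveI : Fact (Nat.Prime 2) := ⟨Nat.prime_two⟩
  haveI : Nontrivial R := (nontrivial_iff_ne_bot _).2 h1
  haveI := IsPGroup.center_nontrivial hp
  obtain ⟨n, hn'⟩ := IsPGroup.iff_card.1 (hp.to_subgroup (center R))
  have hn0 : n ≠ 0 := fun e => by
    rw [e, pow_zero] at hn'
    exact (Finite.one_lt_card (α := center R)).ne' hn'
  obtain ⟨w, hw⟩ := exists_prime_orderOf_dvd_card' (G := center R) 2 (hn' ▸ dvd_pow_self 2 hn0)
  rw [← Subgroup.orderOf_coe, ← Subgroup.orderOf_coe] at hw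
  obtain ⟨u, huH, hu⟩ := StronglyEmbedded.exists_involution_notMem hH
  obtain ⟨d, hd, hds⟩ := StronglyEmbedded.exists_conj_in_inter hH hu huH hw
    (hR (w : R).2) hs2 hs
  subst hds
  refine ⟨(mem_normalizer_iff.1 (hn hd.1) _).1 (w : R).2, fun r hr => ?_⟩
  have hr' : d⁻¹ * r * d ∈ R := by
    have := (mem_normalizer_iff.1 (inv_mem (hn hd.1)) r).1 hr
    rwa [inv_inv] at this
  have hc : Commute ((w : R) : G) (d⁻¹ * r * d) :=
    (congrArg Subtype.val (mem_center_iff.1 w.2 ⟨_, hr'⟩) :).symm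
  have h2 := (Commute.conj_iff d).2 hc
  rw [show d * (d⁻¹ * r * d) * d⁻¹ = r by group] at h2
  exact h2.eq

/-- A strongly embedded 2-local subgroup of a CIT group is 2-closed. -/
theorem le_normalizer_of_stronglyEmbedded (hC : IsCIT G) {H : Subgroup G}
    (hH : Cfsg.IsStronglyEmbedded H) {S : Sylow 2 G} (hSH : (S : Subgroup G) ≤ H)
    (hR : Cfsg.pCoreOf 2 H ≠ ⊥) : H ≤ normalizer ((S : Subgroup G) : Set G) := by
  haveI : Fact (Nat.Prime 2) := ⟨Nat.prime_two⟩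
  set R := Cfsg.pCoreOf 2 H with hRdef
  have hRH : R ≤ H := CharP.pCoreOf_le 2 H
  have hRn : H ≤ normalizer (R : Set G) := CharP.le_normalizer_pCoreOf 2 H
  have hRp : IsPGroup 2 R := CharP.isPGroup_pCoreOf 2 H
  by_cases hle : (S : Subgroup G) ≤ R
  · rwa [← S.3 hRp hle]
  exfalso
  -- a 2-element outside the core with square inside it
  obtain ⟨s₀, hs₀, hs₀R⟩ := SetLike.not_le_iff_exists.1 hle
  obtain ⟨k, hk⟩ := S.2 ⟨s₀, hs₀⟩
  replace hk : s₀ ^ 2 ^ k = 1 := congrArg Subtype.val hk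
  obtain ⟨j, hj⟩ : ∃ j, s₀ ^ 2 ^ j ∉ R ∧ s₀ ^ 2 ^ (j + 1) ∈ R := by
    by_contra! hall
    have : ∀ j, s₀ ^ 2 ^ j ∉ R := fun j => by
      induction j with
      | zero => simpa using hs₀R
      | succ j ih => exact hall j ih
    exact this k (hk ▸ one_mem _)
  set s := s₀ ^ 2 ^ j with hsdef
  have hsS : s ∈ (S : Subgroup G) := pow_mem hs₀ _
  have hss : s * s ∈ R := by rw [← sq, hsdef, ← pow_mul, ← pow_succ]; exact hj.2
  set N := Cfsg.pCore 2 H with hN
  haveI : N.Normal := Cores.pCore_normal 2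
  have hNR : ∀ x : H, x ∈ N ↔ (x : G) ∈ R := fun x => by
    refine ⟨fun hx => ⟨x, hx, rfl⟩, ?_⟩
    rintro ⟨y, hy, he⟩
    rwa [← Subtype.ext he]
  set π := QuotientGroup.mk' N
  set σ : H := ⟨s, hSH hsS⟩
  have hπ1 : ∀ x : H, π x = 1 ↔ (x : G) ∈ R := fun x => by
    rw [← hNR]; exact QuotientGroup.eq_one_iff x
  have hσ2 : orderOf (π σ) = 2 := orderOf_eq_prime (by rw [← map_pow, hπ1, sq]; exact hss)
    (fun e => hj.1 ((hπ1 σ).1 e))
  obtain ⟨η, hη1, hηodd, hηinv⟩ := BaerSuzuki.exists_inverted_odd (π σ) hσ2 fun M hM hM2 hmem => by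
    haveI := hM
    have h := Cores.le_pCore (p := 2) (N := M) hM2 hmem
    rw [Cores.pCore_quotient_self] at h
    exact Basic.ne_one hσ2 (mem_bot.1 h)
  obtain ⟨y, rfl⟩ := QuotientGroup.mk'_surjective N η
  -- an element commuting with such a lift is trivial if it is a 2-element
  have hfree : ∀ x : G, (∃ i : ℕ, orderOf x = 2 ^ i) → Commute (y : G) x → x = 1 := by
    intro x hx hxy
    by_contra hx1
    obtain ⟨i, hi⟩ := two_power_of_commute hC hx hx1 hxy
    rw [Subgroup.orderOf_coe] at hi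
    have hd : orderOf (π y) ∣ 2 ^ i := hi ▸ orderOf_map_dvd π y
    exact hη1 (orderOf_eq_one_iff.1 (Nat.eq_one_of_dvd_coprimes
      ((Nat.coprime_two_right.2 hηodd).pow_right i) dvd_rfl hd))
  have hR2 : ∀ r ∈ R, ∃ i : ℕ, orderOf r = 2 ^ i := fun r hr => by
    obtain ⟨i, hi⟩ := IsPGroup.iff_orderOf.1 hRp ⟨r, hr⟩
    exact ⟨i, by rw [← hi, Subgroup.orderOf_mk]⟩
  -- conjugation by the core covers the coset of the lift
  let C := {g : G // (y : G)⁻¹ * g ∈ R}
  have hconj : ∀ r : R, (y : G)⁻¹ * ((r : G) * y * (r : G)⁻¹) ∈ R := fun r => by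
    have := (mem_normalizer_iff.1 (inv_mem (hRn y.2)) (r : G)).1 r.2
    rw [inv_inv] at this
    rw [show (y : G)⁻¹ * ((r : G) * y * (r : G)⁻¹) = ((y : G)⁻¹ * r * y) * (r : G)⁻¹ by group]
    exact mul_mem this (inv_mem r.2)
  let f : R → C := fun r => ⟨(r : G) * y * (r : G)⁻¹, hconj r⟩
  have hf : Function.Injective f := fun a b e => by
    have e' : (a : G) * y * (a : G)⁻¹ = b * y * (b : G)⁻¹ := congrArg Subtype.val e
    have := hfree ((b : G)⁻¹ * a) (hR2 _ (mul_mem (inv_mem b.2) a.2)) (by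
      show (y : G) * ((b : G)⁻¹ * a) = (b : G)⁻¹ * a * y
      calc (y : G) * ((b : G)⁻¹ * a) = (b : G)⁻¹ * ((b : G) * y * (b : G)⁻¹) * a := by group
        _ = (b : G)⁻¹ * ((a : G) * y * (a : G)⁻¹) * a := by rw [e']
        _ = _ := by group)
    exact Subtype.ext (inv_mul_eq_one.1 this).symm
  have hcard : Nat.card R = Nat.card C := Nat.card_congr
    { toFun := fun r => ⟨(y : G) * r, by simp⟩
      invFun := fun g => ⟨(y : G)⁻¹ * g.1, g.2⟩
      left_inv := fun r => Subtype.ext (inv_mul_cancel_left _ _)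
      right_inv := fun g => Subtype.ext (mul_inv_cancel_left _ _) }
  have hmem : (y : G)⁻¹ * (s * y * s⁻¹)⁻¹ ∈ R := by
    refine (hπ1 (y⁻¹ * (σ * y * σ⁻¹)⁻¹)).1 ?_
    rw [map_mul, map_inv, map_inv, map_mul, map_mul, map_inv, hηinv, inv_inv, inv_mul_cancel]
  obtain ⟨r, hr⟩ := (Nat.bijective_iff_injective_and_card f).2 ⟨hf, hcard⟩ |>.2 ⟨_, hmem⟩
  have hr' : (r : G) * y * (r : G)⁻¹ = (s * y * s⁻¹)⁻¹ := congrArg Subtype.val hr
  set x := (r : G)⁻¹ * s with hxdef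
  have hxy : x * y * x⁻¹ = (y : G)⁻¹ := by
    calc x * y * x⁻¹ = (r : G)⁻¹ * (s * y * s⁻¹) * r := by rw [hxdef]; group
      _ = (r : G)⁻¹ * ((r : G) * y * (r : G)⁻¹)⁻¹ * r := by rw [hr', inv_inv]
      _ = (y : G)⁻¹ := by group
  have hxR : x ∉ R := fun h => hj.1 (by
    rw [show s = (r : G) * x by rw [hxdef, mul_inv_cancel_left]]
    exact mul_mem r.2 h)
  have hxH : x ∈ H := mul_mem (inv_mem (hRH r.2)) (hSH hsS)
  have hRS : R ≤ S := by
    haveI := S.2
    have := CharP.pCoreOf_le_of_isSylIn (p := 2) (T := (S : Subgroup G)) (H := H)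
      ⟨S.subtype hSH, by rw [Sylow.coe_subtype, map_subgroupOf_eq_of_le hSH]⟩
    exact this
  obtain ⟨i, hi⟩ := IsPGroup.iff_orderOf.1 S.2 ⟨x, mul_mem (inv_mem (hRS r.2)) hsS⟩
  rw [Subgroup.orderOf_mk] at hi
  have hxx : x * x = 1 := by
    refine hfree _ ?_ ?_
    · obtain ⟨l, hl⟩ := IsPGroup.iff_orderOf.1 S.2
        ⟨x * x, mul_mem (mul_mem (inv_mem (hRS r.2)) hsS) (mul_mem (inv_mem (hRS r.2)) hsS)⟩
      exact ⟨l, by rw [← hl, Subgroup.orderOf_mk]⟩
    · show (y : G) * (x * x) = x * x * y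
      refine (mul_inv_eq_iff_eq_mul.1 ?_).symm
      calc x * x * y * (x * x)⁻¹ = x * (x * y * x⁻¹) * x⁻¹ := by group
        _ = x * (y : G)⁻¹ * x⁻¹ := by rw [hxy]
        _ = (x * y * x⁻¹)⁻¹ := by group
        _ = y := by rw [hxy, inv_inv]
  exact hxR (involution_mem_of_stronglyEmbedded hH hRH hRn hRp hR hxH
    (Basic.orderOf_two_iff.2 ⟨hxx, fun e => hxR (e ▸ one_mem _)⟩)).1

end Cfsg.Agent.CIT
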