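import Cfsg.Agent.Lib.CIT.UFourMain
import Cfsg.Agent.Lib.CIT.Base
import Cfsg.Agent.Lib.Involutions.SylowPSUThree
import Cfsg.Agent.Lib.ZStar.Consequences

/-!
# The Sylow 2-subgroup of `PSU₃(4)` as a `UFourSylow`
-/

set_option autoImplicit false
set_option linter.style.haveILetI false
set_option linter.unusedSectionVars false

namespace Cfsg.Agent.CIT

open Subgroup Cfsg.Agent.Involutions.SylowPSUThree

universe u

namespace UFour

/-- The commutators with a non-central element of the model exhaust the centre. -/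
theorem exists_commute_shift {F : Type*} [Field F] [Fintype F] [CharP F 2] {n : ℕ}
    (hF : Fintype.card F = (2 ^ n) ^ 2) (B : Base F n) {x z : heis hF B}
    (hx : x ∉ center (heis hF B)) (hz : z ∈ center (heis hF B)) :
    ∃ s : heis hF B, s * x = x * z * s := by
  obtain ⟨b, a, hxc⟩ := exists_coord hF B x.2
  obtain ⟨b₀, c, hzc⟩ := exists_coord hF B z.2
  obtain rfl := (mem_center_iff' hF B hzc).1 hz
  have hb : b ≠ 0 := fun h => hx ((mem_center_iff' hF B hxc).2 h)
  have hc : c ^ 2 ^ n = c := by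
    have := hzc.2
    rw [zero_mul, add_eq_zero_iff_eq_neg, CharTwo.neg_eq] at this
    exact this.symm
  obtain ⟨y, hy⟩ := Cfsg.Agent.Classical.Unitary.exists_trace_eq hF hc
  set b' := (y / b) ^ 2 ^ n with hb'
  have hb'q : b' ^ 2 ^ n = y / b := by rw [hb', Cfsg.Agent.Classical.Unitary.pow_qq hF]
  obtain ⟨a', ha'⟩ := Cfsg.Agent.Classical.Unitary.exists_trace_eq hF (norm_fixed hF b')
  obtain ⟨s, hs⟩ := exists_el hF B ha'
  refine ⟨s, Subtype.ext (IsCoord.ext hF B (hs.mul hF B hxc) ?_)⟩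
  have h := (hxc.mul hF B hzc).mul hF B hs
  show IsCoord B ((x : Cfsg.SU 3 F (2 ^ n)) * (z : Cfsg.SU 3 F (2 ^ n)) * (s : Cfsg.SU 3 F (2 ^ n)))
    _ _
  convert h using 1
  · ring
  · have h1 : b * b' ^ 2 ^ n = y := by rw [hb'q, mul_div_cancel₀ _ hb]
    have h2 : b' * b ^ 2 ^ n = y ^ 2 ^ n := by rw [hb', ← mul_pow, div_mul_cancel₀ _ hb]
    simp only [add_zero, zero_mul]
    rw [h1, h2]
    linear_combination hy - CharTwo.add_self_eq_zero (y ^ 2 ^ n)

/-- The properties of the model. -/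
theorem model_facts {F : Type*} [Field F] [Fintype F] (hF : Fintype.card F = 16)
    (P : Sylow 2 (Cfsg.PSU 3 F 4)) {T : Type*} [Group T] [Finite T]
    (e : T ≃* (P : Subgroup (Cfsg.PSU 3 F 4))) :
    Nat.card T = 64 ∧ Nat.card (center T) = 4 ∧ (∀ x : T, x * x = 1 → x ∈ center T) ∧
      (∀ x : T, x * x ∈ center T) ∧ (∀ z ∈ center T, z * z = 1) ∧
      ∀ x : T, x ∉ center T → ∀ z ∈ center T, ∃ s : T, s * x * s⁻¹ = x * z := by
  classical
  haveI : Fact (Nat.Prime 2) := ⟨Nat.prime_two⟩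
  haveI : CharP F 2 := charP_of_card_eq_prime_pow (f := 4) (by rw [hF]; norm_num)
  have hF2 : Fintype.card F = (2 ^ 2) ^ 2 := by rw [hF]; norm_num
  obtain ⟨B⟩ := exists_base (F := F) (n := 2) hF2
  obtain ⟨f⟩ := sylow_equiv hF2 B P
  set g : T ≃* heis hF2 B := e.trans f.symm
  have hmem : ∀ x : T, x ∈ center T ↔ g x ∈ center (heis hF2 B) := fun x => by
    rw [Subgroup.mem_center_iff, Subgroup.mem_center_iff]
    exact ⟨fun h y => by
        obtain ⟨y', rfl⟩ := g.surjective y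
        rw [← map_mul, ← map_mul, h],
      fun h y => g.injective (by rw [map_mul, map_mul, h])⟩
  refine ⟨?_, ?_, fun x hx => ?_, fun x => ?_,
    fun z hz => g.injective (by rw [map_mul, map_one]; exact isPow_two hF2 B _ ((hmem z).1 hz)),
    fun x hx z hz => ?_⟩
  · rw [Nat.card_congr g.toEquiv, card_heis hF2 B]
    norm_num
  · rw [Nat.card_congr (g.toEquiv.subtypeEquiv (fun x => hmem x))]
    exact (card_center hF2 B).trans (by norm_num)
  · exact (hmem x).2 (involution_central hF2 B (by rw [← map_mul, hx, map_one]))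
  · rw [hmem, map_mul]
    exact sq_mem_center hF2 B (g x)
  · obtain ⟨s, hs⟩ := exists_commute_shift hF2 B (fun h => hx ((hmem x).2 h)) ((hmem z).1 hz)
    refine ⟨g.symm s, mul_inv_eq_iff_eq_mul.2 (g.injective ?_)⟩
    rw [map_mul, map_mul, map_mul, g.apply_symm_apply]
    exact hs

variable {G : Type u} [Group G] [Finite G]

/-- A simple nonabelian group has no isolated involution. -/
theorem not_isolated [IsSimpleGroup G] (hG : ¬ IsMulCommutative G) (z : G) :
    ¬ Cfsg.IsIsolatedInvolution z := fun hz => by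
  have hz1 : z ≠ 1 := fun e => by simp [Cfsg.IsIsolatedInvolution, e] at hz
  have hodd : ∀ N : Subgroup G, N.Normal → Odd (Nat.card N) → N = ⊥ := fun N hN hc => by
    refine hN.eq_bot_or_eq_top.resolve_right fun h => ?_
    subst h
    rw [Subgroup.card_top] at hc
    exact Nat.not_even_iff_odd.2 hc (even_iff_two_dvd.2 (hz.1 ▸ orderOf_dvd_natCard z))
  have hO : Cfsg.oddCore G = ⊥ := Cfsg.Agent.ZStar.Consequences.oddCore_eq_bot hodd
  have hzc : z ∈ Subgroup.center G := Subgroup.mem_center_iff.2 fun g => by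
    have h := Cfsg.Agent.ZStar.Main.commutator_mem_oddCore hz g
    rw [hO, Subgroup.mem_bot, mul_inv_eq_one, mul_inv_eq_iff_eq_mul] at h
    exact h.symm
  rcases (inferInstance : (Subgroup.center G).Normal).eq_bot_or_eq_top with h | h
  · rw [h, Subgroup.mem_bot] at hzc
    exact hz1 hzc
  · exact hG ⟨⟨fun a b => Subgroup.mem_center_iff.1 (h ▸ Subgroup.mem_top b) a⟩⟩

end UFour

variable {G : Type u} [Group G] [Finite G]

/-- A Sylow 2-subgroup isomorphic to that of `PSU₃(4)` in a simple group gives a `UFourSylow`. -/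
theorem uFourSylow_of_psu [IsSimpleGroup G] (hG : ¬ IsMulCommutative G) (S : Sylow 2 G)
    {F : Type*} [Field F] [Fintype F] (hF : Fintype.card F = 16) (P : Sylow 2 (Cfsg.PSU 3 F 4))
    (e : (S : Subgroup G) ≃* (P : Subgroup (Cfsg.PSU 3 F 4))) :
    UFourSylow S ((center (S : Subgroup G)).map (S : Subgroup G).subtype) := by
  classical
  haveI : Fact (Nat.Prime 2) := ⟨Nat.prime_two⟩
  obtain ⟨h64, h4, hinv, hsq, hexp, hfull⟩ := UFour.model_facts hF P e
  set Z := (center (S : Subgroup G)).map (S : Subgroup G).subtype with hZ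
  have hmem : ∀ x : (S : Subgroup G), (x : G) ∈ Z ↔ x ∈ center (S : Subgroup G) := fun x =>
    Subgroup.mem_map_iff_mem (S : Subgroup G).subtype_injective
  have hle : Z ≤ (S : Subgroup G) := map_subtype_le _
  have hcard : Nat.card Z = 4 := by
    rw [hZ, card_map_of_injective (S : Subgroup G).subtype_injective, h4]
  have hcentral : ∀ z ∈ Z, ∀ s ∈ (S : Subgroup G), z * s = s * z := by
    rintro _ ⟨z, hz, rfl⟩ s hs
    exact congrArg Subtype.val (Subgroup.mem_center_iff.1 hz ⟨s, hs⟩).symm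
  have hinvol : ∀ x ∈ (S : Subgroup G), x * x = 1 → x ∈ Z := fun x hx h1 =>
    (hmem ⟨x, hx⟩).2 (hinv _ (Subtype.ext h1))
  have hsqZ : ∀ x ∈ (S : Subgroup G), x * x ∈ Z := fun x hx => (hmem _).2 (hsq ⟨x, hx⟩)
  -- every central involution is conjugate to a second one
  have hmove : ∀ z ∈ Z, z * z = 1 → z ≠ 1 → ∃ w ∈ Z, w ≠ 1 ∧ w ≠ z ∧ IsConj z w := by
    intro z hz hzz hz1
    have ho : orderOf z = 2 := orderOf_eq_prime (by rw [sq, hzz]) hz1
    have hnot := UFour.not_isolated hG z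
    simp only [Cfsg.IsIsolatedInvolution, ho, true_and, not_forall] at hnot
    obtain ⟨g, hg, hne⟩ := hnot
    obtain ⟨c, hc, hcS⟩ := exists_conj_mem (H := centralizer ({z} : Set G)) (S := S)
      (fun s hs => mem_centralizer_singleton_iff.2 (hcentral z hz s hs).symm)
      (mem_centralizer_singleton_iff.2 hg.eq.symm) (t := g * z * g⁻¹)
      ⟨1, by rw [Involutions.Basic.orderOf_conj, ho, pow_one]⟩
    set w := c * (g * z * g⁻¹) * c⁻¹ with hw
    have hcz : c * z * c⁻¹ = z :=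
      mul_inv_eq_iff_eq_mul.2 (mem_centralizer_singleton_iff.1 hc)
    refine ⟨w, hinvol w hcS ?_, fun h1 => hz1 ?_, fun h1 => hne ?_,
      isConj_iff.2 ⟨c * g, by rw [hw]; group⟩⟩
    · rw [hw, show c * (g * z * g⁻¹) * c⁻¹ * (c * (g * z * g⁻¹) * c⁻¹) =
        c * (g * (z * z) * g⁻¹) * c⁻¹ by group, hzz]
      group
    · exact conj_eq_one_iff.1 (conj_eq_one_iff.1 h1)
    · rw [← hcz] at h1
      exact mul_left_cancel (mul_right_cancel h1)
  have hZsq : ∀ z ∈ Z, z * z = 1 := by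
    rintro _ ⟨z, hz, rfl⟩
    exact congrArg Subtype.val (hexp z hz)
  refine ⟨hle, h64, hcard, hcentral, hinvol, hsqZ, fun x hx hxZ z hz => ?_,
    fun z hz w hw hz1 hw1 => ?_⟩
  · obtain ⟨z', hz', rfl⟩ := hz
    obtain ⟨s, hs⟩ := hfull ⟨x, hx⟩ (fun h => hxZ ((hmem ⟨x, hx⟩).2 h)) z' hz'
    exact ⟨s, s.2, congrArg Subtype.val hs⟩
  · obtain ⟨z₁, hz₁, hz₁1, hz₁z, hc₁⟩ := hmove z hz (hZsq z hz) hz1
    obtain ⟨w₁, hw₁, hw₁1, hw₁w, hd₁⟩ := hmove w hw (hZsq w hw) hw1
    haveI := Fintype.ofFinite Z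
    -- two pairs of the three involutions meet
    by_contra hnc
    have hsub : ({1, ⟨z, hz⟩, ⟨z₁, hz₁⟩, ⟨w, hw⟩, ⟨w₁, hw₁⟩} : Finset Z).card ≤ 4 :=
      (Finset.card_le_univ _).trans (by rw [← Nat.card_eq_fintype_card, hcard])
    have d1 : z ≠ w := fun h => hnc (h ▸ IsConj.refl z)
    have d2 : z ≠ w₁ := fun h => hnc (h ▸ hd₁.symm)
    have d3 : z₁ ≠ w := fun h => hnc (h ▸ hc₁)
    have d4 : z₁ ≠ w₁ := fun h => hnc (hc₁.trans (h ▸ hd₁.symm))
    rw [Finset.card_insert_of_notMem, Finset.card_insert_of_notMem, Finset.card_insert_of_notMem,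
      Finset.card_pair] at hsub
    · omega
    · exact fun h => hw₁w (congrArg Subtype.val h).symm
    · simp only [Finset.mem_insert, Finset.mem_singleton, Subtype.ext_iff, not_or]
      exact ⟨d3, d4⟩
    · simp only [Finset.mem_insert, Finset.mem_singleton, Subtype.ext_iff, not_or]
      exact ⟨Ne.symm hz₁z, d1, d2⟩
    · simp only [Finset.mem_insert, Finset.mem_singleton, Subtype.ext_iff, not_or,
        OneMemClass.coe_one]
      exact ⟨Ne.symm hz1, Ne.symm hz₁1, Ne.symm hw1, Ne.symm hw₁1⟩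

/-- No simple group with 2-nilpotent involution centralisers has a Sylow 2-subgroup like that of
`PSU₃(4)`. -/
theorem false_of_psu_sylow [IsSimpleGroup G] (hG : ¬ IsMulCommutative G)
    (hI : ∀ t : G, orderOf t = 2 → Cfsg.HasNormalPComplement 2 ↥(centralizer ({t} : Set G)))
    (S : Sylow 2 G) {F : Type*} [Field F] [Fintype F] (hF : Fintype.card F = 16)
    (P : Sylow 2 (Cfsg.PSU 3 F 4)) (e : (S : Subgroup G) ≃* (P : Subgroup (Cfsg.PSU 3 F 4))) :
    False :=
  not_uFourSylow hG hI (uFourSylow_of_psu hG S hF P e)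

end Cfsg.Agent.CIT
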