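import Mathlib

/-!
# CIT groups: representations in characteristic two with fixed-point-free elements of order three

If `x² + x + 1 = 0` in a ring of characteristic two for the images of all elements of order three,
then there is no elementary abelian subgroup of order nine, and in the subgroup generated by two
elements of order three every `h + h⁻¹` commutes with the two generators.
-/

set_option autoImplicit false

namespace Cfsg.Agent.CIT.Gen

variable {R : Type*} [Ring R] {X : Type*} [Group X] (ρ : X →* R)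

/-- Two commuting elements of order three generating a group of order nine act with a fixed point. -/
theorem one_eq_zero_of_pair (h2 : ∀ r : R, r + r = 0) {a b : X} (hab : Commute a b)
    (qa : ρ a * ρ a + ρ a + 1 = 0) (qb : ρ b * ρ b + ρ b + 1 = 0)
    (qab : ρ (a * b) * ρ (a * b) + ρ (a * b) + 1 = 0)
    (qabb : ρ (a * (b * b)) * ρ (a * (b * b)) + ρ (a * (b * b)) + 1 = 0)
    (hb : b * b * b = 1) : (1 : R) = 0 := by
  have hc : ρ b * ρ a = ρ a * ρ b := by rw [← map_mul, ← map_mul, hab.eq]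
  have hc' : ∀ r : R, ρ b * (ρ a * r) = ρ a * (ρ b * r) := fun r => by
    rw [← mul_assoc, hc, mul_assoc]
  have hb3 : ρ b * (ρ b * ρ b) = 1 := by rw [← map_mul, ← map_mul, ← mul_assoc, hb, map_one]
  have hb4 : ρ b * (ρ b * (ρ b * ρ b)) = ρ b := by rw [hb3, mul_one]
  have key : (ρ a * ρ a + ρ a + 1) * (ρ b * ρ b + ρ b + 1) =
      (ρ a * ρ a + ρ a + 1) + (ρ b * ρ b + ρ b + 1) + (ρ (a * b) * ρ (a * b) + ρ (a * b) + 1) +
        (ρ (a * (b * b)) * ρ (a * (b * b)) + ρ (a * (b * b)) + 1) - (1 + 1 + 1) := by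
    simp only [map_mul, mul_add, add_mul, mul_assoc, mul_one, one_mul, hc, hc', hb4]
    abel
  rw [qa, qb, qab, qabb, mul_zero, add_zero, add_zero, add_zero, h2, zero_add, zero_sub,
    eq_comm, neg_eq_zero] at key
  exact key

/-- In the subgroup generated by `y` and `z`, an element plus its inverse commutes with both. -/
theorem commute_add_inv (h2 : ∀ r : R, r + r = 0) {y z : X} (hy3 : y * y * y = 1)
    (hz3 : z * z * z = 1) (qy : ρ y * ρ y + ρ y + 1 = 0) (qz : ρ z * ρ z + ρ z + 1 = 0) {h : X}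
    (hh : h ∈ Subgroup.closure ({y, z} : Set X)) :
    Commute (ρ h + ρ h⁻¹) (ρ y) ∧ Commute (ρ h + ρ h⁻¹) (ρ z) := by
  letI : Module (ZMod 2) R := AddCommGroup.zmodModule fun r => by rw [two_nsmul]; exact h2 r
  have eyy : ρ y * ρ y = ρ y + 1 := by
    rw [← sub_eq_zero, ← qy]; refine (one_smul (ZMod 2) _).symm.trans ?_; match_scalars <;> decide
  have ezz : ρ z * ρ z = ρ z + 1 := by
    rw [← sub_eq_zero, ← qz]; refine (one_smul (ZMod 2) _).symm.trans ?_; match_scalars <;> decide
  have eyyx : ∀ r : R, ρ y * (ρ y * r) = ρ y * r + r := fun r => by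
    rw [← mul_assoc, eyy, add_mul, one_mul]
  have ezzx : ∀ r : R, ρ z * (ρ z * r) = ρ z * r + r := fun r => by
    rw [← mul_assoc, ezz, add_mul, one_mul]
  set w := ρ y * ρ z + ρ z * ρ y + ρ y + ρ z with hw
  have ezy : ρ z * ρ y = ρ y * ρ z + ρ y + ρ z + w := by
    rw [hw]; refine (one_smul (ZMod 2) _).symm.trans ?_; match_scalars <;> decide
  have ewy : ρ y * w = w * ρ y := by
    rw [hw]
    simp only [mul_add, add_mul, mul_assoc, eyy, eyyx, mul_one]
    refine (one_smul (ZMod 2) _).symm.trans ?_; match_scalars <;> decide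
  have ewz : ρ z * w = w * ρ z := by
    rw [hw]
    simp only [mul_add, add_mul, mul_assoc, ezz, ezzx, mul_one]
    refine (one_smul (ZMod 2) _).symm.trans ?_; match_scalars <;> decide
  have eyi : ρ y⁻¹ = ρ y + 1 := by
    rw [inv_eq_of_mul_eq_one_right ((mul_assoc y y y).symm.trans hy3), map_mul, eyy]
  have ezi : ρ z⁻¹ = ρ z + 1 := by
    rw [inv_eq_of_mul_eq_one_right ((mul_assoc z z z).symm.trans hz3), map_mul, ezz]
  let P : X → Prop := fun g => ∃ a b c d : R,
    (ρ y * a = a * ρ y ∧ ρ y * b = b * ρ y ∧ ρ y * c = c * ρ y ∧ ρ y * d = d * ρ y) ∧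
    (ρ z * a = a * ρ z ∧ ρ z * b = b * ρ z ∧ ρ z * c = c * ρ z ∧ ρ z * d = d * ρ z) ∧
    ρ g = a + b * ρ y + c * ρ z + d * (ρ y * ρ z) ∧
    ρ g⁻¹ = a + b * (ρ y + 1) + c * (ρ z + 1) + d * (ρ y * ρ z + w + 1)
  have stepy : ∀ g, P g → P (y * g) := by
    rintro g ⟨a, b, c, d, ⟨ya, yb, yc, yd⟩, ⟨za, zb, zc, zd⟩, e, ei⟩
    have ya' : ∀ r, ρ y * (a * r) = a * (ρ y * r) := fun r => by rw [← mul_assoc, ya, mul_assoc]
    have yb' : ∀ r, ρ y * (b * r) = b * (ρ y * r) := fun r => by rw [← mul_assoc, yb, mul_assoc]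
    have yc' : ∀ r, ρ y * (c * r) = c * (ρ y * r) := fun r => by rw [← mul_assoc, yc, mul_assoc]
    have yd' : ∀ r, ρ y * (d * r) = d * (ρ y * r) := fun r => by rw [← mul_assoc, yd, mul_assoc]
    have ezyx : ∀ r : R, ρ z * (ρ y * r) = ρ y * (ρ z * r) + ρ y * r + ρ z * r + w * r := fun r => by
      rw [← mul_assoc, ezy, add_mul, add_mul, add_mul, mul_assoc]
    have ewyx : ∀ r : R, ρ y * (w * r) = w * (ρ y * r) := fun r => by rw [← mul_assoc, ewy, mul_assoc]
    refine ⟨b, a + b, d, c + d, ⟨yb, ?_, yd, ?_⟩, ⟨zb, ?_, zd, ?_⟩, ?_, ?_⟩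
    · simp only [mul_add, add_mul, ya, yb]
    · simp only [mul_add, add_mul, yc, yd]
    · simp only [mul_add, add_mul, za, zb]
    · simp only [mul_add, add_mul, zc, zd]
    · rw [map_mul, e]
      simp only [mul_add, add_mul, mul_assoc, mul_one, one_mul, eyy, eyyx, ya, ya', yb', yc', yd']
      refine (one_smul (ZMod 2) _).symm.trans ?_; match_scalars <;> decide
    · rw [mul_inv_rev, map_mul, eyi, ei]
      simp only [mul_add, add_mul, mul_assoc, mul_one, one_mul, eyy, eyyx, ezy, ezyx, ezz, ezzx, ewy,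
        ewyx]
      refine (one_smul (ZMod 2) _).symm.trans ?_; match_scalars <;> decide
  have stepz : ∀ g, P g → P (z * g) := by
    rintro g ⟨a, b, c, d, ⟨ya, yb, yc, yd⟩, ⟨za, zb, zc, zd⟩, e, ei⟩
    have za' : ∀ r, ρ z * (a * r) = a * (ρ z * r) := fun r => by rw [← mul_assoc, za, mul_assoc]
    have zb' : ∀ r, ρ z * (b * r) = b * (ρ z * r) := fun r => by rw [← mul_assoc, zb, mul_assoc]
    have zc' : ∀ r, ρ z * (c * r) = c * (ρ z * r) := fun r => by rw [← mul_assoc, zc, mul_assoc]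
    have zd' : ∀ r, ρ z * (d * r) = d * (ρ z * r) := fun r => by rw [← mul_assoc, zd, mul_assoc]
    have yb' : ∀ r, ρ y * (b * r) = b * (ρ y * r) := fun r => by rw [← mul_assoc, yb, mul_assoc]
    have yd' : ∀ r, ρ y * (d * r) = d * (ρ y * r) := fun r => by rw [← mul_assoc, yd, mul_assoc]
    have ezyx : ∀ r : R, ρ z * (ρ y * r) = ρ y * (ρ z * r) + ρ y * r + ρ z * r + w * r := fun r => by
      rw [← mul_assoc, ezy, add_mul, add_mul, add_mul, mul_assoc]
    have ewyx : ∀ r : R, ρ y * (w * r) = w * (ρ y * r) := fun r => by rw [← mul_assoc, ewy, mul_assoc]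
    have ewzx : ∀ r : R, ρ z * (w * r) = w * (ρ z * r) := fun r => by rw [← mul_assoc, ewz, mul_assoc]
    refine ⟨b * w + c + d, b + d, a + b + c + d + d * w, b, ⟨?_, ?_, ?_, yb⟩, ⟨?_, ?_, ?_, zb⟩, ?_, ?_⟩
    · simp only [mul_add, add_mul, mul_assoc, yb', yc, yd, ewy]
    · simp only [mul_add, add_mul, yb, yd]
    · simp only [mul_add, add_mul, mul_assoc, ya, yb, yc, yd, yd', ewy]
    · simp only [mul_add, add_mul, mul_assoc, zb', zc, zd, ewz]
    · simp only [mul_add, add_mul, zb, zd]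
    · simp only [mul_add, add_mul, mul_assoc, za, zb, zc, zd, zd', ewz]
    · rw [map_mul, e]
      simp only [mul_add, add_mul, mul_assoc, mul_one, one_mul, ezy, ezyx, ezz, ezzx, ewz, ewzx,
        za, za', zb', zc', zd']
      refine (one_smul (ZMod 2) _).symm.trans ?_; match_scalars <;> decide
    · rw [mul_inv_rev, map_mul, ezi, ei]
      simp only [mul_add, add_mul, mul_assoc, mul_one, one_mul, eyy, eyyx, ezy, ezyx, ezz, ezzx, ewy,
        ewyx, ewz, ewzx]
      refine (one_smul (ZMod 2) _).symm.trans ?_; match_scalars <;> decide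
  have hP : P h := by
    refine Subgroup.closure_induction_left (p := fun g _ => P g) ?_ ?_ ?_ hh
    · exact ⟨1, 0, 0, 0, by simp, by simp, by simp, by simp⟩
    · rintro x hx g - hg
      rcases hx with rfl | rfl
      exacts [stepy g hg, stepz g hg]
    · rintro x hx g - hg
      rcases hx with rfl | rfl
      · rw [inv_eq_of_mul_eq_one_right ((mul_assoc _ _ _).symm.trans hy3), mul_assoc]
        exact stepy _ (stepy g hg)
      · rw [inv_eq_of_mul_eq_one_right ((mul_assoc _ _ _).symm.trans hz3), mul_assoc]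
        exact stepz _ (stepz g hg)
  obtain ⟨a, b, c, d, ⟨ya, yb, yc, yd⟩, ⟨za, zb, zc, zd⟩, e, ei⟩ := hP
  have hs : ρ h + ρ h⁻¹ = b + c + d * w + d := by
    rw [e, ei]
    simp only [mul_add, mul_one]
    refine (one_smul (ZMod 2) _).symm.trans ?_; match_scalars <;> decide
  rw [hs]
  refine ⟨(Commute.symm ?_), (Commute.symm ?_)⟩
  · exact ((Commute.add_right yb yc).add_right ((Commute.mul_right yd ewy))).add_right yd
  · exact ((Commute.add_right zb zc).add_right ((Commute.mul_right zd ewz))).add_right zd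

end Cfsg.Agent.CIT.Gen
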