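import Cfsg.Agent.Lib.CIT.Defs
import Cfsg.Agent.Lib.Involutions.RankOne.ConsS1222
import Cfsg.Agent.S1136

/-!
# CIT groups: the models

`PSU₃(2ⁿ)` is no CIT group, so a CIT group with a split rank-one configuration is on the list.
-/

set_option autoImplicit false

namespace Cfsg.Agent.CIT

open Matrix

universe u v

/-- Being CIT is invariant under isomorphism. -/
theorem IsCIT.of_equiv {G : Type u} [Group G] {H : Type v} [Group H] (e : G ≃* H) (h : IsCIT G) :
    IsCIT H := by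
  intro t ht x
  have hx : e.symm (x : H) ∈ Subgroup.centralizer ({e.symm t} : Set G) := by
    rw [Subgroup.mem_centralizer_singleton_iff, ← map_mul, ← map_mul,
      Subgroup.mem_centralizer_singleton_iff.1 x.2]
  obtain ⟨k, hk⟩ := h (e.symm t) (by rw [MulEquiv.orderOf_eq, ht]) ⟨_, hx⟩
  refine ⟨k, Subtype.ext (e.symm.injective ?_)⟩
  rw [Subgroup.coe_pow, map_pow, OneMemClass.coe_one, map_one]
  exact congrArg Subtype.val hk

/-- The list is invariant under isomorphism. -/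
theorem CITList.of_equiv {G : Type u} [Group G] {H : Type v} [Group H] (e : G ≃* H) (h : CITList G) :
    CITList H := by
  rcases h with ⟨F, i1, i2, hF, ⟨f⟩⟩ | ⟨F, i1, i2, hF, ⟨f⟩⟩ | ⟨F, i1, i2, m, hm, hF, ⟨f⟩⟩
  · exact Or.inl ⟨F, i1, i2, hF, ⟨e.symm.trans f⟩⟩
  · exact Or.inr (Or.inl ⟨F, i1, i2, hF, ⟨e.symm.trans f⟩⟩)
  · exact Or.inr (Or.inr ⟨F, i1, i2, m, hm, hF, ⟨e.symm.trans f⟩⟩)

/-- The list gives the conclusion of S0348. -/
theorem CITList.conclusion {G : Type u} [Group G] [Finite G] [IsSimpleGroup G] (h : CITList G) :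
    (∃ (F : Type) (_ : Field F) (_ : Fintype F),
      (Fintype.card F = 9 ∨ (∃ n : ℕ, Fintype.card F = 2 ^ n) ∨
        ((Fintype.card F).Prime ∧
          ∃ k : ℕ, Fintype.card F = 2 ^ k + 1 ∨ Fintype.card F + 1 = 2 ^ k)) ∧
      Nonempty (G ≃* Matrix.ProjectiveSpecialLinearGroup (Fin 2) F)) ∨
    (∃ (F : Type) (_ : Field F) (_ : Fintype F), Fintype.card F = 4 ∧
      Nonempty (G ≃* Matrix.ProjectiveSpecialLinearGroup (Fin 3) F)) ∨ Cfsg.IsSuzuki G := by
  rcases h with ⟨F, i1, i2, hF, hf⟩ | h | h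
  · refine Or.inl ⟨F, i1, i2, ?_, hf⟩
    rcases hF with h | ⟨n, -, h⟩ | ⟨-, h⟩
    exacts [Or.inl h, Or.inr (Or.inl ⟨n, h⟩), Or.inr (Or.inr h)]
  · exact Or.inr (Or.inl h)
  · exact Or.inr (Or.inr (Involutions.RankOne.Cons.isSuzuki_of_iso h))

/-- `PSU₃(q)`, `q ≥ 4` even, is no CIT group. -/
theorem not_isCIT_psu {F : Type*} [Field F] [Fintype F] {n : ℕ} (hn : 2 ≤ n)
    (hF : Fintype.card F = (2 ^ n) ^ 2) : ¬ IsCIT (Cfsg.PSU 3 F (2 ^ n)) := by
  classical
  intro hCIT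
  haveI : Fact (Nat.Prime 2) := ⟨Nat.prime_two⟩
  haveI : CharP F 2 := (CharP.charP_iff_prime_eq_zero Nat.prime_two).2
    (pow_eq_zero_iff (n := n * 2) (by omega) |>.1 (by
      rw [← Nat.cast_pow, pow_mul, ← hF, Nat.cast_card_eq_zero]))
  set q := 2 ^ n with hq
  have hq4 : 4 ≤ q := le_trans (by norm_num) (Nat.pow_le_pow_right two_pos hn)
  have hqeven : Even q := Nat.even_pow.2 ⟨even_two, by omega⟩
  -- a scalar of order `q + 1`
  obtain ⟨g, hg⟩ := IsCyclic.exists_generator (α := Fˣ)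
  have hgo : orderOf g = q ^ 2 - 1 := by
    rw [orderOf_eq_card_of_forall_mem_zpowers hg, Nat.card_units, Nat.card_eq_fintype_card, hF]
  have hfac : q ^ 2 - 1 = (q - 1) * (q + 1) := by
    simpa [mul_comm] using Nat.sq_sub_sq q 1
  set a := g ^ (q - 1) with ha
  have hao : orderOf a = q + 1 := by
    rw [ha, orderOf_pow' g (by omega), hgo, hfac, Nat.gcd_mul_right_left,
      Nat.mul_div_cancel_left _ (by omega)]
  have hpow : ∀ k : ℕ, ((a : F) ^ k) ^ (q + 1) = 1 := fun k => by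
    rw [← pow_mul, mul_comm, pow_mul, ← Units.val_pow_eq_pow_val, ← hao, pow_orderOf_eq_one,
      Units.val_one, one_pow]
  have hinv : ((a : F)⁻¹) ^ (q + 1) = 1 := by
    have := hpow 1
    rw [pow_one] at this
    rw [inv_pow, this, inv_one]
  have ha1 : (a : F) ^ (q + 1) = 1 := by simpa using hpow 1
  have ha2 : (a : F) ≠ (a : F)⁻¹ := fun e => by
    have h2 : a ^ 2 = 1 := Units.ext (by
      rw [Units.val_pow_eq_pow_val, sq, Units.val_one]
      nth_rewrite 2 [e]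
      exact mul_inv_cancel₀ a.ne_zero)
    have := Nat.le_of_dvd two_pos (orderOf_dvd_of_pow_eq_one h2)
    omega
  have ha3 : (a : F) ≠ ((a : F) ^ 2)⁻¹ := fun e => by
    have h3 : a ^ 3 = 1 := Units.ext (by
      rw [Units.val_pow_eq_pow_val, pow_succ', Units.val_one]
      nth_rewrite 1 [e]
      exact inv_mul_cancel₀ (pow_ne_zero 2 a.ne_zero))
    have := Nat.le_of_dvd (by norm_num) (orderOf_dvd_of_pow_eq_one h3)
    omega
  -- diagonal and permutation matrices
  have hherm : ∀ x y : Fin 3 → F, Cfsg.hermForm 3 F q x y =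
      x 0 * y 0 ^ q + x 1 * y 1 ^ q + x 2 * y 2 ^ q := fun x y => by
    simp [Cfsg.hermForm, Fin.sum_univ_three]
  have mkd : ∀ u : Fin 3 → F, u 0 * u 1 * u 2 = 1 → (∀ i, u i ^ (q + 1) = 1) →
      ∃ x : Cfsg.SU 3 F q, ((x : Matrix.SpecialLinearGroup (Fin 3) F) : Matrix (Fin 3) (Fin 3) F) =
        Matrix.diagonal u := by
    intro u hu hN
    refine ⟨⟨⟨Matrix.diagonal u, by rw [det_diagonal, Fin.prod_univ_three, hu]⟩, fun x y => ?_⟩, rfl⟩
    show Cfsg.hermForm 3 F q (Matrix.diagonal u *ᵥ x) (Matrix.diagonal u *ᵥ y) = _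
    have h : ∀ i, u i * x i * (u i * y i) ^ q = x i * y i ^ q := fun i => by
      rw [mul_pow, show u i * x i * (u i ^ q * y i ^ q) = u i ^ (q + 1) * (x i * y i ^ q) by ring,
        hN, one_mul]
    simp only [hherm, mulVec_diagonal, h]
  have hneg : (-1 : F) = 1 := neg_eq_of_add_eq_zero_left (CharTwo.add_self_eq_zero 1)
  have mks : ∀ i j : Fin 3, i ≠ j → ∃ x : Cfsg.SU 3 F q,
      ((x : Matrix.SpecialLinearGroup (Fin 3) F) : Matrix (Fin 3) (Fin 3) F) =
        (Equiv.swap i j).permMatrix F := by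
    intro i j hij
    refine ⟨⟨⟨(Equiv.swap i j).permMatrix F, by
      rw [det_permutation, Equiv.Perm.sign_swap hij]; simpa using hneg⟩, fun x y => ?_⟩, rfl⟩
    show Cfsg.hermForm 3 F q ((Equiv.swap i j).permMatrix F *ᵥ x) ((Equiv.swap i j).permMatrix F *ᵥ y) = _
    rw [permMatrix_mulVec, permMatrix_mulVec]
    exact Equiv.sum_comp (Equiv.swap i j) (fun k => x k * y k ^ q)
  obtain ⟨h, hh⟩ := mkd ![(a : F), (a : F), ((a : F) ^ 2)⁻¹]
    (by simp only [Matrix.cons_val]; field_simp)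
    (fun i => by fin_cases i <;> simp [ha1, hpow 2, inv_pow])
  obtain ⟨d, hd⟩ := mkd ![(a : F), (a : F)⁻¹, 1] (by simp)
    (fun i => by fin_cases i <;> simp [ha1, hinv])
  obtain ⟨s, hs⟩ := mks 0 1 (by decide)
  obtain ⟨r, hr⟩ := mks 1 2 (by decide)
  have hco : ∀ x y : Cfsg.SU 3 F q, x * y = y * x ↔
      ((x : Matrix.SpecialLinearGroup (Fin 3) F) : Matrix (Fin 3) (Fin 3) F) *
          ((y : Matrix.SpecialLinearGroup (Fin 3) F) : Matrix (Fin 3) (Fin 3) F) =
        ((y : Matrix.SpecialLinearGroup (Fin 3) F) : Matrix (Fin 3) (Fin 3) F) *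
          ((x : Matrix.SpecialLinearGroup (Fin 3) F) : Matrix (Fin 3) (Fin 3) F) := by
    intro x y
    exact ⟨fun e => congrArg (fun z : Cfsg.SU 3 F q =>
      ((z : Matrix.SpecialLinearGroup (Fin 3) F) : Matrix (Fin 3) (Fin 3) F)) e,
      fun e => Subtype.ext (Subtype.ext e)⟩
  have hsh : h * s = s * h := by
    rw [hco, hh, hs]
    ext i j
    fin_cases i <;> fin_cases j <;> simp [Matrix.mul_apply, Fin.sum_univ_three, Equiv.Perm.permMatrix, Equiv.swap_apply_def]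
  have hsd : d * s ≠ s * d := fun e => by
    rw [hco, hd, hs] at e
    have := congrFun (congrFun e 0) 1
    simp [Matrix.mul_apply, Fin.sum_univ_three, Equiv.Perm.permMatrix, Equiv.swap_apply_def] at this
    exact ha2 this
  have hhr : h * r ≠ r * h := fun e => by
    rw [hco, hh, hr] at e
    have := congrFun (congrFun e 1) 2
    simp [Matrix.mul_apply, Fin.sum_univ_three, Equiv.Perm.permMatrix, Equiv.swap_apply_def] at this
    exact ha3 this
  have hho : h ^ (q + 1) = 1 := by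
    refine Subtype.ext (Subtype.ext ?_)
    rw [Subgroup.coe_pow, Matrix.SpecialLinearGroup.coe_pow, hh, diagonal_pow, OneMemClass.coe_one,
      Matrix.SpecialLinearGroup.coe_one, ← diagonal_one]
    congr 1
    funext i
    fin_cases i <;> simp [ha1, hpow 2, inv_pow]
  have hs2 : s * s = 1 := by
    refine Subtype.ext (Subtype.ext ?_)
    rw [Subgroup.coe_mul, Matrix.SpecialLinearGroup.coe_mul, hs, OneMemClass.coe_one,
      Matrix.SpecialLinearGroup.coe_one]
    ext i j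
    fin_cases i <;> fin_cases j <;> simp [Matrix.mul_apply, Fin.sum_univ_three, Equiv.Perm.permMatrix, Equiv.swap_apply_def]
  set π := QuotientGroup.mk' (Subgroup.center (Cfsg.SU 3 F q))
  have hπs : orderOf (π s) = 2 := by
    refine orderOf_eq_prime (by rw [← map_pow, sq, hs2, map_one]) fun e => ?_
    rw [QuotientGroup.mk'_apply, QuotientGroup.eq_one_iff, Subgroup.mem_center_iff] at e
    exact hsd (e d)
  obtain ⟨k, hk⟩ := hCIT (π s) hπs ⟨π h, Subgroup.mem_centralizer_singleton_iff.2 (by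
    rw [← map_mul, ← map_mul, hsh])⟩
  have hk' : π h ^ 2 ^ k = 1 := congrArg Subtype.val hk
  have h1 : π h = 1 := orderOf_eq_one_iff.1 (Nat.eq_one_of_dvd_coprimes
    ((Nat.coprime_two_left.2 hqeven.add_one).pow_left k)
    (orderOf_dvd_of_pow_eq_one hk') (orderOf_dvd_of_pow_eq_one (by rw [← map_pow, hho, map_one])))
  rw [QuotientGroup.mk'_apply, QuotientGroup.eq_one_iff, Subgroup.mem_center_iff] at h1
  exact hhr (h1 r).symm

/-- A simple CIT group with a strongly embedded subgroup having a regular normal subgroup is on the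
list. -/
theorem citList_of_regular {G : Type u} [Group G] [Finite G] [IsSimpleGroup G] (hCIT : IsCIT G)
    (H : Subgroup G) (hH : Cfsg.IsStronglyEmbedded H) (Q : Subgroup G) (hQH : Q ≤ H)
    (hQn : (Q.subgroupOf H).Normal)
    (htrans : ∀ g₁ g₂ : G, g₁ ∉ H → g₂ ∉ H → ∃ u ∈ Q, g₂⁻¹ * (u * g₁) ∈ H)
    (hreg : ∀ g : G, g ∉ H → ∀ u ∈ Q, g⁻¹ * (u * g) ∈ H → u = 1) : CITList G := by
  haveI := Involutions.RankOne.Cons.faithful (H := H) hH.1
  obtain ⟨t, hS⟩ := Involutions.RankOne.Cons.exists_setup hH hQH hQn htrans hreg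
  obtain ⟨L, hLn, hLodd, h⟩ := S1136.result hS (Involutions.RankOne.Cons.exists_two_commuting hH)
  have hLtop := Involutions.RankOne.Cons.eq_top_of_odd_index hLn hLodd
    (hH.2.1.trans_dvd (Subgroup.card_subgroup_dvd_card H))
  let e : G ≃* L := (Subgroup.topEquiv.symm).trans (MulEquiv.subgroupCongr hLtop.symm)
  rcases h with ⟨F, i1, i2, hn, ⟨f⟩⟩ | ⟨F, i1, i2, m, hm, hF, ⟨f⟩⟩ | ⟨F, i1, i2, n, hn, hF, ⟨f⟩⟩
  · exact Or.inl ⟨F, i1, i2, Or.inr (Or.inl hn), ⟨e.trans f⟩⟩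
  · exact Or.inr (Or.inr ⟨F, i1, i2, m, hm, hF, ⟨e.trans f⟩⟩)
  · exact absurd (hCIT.of_equiv (e.trans f)) (not_isCIT_psu hn hF)

end Cfsg.Agent.CIT
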