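import Cfsg.Agent.Lib.CIT.GenDefs
import Cfsg.Agent.Lib.CIT.Socle
import Cfsg.Agent.Lib.CIT.Models
import Cfsg.Agent.Lib.CIT.GenRing
import Cfsg.Agent.Lib.Coprime.Action

/-!
# CIT groups: the quotient by the largest normal 2-subgroup

The quotient is CIT, a nonsolvable group has trivial odd core, and a normal 2-subgroup gives a
representation in characteristic two in which the elements of odd order fix only zero.
-/

set_option autoImplicit false
set_option linter.style.haveILetI false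

namespace Cfsg.Agent.CIT.Gen

open Subgroup
open scoped IsMulCommutative

universe u

variable {G : Type u} [Group G] [Finite G]

theorem exists_odd_lift (R : Subgroup G) [R.Normal] {x : G ⧸ R} (hx : Odd (orderOf x)) :
    ∃ g : G, (g : G ⧸ R) = x ∧ Odd (orderOf g) := by
  obtain ⟨g, rfl⟩ := QuotientGroup.mk_surjective x
  obtain ⟨k, m, hm, hkm⟩ := Nat.exists_eq_pow_mul_and_not_dvd (orderOf_pos g).ne' 2 (by norm_num)
  have hco : Nat.Coprime (2 ^ k) (orderOf (g : G ⧸ R)) :=
    (Nat.coprime_two_left.2 hx).pow_left k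
  obtain ⟨j, hj⟩ := exists_pow_eq_self_of_coprime hco
  refine ⟨(g ^ 2 ^ k) ^ j, by rw [QuotientGroup.mk_pow, QuotientGroup.mk_pow, hj], ?_⟩
  refine Odd.of_dvd_nat ?_ (orderOf_pow_dvd j)
  rw [orderOf_pow' _ (by positivity), hkm, Nat.gcd_eq_right (dvd_mul_right _ _),
    Nat.mul_div_cancel_left _ (by positivity)]
  exact Nat.not_even_iff_odd.1 (mt even_iff_two_dvd.1 hm)

theorem isPGroup_pCore : IsPGroup 2 (Cfsg.pCore 2 G) := TimesPSLTwo.Affine.pCore_two_isPGroup G

theorem isPGroup_two_of_odd {H : Type*} [Group H] [Finite H] (h : ∀ y : H, Odd (orderOf y) → y = 1) :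
    IsPGroup 2 H := by
  intro y
  obtain ⟨k, m, hm, hkm⟩ := Nat.exists_eq_pow_mul_and_not_dvd (orderOf_pos y).ne' 2 (by norm_num)
  refine ⟨k, h _ ?_⟩
  rw [orderOf_pow' _ (by positivity), hkm, Nat.gcd_eq_right (dvd_mul_right _ _),
    Nat.mul_div_cancel_left _ (by positivity)]
  exact Nat.not_even_iff_odd.1 (mt even_iff_two_dvd.1 hm)

/-- The quotient by a normal 2-subgroup is CIT. -/
theorem isCIT_quotient (hC : IsCIT G) (R : Subgroup G) [R.Normal] (hR : IsPGroup 2 R) :
    IsCIT (G ⧸ R) := by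
  haveI : Fact (Nat.Prime 2) := ⟨Nat.prime_two⟩
  intro t ht
  refine isPGroup_two_of_odd fun y hy => Subtype.ext ?_
  rw [← Subgroup.orderOf_coe] at hy
  obtain ⟨x, hx, hxo⟩ := exists_odd_lift R hy
  obtain ⟨k, rfl⟩ := QuotientGroup.mk_surjective t
  have hcomm : (x : G ⧸ R) * k = k * x := by
    rw [hx]; exact mem_centralizer_singleton_iff.1 y.2
  obtain ⟨n, hR2⟩ := IsPGroup.iff_card.1 hR
  have hz : zpowers x ≤ normalizer (R : Set G) := (normalizer_eq_top (H := R)) ▸ le_top
  obtain ⟨r, hr, hkr⟩ := Coprime.exists_fixed_in_coset hz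
    (by rw [Nat.card_zpowers, hR2]; exact (Nat.coprime_two_right.2 hxo).pow_right n)
    (Or.inl inferInstance) (k := k) (by
      rintro _ ⟨i, rfl⟩
      rw [← QuotientGroup.eq_one_iff, QuotientGroup.mk_mul, QuotientGroup.mk_mul, QuotientGroup.mk_mul,
        QuotientGroup.mk_inv, QuotientGroup.mk_inv, QuotientGroup.mk_zpow,
        ((show Commute (x : G ⧸ R) k from hcomm).zpow_left i).eq]
      group)
  have hev : 2 ∣ orderOf (k * r) := by
    have h := orderOf_map_dvd (QuotientGroup.mk' R) (k * r)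
    rwa [QuotientGroup.mk'_apply, QuotientGroup.mk_mul, (QuotientGroup.eq_one_iff r).2 hr, mul_one, ht] at h
  have hc : Commute (k * r) x := (mem_centralizer_iff.1 hkr x (mem_zpowers x)).symm
  have := hC.eq_one_of_commute (orderOf_pow_orderOf_div (orderOf_pos _).ne' hev) hxo (hc.pow_left _)
  rw [← hx, this, QuotientGroup.mk_one]
  rfl

/-- A normal 2-subgroup of a CIT group is fixed-point-free under elements of odd order. -/
theorem fixed_eq_one (hC : IsCIT G) {R : Subgroup G} (hR : IsPGroup 2 R) {g v : G} (hg : Odd (orderOf g))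
    (hg1 : g ≠ 1) (hv : v ∈ R) (hgv : g * v * g⁻¹ = v) : v = 1 := by
  by_contra hv1
  obtain ⟨n, hn⟩ := hR ⟨v, hv⟩
  obtain ⟨j, -, hj⟩ := (Nat.dvd_prime_pow Nat.prime_two).1
    (orderOf_dvd_of_pow_eq_one (congrArg Subtype.val hn : v ^ 2 ^ n = 1))
  have hev : 2 ∣ orderOf v := by
    rcases j with _ | j
    · exact absurd (orderOf_eq_one_iff.1 (by simpa using hj)) hv1
    · exact hj ▸ dvd_pow_self 2 j.succ_ne_zero
  exact hg1 (hC.eq_one_of_commute (orderOf_pow_orderOf_div (orderOf_pos v).ne' hev) hg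
    ((show Commute v g from (mul_inv_eq_iff_eq_mul.1 hgv).symm).pow_left _))

/-- A representation on an elementary abelian section of the 2-core. -/
theorem exists_rep (hC : IsCIT G) (R : Subgroup G) [R.Normal] (hR : IsPGroup 2 R) (hR1 : R ≠ ⊥) :
    ∃ (A : Type u) (_ : AddCommGroup A) (_ : Nontrivial A) (ρ : G ⧸ R →* AddMonoid.End A),
      (∀ a : A, a + a = 0) ∧
      (∀ x : G ⧸ R, Odd (orderOf x) → x ≠ 1 → ∀ a : A, ρ x a = a → a = 0) ∧
      ∀ f : AddMonoid.End A, (∀ x, Commute f (ρ x)) → f * f = 0 → f = 0 := by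
  haveI : Fact (Nat.Prime 2) := ⟨Nat.prime_two⟩
  set Z := (center R).map R.subtype with hZ
  haveI hZn : Z.Normal := by
    haveI : (center R).Characteristic := inferInstance
    exact ConjAct.normal_of_characteristic_of_normal
  haveI : Nontrivial R := (nontrivial_iff_ne_bot R).2 hR1
  haveI := hR.center_nontrivial
  have hZ1 : Z ≠ ⊥ := by
    rw [hZ, ne_eq, map_eq_bot_iff_of_injective _ R.subtype_injective]
    exact (nontrivial_iff_ne_bot _).1 inferInstance
  obtain ⟨V, hVn, hVZ, hV1, hmin⟩ := Hall.exists_minimal_normal Z hZ1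
  haveI := hVn
  have hVR : V ≤ R := hVZ.trans (map_subtype_le _)
  have hcen : ∀ v ∈ V, ∀ r ∈ R, r * v = v * r := by
    intro v hv r hr
    obtain ⟨z, hz, rfl⟩ := hVZ hv
    exact congrArg Subtype.val (mem_center_iff.1 hz ⟨r, hr⟩)
  haveI : IsMulCommutative V := ⟨⟨fun a b => Subtype.ext (hcen b b.2 a (hVR a.2))⟩⟩
  haveI : Group.IsSolvable V := Coprime.isSolvable_of_isMulCommutative V
  have hsq : ∀ v ∈ V, v * v = 1 := by
    obtain ⟨p, hp, hpd, -, hel⟩ := Hall.minimal_normal_isElementaryAbelian hV1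
      (fun K hK hKV => hmin K hK hKV)
    obtain ⟨n, hn⟩ := IsPGroup.iff_card.1 (hR.to_le hVR)
    have hp2 : p = 2 := (Nat.prime_dvd_prime_iff_eq hp Nat.prime_two).1 (hp.dvd_of_dvd_pow (hn ▸ hpd))
    subst hp2
    intro v hv
    rw [← sq]; exact hel.2 v hv
  haveI : Nontrivial V := (nontrivial_iff_ne_bot V).2 hV1
  let ρ₀ : G →* AddMonoid.End (Additive V) :=
    { toFun := fun g => (MonoidHom.toAdditive (MulAut.conjNormal g : MulAut V).toMonoidHom :
        AddMonoid.End (Additive V))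
      map_one' := AddMonoidHom.ext fun a => by
        apply Additive.toMul.injective
        show (MulAut.conjNormal (1 : G) : MulAut V) a.toMul = _
        rw [map_one]
        rfl
      map_mul' := fun g h => AddMonoidHom.ext fun a => by
        apply Additive.toMul.injective
        show (MulAut.conjNormal (g * h) : MulAut V) a.toMul = _
        rw [map_mul]
        rfl }
  have hρ₀ : ∀ (g : G) (a : Additive V), ((ρ₀ g a).toMul : G) = g * (a.toMul : G) * g⁻¹ :=
    fun g a => MulAut.conjNormal_apply g a.toMul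
  have hker : R ≤ ρ₀.ker := by
    intro r hr
    rw [MonoidHom.mem_ker]
    refine AddMonoidHom.ext fun a => Additive.toMul.injective (Subtype.ext ?_)
    refine (hρ₀ r a).trans ?_
    rw [hcen _ a.toMul.2 r hr, mul_inv_cancel_right]
    rfl
  refine ⟨Additive V, inferInstance, inferInstance, QuotientGroup.lift R ρ₀ hker, ?_, ?_, ?_⟩
  · intro a
    exact Additive.toMul.injective (Subtype.ext (hsq _ a.toMul.2))
  · intro x hxo hx1 a ha
    obtain ⟨g, rfl, hgo⟩ := exists_odd_lift R hxo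
    refine Additive.toMul.injective (Subtype.ext (fixed_eq_one hC hR hgo ?_ (hVR a.toMul.2) ?_))
    · rintro rfl; exact hx1 rfl
    · rw [← hρ₀]
      exact congrArg (fun b : Additive V => (b.toMul : G)) ha
  · intro f hf hff
    set K : Subgroup G :=
      { carrier := {g | ∃ h : g ∈ V, f (Additive.ofMul ⟨g, h⟩) = 0}
        one_mem' := ⟨one_mem _, map_zero f⟩
        mul_mem' := by
          rintro a b ⟨ha, ha'⟩ ⟨hb, hb'⟩
          refine ⟨mul_mem ha hb, ?_⟩
          rw [show Additive.ofMul (⟨a * b, _⟩ : V) = Additive.ofMul ⟨a, ha⟩ + Additive.ofMul ⟨b, hb⟩ from rfl,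
            map_add, ha', hb', add_zero]
        inv_mem' := by
          rintro a ⟨ha, ha'⟩
          refine ⟨inv_mem ha, ?_⟩
          rw [show Additive.ofMul (⟨a⁻¹, _⟩ : V) = -Additive.ofMul ⟨a, ha⟩ from rfl, map_neg, ha',
            neg_zero] } with hK
    have hKV : K ≤ V := fun g hg => hg.1
    have hKn : K.Normal := by
      refine ⟨fun a ⟨ha, ha'⟩ g => ⟨hVn.conj_mem a ha g, ?_⟩⟩
      have h1 : Additive.ofMul (⟨g * a * g⁻¹, hVn.conj_mem a ha g⟩ : V) =
          QuotientGroup.lift R ρ₀ hker (g : G ⧸ R) (Additive.ofMul ⟨a, ha⟩) :=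
        Additive.toMul.injective (Subtype.ext (hρ₀ g (Additive.ofMul ⟨a, ha⟩)).symm)
      rw [h1]
      have h2 := DFunLike.congr_fun (hf (g : G ⧸ R)).eq (Additive.ofMul (⟨a, ha⟩ : V))
      rw [AddMonoid.End.coe_mul, Function.comp_apply, AddMonoid.End.coe_mul, Function.comp_apply, ha',
        map_zero] at h2
      exact h2
    rcases hmin K hKn hKV with e | e
    · exfalso
      obtain ⟨v, hv⟩ := exists_ne (0 : Additive V)
      have h1 : ∀ a : Additive V, f a = 0 → a = 0 := fun a ha =>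
        Additive.toMul.injective (Subtype.ext (mem_bot.1 (e ▸ (⟨a.toMul.2, ha⟩ : (a.toMul : G) ∈ K))))
      exact hv (h1 v (h1 _ (DFunLike.congr_fun hff v)))
    · refine AddMonoidHom.ext fun a => ?_
      have hh : (a.toMul : G) ∈ K := by rw [e]; exact a.toMul.2
      exact hh.2

omit [Finite G] in
theorem quad_of_fpf {A : Type u} [AddCommGroup A]
    (ρ : G →* AddMonoid.End A) {x : G} (hx : x * x * x = 1) (hfpf : ∀ a : A, ρ x a = a → a = 0) :
    ρ x * ρ x + ρ x + 1 = 0 := by
  refine AddMonoidHom.ext fun a => hfpf _ ?_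
  have h3 : ρ x (ρ x (ρ x a)) = a := by
    have h := DFunLike.congr_fun (congrArg ρ hx) a
    rwa [map_mul, map_mul, map_one, mul_assoc] at h
  show ρ x (ρ x (ρ x a) + ρ x a + a) = ρ x (ρ x a) + ρ x a + a
  rw [map_add, map_add, h3]
  abel

omit [Finite G] in
theorem end_add_self {A : Type u} [AddCommGroup A] (h2 : ∀ a : A, a + a = 0) (f : AddMonoid.End A) :
    f + f = 0 := AddMonoidHom.ext fun a => h2 (f a)

theorem oddCore_eq_bot_of_two (hC : IsCIT G) (R : Subgroup G) [R.Normal] (hR : IsPGroup 2 R)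
    (h : ∃ a b : G ⧸ R, orderOf a = 2 ∧ orderOf b = 2 ∧ a ≠ b ∧ Commute a b) :
    Cfsg.oddCore G = ⊥ := by
  haveI := InvChar.Core.pPrimeCore_characteristic (G := G) 2
  haveI hn : (Cfsg.oddCore G).Normal := normal_of_characteristic _
  have hodd := InvChar.Core.odd_card_oddCore (G := G)
  by_cases hR1 : R = ⊥
  · obtain ⟨a, b, ha, hb, hne, hab⟩ := h
    let e : G ⧸ R ≃* G := (QuotientGroup.quotientMulEquivOfEq hR1).trans QuotientGroup.quotientBot
    exact hC.oddCore_eq_bot (a := e a) (b := e b) (by rw [MulEquiv.orderOf_eq, ha])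
      (by rw [MulEquiv.orderOf_eq, hb]) (e.injective.ne hne) (hab.map e.toMonoidHom)
  · obtain ⟨r, hr, hr1⟩ := (bot_or_exists_ne_one R).resolve_left hR1
    obtain ⟨n, hn2⟩ := IsPGroup.iff_card.1 hR
    have hdis : Disjoint (Cfsg.oddCore G) R := Coprime.disjoint_of_coprime (by
      rw [hn2]; exact (Nat.coprime_two_right.2 hodd).pow_right n)
    refine (eq_bot_iff_forall _).2 fun o ho => by_contra fun ho1 => hr1 ?_
    have hc := Subgroup.commute_of_normal_of_disjoint _ R hn inferInstance hdis o r ho hr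
    exact fixed_eq_one hC hR (odd_orderOf_of_mem hodd ho) ho1 hr (by
      rw [hc.eq, mul_inv_cancel_right])

end Cfsg.Agent.CIT.Gen
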