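import Cfsg.Agent.Lib.CIT.GenModelsTwo
import Cfsg.Agent.Lib.Classical.TransvectionGL
import Cfsg.Agent.Lib.Suzuki.SubgroupClasses
import Cfsg.Agent.Lib.Suzuki.LieEquiv
import Cfsg.Agent.Lib.Suzuki.Aut
import Cfsg.Agent.S2739

/-!
# CIT groups: what is needed about `PSL₃(4)` and the Suzuki groups
-/

set_option autoImplicit false
set_option linter.unusedSectionVars false

namespace Cfsg.Agent.CIT.Gen

open Matrix
open scoped MatrixGroups

variable {F : Type*} [Field F] [Fintype F]

local notation "M3" => Matrix (Fin 3) (Fin 3) F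
local notation "SL3" => Matrix.SpecialLinearGroup (Fin 3) F
local notation "P3" => Matrix.ProjectiveSpecialLinearGroup (Fin 3) F

theorem pow_three_eq_one (h4 : Fintype.card F = 4) {a : F} (ha : a ≠ 0) : a ^ 3 = 1 := by
  simpa [h4] using FiniteField.pow_card_sub_one_eq_one a ha

theorem two_eq_zero_four (h4 : Fintype.card F = 4) : (2 : F) = 0 := by
  have h := FiniteField.cast_card_eq_zero F
  rw [h4] at h
  have h' : (2 : F) * 2 = 0 := by push_cast at h; linear_combination h
  exact mul_self_eq_zero.1 h'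

theorem mk_eq_mk_of_scalar {A B : SL3} {c : F} (h : (A : M3) = c • (B : M3)) :
    (QuotientGroup.mk A : P3) = QuotientGroup.mk B := by
  refine (QuotientGroup.eq.2 (Matrix.SpecialLinearGroup.mem_center_iff.2 ?_)).symm
  have hd := congrArg Matrix.det h
  rw [A.2, det_smul, B.2, mul_one, Fintype.card_fin] at hd
  refine ⟨c, by rw [Fintype.card_fin, ← hd], ?_⟩
  rw [Matrix.SpecialLinearGroup.coe_mul, h, Matrix.mul_smul, ← Matrix.SpecialLinearGroup.coe_mul, inv_mul_cancel,
    Matrix.SpecialLinearGroup.coe_one, Matrix.scalar_apply, Matrix.smul_one_eq_diagonal]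

/-- The cyclic and the diagonal element generate a group of order nine. -/
theorem hasNine_three_four (h4 : Fintype.card F = 4) : HasNine P3 := by
  classical
  haveI : Fact (Nat.Prime 3) := ⟨Nat.prime_three⟩
  obtain ⟨w, hw⟩ : ∃ w : F, w ∉ ({0, 1} : Finset F) := by
    by_contra! hall
    have h := Finset.card_le_card (s := Finset.univ) (fun v _ => hall v)
    have : ({0, 1} : Finset F).card ≤ 2 := Finset.card_le_two
    rw [Finset.card_univ] at h
    omega
  simp only [Finset.mem_insert, Finset.mem_singleton, not_or] at hw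
  have hw3 := pow_three_eq_one h4 hw.1
  set D : SL3 := ⟨!![1, 0, 0; 0, w, 0; 0, 0, w ^ 2], by
    rw [det_fin_three]; simp; linear_combination hw3⟩ with hD
  set P : SL3 := ⟨!![0, 1, 0; 0, 0, 1; 1, 0, 0], by rw [det_fin_three]; simp⟩ with hP
  have hD' : (D : M3) = !![1, 0, 0; 0, w, 0; 0, 0, w ^ 2] := rfl
  have hP' : (P : M3) = !![0, 1, 0; 0, 0, 1; 1, 0, 0] := rfl
  have ne1 : ∀ (A : SL3) (i j : Fin 3), (i ≠ j ∧ (A : M3) i j ≠ 0) ∨ (A : M3) i i ≠ (A : M3) j j →
      (QuotientGroup.mk A : P3) ≠ 1 := by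
    intro A i j h e
    obtain ⟨c, -, hc⟩ := Matrix.SpecialLinearGroup.mem_center_iff.1 ((QuotientGroup.eq_one_iff A).1 e)
    rw [← hc] at h
    rcases h with ⟨hij, h⟩ | h
    · exact h (by simp [hij])
    · exact h (by simp)
  have hcomm : Commute (QuotientGroup.mk D : P3) (QuotientGroup.mk P) := by
    refine mk_eq_mk_of_scalar (A := D * P) (B := P * D) (c := w ^ 2) ?_
    rw [Matrix.SpecialLinearGroup.coe_mul, Matrix.SpecialLinearGroup.coe_mul, hD', hP']
    ext i j
    fin_cases i <;> fin_cases j <;> simp [Matrix.mul_apply, Fin.sum_univ_three]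
    · linear_combination -hw3
    · linear_combination (-w) * hw3
  have hD3 : (QuotientGroup.mk D : P3) ^ 3 = 1 := by
    rw [← QuotientGroup.mk_pow, show D ^ 3 = 1 from Subtype.ext ?_]
    · rfl
    rw [Matrix.SpecialLinearGroup.coe_pow, hD', Matrix.SpecialLinearGroup.coe_one]
    ext i j
    fin_cases i <;> fin_cases j <;> simp [pow_succ, Matrix.mul_apply, Fin.sum_univ_three]
    · linear_combination hw3
    · linear_combination (w ^ 3 + 1) * hw3
  have hP3 : (QuotientGroup.mk P : P3) ^ 3 = 1 := by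
    rw [← QuotientGroup.mk_pow, show P ^ 3 = 1 from Subtype.ext ?_]
    · rfl
    rw [Matrix.SpecialLinearGroup.coe_pow, hP', Matrix.SpecialLinearGroup.coe_one]
    ext i j
    fin_cases i <;> fin_cases j <;> simp [pow_succ, Matrix.mul_apply, Fin.sum_univ_three]
  refine ⟨_, _, hcomm, orderOf_eq_prime hD3 (ne1 D 0 1 (Or.inr ?_)),
    orderOf_eq_prime hP3 (ne1 P 0 1 (Or.inl ⟨by decide, ?_⟩)),
    orderOf_eq_prime (by rw [hcomm.mul_pow, hD3, hP3, one_mul]) ?_,
    orderOf_eq_prime (by
      rw [(hcomm.mul_right hcomm).mul_pow, hD3, (Commute.refl _).mul_pow, hP3, one_mul, one_mul]) ?_⟩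
  · rw [hD']; simpa using Ne.symm hw.2
  · rw [hP']; simp
  · rw [← QuotientGroup.mk_mul]
    refine ne1 (D * P) 0 1 (Or.inl ⟨by decide, ?_⟩)
    rw [Matrix.SpecialLinearGroup.coe_mul, hD', hP']; simp [Matrix.mul_apply, Fin.sum_univ_three]
  · rw [← QuotientGroup.mk_mul, ← QuotientGroup.mk_mul]
    refine ne1 (D * (P * P)) 0 2 (Or.inl ⟨by decide, ?_⟩)
    rw [Matrix.SpecialLinearGroup.coe_mul, Matrix.SpecialLinearGroup.coe_mul, hD', hP']
    simp [Matrix.mul_apply, Fin.sum_univ_three]

theorem three_conj_three_four (h4 : Fintype.card F = 4) {x y : P3} (hx : orderOf x = 3)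
    (hy : orderOf y = 3) : IsConj x y := by
  classical
  have hcu : Fintype.card Fˣ = 3 := by rw [Fintype.card_units, h4]
  let u : Fin 3 ≃ Fˣ := (Fintype.equivFinOfCardEq hcu).symm
  let d : Fin 3 → F := fun i => (u i : F)
  have hd : Function.Injective d := Units.val_injective.comp u.injective
  have key : ∀ x : P3, orderOf x = 3 → ∃ D P : SL3, (D : M3) = Matrix.diagonal d ∧
      x = QuotientGroup.mk (P * D * P⁻¹) := by
    intro x hx
    induction x using QuotientGroup.induction_on with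
    | _ M =>
    have h3 : M ^ 3 ∈ Subgroup.center _ := (QuotientGroup.eq_one_iff _).1 (by
      have := pow_orderOf_eq_one (QuotientGroup.mk M : P3)
      rw [hx] at this
      rw [QuotientGroup.mk_pow]; exact this)
    have hns : M ∉ Subgroup.center _ := fun h => by
      rw [(QuotientGroup.eq_one_iff M).2 h, orderOf_one] at hx; omega
    obtain ⟨P, hP⟩ := S2739.exists_conj_diag h4 M hns h3 d hd (fun i => (u i).ne_zero)
    refine ⟨P⁻¹ * M * P, P, ?_, by group⟩
    simp only [Matrix.SpecialLinearGroup.coe_mul]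
    rw [mul_assoc, hP, ← mul_assoc, ← Matrix.SpecialLinearGroup.coe_mul, inv_mul_cancel,
      Matrix.SpecialLinearGroup.coe_one, one_mul]
  obtain ⟨D, P, hD, rfl⟩ := key x hx
  obtain ⟨D', P', hD', rfl⟩ := key y hy
  obtain rfl : D = D' := Subtype.ext (hD.trans hD'.symm)
  exact (QuotientGroup.mk' _).map_isConj (isConj_iff.2 ⟨P' * P⁻¹, by group⟩)

/-- A non-zero `3 × 3` matrix of square zero has rank one. -/
theorem rank_eq_one_of_sq_zero {N : M3} (h0 : N ≠ 0) (h : N * N = 0) : N.rank = 1 := by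
  have hle : LinearMap.range N.mulVecLin ≤ LinearMap.ker N.mulVecLin := by
    rintro _ ⟨v, rfl⟩
    rw [LinearMap.mem_ker, Matrix.mulVecLin_apply, Matrix.mulVecLin_apply, Matrix.mulVec_mulVec, h,
      Matrix.zero_mulVec]
  have h1 := Submodule.finrank_mono hle
  have h2 := LinearMap.finrank_range_add_finrank_ker N.mulVecLin
  rw [Module.finrank_fin_fun] at h2
  have h3 : Module.finrank F (LinearMap.range N.mulVecLin) ≠ 0 := by
    rw [ne_eq, Submodule.finrank_eq_zero, LinearMap.range_eq_bot]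
    intro e
    exact h0 (Matrix.ext_of_mulVec_single fun i => by
      rw [Matrix.zero_mulVec]; exact LinearMap.congr_fun e (Pi.single i 1))
  show Module.finrank F (LinearMap.range N.mulVecLin) = 1
  omega

theorem oneClass_three_four (h4 : Fintype.card F = 4) : OneClass P3 := by
  classical
  have h2 := two_eq_zero_four h4
  set E : SL3 := ⟨!![1, 1, 0; 0, 1, 0; 0, 0, 1], by rw [det_fin_three]; simp⟩ with hE
  have hE' : (E : M3) = !![1, 1, 0; 0, 1, 0; 0, 0, 1] := rfl
  suffices H : ∀ x : P3, orderOf x = 2 → IsConj x (QuotientGroup.mk E) from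
    fun x y hx hy => (H x hx).trans (H y hy).symm
  intro x hx
  induction x using QuotientGroup.induction_on with
  | _ M =>
  obtain ⟨c, hc3, hc⟩ := Matrix.SpecialLinearGroup.mem_center_iff.1
    ((QuotientGroup.eq_one_iff (M * M)).1 (by
      rw [QuotientGroup.mk_mul, ← sq, ← hx]; exact pow_orderOf_eq_one _) : M * M ∈ Subgroup.center SL3)
  rw [Fintype.card_fin] at hc3
  have hMM : (M : M3) * (M : M3) = c • (1 : M3) := by
    rw [← Matrix.SpecialLinearGroup.coe_mul, ← hc, Matrix.scalar_apply, Matrix.smul_one_eq_diagonal]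
  set T : SL3 := ⟨c • (M : M3), by rw [det_smul, M.2, Fintype.card_fin, hc3, one_mul]⟩ with hT
  have hT' : (T : M3) = c • (M : M3) := rfl
  have hmk : (QuotientGroup.mk T : P3) = QuotientGroup.mk M := mk_eq_mk_of_scalar hT'
  have hTT : (T : M3) * (T : M3) = 1 := by
    rw [hT', smul_mul_smul_comm, hMM, smul_smul, show c * c * c = 1 by rw [← hc3]; ring, one_smul]
  have hT1 : (T : M3) ≠ 1 := fun e => by
    rw [show T = 1 from Subtype.ext e, QuotientGroup.mk_one] at hmk
    rw [← hmk, orderOf_one] at hx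
    omega
  have htr : ∀ A : SL3, (A : M3) ≠ 1 → (A : M3) * (A : M3) = 1 →
      Cfsg.IsTransvection (A : M3) := by
    intro A hA1 hA2
    have hsq : ((A : M3) - 1) * ((A : M3) - 1) = 0 := by
      rw [sub_mul, mul_sub, mul_one, one_mul, hA2,
        show (1 : M3) - (A : M3) - ((A : M3) - 1) = (2 : F) • ((1 : M3) - (A : M3)) by
          rw [two_smul]; abel, h2, zero_smul]
    exact ⟨rank_eq_one_of_sq_zero (sub_ne_zero.2 hA1) hsq, hsq⟩
  have hEE : (E : M3) * (E : M3) = 1 := by
    rw [hE']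
    ext i j
    fin_cases i <;> fin_cases j <;> simp [Matrix.mul_apply, Fin.sum_univ_three]
    linear_combination h2
  have hE1 : (E : M3) ≠ 1 := fun e => one_ne_zero (α := F) (by
    have := congrFun (congrFun e 0) 1
    simpa [hE'] using this)
  obtain ⟨g, hg⟩ := Classical.TransvectionGL.isConj_of_transvection
    (s := Matrix.SpecialLinearGroup.toGL T) (t := Matrix.SpecialLinearGroup.toGL E)
    (htr T hT1 hTT) (htr E hE1 hEE)
  have hgT : (g : M3) * (T : M3) = (E : M3) * (g : M3) := by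
    have := congrArg (Units.val) (mul_inv_eq_iff_eq_mul.1 hg)
    simpa using this
  have hgd : (g : M3).det ≠ 0 := g.det.ne_zero
  set δ : M3 := !![1, 0, 0; 0, 1, 0; 0, 0, ((g : M3).det)⁻¹] with hδ
  have hδE : δ * (E : M3) = (E : M3) * δ := by
    rw [hE', hδ]
    ext i j
    fin_cases i <;> fin_cases j <;> simp [Matrix.mul_apply, Fin.sum_univ_three]
  set H : SL3 := ⟨δ * (g : M3), by
    rw [det_mul, hδ, det_fin_three]; simp [inv_mul_cancel₀ hgd]⟩ with hH
  rw [← hmk]
  refine (QuotientGroup.mk' _).map_isConj (isConj_iff.2 ⟨H, ?_⟩)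
  rw [mul_inv_eq_iff_eq_mul]
  refine Subtype.ext ?_
  rw [Matrix.SpecialLinearGroup.coe_mul, Matrix.SpecialLinearGroup.coe_mul]
  show δ * (g : M3) * (T : M3) = (E : M3) * (δ * (g : M3))
  rw [mul_assoc, hgT, ← mul_assoc, hδE, mul_assoc]

theorem oneClass_sz {F : Type*} [Field F] [Fintype F] [CharP F 2] {m : ℕ} (hm : 1 ≤ m)
    (hF : Fintype.card F = 2 ^ (2 * m + 1)) : OneClass (Cfsg.Sz F m) := by
  intro x y hx hy
  obtain ⟨p, hp, hpu⟩ := (Suzuki.trType_of_order hm hF (Or.inl hx)).exists_fixed hm hF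
  obtain ⟨q, hq, -⟩ := (Suzuki.trType_of_order hm hF (Or.inl hy)).exists_fixed hm hF
  have key : ∀ {a b : Cfsg.Sz F m} {r s : Cfsg.suzukiOvoid F m}, orderOf a = 2 → orderOf b = 2 →
      a • r = r → b • s = s → r ≠ s → IsConj a b := by
    intro a b r s ha hb hr hs hne
    obtain ⟨g, -, hg⟩ := Suzuki.involutions_conj hm hF (H := ⊤) (Subgroup.mem_top a) (Subgroup.mem_top b)
      ha hb hr hs hne
    exact isConj_iff.2 ⟨g, hg⟩
  by_cases hne : p ≠ q
  · exact key hx hy hp hq hne
  push Not at hne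
  subst hne
  haveI := Suzuki.pretransitive (m := m) hF
  obtain ⟨r, hr⟩ : ∃ r : Cfsg.suzukiOvoid F m, r ≠ p := by
    by_cases h : Suzuki.point (F := F) m 0 0 = p
    · refine ⟨Suzuki.point (F := F) m 1 0, fun e => ?_⟩
      exact one_ne_zero (α := F) (Suzuki.point_injective (e.trans h.symm)).1
    · exact ⟨_, h⟩
  obtain ⟨g, hg⟩ := MulAction.exists_smul_eq (Cfsg.Sz F m) p r
  have hz : orderOf (g * x * g⁻¹) = 2 := by rw [← MulAut.conj_apply, MulEquiv.orderOf_eq, hx]
  have hzr : (g * x * g⁻¹) • r = r := by rw [← hg, mul_smul, mul_smul, inv_smul_smul, hp]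
  exact (isConj_iff.2 ⟨g, rfl⟩).trans (key hz hy hzr hq hr)

end Cfsg.Agent.CIT.Gen
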