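import Cfsg.Agent.S3992
import Cfsg.Agent.S0204
import Cfsg.Agent.Lib.Coprime.Generation

/-!
# CIT consequences: extensions of simple groups with prime power element orders

A prime dividing the order of a normal simple subgroup exactly once bounds the index; an
abelian noncyclic subgroup of a quotient restricts the kernel.
-/

set_option autoImplicit false

namespace Cfsg.Agent.CIT

open Subgroup

variable {H : Type*} [Group H] [Finite H]

/-- Arithmetic core of `index_dvd`. -/
theorem index_arith {r k e a i : ℕ} (hr : r.Prime) (heq : i * (r * k) = r ^ (a + 1) * e)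
    (he : e ∣ r - 1) (hk : k ∣ e) (hk1 : k ≠ 1) (hepp : e = 1 ∨ IsPrimePow e) :
    i ∣ (r - 1) * r ^ a ∧ (Squarefree (r - 1) → i ∣ r ^ a) := by
  have heq' : i * k = r ^ a * e := by
    refine mul_left_cancel₀ hr.ne_zero ?_
    rw [← mul_left_comm, heq, pow_succ]; ring
  refine ⟨?_, fun hsq => ?_⟩
  · exact dvd_trans ⟨k, heq'.symm⟩ (by rw [mul_comm (r - 1)]; exact mul_dvd_mul_left _ he)
  rcases hepp with rfl | hpp
  · exact absurd (Nat.dvd_one.1 hk) hk1
  obtain ⟨s, b, hs, hb, rfl⟩ := hpp
  have hb1 : b = 1 := by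
    by_contra hb1
    have h2 : s * s ∣ r - 1 := dvd_trans (by rw [← sq]; exact pow_dvd_pow s (by omega)) he
    exact hs.not_unit (hsq s h2)
  subst hb1
  rw [pow_one] at hk heq'
  rcases (Nat.dvd_prime hs.nat_prime).1 hk with rfl | rfl
  · exact absurd rfl hk1
  · exact ⟨1, by rw [mul_one]; exact (Nat.eq_of_mul_eq_mul_right hs.nat_prime.pos heq').symm⟩

/-- If `r` divides the order of a normal simple subgroup `M` exactly once, then the index of `M`
divides `(r - 1) * r ^ j`, and a power of `r` when `r - 1` is squarefree. -/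
theorem index_dvd (h : S3992.CP H) (M : Subgroup H) [M.Normal] [IsSimpleGroup M]
    (hM : ¬ IsMulCommutative M) {r : ℕ} [hr : Fact r.Prime] (h1 : r ∣ Nat.card M)
    (h2 : ¬ r ^ 2 ∣ Nat.card M) :
    ∃ j, M.index ∣ (r - 1) * r ^ j ∧ (Squarefree (r - 1) → M.index ∣ r ^ j) := by
  classical
  obtain ⟨P⟩ : Nonempty (Sylow r M) := inferInstance
  have hcP : Nat.card (P : Subgroup M) = r := by
    obtain ⟨n, hn⟩ := P.2.exists_card_eq
    have hd := Subgroup.card_subgroup_dvd_card (P : Subgroup M)
    rcases Nat.lt_or_ge n 2 with hlt | hge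
    · interval_cases n
      · have := P.dvd_card_of_dvd_card h1
        rw [hn, pow_zero, Nat.dvd_one] at this
        exact absurd this hr.out.ne_one
      · rw [hn, pow_one]
    · exact absurd ((pow_dvd_pow r hge).trans (hn ▸ hd)) h2
  set C : Subgroup H := (P : Subgroup M).map M.subtype with hCdef
  have hcC : Nat.card C = r := by rw [hCdef, Subgroup.card_subtype, hcP]
  have hCM : C ≤ M := Subgroup.map_subtype_le _
  haveI : IsCyclic C := isCyclic_of_prime_card hcC
  -- an element of order `r`
  obtain ⟨z, hz⟩ := exists_prime_orderOf_dvd_card' r (hcC ▸ dvd_rfl : r ∣ Nat.card C)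
  have hzH : orderOf (z : H) = r := by rw [Subgroup.orderOf_coe, hz]
  have hCZ : IsPGroup r ↥(centralizer (C : Set H)) := by
    refine h.isPGroup hzH fun g hg => ?_
    exact (Subgroup.mem_centralizer_iff.1 hg (z : H) z.2).symm
  have hmem : ∀ x : ↥(normalizer (C : Set H)),
      x ∈ C.normalizerMonoidHom.ker ↔ (x : H) ∈ centralizer (C : Set H) := fun x => by
    rw [Subgroup.normalizerMonoidHom_ker, Subgroup.mem_subgroupOf]
  -- the kernel
  obtain ⟨a, ha⟩ : ∃ a, Nat.card C.normalizerMonoidHom.ker = r ^ (a + 1) := by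
    have hker : C.normalizerMonoidHom.ker = (centralizer (C : Set H)).subgroupOf (normalizer (C : Set H)) := Subgroup.normalizerMonoidHom_ker C
    have hle : centralizer (C : Set H) ≤ (normalizer (C : Set H)) := centralizer_le_normalizer _
    have hc : Nat.card C.normalizerMonoidHom.ker = Nat.card ↥(centralizer (C : Set H)) := by
      rw [hker]; exact Nat.card_congr (Subgroup.subgroupOfEquivOfLe hle).toEquiv
    obtain ⟨a, ha⟩ := hCZ.exists_card_eq
    have hd : Nat.card C ∣ Nat.card ↥(centralizer (C : Set H)) :=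
      Subgroup.card_dvd_of_le (Subgroup.le_centralizer C)
    rcases a with - | a
    · rw [ha, hcC, pow_zero, Nat.dvd_one] at hd
      exact absurd hd hr.out.ne_one
    · exact ⟨a, hc.trans ha⟩
  -- the image
  let η : MulAut C ≃* (ZMod r)ˣ :=
    (IsCyclic.mulAutMulEquiv C).trans (Units.mapEquiv (ZMod.ringEquivCongr hcC).toMulEquiv)
  haveI : IsCyclic (ZMod r)ˣ := ZMod.isCyclic_units_prime hr.out
  haveI : IsCyclic (MulAut C) := isCyclic_of_surjective η.symm η.symm.surjective
  set e := Nat.card C.normalizerMonoidHom.range with he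
  have hed : e ∣ r - 1 := by
    refine (Subgroup.card_subgroup_dvd_card C.normalizerMonoidHom.range).trans ?_
    rw [IsCyclic.card_mulAut, hcC, Nat.totient_prime hr.out]
  have hepp : e = 1 ∨ IsPrimePow e := by
    obtain ⟨w, hw⟩ := (inferInstance : IsCyclic C.normalizerMonoidHom.range).exists_generator
    have hwo : orderOf w = e := orderOf_eq_card_of_forall_mem_zpowers hw
    obtain ⟨g, hg⟩ := w.2
    have hd : orderOf w ∣ orderOf (g : H) := by
      rw [← Subgroup.orderOf_coe w, ← hg, Subgroup.orderOf_coe g]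
      exact orderOf_map_dvd C.normalizerMonoidHom g
    by_cases hg1 : (g : H) = 1
    · exact Or.inl (Nat.dvd_one.1 (by rw [← hwo, ← orderOf_one (G := H), ← hg1]; exact hd))
    · by_cases he1 : e = 1
      · exact Or.inl he1
      · exact Or.inr ((h _ hg1).dvd (hwo ▸ hd) he1)
  have hcN : Nat.card (normalizer (C : Set H)) = r ^ (a + 1) * e := by
    rw [← ha, he, ← Subgroup.index_ker, Subgroup.card_mul_index]
  -- the intersection with `M`
  set φ := C.normalizerMonoidHom.comp (Subgroup.inclusion (inf_le_left : (normalizer (C : Set H)) ⊓ M ≤ (normalizer (C : Set H)))) with hφ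
  set k := Nat.card φ.range with hk
  have hkd : k ∣ e := Subgroup.card_dvd_of_le (by
    rw [hφ]
    rw [MonoidHom.range_comp]; exact Subgroup.map_le_range _ _)
  have hMr : Nat.card φ.ker = r := by
    let j : φ.ker →* M :=
      { toFun := fun x => ⟨((x : ↥((normalizer (C : Set H)) ⊓ M)) : H), (x : ↥((normalizer (C : Set H)) ⊓ M)).2.2⟩
        map_one' := rfl
        map_mul' := fun _ _ => rfl }
    have hj : Function.Injective j := fun x y hxy => by
      exact Subtype.ext (Subtype.ext (congrArg (fun w : M => (w : H)) hxy))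
    let c : φ.ker →* centralizer (C : Set H) :=
      { toFun := fun x => ⟨((x : ↥((normalizer (C : Set H)) ⊓ M)) : H), by
          exact (hmem ⟨((x : ↥((normalizer (C : Set H)) ⊓ M)) : H), (x : ↥((normalizer (C : Set H)) ⊓ M)).2.1⟩).1
            (MonoidHom.mem_ker.1 x.2)⟩
        map_one' := rfl
        map_mul' := fun _ _ => rfl }
    have hc : Function.Injective c := fun x y hxy => by
      exact Subtype.ext (Subtype.ext (congrArg (fun w : centralizer (C : Set H) => (w : H)) hxy))
    obtain ⟨n, hn⟩ := (hCZ.of_injective c hc).exists_card_eq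
    have hdM : Nat.card φ.ker ∣ Nat.card M := Subgroup.card_dvd_of_injective j hj
    let i : C →* φ.ker :=
      { toFun := fun x => ⟨⟨(x : H), le_normalizer x.2, hCM x.2⟩, by
          exact MonoidHom.mem_ker.2 ((hmem ⟨(x : H), le_normalizer x.2⟩).2
            (Subgroup.le_centralizer C x.2))⟩
        map_one' := rfl
        map_mul' := fun _ _ => rfl }
    have hi : Function.Injective i := fun x y hxy =>
      Subtype.ext (congrArg (fun w : φ.ker => ((w : ↥((normalizer (C : Set H)) ⊓ M)) : H)) hxy)
    have hdC := Subgroup.card_dvd_of_injective i hi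
    rw [hcC, hn] at hdC
    rw [hn] at hdM ⊢
    rcases Nat.lt_or_ge n 2 with hlt | hge
    · interval_cases n
      · rw [pow_zero, Nat.dvd_one] at hdC
        exact absurd hdC hr.out.ne_one
      · rw [pow_one]
    · exact absurd ((pow_dvd_pow r hge).trans hdM) h2
  have hcNM : Nat.card ↥((normalizer (C : Set H)) ⊓ M) = r * k := by
    rw [← hMr, hk, ← Subgroup.index_ker, Subgroup.card_mul_index]
  -- Burnside
  have hk1 : k ≠ 1 := by
    intro hk1
    have htriv : φ.range = ⊥ := Subgroup.eq_bot_of_card_eq _ hk1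
    have hP : normalizer (P : Set M) ≤ centralizer ((P : Subgroup M) : Set M) := by
      intro x hx
      have hxN : (x : H) ∈ (normalizer (C : Set H)) := by
        rw [hCdef, Subgroup.mem_normalizer_iff]
        intro y
        constructor
        · rintro ⟨p, hp, rfl⟩
          exact ⟨x * p * x⁻¹, (Subgroup.mem_normalizer_iff.1 hx p).1 hp, by simp⟩
        · rintro ⟨p, hp, hpe⟩
          refine ⟨x⁻¹ * p * x, ?_, ?_⟩
          · refine (Subgroup.mem_normalizer_iff.1 hx _).2 ?_
            simpa [mul_assoc] using (SetLike.mem_coe.1 hp)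
          · simp only [Subgroup.coe_subtype, Subgroup.coe_mul, Subgroup.coe_inv] at hpe ⊢
            rw [hpe]; group
      have hx1 : (⟨(x : H), hxN, x.2⟩ : ↥((normalizer (C : Set H)) ⊓ M)) ∈ φ.ker := by
        rw [MonoidHom.mem_ker]
        exact Subgroup.mem_bot.1 (htriv ▸ ⟨_, rfl⟩)
      have hx1 : (x : H) ∈ centralizer (C : Set H) :=
        (hmem ⟨(x : H), hxN⟩).1 (MonoidHom.mem_ker.1 hx1)
      rw [Subgroup.mem_centralizer_iff]
      intro p hp
      exact Subtype.ext (Subgroup.mem_centralizer_iff.1 hx1 (p : H) ⟨p, hp, rfl⟩)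
    have hc := MonoidHom.ker_transferSylow_isComplement' P hP
    have hcard := hc.card_mul
    rcases (MonoidHom.transferSylow P hP).normal_ker.eq_bot_or_eq_top with hb | ht
    · rw [hb, Subgroup.card_bot, one_mul] at hcard
      haveI : IsCyclic M := isCyclic_of_prime_card (hcard.symm.trans hcP)
      exact hM ⟨⟨fun x y => IsCyclic.commGroup.mul_comm x y⟩⟩
    · rw [ht, Subgroup.card_top, hcP] at hcard
      have : 0 < Nat.card M := Nat.card_pos
      nlinarith [hr.out.two_le]
  -- Frattini
  have hfr : (normalizer (C : Set H)) ⊔ M = ⊤ := Sylow.normalizer_sup_eq_top P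
  have hidx : M.index * (r * k) = r ^ (a + 1) * e := by
    rw [← hcNM, ← hcN]
    have hrel : M.index = ((normalizer (C : Set H)) ⊓ M).relIndex (normalizer (C : Set H)) := by
      rw [Subgroup.inf_relIndex_left, ← Subgroup.relIndex_sup_right (H := normalizer (C : Set H)) (K := M), hfr,
        Subgroup.relIndex_top_right]
    rw [hrel, mul_comm, ← Nat.card_congr (Subgroup.subgroupOfEquivOfLe (inf_le_left : (normalizer (C : Set H)) ⊓ M ≤ (normalizer (C : Set H)))).toEquiv]
    exact Subgroup.card_mul_index _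
  exact ⟨a, index_arith hr.out hidx hed hkd hk1 hepp⟩

/-- A noncyclic abelian subgroup of coprime order in the quotient kills the kernel. -/
theorem eq_bot_of_noncyclic (h : S3992.CP H) (R : Subgroup H) [R.Normal]
    (A' : Subgroup (H ⧸ R)) (hA' : IsMulCommutative A') (hnc : ¬ IsCyclic A')
    (hcop : (Nat.card A').Coprime (Nat.card R)) : R = ⊥ := by
  by_contra hR
  set K := A'.comap (QuotientGroup.mk' R) with hK
  let f : K →* A' := (QuotientGroup.mk' R).subgroupComap A'
  have hf : Function.Surjective f := fun y => by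
    obtain ⟨x, hx⟩ := QuotientGroup.mk'_surjective R (y : H ⧸ R)
    exact ⟨⟨x, show QuotientGroup.mk' R x ∈ A' by rw [hx]; exact y.2⟩, Subtype.ext hx⟩
  have hRK : R ≤ K := fun x hx => by
    show QuotientGroup.mk' R x ∈ A'
    have h1 : QuotientGroup.mk' R x = 1 := (QuotientGroup.eq_one_iff x).2 hx
    rw [h1]; exact one_mem _
  have hfk : f.ker = R.subgroupOf K := by
    ext x
    rw [MonoidHom.mem_ker, Subgroup.mem_subgroupOf, ← QuotientGroup.eq_one_iff]
    exact ⟨fun e => congrArg Subtype.val e, fun e => Subtype.ext e⟩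
  have hcR : Nat.card f.ker = Nat.card R := by
    rw [hfk]; exact Nat.card_congr (Subgroup.subgroupOfEquivOfLe hRK).toEquiv
  have hfi : f.ker.index = Nat.card A' := by
    rw [Subgroup.index_ker, MonoidHom.range_eq_top.2 hf, Subgroup.card_top]
  obtain ⟨D, hD⟩ := Subgroup.exists_right_complement'_of_coprime (N := f.ker)
    (by rw [hcR, hfi]; exact hcop.symm)
  have hDi : Function.Injective (f.comp D.subtype) := by
    rw [injective_iff_map_eq_one]
    intro x hx
    have : (x : K) ∈ f.ker ⊓ D := ⟨hx, x.2⟩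
    rw [hD.disjoint.eq_bot, Subgroup.mem_bot] at this
    exact Subtype.ext this
  set A := D.map K.subtype with hA
  have hcard : Nat.card A = Nat.card A' := by
    have hm := hD.card_mul
    rw [← hfi, hA, Subgroup.card_subtype]
    refine Nat.eq_of_mul_eq_mul_left (Nat.card_pos (α := f.ker)) ?_
    rw [hm, Subgroup.card_mul_index]
  haveI : IsMulCommutative A := by
    refine ⟨⟨fun x y => ?_⟩⟩
    obtain ⟨x', hx', hxe⟩ := x.2
    obtain ⟨y', hy', hye⟩ := y.2
    have hc : (⟨x', hx'⟩ : D) * ⟨y', hy'⟩ = ⟨y', hy'⟩ * ⟨x', hx'⟩ := hDi (by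
      rw [map_mul, map_mul]; exact hA'.is_comm.comm _ _)
    apply Subtype.ext
    rw [Subgroup.coe_mul, Subgroup.coe_mul, ← hxe, ← hye]
    exact congrArg (fun w : D => ((w : K) : H)) hc
  have hAnc : ¬ IsCyclic A := fun hc => by
    haveI := hc
    let iD : D ≃* A := D.equivMapOfInjective K.subtype K.subtype_injective
    haveI : IsCyclic D := isCyclic_of_surjective iD.symm iD.symm.surjective
    have hbij : Function.Surjective (f.comp D.subtype) := by
      refine (Nat.bijective_iff_injective_and_card _).2 ⟨hDi, ?_⟩ |>.2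
      rw [← hcard, hA, Subgroup.card_subtype]
    exact hnc (isCyclic_of_surjective _ hbij)
  have hgen := Coprime.fixedGen_eq hAnc (K := R)
    (fun x _ => by rw [Subgroup.normalizer_eq_top R]; exact Subgroup.mem_top x)
    (by rw [hcard]; exact hcop)
  have hex : ∃ a ∈ A, a ≠ 1 ∧ R ⊓ centralizer {a} ≠ ⊥ := by
    by_contra hcon
    push Not at hcon
    refine hR (hgen ▸ ?_)
    simp only [Coprime.fixedGen, iSup_eq_bot]
    exact fun a ha => hcon a ha.1 ha.2
  obtain ⟨a, haA, ha1, hne⟩ := hex
  obtain ⟨x, hx, hx1⟩ := (R ⊓ centralizer {a}).ne_bot_iff_exists_ne_one.1 hne |>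
    fun ⟨x, hx⟩ => (⟨(x : H), x.2, fun e => hx (Subtype.ext e)⟩ : ∃ x : H, x ∈ R ⊓ centralizer {a} ∧ x ≠ 1)
  obtain ⟨s, hs, hsd⟩ := Nat.exists_prime_and_dvd (n := orderOf a) (by rwa [ne_eq, orderOf_eq_one_iff])
  obtain ⟨t, ht, htd⟩ := Nat.exists_prime_and_dvd (n := orderOf x) (by rwa [ne_eq, orderOf_eq_one_iff])
  have hcomm : Commute a x := (Subgroup.mem_centralizer_singleton_iff.1 hx.2).symm
  have hxt : orderOf (x ^ (orderOf x / t)) = t :=
    orderOf_pow_orderOf_div (orderOf_pos x).ne' htd
  have hst : s = t := h.eq_prime (hcomm.pow_right _) hs ht hsd hxt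
  subst hst
  have h1 : s ∣ Nat.card A' := by
    rw [← hcard]; exact hsd.trans (Subgroup.orderOf_dvd_natCard A haA)
  have h2 : s ∣ Nat.card R := htd.trans (Subgroup.orderOf_dvd_natCard R hx.1)
  exact hs.ne_one (Nat.eq_one_of_dvd_coprimes hcop h1 h2)

end Cfsg.Agent.CIT
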