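import Cfsg.Agent.Lib.L34Mult.OddBound

/-!
# CIT consequences: an elementary abelian subgroup of order nine in `L₃(4)`
-/

set_option autoImplicit false

namespace Cfsg.Agent.CIT

open Matrix Cfsg.Agent.AutPSL.Roots Cfsg.Agent.AutPSL.Basic Cfsg.Agent.Perm.L34Cover Cfsg.Agent.L34Mult

universe u

variable {F : Type u} [Field F] [Fintype F]

local notation "SL3" => Matrix.SpecialLinearGroup (Fin 3) F
local notation "PSL3" => Matrix.ProjectiveSpecialLinearGroup (Fin 3) F

/-- `L₃(4)` has a noncyclic abelian subgroup of order nine. -/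
theorem exists_nine (hF : Fintype.card F = 4) :
    ∃ D : Subgroup (Matrix.ProjectiveSpecialLinearGroup (Fin 3) F),
      Nat.card D = 9 ∧ IsMulCommutative D ∧ ¬ IsCyclic D := by
  obtain ⟨W⟩ := exists_frame hF
  have hw3 : W.w * W.w * W.w = 1 := by linear_combination (W.w + 1) * W.sq + W.w * W.two
  let X : SL3 := ⟨!![1, 0, 0; 0, W.w, 0; 0, 0, W.w * W.w], by
    simp [Matrix.det_fin_three]; linear_combination hw3⟩
  let Y : SL3 := ⟨!![0, 1, 0; 0, 0, 1; 1, 0, 0], by simp [Matrix.det_fin_three]⟩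
  have hX : X.1 = !![1, 0, 0; 0, W.w, 0; 0, 0, W.w * W.w] := rfl
  have hY : Y.1 = !![0, 1, 0; 0, 0, 1; 1, 0, 0] := rfl
  have hX3 : X ^ 3 = 1 := by
    refine Subtype.ext ?_
    rw [show X ^ 3 = X * X * X by simp only [pow_succ, pow_zero, one_mul]]
    ext i j
    fin_cases i <;> fin_cases j <;>
      simp [hX, Matrix.SpecialLinearGroup.coe_mul, Matrix.mul_apply, Fin.sum_univ_three] <;>
      first | linear_combination hw3 | linear_combination (W.w * W.w * W.w + 1) * hw3
  have hY3 : Y ^ 3 = 1 := by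
    refine Subtype.ext ?_
    rw [show Y ^ 3 = Y * Y * Y by simp only [pow_succ, pow_zero, one_mul]]
    ext i j
    fin_cases i <;> fin_cases j <;>
      simp [hY, Matrix.SpecialLinearGroup.coe_mul, Matrix.mul_apply, Fin.sum_univ_three]
  have hXY : (QuotientGroup.mk X : PSL3) * QuotientGroup.mk Y = QuotientGroup.mk Y * QuotientGroup.mk X := by
    rw [← QuotientGroup.mk_mul, ← QuotientGroup.mk_mul, mk_eq_mk_iff]
    refine ⟨W.w, ?_⟩
    ext i j
    fin_cases i <;> fin_cases j <;>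
      simp [hX, hY, Matrix.SpecialLinearGroup.coe_mul, Matrix.mul_apply, Fin.sum_univ_three] <;>
      first | linear_combination hw3 | linear_combination -hw3
  have hne : ∀ k < 3, (QuotientGroup.mk X : PSL3) ^ k ≠ QuotientGroup.mk Y := by
    intro k hk e
    rw [← QuotientGroup.mk_pow, mk_eq_mk_iff] at e
    obtain ⟨c, hc⟩ := e
    have h := congrFun (congrFun hc 0) 1
    interval_cases k <;> simp [hX, hY, pow_two, Matrix.SpecialLinearGroup.coe_mul, Matrix.mul_apply,
      Fin.sum_univ_three] at h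
  haveI : Fact (Nat.Prime 3) := ⟨Nat.prime_three⟩
  have ox : orderOf (QuotientGroup.mk X : PSL3) = 3 := by
    refine orderOf_eq_prime (by rw [← QuotientGroup.mk_pow, hX3, QuotientGroup.mk_one]) fun e => ?_
    rw [eq_comm, ← QuotientGroup.mk_one, mk_eq_mk_iff] at e
    obtain ⟨c, hc⟩ := e
    have h0 := congrFun (congrFun hc 0) 0
    have h1 := congrFun (congrFun hc 1) 1
    simp [hX] at h0 h1
    exact W.ne_one (h1.trans h0.symm)
  have oy : orderOf (QuotientGroup.mk Y : PSL3) = 3 := by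
    refine orderOf_eq_prime (by rw [← QuotientGroup.mk_pow, hY3, QuotientGroup.mk_one]) fun e => ?_
    rw [eq_comm, ← QuotientGroup.mk_one, mk_eq_mk_iff] at e
    obtain ⟨c, hc⟩ := e
    have h0 := congrFun (congrFun hc 0) 1
    simp [hY] at h0
  obtain ⟨D, hD, hDmem⟩ := card_two_three ox oy hXY hne
  have h3 : ∀ a ∈ D, a ^ 3 = 1 := by
    intro a ha
    obtain ⟨i, j, rfl⟩ := hDmem a ha
    have key : ∀ z : PSL3, z ^ 3 = 1 → ∀ n : ℤ, (z ^ n) ^ 3 = 1 := fun z hz n => by
      rw [← zpow_natCast, ← _root_.zpow_mul, mul_comm, _root_.zpow_mul, zpow_natCast, hz, _root_.one_zpow]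
    rw [((show Commute (QuotientGroup.mk X : PSL3) (QuotientGroup.mk Y) from hXY).zpow_zpow i j).mul_pow,
      key _ (by rw [← QuotientGroup.mk_pow, hX3, QuotientGroup.mk_one]) i,
      key _ (by rw [← QuotientGroup.mk_pow, hY3, QuotientGroup.mk_one]) j, one_mul]
  refine ⟨D, hD, ⟨⟨fun a b => ?_⟩⟩, fun hc => ?_⟩
  · obtain ⟨i, j, hi⟩ := hDmem a a.2
    obtain ⟨k, l, hk⟩ := hDmem b b.2
    have hXY' : Commute (QuotientGroup.mk X : PSL3) (QuotientGroup.mk Y) := hXY
    apply Subtype.ext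
    rw [Subgroup.coe_mul, Subgroup.coe_mul, hi, hk]
    exact ((((Commute.refl _).zpow_zpow i k).mul_right (hXY'.zpow_zpow i l)).mul_left
      ((hXY'.symm.zpow_zpow j k).mul_right ((Commute.refl _).zpow_zpow j l))).eq
  · obtain ⟨g, hg⟩ := hc.exists_generator
    have h9 : orderOf g = 9 := by rw [orderOf_eq_card_of_forall_mem_zpowers hg, hD]
    have := orderOf_dvd_of_pow_eq_one (x := g) (n := 3) (Subtype.ext (by simpa using h3 _ g.2))
    rw [h9] at this
    norm_num at this

end Cfsg.Agent.CIT
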