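import Cfsg.Agent.Lib.CIT.ConsEPPO
import Cfsg.Agent.Lib.CIT.ConsIndex
import Cfsg.Agent.Lib.PSLOrderSpectrum.Main
import Cfsg.Agent.Lib.CIT.ConsNine
import Cfsg.Agent.S0324
import Cfsg.Agent.S1475

/-!
# CIT consequences: groups with prime power element orders have at most four prime divisors
-/

set_option autoImplicit false

namespace Cfsg.Agent.CIT

open Subgroup

universe u

theorem primeFactors_card_le_three {n a b c k : ℕ} (ha : a.Prime) (hb : b.Prime) (hc : c.Prime)
    (hd : n ∣ (a * b * c) ^ k) : n.primeFactors.card ≤ 3 := by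
  refine le_trans (Finset.card_le_card (t := {a, b, c}) fun p hp => ?_) Finset.card_le_three
  obtain ⟨hp, hpn, -⟩ := Nat.mem_primeFactors.1 hp
  have h := hp.dvd_of_dvd_pow (hpn.trans hd)
  rcases hp.dvd_mul.1 h with h | h
  · rcases hp.dvd_mul.1 h with h | h
    · simp [(Nat.prime_dvd_prime_iff_eq hp ha).1 h]
    · simp [(Nat.prime_dvd_prime_iff_eq hp hb).1 h]
  · simp [(Nat.prime_dvd_prime_iff_eq hp hc).1 h]

theorem primeFactors_card_le_four {n a b c d k : ℕ} (ha : a.Prime) (hb : b.Prime) (hc : c.Prime)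
    (he : d.Prime) (hd : n ∣ (a * b * c * d) ^ k) : n.primeFactors.card ≤ 4 := by
  refine le_trans (Finset.card_le_card (t := {a, b, c, d}) fun p hp => ?_) Finset.card_le_four
  obtain ⟨hp, hpn, -⟩ := Nat.mem_primeFactors.1 hp
  have h := hp.dvd_of_dvd_pow (hpn.trans hd)
  rcases hp.dvd_mul.1 h with h | h
  · rcases hp.dvd_mul.1 h with h | h
    · rcases hp.dvd_mul.1 h with h | h
      · simp [(Nat.prime_dvd_prime_iff_eq hp ha).1 h]
      · simp [(Nat.prime_dvd_prime_iff_eq hp hb).1 h]
    · simp [(Nat.prime_dvd_prime_iff_eq hp hc).1 h]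
  · simp [(Nat.prime_dvd_prime_iff_eq hp he).1 h]

/-- The order has three prime divisors, one of which occurs once. -/
def SmallData (n : ℕ) : Prop :=
  n.primeFactors.card ≤ 3 ∧ ∃ r, r.Prime ∧ r ∣ n ∧ ¬ r ^ 2 ∣ n ∧ (r - 1) ∣ n

/-- Two primes occurring once which pin the index down. -/
def BigData (n : ℕ) : Prop :=
  n.primeFactors.card ≤ 4 ∧ ∃ r s, r.Prime ∧ s.Prime ∧ r ≠ s ∧ r ∣ n ∧ ¬ r ^ 2 ∣ n ∧ s ∣ n ∧
    ¬ s ^ 2 ∣ n ∧ Squarefree (r - 1) ∧ ¬ r ∣ s - 1

theorem card_alt_six : Nat.card (alternatingGroup (Fin 6)) = 360 := by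
  have := two_mul_nat_card_alternatingGroup (α := Fin 6)
  rw [Nat.card_perm, Nat.card_fin] at this
  norm_num [Nat.factorial] at this ⊢
  omega

theorem card_lie_sz {F : Type} [Field F] [Fintype F] {m : ℕ} (hm : 1 ≤ m)
    (hF : Fintype.card F = 2 ^ (2 * m + 1)) :
    Nat.card ↥(Cfsg.Lie.Sz F (2 ^ (m + 1))) =
      (2 ^ (2 * m + 1)) ^ 2 * ((2 ^ (2 * m + 1)) ^ 2 + 1) * (2 ^ (2 * m + 1) - 1) := by
  haveI := Cfsg.Agent.Suzuki.charTwo hF
  obtain ⟨ε⟩ := Cfsg.Agent.Suzuki.lieEquiv hm hF
  rw [← Nat.card_congr ε.toEquiv, S0324.result hm hF]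

/-- The shapes of the list. -/
theorem list_data {M : Type*} [Group M] (hl : EPPOList M) :
    SmallData (Nat.card M) ∨ (BigData (Nat.card M) ∧
      ((∃ (F : Type) (_ : Field F) (_ : Fintype F), Fintype.card F = 4 ∧
          Nonempty (M ≃* Matrix.ProjectiveSpecialLinearGroup (Fin 3) F)) ∨
        (∃ (F : Type) (_ : Field F) (_ : Fintype F),
          (Fintype.card F = 8 ∧ Nonempty (M ≃* ↥(Cfsg.Lie.Sz F 4))) ∨
          (Fintype.card F = 32 ∧ Nonempty (M ≃* ↥(Cfsg.Lie.Sz F 8)))))) := by
  rcases hl with ⟨⟨e⟩⟩ | ⟨F, iF, iT, hF, ⟨e⟩⟩ | h3 | h4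
  · rw [Nat.card_congr e.toEquiv, card_alt_six]
    exact Or.inl ⟨primeFactors_card_le_three (a := 2) (b := 3) (c := 5) (k := 3)
      (by norm_num) (by norm_num) (by norm_num) (by norm_num),
      5, by norm_num, by norm_num, by norm_num, by norm_num⟩
  · rw [Nat.card_congr e.toEquiv]
    have hc := PSLOrderSpectrum.card_psl_two (F := F)
    refine Or.inl ?_
    simp only [Finset.mem_insert, Finset.mem_singleton] at hF
    rcases hF with hF | hF | hF | hF <;> rw [hF] at hc <;> norm_num at hc
    · rw [hc]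
      exact ⟨primeFactors_card_le_three (a := 2) (b := 3) (c := 5) (k := 2)
        (by norm_num) (by norm_num) (by norm_num) (by norm_num),
        5, by norm_num, by norm_num, by norm_num, by norm_num⟩
    · rw [show Nat.card (Matrix.ProjectiveSpecialLinearGroup (Fin 2) F) = 168 by omega]
      exact ⟨primeFactors_card_le_three (a := 2) (b := 3) (c := 7) (k := 3)
        (by norm_num) (by norm_num) (by norm_num) (by norm_num),
        7, by norm_num, by norm_num, by norm_num, by norm_num⟩
    · rw [hc]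
      exact ⟨primeFactors_card_le_three (a := 2) (b := 3) (c := 7) (k := 3)
        (by norm_num) (by norm_num) (by norm_num) (by norm_num),
        7, by norm_num, by norm_num, by norm_num, by norm_num⟩
    · rw [show Nat.card (Matrix.ProjectiveSpecialLinearGroup (Fin 2) F) = 2448 by omega]
      exact ⟨primeFactors_card_le_three (a := 2) (b := 3) (c := 17) (k := 4)
        (by norm_num) (by norm_num) (by norm_num) (by norm_num),
        17, by norm_num, by norm_num, by norm_num, by norm_num⟩
  · refine Or.inr ⟨?_, Or.inl h3⟩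
    obtain ⟨F, iF, iT, hF, ⟨e⟩⟩ := h3
    rw [Nat.card_congr e.toEquiv, L34Mult.card_psl hF]
    exact ⟨primeFactors_card_le_four (a := 2) (b := 3) (c := 5) (d := 7) (k := 6)
      (by norm_num) (by norm_num) (by norm_num) (by norm_num) (by norm_num),
      7, 5, by norm_num, by norm_num, by norm_num, by norm_num, by norm_num, by norm_num,
      by norm_num, by norm_num [Nat.squarefree_iff_nodup_primeFactorsList, Nat.primeFactorsList],
      by norm_num⟩
  · refine Or.inr ⟨?_, Or.inr h4⟩
    obtain ⟨F, iF, iT, ⟨hF, ⟨e⟩⟩ | ⟨hF, ⟨e⟩⟩⟩ := h4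
    · rw [Nat.card_congr e.toEquiv]
      have hc := card_lie_sz (F := F) (m := 1) le_rfl (by rw [hF]; norm_num)
      norm_num at hc
      rw [hc]
      exact ⟨primeFactors_card_le_four (a := 2) (b := 5) (c := 7) (d := 13) (k := 6)
        (by norm_num) (by norm_num) (by norm_num) (by norm_num) (by norm_num),
        7, 13, by norm_num, by norm_num, by norm_num, by norm_num, by norm_num, by norm_num,
        by norm_num, by norm_num [Nat.squarefree_iff_nodup_primeFactorsList, Nat.primeFactorsList],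
        by norm_num⟩
    · rw [Nat.card_congr e.toEquiv]
      have hc := card_lie_sz (F := F) (m := 2) (by norm_num) (by rw [hF]; norm_num)
      norm_num at hc
      rw [hc]
      exact ⟨primeFactors_card_le_four (a := 2) (b := 5) (c := 31) (d := 41) (k := 10)
        (by norm_num) (by norm_num) (by norm_num) (by norm_num) (by norm_num),
        31, 41, by norm_num, by norm_num, by norm_num, by norm_num, by norm_num, by norm_num,
        by norm_num, by norm_num [Nat.squarefree_iff_nodup_primeFactorsList, Nat.primeFactorsList],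
        by norm_num⟩

end Cfsg.Agent.CIT
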