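import Cfsg.Agent.Lib.CIT.CNReduce
import Cfsg.Agent.Lib.Involutions.RankOne.ConsBase

/-!
# Simple CN groups, given the classification of simple CIT groups
-/

set_option autoImplicit false

namespace Cfsg.Agent.CIT.CN

universe u

variable {G : Type u} [Group G] [Finite G]

omit [Finite G] in
theorem no_solvable_normal [IsSimpleGroup G] (hna : ¬ IsMulCommutative G) (N : Subgroup G) (hN : N.Normal)
    (hs : Group.IsSolvable N) : N = ⊥ := by
  refine (hN.eq_bot_or_eq_top).resolve_right fun h => hna ?_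
  subst h
  haveI := hs
  haveI : Group.IsSolvable G :=
    Group.isSolvable_of_surjective (f := (Subgroup.topEquiv : (⊤ : Subgroup G) ≃* G).toMonoidHom)
      (Subgroup.topEquiv : (⊤ : Subgroup G) ≃* G).surjective
  exact ⟨⟨IsSimpleGroup.comm_iff_isSolvable.mpr inferInstance⟩⟩

/-- A simple CN group is a CIT group, so it is in the list. -/
theorem list_of_simple (hT : CITTheorem.{u}) [IsSimpleGroup G]
    (hna : ¬ IsMulCommutative G) (hCN : Cfsg.IsCNGroup G) : CITList G :=
  hT G hna (isCIT hCN (no_solvable_normal hna))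

/-- The list, in the shape of the statements on simple CIT and CN groups. -/
theorem conclusion_of_list [IsSimpleGroup G] (h : CITList G) :
    (∃ (F : Type) (_ : Field F) (_ : Fintype F),
        (Fintype.card F = 9 ∨ (∃ n : ℕ, Fintype.card F = 2 ^ n) ∨
          ((Fintype.card F).Prime ∧ ∃ k : ℕ, Fintype.card F = 2 ^ k + 1 ∨ Fintype.card F + 1 = 2 ^ k)) ∧
        Nonempty (G ≃* Matrix.ProjectiveSpecialLinearGroup (Fin 2) F)) ∨
    (∃ (F : Type) (_ : Field F) (_ : Fintype F), Fintype.card F = 4 ∧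
        Nonempty (G ≃* Matrix.ProjectiveSpecialLinearGroup (Fin 3) F)) ∨
    Cfsg.IsSuzuki G := by
  rcases h with ⟨F, i1, i2, hq, he⟩ | h | h
  · refine Or.inl ⟨F, i1, i2, ?_, he⟩
    rcases hq with h9 | ⟨n, -, hn⟩ | ⟨-, hp, hk⟩
    · exact Or.inl h9
    · exact Or.inr (Or.inl ⟨n, hn⟩)
    · exact Or.inr (Or.inr ⟨hp, hk⟩)
  · exact Or.inr (Or.inl h)
  · exact Or.inr (Or.inr (Involutions.RankOne.Cons.isSuzuki_of_iso h))

end Cfsg.Agent.CIT.CN
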