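import Cfsg.Agent.Lib.CIT.SE
import Cfsg.Agent.Lib.CIT.Interfaces

/-!
# The strongly embedded case: the Sylow normaliser
-/

set_option autoImplicit false

namespace Cfsg.Agent.CIT

universe u

theorem stronglyEmbeddedInput : StronglyEmbeddedInput.{u} := by
  intro G _ _ _ _ hC S hH
  haveI : Fact (Nat.Prime 2) := ⟨Nat.prime_two⟩
  refine frobSE_cit hH Subgroup.le_normalizer (fun h hh x hx => Subgroup.le_normalizer_iff.1 le_rfl h hh x hx)
    S.2 (fun e => ?_) fun t _ ht a ha hc => ?_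
  · have h1 : 2 ∣ Nat.card G :=
      (even_iff_two_dvd.1 hH.2.1).trans (Subgroup.card_subgroup_dvd_card _)
    have h2 := S.not_dvd_index
    rw [e, Subgroup.index_bot] at h2
    exact h2 h1
  · obtain ⟨k, hk⟩ := hC t ht ⟨a, Subgroup.mem_centralizer_singleton_iff.2 hc.eq⟩
    have hk' : a ^ 2 ^ k = 1 := congrArg Subtype.val hk
    have hz : IsPGroup 2 (Subgroup.zpowers a) := by
      obtain ⟨j, -, hj⟩ := (Nat.dvd_prime_pow Nat.prime_two).1 (orderOf_dvd_of_pow_eq_one hk')
      exact IsPGroup.of_card (n := j) (by rw [Nat.card_zpowers, hj])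
    have hle : Subgroup.zpowers a ⊔ (S : Subgroup G) = S :=
      S.3 (hz.to_sup_of_normal_right' S.2 (by rwa [Subgroup.zpowers_le])) le_sup_right
    exact hle ▸ Subgroup.mem_sup_left (Subgroup.mem_zpowers a)

end Cfsg.Agent.CIT
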