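import Cfsg.Agent.Lib.CIT.Main
import Cfsg.Agent.Lib.CIT.SEInput
import Cfsg.Agent.Lib.CIT.CNTheorem

/-!
# CIT groups: assembly

The classification of simple CIT groups by induction on the order, from the offender lemma and
the identifications of the configurations it leaves.
-/

set_option autoImplicit false

namespace Cfsg.Agent.CIT

universe u

theorem citList_of_listBelow (hOff : OffenderLemma.{u}) (hOne : RankOneInput.{u})
    (hNat : NaturalInput.{u}) (hId : IdentInput.{u}) {G : Type u} [Group G] [Finite G]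
    [IsSimpleGroup G] (hG : ¬ IsMulCommutative G) (hC : IsCIT G)
    (hL : ListBelow.{u} (Nat.card G)) : CITList G := by
  rcases dichotomy hG hC hL hOff with ⟨S, hS⟩ | ⟨U, U', D, S₀, hU⟩
  · exact stronglyEmbeddedInput G hG hC S hS
  rcases hOff G hC hL _ D S₀ hU.offender with h | ⟨n, A, h⟩
  · exact hOne G hG hC hL U U' D S₀ hU h
  · obtain ⟨V, R₁, A₁, hV⟩ := hNat G hG hC hL hOff U U' D S₀ A n hU h
    exact hId G hG hC V R₁ A₁ hV

/-- The classification of simple CIT groups, given the four inputs. -/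
theorem citTheorem_of (hOff : OffenderLemma.{u}) (hOne : RankOneInput.{u})
    (hNat : NaturalInput.{u}) (hId : IdentInput.{u}) : CITTheorem.{u} := by
  suffices h : ∀ (n : ℕ) (G : Type u) [Group G] [Finite G] [IsSimpleGroup G],
      Nat.card G = n → ¬ IsMulCommutative G → IsCIT G → CITList G from
    fun G _ _ _ hG hC => h _ G rfl hG hC
  intro n
  induction n using Nat.strong_induction_on with
  | _ n ih =>
    intro G _ _ _ hn hG hC
    refine citList_of_listBelow hOff hOne hNat hId hG hC ?_
    intro H _ _ _ hlt hH hCH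
    exact ih _ (hn ▸ hlt) H rfl hH hCH

/-- The shape of S0348. -/
theorem conclusion_of_citTheorem (hT : CITTheorem.{u}) {G : Type u} [Group G] [Finite G]
    [IsSimpleGroup G] (hG : ∃ a b : G, a * b ≠ b * a)
    (hCIT : ∀ t : G, orderOf t = 2 → IsPGroup 2 (Subgroup.centralizer ({t} : Set G))) :
    (∃ (F : Type) (_ : Field F) (_ : Fintype F),
        (Fintype.card F = 9 ∨ (∃ n : ℕ, Fintype.card F = 2 ^ n) ∨
          ((Fintype.card F).Prime ∧ ∃ k : ℕ, Fintype.card F = 2 ^ k + 1 ∨ Fintype.card F + 1 = 2 ^ k)) ∧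
        Nonempty (G ≃* Matrix.ProjectiveSpecialLinearGroup (Fin 2) F)) ∨
    (∃ (F : Type) (_ : Field F) (_ : Fintype F), Fintype.card F = 4 ∧
        Nonempty (G ≃* Matrix.ProjectiveSpecialLinearGroup (Fin 3) F)) ∨
    Cfsg.IsSuzuki G := by
  refine CN.conclusion_of_list (hT G (fun h => ?_) hCIT)
  obtain ⟨a, b, hab⟩ := hG
  exact hab (h.is_comm.comm a b)

end Cfsg.Agent.CIT
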