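import Cfsg.Agent.Lib.CIT.CNReduce
import Cfsg.Agent.Lib.Cores.Basic
import Cfsg.Agent.Lib.Hall.MinimalNormal

/-!
# Nonsolvable CN groups are CIT groups with trivial odd core
-/

set_option autoImplicit false

namespace Cfsg.Agent.CIT.CN

open Subgroup Involutions

universe u

variable {G : Type u} [Group G] [Finite G]

theorem two_dvd_card_of_not_solvable (hns : ¬ Group.IsSolvable G) : 2 ∣ Nat.card G := by
  by_contra h
  exact hns (S0205.result (Nat.odd_iff.2 (by omega)))

/-- A nonsolvable CN group has trivial odd core. -/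
theorem oddCore_eq_bot (hCN : Cfsg.IsCNGroup G) (hns : ¬ Group.IsSolvable G) : Cfsg.oddCore G = ⊥ := by
  haveI : Fact (Nat.Prime 2) := ⟨Nat.prime_two⟩
  by_contra hne
  obtain ⟨A, hAn, hAO, hA1, hmin⟩ := Hall.exists_minimal_normal (Cfsg.oddCore G) hne
  haveI := hAn
  haveI : Group.IsSolvable A := S0205.result
    ((InvChar.Core.odd_card_oddCore (G := G)).of_dvd_nat (card_dvd_of_le hAO))
  have hcomm := Hall.minimal_normal_isMulCommutative hmin
  have hAodd : ∀ a ∈ A, Odd (orderOf a) := fun a ha => by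
    have h := orderOf_dvd_natCard (⟨a, hAO ha⟩ : Cfsg.oddCore G)
    rw [Subgroup.orderOf_mk] at h
    exact (InvChar.Core.odd_card_oddCore (G := G)).of_dvd_nat h
  set K : Subgroup G := centralizer (A : Set G) with hKdef
  obtain ⟨a₀, ha₀, ha₀1⟩ := (Subgroup.bot_or_exists_ne_one A).resolve_left hA1
  have hKnil : Group.IsNilpotent K := Cores.isNilpotent_to_le
    (fun x hx => mem_centralizer_singleton_iff.2 (mem_centralizer_iff.1 hx a₀ ha₀).symm) (hCN a₀ ha₀1)
  -- 2-elements commuting with a non-identity element of `A` lie in `K`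
  have two_K : ∀ t : G, (∃ k : ℕ, orderOf t = 2 ^ k) → ∀ a ∈ A, a ≠ 1 → Commute t a → t ∈ K := by
    intro t ht a ha ha1 hta
    refine mem_centralizer_iff.2 fun b hb => ?_
    have hba : Commute b a := congrArg Subtype.val (hcomm.is_comm.comm (⟨b, hb⟩ : A) ⟨a, ha⟩)
    exact ((OddLocal.CN.commute_of_commute hCN ha1 hta hba (coprime_of_two ht (hAodd b hb))).eq).symm
  haveI : (K : Subgroup G).Normal := by rw [hKdef]; infer_instance
  haveI : Group.IsSolvable K := by haveI := hKnil; infer_instance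
  by_cases h2K : 2 ∣ Nat.card K
  · -- `K` even: a central involution of a Sylow 2-subgroup centralises `A`
    obtain ⟨⟨z, hzK⟩, hz⟩ := exists_prime_orderOf_dvd_card' (G := K) 2 h2K
    rw [Subgroup.orderOf_mk] at hz
    obtain ⟨S⟩ := (inferInstance : Nonempty (Sylow 2 G))
    have hn : (S : Subgroup G) ⊓ K ≠ ⊥ := by
      intro h
      obtain ⟨T, hT⟩ := (isPGroup_zpowers (x := z) ⟨1, by rw [hz, pow_one]⟩).exists_le_sylow
      obtain ⟨g, hg⟩ := MulAction.exists_smul_eq G T S
      have hmem : g * z * g⁻¹ ∈ (S : Subgroup G) := by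
        rw [← hg, Sylow.coe_subgroup_smul]
        exact Subgroup.smul_mem_pointwise_smul z (MulAut.conj g) _ (hT (mem_zpowers z))
      have : g * z * g⁻¹ ∈ (⊥ : Subgroup G) :=
        h ▸ mem_inf.2 ⟨hmem, (inferInstance : K.Normal).conj_mem z hzK g⟩
      exact Basic.ne_one hz (conj_eq_one_iff.1 (mem_bot.1 this))
    haveI : Group.IsNilpotent (S : Subgroup G) := S.2.isNilpotent
    have hn' : ((S : Subgroup G) ⊓ K).subgroupOf (S : Subgroup G) ≠ ⊥ := fun h => hn (by
      rwa [Subgroup.subgroupOf_eq_bot, disjoint_iff, inf_eq_left.2 inf_le_left] at h)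
    haveI : (((S : Subgroup G) ⊓ K).subgroupOf (S : Subgroup G)).Normal := by
      refine ⟨fun x hx g => mem_inf.2 ⟨((g * x * g⁻¹ : (S : Subgroup G))).2, ?_⟩⟩
      exact (inferInstance : K.Normal).conj_mem _ (mem_subgroupOf.1 hx).2 _
    obtain ⟨⟨⟨w, hwS⟩, hw⟩, hw1⟩ := (((S : Subgroup G) ⊓ K).subgroupOf (S : Subgroup G) ⊓
      center (S : Subgroup G)).ne_bot_iff_exists_ne_one.1 (Cores.inf_center_ne_bot hn')
    have hwne : w ≠ 1 := fun h => hw1 (Subtype.ext (Subtype.ext h))
    have hSK : (S : Subgroup G) ≤ K := by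
      intro s hs
      refine mem_centralizer_iff.2 fun b hb => ?_
      have hsw : Commute s w := congrArg Subtype.val (mem_center_iff.1 hw.2 ⟨s, hs⟩)
      have hbw : Commute b w := mem_centralizer_iff.1 (mem_subgroupOf.1 hw.1).2 b hb
      exact (OddLocal.CN.commute_of_commute hCN hwne hsw hbw
        (coprime_of_two (two_pow_of_mem S.2 hs) (hAodd b hb))).eq.symm
    haveI : Group.IsSolvable (G ⧸ K) := by
      refine S0205.result ?_
      rw [← Subgroup.index_eq_card, Nat.odd_iff]
      have : ¬ 2 ∣ K.index := fun hd => S.not_dvd_index (hd.trans (Subgroup.index_dvd_of_le hSK))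
      omega
    exact hns (Group.isSolvable_of_ker_le_range K.subtype (QuotientGroup.mk' K)
      (by rw [QuotientGroup.ker_mk', range_subtype]))
  · -- `K` odd: every involution inverts `A`, so `G = K C(t)`
    obtain ⟨t, ht⟩ := exists_prime_orderOf_dvd_card' (G := G) 2 (two_dvd_card_of_not_solvable hns)
    have hnK : ∀ t : G, orderOf t = 2 → t ∉ K := by
      intro t ht htK
      have h := orderOf_dvd_natCard (⟨t, htK⟩ : K)
      rw [Subgroup.orderOf_mk, ht] at h
      exact h2K h
    have hinv : ∀ t : G, orderOf t = 2 → ∀ a ∈ A, t * a * t⁻¹ = a⁻¹ := by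
      intro t ht a ha
      by_contra hne'
      have ha' : t * a * t⁻¹ ∈ A := hAn.conj_mem a ha t
      set b := t * a * t⁻¹ * a with hb
      have hbA : b ∈ A := mul_mem ha' ha
      have hb1 : b ≠ 1 := fun h => hne' (eq_inv_of_mul_eq_one_left h)
      refine hnK t ht (two_K t ⟨1, by rw [ht, pow_one]⟩ b hbA hb1 ?_)
      have hcc : t * a * t⁻¹ * a = a * (t * a * t⁻¹) :=
        congrArg Subtype.val (hcomm.is_comm.comm (⟨_, ha'⟩ : A) ⟨a, ha⟩)
      show t * b = b * t
      calc t * b = (t * t) * a * (t * t)⁻¹ * (t * a * t⁻¹) * t := by rw [hb]; group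
        _ = a * (t * a * t⁻¹) * t := by rw [Basic.inv_sq_one ht]; group
        _ = b * t := by rw [hb, hcc]
    have hsup : ∀ g : G, ∃ k ∈ K, k * g ∈ centralizer ({t} : Set G) := by
      intro g
      set t' := g * t * g⁻¹ with ht'
      have ht'2 : orderOf t' = 2 := by rw [ht', Basic.orderOf_conj, ht]
      have hK : t' * t ∈ K := mem_centralizer_iff.2 fun a ha => by
        have h1 := hinv t ht a ha
        have h2 := hinv t' ht'2 a⁻¹ (inv_mem ha)
        rw [inv_inv] at h2
        show a * (t' * t) = t' * t * a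
        calc a * (t' * t) = (t' * a⁻¹ * t'⁻¹) * (t' * t) := by rw [h2]
          _ = t' * (a⁻¹ * t) := by group
          _ = t' * (t * a * t⁻¹ * t) := by rw [h1]
          _ = t' * t * a := by group
      have hodd : Odd (orderOf (t' * t)) := by
        have h := orderOf_dvd_natCard (⟨_, hK⟩ : K)
        rw [Subgroup.orderOf_mk] at h
        exact (Nat.odd_iff.2 (by omega)).of_dvd_nat h
      obtain ⟨d, hd, hdt⟩ := Basic.exists_conj_of_odd ht'2 ht hodd
      refine ⟨d, zpowers_le.2 hK hd, mem_centralizer_singleton_iff.2 ?_⟩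
      calc d * g * t = d * t' * d⁻¹ * (d * g) := by rw [ht']; group
        _ = t * (d * g) := by rw [hdt]
    haveI := hCN t (Basic.ne_one ht)
    let f : centralizer ({t} : Set G) →* G ⧸ K := (QuotientGroup.mk' K).comp (Subgroup.subtype _)
    have hf : Function.Surjective f := by
      intro y
      obtain ⟨g, rfl⟩ := QuotientGroup.mk_surjective y
      obtain ⟨k, hk, hkg⟩ := hsup g
      refine ⟨⟨k * g, hkg⟩, ?_⟩
      show ((k * g : G) : G ⧸ K) = g
      rw [QuotientGroup.mk_mul, (QuotientGroup.eq_one_iff k).2 hk, one_mul]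
    haveI : Group.IsSolvable (G ⧸ K) := Group.isSolvable_of_surjective hf
    exact hns (Group.isSolvable_of_ker_le_range K.subtype (QuotientGroup.mk' K)
      (by rw [QuotientGroup.ker_mk', range_subtype]))

/-- A nonsolvable CN group is a CIT group. -/
theorem isCIT_of_nonsolvable (hCN : Cfsg.IsCNGroup G) (hns : ¬ Group.IsSolvable G) : IsCIT G := by
  haveI : Fact (Nat.Prime 2) := ⟨Nat.prime_two⟩
  have hO := oddCore_eq_bot hCN hns
  by_cases hT : Cfsg.pCore 2 G = ⊥
  · refine isCIT hCN fun N hN hNs => ?_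
    haveI := hN
    by_contra hne
    obtain ⟨A, hAn, hAN, hA1, hmin⟩ := Hall.exists_minimal_normal N hne
    haveI := hAn
    haveI : Group.IsSolvable A :=
      Group.isSolvable_of_isSolvable_injective (f := inclusion hAN) (inclusion_injective _)
    obtain ⟨p, hp, -, hpA, -⟩ := Hall.minimal_normal_isElementaryAbelian hA1 hmin
    haveI := Fact.mk hp
    rcases eq_or_ne p 2 with rfl | hp2
    · exact hA1 (le_bot_iff.1 (hT ▸ Cores.le_pCore hpA))
    · obtain ⟨k, hk⟩ := hpA.exists_card_eq
      exact hA1 (le_bot_iff.1 (hO ▸ Cores.le_oddCore (by rw [hk]; exact (hp.odd_of_ne_two hp2).pow)))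
  · set T := Cfsg.pCore 2 G with hTdef
    haveI hTn : T.Normal := by rw [hTdef]; infer_instance
    have hTp : IsPGroup 2 T := Cores.pCore_isPGroup 2
    obtain ⟨w₀, hw₀, hw₀1⟩ := (Subgroup.bot_or_exists_ne_one T).resolve_left hT
    set C := centralizer (T : Set G) with hCdef
    haveI : C.Normal := by rw [hCdef]; infer_instance
    have hCle : C ≤ centralizer ({w₀} : Set G) := fun x hx =>
      mem_centralizer_singleton_iff.2 (mem_centralizer_iff.1 hx w₀ hw₀).symm
    have hCnil : Group.IsNilpotent C := Cores.isNilpotent_to_le hCle (hCN w₀ hw₀1)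
    have hCT : ∀ q ∈ C, Odd (orderOf q) → q = 1 := by
      intro q hq hodd
      by_contra hq1
      obtain ⟨r, hr, hrd⟩ := Nat.exists_prime_and_dvd (show orderOf q ≠ 1 by simpa using hq1)
      haveI := Fact.mk hr
      have hr2 : r ≠ 2 := by
        rintro rfl
        exact Nat.not_even_iff_odd.2 hodd (even_iff_two_dvd.2 hrd)
      have hrC : r ∣ Nat.card C := hrd.trans (by
        have h := orderOf_dvd_natCard (⟨q, hq⟩ : C)
        rwa [Subgroup.orderOf_mk] at h)
      obtain ⟨R⟩ := (inferInstance : Nonempty (Sylow r C))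
      haveI := hCnil
      haveI : (R : Subgroup C).Characteristic := R.characteristic_of_normal inferInstance
      haveI : ((R : Subgroup C).map C.subtype).Normal := ConjAct.normal_of_characteristic_of_normal
      have hRodd : Odd (Nat.card ((R : Subgroup C).map C.subtype)) := by
        obtain ⟨k, hk⟩ := R.2.exists_card_eq
        rw [Nat.card_congr (equivMapOfInjective (R : Subgroup C) C.subtype C.subtype_injective).toEquiv.symm, hk]
        exact (hr.odd_of_ne_two hr2).pow
      have hbot : (R : Subgroup C).map C.subtype = ⊥ := le_bot_iff.1 (hO ▸ Cores.le_oddCore hRodd)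
      rw [Subgroup.map_eq_bot_iff_of_injective _ C.subtype_injective] at hbot
      exact R.ne_bot_of_dvd_card hrC hbot
    intro t ht
    rw [IsPGroup.iff_orderOf]
    rintro ⟨x, hx⟩
    rw [Subgroup.orderOf_mk]
    obtain ⟨k, o, ho, hxk⟩ := exists_two_pow_odd_pow x
    refine ⟨k, ?_⟩
    suffices o = 1 by rw [hxk, this, mul_one]
    have hord : orderOf (x ^ 2 ^ k) = o := by
      rw [orderOf_pow_of_dvd (by positivity) ⟨o, hxk⟩, hxk, Nat.mul_div_cancel_left _ (by positivity)]
    have hqt : Commute (x ^ 2 ^ k) t := (show Commute x t from mem_centralizer_singleton_iff.1 hx).pow_left _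
    -- an involution of the centre of `T` commuting with `t`
    have hP : IsPGroup 2 ↥(zpowers t ⊔ T) := IsPGroup.to_sup_of_normal_right'
      (isPGroup_zpowers ⟨1, by rw [ht, pow_one]⟩) hTp (by rw [normalizer_eq_top]; exact le_top)
    haveI : Group.IsNilpotent ↥(zpowers t ⊔ T) := hP.isNilpotent
    haveI : Nontrivial T := (Subgroup.nontrivial_iff_ne_bot T).2 hT
    haveI := hTp.center_nontrivial
    set Z : Subgroup G := (center T).map T.subtype with hZ
    haveI : Z.Normal := ConjAct.normal_of_characteristic_of_normal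
    have hZT : Z ≤ T := map_subtype_le _
    have hZne : Z.subgroupOf (zpowers t ⊔ T) ≠ ⊥ := fun h => by
      rw [Subgroup.subgroupOf_eq_bot, disjoint_iff, inf_eq_left.2 (hZT.trans le_sup_right), hZ,
        Subgroup.map_eq_bot_iff_of_injective _ T.subtype_injective] at h
      exact (Subgroup.nontrivial_iff_ne_bot _).1 inferInstance h
    obtain ⟨⟨⟨z, hzP⟩, hz⟩, hz1⟩ := (Z.subgroupOf (zpowers t ⊔ T) ⊓
      center ↥(zpowers t ⊔ T)).ne_bot_iff_exists_ne_one.1 (Cores.inf_center_ne_bot hZne)
    have hzne : z ≠ 1 := fun h => hz1 (Subtype.ext (Subtype.ext h))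
    have hzt : Commute t z :=
      congrArg Subtype.val (mem_center_iff.1 hz.2 ⟨t, mem_sup_left (mem_zpowers t)⟩)
    have hzTc : ∀ w ∈ T, Commute w z := fun w hw =>
      congrArg Subtype.val (mem_center_iff.1 hz.2 ⟨w, mem_sup_right hw⟩)
    have hqz : Commute (x ^ 2 ^ k) z := (OddLocal.CN.commute_of_commute hCN (Basic.ne_one ht) hzt.symm hqt
      (coprime_of_two (two_pow_of_mem hTp (hZT hz.1)) (hord ▸ ho))).symm
    have hqC : x ^ 2 ^ k ∈ C := mem_centralizer_iff.2 fun w hw =>
      (OddLocal.CN.commute_of_commute hCN hzne (hzTc w hw) hqz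
        (coprime_of_two (two_pow_of_mem hTp hw) (hord ▸ ho))).eq
    rw [← hord, hCT _ hqC (hord ▸ ho), orderOf_one]

end Cfsg.Agent.CIT.CN
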