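import Cfsg.Agent.Lib.CIT.Defs
import Cfsg.Agent.OddLocal.CN
import Cfsg.Agent.Lib.Involutions.StronglyEmbedded
import Cfsg.Agent.Lib.FrobeniusSystem.Main
import Cfsg.Agent.Lib.ZStar.Consequences
import Cfsg.Agent.S0205

/-!
# CN groups without normal solvable subgroups are CIT groups

If some involution centraliser is not a 2-group then a maximal 2-subgroup with this property is a Sylow
2-subgroup `S`; `H = N(S)` is strongly embedded and `M = S C(S)` is a Frobenius kernel of it in the sense of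
the rank-one set-up, so `M` is a 2-group, which is absurd.
-/

set_option autoImplicit false

namespace Cfsg.Agent.CIT.CN

open Subgroup Involutions

universe u

variable {G : Type u} [Group G] [Finite G]

theorem exists_two_pow_odd_pow (x : G) :
    ∃ k o : ℕ, Odd o ∧ orderOf x = 2 ^ k * o := by
  obtain ⟨k, o, ho, h⟩ := Nat.exists_eq_two_pow_mul_odd (orderOf_pos x).ne'
  exact ⟨k, o, ho, h⟩

/-- An element lies in a subgroup containing its odd part and its 2-part. -/
theorem mem_of_parts {M : Subgroup G} {x : G}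
    (h : ∀ y ∈ zpowers x, (∃ k : ℕ, orderOf y = 2 ^ k) ∨ Odd (orderOf y) → y ∈ M) : x ∈ M := by
  obtain ⟨k, o, ho, hx⟩ := exists_two_pow_odd_pow x
  have h1 : x ^ o ∈ M := h _ (npow_mem_zpowers x o) (Or.inl ⟨k, by
    rw [orderOf_pow_of_dvd ho.pos.ne' ⟨2 ^ k, by rw [hx, mul_comm]⟩, hx, Nat.mul_div_cancel _ ho.pos]⟩)
  have h2 : x ^ 2 ^ k ∈ M := h _ (npow_mem_zpowers x _) (Or.inr (by
    rw [orderOf_pow_of_dvd (by positivity) ⟨o, hx⟩, hx, Nat.mul_div_cancel_left _ (by positivity)]
    exact ho))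
  have hco : Nat.Coprime (2 ^ k) o := Nat.Coprime.pow_left k (Nat.coprime_two_left.2 ho)
  have hb := Nat.gcd_eq_gcd_ab (2 ^ k) o
  rw [hco.gcd_eq_one, Nat.cast_one] at hb
  rw [← zpow_one x, hb, zpow_add, zpow_mul, zpow_mul, zpow_natCast, zpow_natCast]
  exact mul_mem (zpow_mem h2 _) (zpow_mem h1 _)

theorem coprime_of_two {a b : G} (ha : ∃ k : ℕ, orderOf a = 2 ^ k) (hb : Odd (orderOf b)) :
    (orderOf a).Coprime (orderOf b) := by
  obtain ⟨k, hk⟩ := ha
  rw [hk]
  exact Nat.Coprime.pow_left k (Nat.coprime_two_left.2 hb)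

theorem two_pow_of_mem {P : Subgroup G} (hP : IsPGroup 2 P) {x : G} (hx : x ∈ P) :
    ∃ k : ℕ, orderOf x = 2 ^ k := by
  haveI : Fact (Nat.Prime 2) := ⟨Nat.prime_two⟩
  obtain ⟨k, hk⟩ := IsPGroup.iff_orderOf.1 hP ⟨x, hx⟩
  exact ⟨k, by rwa [Subgroup.orderOf_mk] at hk⟩

theorem isPGroup_zpowers {x : G} (hx : ∃ k : ℕ, orderOf x = 2 ^ k) : IsPGroup 2 (zpowers x) := by
  obtain ⟨k, hk⟩ := hx
  exact IsPGroup.of_card (n := k) (by rw [Nat.card_zpowers, hk])

/-- A 2-element normalising a Sylow 2-subgroup lies in it. -/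
theorem mem_sylow_of_normalize (S : Sylow 2 G) {y : G} (hy : ∃ k : ℕ, orderOf y = 2 ^ k)
    (hn : y ∈ normalizer ((S : Subgroup G) : Set G)) : y ∈ (S : Subgroup G) := by
  have hp : IsPGroup 2 ↥(zpowers y ⊔ (S : Subgroup G)) :=
    IsPGroup.to_sup_of_normal_right' (isPGroup_zpowers hy) S.2 (zpowers_le.2 hn)
  have h := S.3 hp le_sup_right
  rw [← h]
  exact mem_sup_left (mem_zpowers y)

/-- An involution generated by a non-trivial 2-element. -/
theorem exists_involution_pow {x : G} (hx : ∃ k : ℕ, orderOf x = 2 ^ k) (h1 : x ≠ 1) :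
    ∃ i : ℕ, orderOf (x ^ i) = 2 := by
  obtain ⟨k, hk⟩ := hx
  have hk0 : k ≠ 0 := fun h => h1 (orderOf_eq_one_iff.1 (by rw [hk, h, pow_zero]))
  exact ⟨orderOf x / 2, orderOf_pow_orderOf_div (orderOf_pos x).ne' (hk ▸ dvd_pow_self 2 hk0)⟩

/-- The data from a 2-local with a centraliser which is not a 2-group. -/
theorem exists_sylow (hCN : Cfsg.IsCNGroup G) (hcit : ¬ IsCIT G) :
    ∃ (S : Sylow 2 G) (q : G), q ≠ 1 ∧ Odd (orderOf q) ∧ (S : Subgroup G) ≠ ⊥ ∧
      ∀ s ∈ (S : Subgroup G), Commute q s := by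
  haveI : Fact (Nat.Prime 2) := ⟨Nat.prime_two⟩
  let Good : Subgroup G → Prop := fun P => IsPGroup 2 P ∧ P ≠ ⊥ ∧
    ∃ q : G, q ≠ 1 ∧ Odd (orderOf q) ∧ ∀ s ∈ P, Commute q s
  have hne : {P : Subgroup G | Good P}.Nonempty := by
    simp only [IsCIT, not_forall] at hcit
    obtain ⟨t, ht, hnp⟩ := hcit
    refine ⟨zpowers t, isPGroup_zpowers ⟨1, by rw [ht, pow_one]⟩, ?_, ?_⟩
    · rw [Subgroup.zpowers_ne_bot]
      exact Involutions.Basic.ne_one ht
    · simp only [IsPGroup.iff_orderOf, not_forall] at hnp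
      obtain ⟨⟨x, hx⟩, hxo⟩ := hnp
      rw [Subgroup.orderOf_mk] at hxo
      obtain ⟨k, o, ho, hxk⟩ := exists_two_pow_odd_pow x
      have ho1 : o ≠ 1 := fun h => hxo ⟨k, by rw [hxk, h, mul_one]⟩
      have hord : orderOf (x ^ 2 ^ k) = o := by
        rw [orderOf_pow_of_dvd (by positivity) ⟨o, hxk⟩, hxk, Nat.mul_div_cancel_left _ (by positivity)]
      refine ⟨x ^ 2 ^ k, fun h => ho1 (by rw [← hord, h, orderOf_one]), hord ▸ ho, fun s hs => ?_⟩
      obtain ⟨i, rfl⟩ := mem_zpowers_iff.1 hs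
      exact ((show Commute x t from mem_centralizer_singleton_iff.1 hx).pow_left _).zpow_right i
  obtain ⟨P, hPmax⟩ := (Set.toFinite {P : Subgroup G | Good P}).exists_maximal hne
  obtain ⟨⟨hP, hPne, q, hq1, hqodd, hq⟩, hmax⟩ := hPmax
  obtain ⟨S, hPS⟩ := hP.exists_le_sylow
  by_cases hSP : (S : Subgroup G) ≤ P
  · have : (S : Subgroup G) = P := le_antisymm hSP hPS
    exact ⟨S, q, hq1, hqodd, this ▸ hPne, this ▸ hq⟩
  exfalso
  haveI : Fintype G := Fintype.ofFinite G
  have hS : IsPGroup 2 (S : Subgroup G) := S.2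
  haveI : Group.IsNilpotent (S : Subgroup G) := hS.isNilpotent
  have hlt : P.subgroupOf (S : Subgroup G) < ⊤ := lt_top_iff_ne_top.2 fun h =>
    hSP (subgroupOf_eq_top.1 h)
  have hgrow := (Group.normalizerCondition_of_isNilpotent : NormalizerCondition (S : Subgroup G)) _ hlt
  set P1 : Subgroup G := (normalizer ((P.subgroupOf (S : Subgroup G) : Subgroup (S : Subgroup G)) :
    Set (S : Subgroup G))).map (S : Subgroup G).subtype with hP1
  have hP1S : P1 ≤ S := map_subtype_le _
  have hPP1 : P < P1 := by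
    have h := Subgroup.map_lt_map_iff_of_injective (S : Subgroup G).subtype_injective |>.2 hgrow
    rwa [subgroupOf_map_subtype, inf_eq_left.2 hPS, ← hP1] at h
  have hP1p : IsPGroup 2 P1 := hS.to_le hP1S
  haveI : Nontrivial P := (Subgroup.nontrivial_iff_ne_bot P).2 hPne
  have hn : P.subgroupOf P1 ≠ ⊥ := fun h => hPne (by
    rwa [Subgroup.subgroupOf_eq_bot, disjoint_iff, inf_eq_left.2 hPP1.le] at h)
  haveI : (P.subgroupOf P1).Normal := normal_subgroupOf_of_le_normalizer (fun y hy => by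
    obtain ⟨⟨y', hy'S⟩, hy', rfl⟩ := hy
    rw [SetLike.mem_coe, mem_normalizer_iff] at hy'
    rw [mem_normalizer_iff]
    intro z
    constructor
    · intro hz
      exact mem_subgroupOf.1 ((hy' ⟨z, hPS hz⟩).1 (mem_subgroupOf.2 hz))
    · intro hz
      have hzS : z ∈ (S : Subgroup G) := by
        have := mul_mem (mul_mem (inv_mem hy'S) (hPS hz)) hy'S
        simpa [mul_assoc] using this
      exact mem_subgroupOf.1 ((hy' ⟨z, hzS⟩).2 (mem_subgroupOf.2 hz)))
  haveI : Group.IsNilpotent P1 := hP1p.isNilpotent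
  obtain ⟨⟨⟨z, hzP1⟩, hz⟩, hz1'⟩ := (P.subgroupOf P1 ⊓ center P1).ne_bot_iff_exists_ne_one.1
    (Cores.inf_center_ne_bot (N := P.subgroupOf P1) hn)
  have hz1 : (⟨z, hzP1⟩ : P1) ≠ 1 := fun h => hz1' (Subtype.ext h)
  have hzP : z ∈ P := mem_subgroupOf.1 hz.1
  have hzne : z ≠ 1 := fun h => hz1 (Subtype.ext h)
  have hgood : Good P1 := by
    refine ⟨hP1p, fun h => hPne (le_bot_iff.1 (h ▸ hPP1.le)), q, hq1, hqodd, fun s hs => ?_⟩
    exact OddLocal.CN.commute_of_commute hCN hzne (hq z hzP)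
      (show Commute s z from congrArg Subtype.val (mem_center_iff.1 hz.2 ⟨s, hs⟩))
      (coprime_of_two (two_pow_of_mem hP1p hs) hqodd).symm
  exact absurd (hmax hgood hPP1.le) (not_le_of_gt hPP1)

/-- Without normal solvable subgroups, a strongly embedded subgroup gives two commuting involutions. -/
theorem exists_two_commuting (hrad : ∀ N : Subgroup G, N.Normal → Group.IsSolvable N → N = ⊥)
    {H : Subgroup G} (hH : Cfsg.IsStronglyEmbedded H) :
    ∃ x y : G, x ≠ 1 ∧ y ≠ 1 ∧ x ≠ y ∧ x * x = 1 ∧ y * y = 1 ∧ x * y = y * x := by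
  by_contra hno
  obtain ⟨z, hzH, hz⟩ := StronglyEmbedded.exists_involution_mem hH.2.1
  have hiso : Cfsg.IsIsolatedInvolution z := by
    refine ⟨hz, fun g hc => ?_⟩
    by_contra hne
    have hw : orderOf (g * z * g⁻¹) = 2 := by rw [Basic.orderOf_conj, hz]
    exact hno ⟨z, g * z * g⁻¹, Basic.ne_one hz, Basic.ne_one hw, Ne.symm hne, Basic.inv_sq_one hz,
      Basic.inv_sq_one hw, hc.eq⟩
  have hcore : Cfsg.oddCore G = ⊥ :=
    hrad _ inferInstance (S0205.result Agent.InvChar.Core.odd_card_oddCore)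
  have hzc : z ∈ center G := mem_center_iff.2 fun g => by
    have h := Agent.ZStar.Main.commutator_mem_oddCore hiso g
    rw [hcore, mem_bot, mul_inv_eq_one, mul_inv_eq_iff_eq_mul] at h
    exact h.symm
  refine hH.1 (eq_top_iff.2 fun g _ => ?_)
  exact StronglyEmbedded.mem_of_commute hH hzH hz (mem_center_iff.1 hzc g)

/-- A CN group without normal solvable subgroups is a CIT group. -/
theorem isCIT (hCN : Cfsg.IsCNGroup G)
    (hrad : ∀ N : Subgroup G, N.Normal → Group.IsSolvable N → N = ⊥) : IsCIT G := by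
  by_contra hcit
  haveI : Fact (Nat.Prime 2) := ⟨Nat.prime_two⟩
  obtain ⟨S, q, hq1, hqodd, hSne, hq⟩ := exists_sylow hCN hcit
  set Cs : Subgroup G := centralizer ((S : Subgroup G) : Set G) with hCs
  set H : Subgroup G := normalizer ((S : Subgroup G) : Set G) with hHdef
  set M : Subgroup G := (S : Subgroup G) ⊔ Cs with hMdef
  have hqCs : q ∈ Cs := mem_centralizer_iff.2 fun s hs => (hq s hs).eq.symm
  haveI : Nontrivial (S : Subgroup G) := (Subgroup.nontrivial_iff_ne_bot _).2 hSne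
  haveI := S.2.center_nontrivial
  obtain ⟨⟨⟨z, hzS⟩, hzc⟩, hz1⟩ := exists_ne (1 : center (S : Subgroup G))
  have hzne : z ≠ 1 := fun h => hz1 (Subtype.ext (Subtype.ext h))
  have hzcomm : ∀ s ∈ (S : Subgroup G), Commute s z := fun s hs =>
    congrArg Subtype.val (mem_center_iff.1 hzc ⟨s, hs⟩)
  have hMz : M ≤ centralizer ({z} : Set G) := sup_le
    (fun s hs => mem_centralizer_singleton_iff.2 (hzcomm s hs).eq)
    (fun x hx => mem_centralizer_singleton_iff.2 (mem_centralizer_iff.1 hx z hzS).symm)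
  have hMnil : Group.IsNilpotent M := Cores.isNilpotent_to_le hMz (hCN z hzne)
  have hCsN : Cs ≤ H := centralizer_le_normalizer _
  have hMH : M ≤ H := sup_le le_normalizer hCsN
  have hSM : (S : Subgroup G) ≤ M := le_sup_left
  have two_mem : ∀ y ∈ H, (∃ k : ℕ, orderOf y = 2 ^ k) → y ∈ (S : Subgroup G) :=
    fun y hy hk => mem_sylow_of_normalize S hk hy
  -- (F1)
  have odd_cs : ∀ t ∈ (S : Subgroup G), t ≠ 1 → ∀ a : G, Odd (orderOf a) → Commute a t → a ∈ Cs := by
    intro t ht ht1 a ha hat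
    have haz : Commute a z := (OddLocal.CN.commute_of_commute hCN ht1
      (hzcomm t ht).symm hat (coprime_of_two (two_pow_of_mem S.2 hzS) ha)).symm
    exact mem_centralizer_iff.2 fun s hs => (OddLocal.CN.commute_of_commute hCN hzne (hzcomm s hs) haz
      (coprime_of_two (two_pow_of_mem S.2 hs) ha)).eq
  have odd_M : ∀ a ∈ M, Odd (orderOf a) → a ∈ Cs := fun a ha hodd =>
    odd_cs z hzS hzne a hodd (mem_centralizer_singleton_iff.1 (hMz ha))
  -- (F2)
  have cent_odd : ∀ a ∈ Cs, a ≠ 1 → centralizer ({a} : Set G) ≤ M := by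
    intro a ha ha1 x hx
    have hSa : (S : Subgroup G) ≤ centralizer ({a} : Set G) := fun s hs =>
      mem_centralizer_singleton_iff.2 (mem_centralizer_iff.1 ha s hs)
    haveI : Group.IsNilpotent (centralizer ({a} : Set G)) := hCN a ha1
    refine mem_of_parts fun y hy hcase => ?_
    have hya : y ∈ centralizer ({a} : Set G) := zpowers_le.2 hx hy
    rcases hcase with hk | hodd
    · refine hSM (two_mem y (mem_normalizer_iff.2 ?_) hk)
      have hn : ((S.subtype hSa : Sylow 2 (centralizer ({a} : Set G))) :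
          Subgroup (centralizer ({a} : Set G))).Normal :=
        inferInstance
      intro s
      constructor
      · intro hs
        have := hn.conj_mem ⟨s, hSa hs⟩ (show _ from hs) ⟨y, hya⟩
        exact this
      · intro hs
        have hsC : s ∈ centralizer ({a} : Set G) := by
          have := mul_mem (mul_mem (inv_mem hya) (hSa hs)) hya
          simpa [mul_assoc] using this
        have h2 : y⁻¹ * (y * s * y⁻¹) * y⁻¹⁻¹ ∈ (S : Subgroup G) :=
          hn.conj_mem ⟨y * s * y⁻¹, hSa hs⟩ (show _ from hs) ⟨y⁻¹, inv_mem hya⟩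
        simpa [mul_assoc] using h2
    · refine (le_sup_right : Cs ≤ M) (mem_centralizer_iff.2 fun s hs => ?_)
      exact (OddLocal.CN.commute_of_mem (hCN a ha1) (hSa hs) hya
        (coprime_of_two (two_pow_of_mem S.2 hs) hodd)).eq
  -- (F3)
  have cent_inv : ∀ t ∈ (S : Subgroup G), t ≠ 1 → centralizer ({t} : Set G) ≤ M := by
    intro t ht ht1 x hx
    refine mem_of_parts fun y hy hcase => ?_
    have hyt : Commute y t := mem_centralizer_singleton_iff.1 (zpowers_le.2 hx hy)
    rcases hcase with hk | hodd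
    · exact cent_odd q hqCs hq1 (mem_centralizer_singleton_iff.2
        (OddLocal.CN.commute_of_commute hCN ht1 hyt (hq t ht) (coprime_of_two hk hqodd)).eq)
    · exact (le_sup_right : Cs ≤ M) (odd_cs t ht ht1 y hodd hyt)
  have conj_le : ∀ g : G, ∀ a ∈ Cs, a ≠ 1 → g⁻¹ * a * g ∈ Cs → g ∈ H := by
    intro g a ha ha1 hga
    refine mem_normalizer_iff.2 fun s => ?_
    have hsub : ∀ s ∈ (S : Subgroup G), g * s * g⁻¹ ∈ (S : Subgroup G) := by
      intro s hs
      refine two_mem _ (hMH (cent_odd a ha ha1 (mem_centralizer_singleton_iff.2 ?_))) ?_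
      · have h := mem_centralizer_iff.1 hga s hs
        calc g * s * g⁻¹ * a = g * (s * (g⁻¹ * a * g)) * g⁻¹ := by group
          _ = g * (g⁻¹ * a * g * s) * g⁻¹ := by rw [h]
          _ = a * (g * s * g⁻¹) := by group
      · rw [Basic.orderOf_conj]
        exact two_pow_of_mem S.2 hs
    have heq : (S : Subgroup G).map (MulAut.conj g).toMonoidHom = S := by
      refine eq_of_le_of_card_ge ?_ (Nat.card_congr ((S : Subgroup G).equivMapOfInjective _
        (MulAut.conj g).injective).toEquiv).le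
      rintro _ ⟨s, hs, rfl⟩
      exact hsub s hs
    constructor
    · exact hsub s
    · intro hs
      rw [← heq] at hs
      obtain ⟨s', hs', he⟩ := hs
      change g * s' * g⁻¹ = g * s * g⁻¹ at he
      rwa [← mul_left_cancel (mul_right_cancel he)]
  have conj_inv : ∀ g : G, ∀ t ∈ (S : Subgroup G), t ≠ 1 → g⁻¹ * t * g ∈ (S : Subgroup G) →
      g ∈ H := by
    intro g t ht ht1 hgt
    have hc : Commute (g * q * g⁻¹) t := by
      have h := hq _ hgt
      calc g * q * g⁻¹ * t = g * (q * (g⁻¹ * t * g)) * g⁻¹ := by group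
        _ = g * (g⁻¹ * t * g * q) * g⁻¹ := by rw [h.eq]
        _ = t * (g * q * g⁻¹) := by group
    refine conj_le g _ (odd_cs t ht ht1 _ (by rw [Basic.orderOf_conj]; exact hqodd) hc) ?_ ?_
    · exact fun h => hq1 (by simpa using h)
    · simpa [mul_assoc] using hqCs
  have hHne : H ≠ ⊤ := by
    intro h
    haveI : (S : Subgroup G).Normal := normalizer_eq_top_iff.1 h
    haveI : Group.IsNilpotent (S : Subgroup G) := S.2.isNilpotent
    exact hSne (hrad _ inferInstance inferInstance)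
  have hH : Cfsg.IsStronglyEmbedded H := by
    refine ⟨hHne, ?_, fun g hg => ?_⟩
    · have : 2 ∣ Nat.card (S : Subgroup G) := by
        obtain ⟨k, hk⟩ := IsPGroup.iff_card.1 S.2
        rw [hk]
        refine dvd_pow_self 2 fun h0 => hSne ?_
        exact Subgroup.card_eq_one.1 (by rw [hk, h0, pow_zero])
      exact even_iff_two_dvd.2 (this.trans (card_dvd_of_le le_normalizer))
    · by_contra ho
      rw [Nat.not_odd_iff_even] at ho
      obtain ⟨t, ⟨htH, r, hrH, hrt⟩, ht⟩ := StronglyEmbedded.exists_involution_mem ho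
      change g * r * g⁻¹ = t at hrt
      have hr : orderOf r = 2 := by rw [← ht, ← hrt, Basic.orderOf_conj]
      refine hg (conj_inv g t (two_mem t htH ⟨1, by rw [ht, pow_one]⟩) (Basic.ne_one ht) ?_)
      rw [← hrt, show g⁻¹ * (g * r * g⁻¹) * g = r by group]
      exact two_mem r hrH ⟨1, by rw [hr, pow_one]⟩
  have hHM : H ≤ normalizer (M : Set G) := by
    intro h hh
    have key : ∀ g ∈ H, M.map (MulAut.conj g).toMonoidHom ≤ M := by
      intro g hg
      rw [hMdef, Subgroup.map_sup]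
      refine sup_le_sup ?_ ?_
      · rintro _ ⟨s, hs, rfl⟩
        exact (mem_normalizer_iff.1 hg s).1 hs
      · rintro _ ⟨x, hx, rfl⟩
        refine mem_centralizer_iff.2 fun s hs => ?_
        have h' := mem_centralizer_iff.1 hx (g⁻¹ * s * g) (by
          refine (mem_normalizer_iff.1 hg _).2 ?_
          rw [show g * (g⁻¹ * s * g) * g⁻¹ = s by group]
          exact hs)
        show s * (g * x * g⁻¹) = g * x * g⁻¹ * s
        calc s * (g * x * g⁻¹) = g * (g⁻¹ * s * g * x) * g⁻¹ := by group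
          _ = g * (x * (g⁻¹ * s * g)) * g⁻¹ := by rw [h']
          _ = g * x * g⁻¹ * s := by group
    refine mem_normalizer_iff.2 fun x => ⟨fun hx => key h hh ⟨x, hx, rfl⟩, fun hx => ?_⟩
    have := key h⁻¹ (inv_mem hh) ⟨_, hx, rfl⟩
    simpa [mul_assoc] using this
  have hcent : ∀ x ∈ M, x ≠ 1 → centralizer ({x} : Set G) ≤ M := by
    intro x hx hx1 y hy
    obtain ⟨k, o, ho, hxk⟩ := exists_two_pow_odd_pow x
    have hyc : ∀ n : ℕ, y ∈ centralizer ({x ^ n} : Set G) := fun n =>
      mem_centralizer_singleton_iff.2 ((show Commute y x from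
        mem_centralizer_singleton_iff.1 hy).pow_right n).eq
    by_cases ho1 : o = 1
    · rw [ho1, mul_one] at hxk
      obtain ⟨i, hi⟩ := exists_involution_pow ⟨k, hxk⟩ hx1
      exact cent_inv _ (pow_mem (two_mem x (hMH hx) ⟨k, hxk⟩) i) (Basic.ne_one hi) (hyc i)
    · have hord : orderOf (x ^ 2 ^ k) = o := by
        rw [orderOf_pow_of_dvd (by positivity) ⟨o, hxk⟩, hxk, Nat.mul_div_cancel_left _ (by positivity)]
      exact cent_odd _ (odd_M _ (pow_mem hx _) (hord ▸ ho))
        (fun h => ho1 (by rw [← hord, h, orderOf_one])) (hyc _)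
  have hTI : ∀ g ∉ H, ∀ x ∈ M, g⁻¹ * x * g ∈ M → x = 1 := by
    intro g hg x hx hgx
    by_contra hx1
    obtain ⟨k, o, ho, hxk⟩ := exists_two_pow_odd_pow x
    have hpow : ∀ n : ℕ, g⁻¹ * x ^ n * g ∈ M := fun n => by
      have h := conj_pow (a := g⁻¹) (b := x) (i := n)
      rw [inv_inv] at h
      rw [← h]
      exact pow_mem hgx n
    have hco : ∀ y : G, orderOf (g⁻¹ * y * g) = orderOf y := fun y => by
      have := Basic.orderOf_conj g⁻¹ y
      rwa [inv_inv] at this
    by_cases ho1 : o = 1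
    · rw [ho1, mul_one] at hxk
      obtain ⟨i, hi⟩ := exists_involution_pow ⟨k, hxk⟩ hx1
      exact hg (conj_inv g _ (two_mem _ (hMH (pow_mem hx i)) ⟨1, by rw [hi, pow_one]⟩) (Basic.ne_one hi)
        (two_mem _ (hMH (hpow i)) ⟨1, by rw [hco, hi, pow_one]⟩))
    · have hord : orderOf (x ^ 2 ^ k) = o := by
        rw [orderOf_pow_of_dvd (by positivity) ⟨o, hxk⟩, hxk, Nat.mul_div_cancel_left _ (by positivity)]
      exact hg (conj_le g _ (odd_M _ (pow_mem hx _) (hord ▸ ho))
        (fun h => ho1 (by rw [← hord, h, orderOf_one]))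
        (odd_M _ (hpow _) (by rw [hco, hord]; exact ho)))
  -- faithfulness
  have hcore : H.normalCore = ⊥ := by
    have hsol : Group.IsSolvable H.normalCore := by
      haveI : ((S : Subgroup G).subgroupOf H).Normal := normal_in_normalizer
      haveI : Group.IsNilpotent (S : Subgroup G) := S.2.isNilpotent
      haveI : Group.IsSolvable ((S : Subgroup G).subgroupOf H) :=
        Group.isSolvable_of_surjective (f := (subgroupOfEquivOfLe (le_normalizer (H := (S : Subgroup G)))).symm.toMonoidHom)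
          (MulEquiv.surjective _)
      haveI : Group.IsSolvable (H ⧸ (S : Subgroup G).subgroupOf H) := by
        refine S0205.result ?_
        rw [← Subgroup.index_eq_card, Nat.odd_iff]
        have h2 : ¬ 2 ∣ ((S : Subgroup G).subgroupOf H).index := by
          intro hd
          exact S.not_dvd_index (hd.trans (Subgroup.relIndex_dvd_index_of_le le_normalizer))
        omega
      haveI : Group.IsSolvable H := Group.isSolvable_of_ker_le_range ((S : Subgroup G).subgroupOf H).subtype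
        (QuotientGroup.mk' ((S : Subgroup G).subgroupOf H)) (by rw [QuotientGroup.ker_mk', range_subtype])
      exact Group.isSolvable_of_isSolvable_injective (f := inclusion H.normalCore_le) (inclusion_injective _)
    exact hrad _ inferInstance hsol
  obtain ⟨x, y, hx1, hy1, hne', hx, hy, hxy⟩ := exists_two_commuting hrad hH
  obtain ⟨t, htH, ht⟩ := StronglyEmbedded.exists_involution_mem hH.2.1
  obtain ⟨g, hg⟩ := isConj_iff.1 (StronglyEmbedded.isConj_involutions hH
    (Basic.orderOf_two_iff.2 ⟨hx, hx1⟩) ht)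
  have heven : 2 ∣ Nat.card M := by
    have h := orderOf_dvd_natCard (⟨t, hSM (two_mem t htH ⟨1, by rw [ht, pow_one]⟩)⟩ : M)
    rwa [Subgroup.orderOf_mk, ht] at h
  have htwo : ∃ x y : G, x ≠ 1 ∧ y ≠ 1 ∧ x ≠ y ∧ x * x = 1 ∧ y * y = 1 ∧ x * y = y * x ∧ x ∈ H ∧ y ∈ H := by
    refine ⟨g * x * g⁻¹, g * y * g⁻¹, fun e => hx1 (conj_eq_one_iff.1 e),
      fun e => hy1 (conj_eq_one_iff.1 e), fun e => hne' (mul_left_cancel (mul_right_cancel e)),
      by rw [conj_mul, hx]; group, by rw [conj_mul, hy]; group, by rw [conj_mul, conj_mul, hxy],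
      hg ▸ htH, ?_⟩
    refine StronglyEmbedded.mem_of_commute hH htH ht ?_
    rw [← hg]
    show g * y * g⁻¹ * (g * x * g⁻¹) = g * x * g⁻¹ * (g * y * g⁻¹)
    rw [conj_mul, conj_mul, hxy]
  have hcfg : FrobeniusSystem.Cfg H M := by
    refine ⟨⟨hMH, fun h hh x hx' => (mem_normalizer_iff.1 (hHM hh) x).1 hx', ?_, ?_, ?_⟩, hH.1, hcore,
      htwo, heven⟩
    · intro a ha haM x hx' e
      by_contra hx0
      exact haM (hcent x hx' hx0 (mem_centralizer_singleton_iff.2 e.symm))
    · intro g' hg'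
      refine (Subgroup.eq_bot_iff_forall _).2 fun w hw => hTI g' hg' w hw.1 ?_
      obtain ⟨y', hy', rfl⟩ := hw.2
      show g'⁻¹ * (g' * y' * g'⁻¹) * g' ∈ M
      rw [show g'⁻¹ * (g' * y' * g'⁻¹) * g' = y' by group]
      exact hy'
    · exact fun e => hq1 (mem_bot.1 (e ▸ (le_sup_right : Cs ≤ M) hqCs))
  have hM2 : IsPGroup 2 M := hcfg.isPGroup
  obtain ⟨k, hk⟩ := two_pow_of_mem hM2 ((le_sup_right : Cs ≤ M) hqCs)
  rw [hk] at hqodd
  rcases Nat.eq_zero_or_pos k with hk0 | hk0
  · exact hq1 (orderOf_eq_one_iff.1 (by rw [hk, hk0, pow_zero]))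
  · exact Nat.not_even_iff_odd.2 hqodd (Nat.even_pow.2 ⟨even_two, hk0.ne'⟩)

end Cfsg.Agent.CIT.CN
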