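import Cfsg.Agent.Lib.CIT.Defs

/-!
# Nonsolvable CIT groups: the statement

See `notes/cit-lead.md`; proved from `CITTheorem` in `Lib/CIT/Gen`.
-/

set_option autoImplicit false

namespace Cfsg.Agent.CIT

open Subgroup

universe u

/-- `L` is `PSL₂` of a field with `2 ^ n ≥ 4` elements or a Suzuki group. -/
def EvenRankOne (L : Type*) [Group L] : Prop :=
  (∃ (F : Type) (_ : Field F) (_ : Fintype F), (∃ n : ℕ, 2 ≤ n ∧ Fintype.card F = 2 ^ n) ∧
    Nonempty (L ≃* Matrix.ProjectiveSpecialLinearGroup (Fin 2) F)) ∨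
  Cfsg.Lie.IsoSuzuki L

/-- `L` is `PSL₂(9)`. -/
def IsPSLTwoNine (L : Type*) [Group L] : Prop :=
  ∃ (F : Type) (_ : Field F) (_ : Fintype F), Fintype.card F = 9 ∧
    Nonempty (L ≃* Matrix.ProjectiveSpecialLinearGroup (Fin 2) F)

/-- A nonsolvable CIT group modulo its largest normal 2-subgroup is simple, or `PSL₂(9)` extended
by a group of order two; the 2-subgroup is trivial unless the simple group is `PSL₂(2ⁿ)` or a
Suzuki group. -/
def GenStatement : Prop :=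
  ∀ (G : Type u) [Group G] [Finite G], IsCIT G → ¬ Group.IsSolvable G →
    Cfsg.oddCore G = ⊥ ∧ IsCIT (G ⧸ Cfsg.pCore 2 G) ∧
    ∃ L : Subgroup (G ⧸ Cfsg.pCore 2 G), L.Normal ∧ IsSimpleGroup L ∧ ¬ IsMulCommutative L ∧
      IsCIT L ∧ centralizer (L : Set (G ⧸ Cfsg.pCore 2 G)) = ⊥ ∧ CITList L ∧
      (L = ⊤ ∨ (L.index = 2 ∧ IsPSLTwoNine L)) ∧
      (∀ r : ℕ, r.Prime → r ≠ 2 → r ∣ Nat.card G → r ∣ Nat.card L) ∧
      (Cfsg.pCore 2 G = ⊥ ∨ (L = ⊤ ∧ EvenRankOne L))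

/-- The same, reading off `G` itself when the quotient is `SL₂(2ⁿ)`: the 2-subgroup is a sum of
natural modules. -/
def GenNatural : Prop :=
  ∀ (G : Type u) [Group G] [Finite G], IsCIT G → ∀ (F : Type) [Field F] [Fintype F] (n : ℕ),
    2 ≤ n → Fintype.card F = 2 ^ n →
    Nonempty (G ⧸ Cfsg.pCore 2 G ≃* Matrix.ProjectiveSpecialLinearGroup (Fin 2) F) →
    Cfsg.IsElementaryAbelian 2 (Cfsg.pCore 2 G)

end Cfsg.Agent.CIT
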