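import Cfsg.Agent.Lib.CIT.CNRadical
import Cfsg.Agent.Lib.CIT.GenDefs
import Cfsg.Agent.Lib.Involutions.RankOne.ConsBase

/-!
# The structure of nonsolvable CN groups, given the structure of nonsolvable CIT groups
-/

set_option autoImplicit false

namespace Cfsg.Agent.CIT.CN

open Subgroup

universe u

/-- If a CIT group modulo its 2-core is a Suzuki group, the 2-core is elementary abelian. -/
def SuzukiModule : Prop :=
  ∀ (G : Type u) [Group G] [Finite G], IsCIT G → Cfsg.Lie.IsoSuzuki (G ⧸ Cfsg.pCore 2 G) →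
    Cfsg.IsElementaryAbelian 2 (Cfsg.pCore 2 G)

theorem structure_of (hGen : GenStatement.{u}) (hNat : GenNatural.{u}) (hSz : SuzukiModule.{u})
    {G : Type u} [Group G] [Finite G] (hns : ¬ Group.IsSolvable G) (hCN : Cfsg.IsCNGroup G) :
    (IsSimpleGroup G ∧ ¬ IsMulCommutative G) ∨
    (∃ (N : Subgroup G), N.Normal ∧ N.index = 2 ∧ ∃ (F : Type) (_ : Field F) (_ : Fintype F), Fintype.card F = 9 ∧
        Nonempty (N ≃* Matrix.ProjectiveSpecialLinearGroup (Fin 2) F)) ∨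
    (∃ (N : Subgroup G) (_ : N.Normal), N ≠ ⊥ ∧ IsPGroup 2 N ∧ IsMulCommutative N ∧ (∀ x ∈ N, x * x = 1) ∧
        ((∃ (F : Type) (_ : Field F) (_ : Fintype F), CharP F 2 ∧ 4 ≤ Fintype.card F ∧
            Nonempty (G ⧸ N ≃* Matrix.ProjectiveSpecialLinearGroup (Fin 2) F)) ∨ Cfsg.IsSuzuki (G ⧸ N))) := by
  haveI : Fact (Nat.Prime 2) := ⟨Nat.prime_two⟩
  have hC := isCIT_of_nonsolvable hCN hns
  obtain ⟨-, -, L, hLn, hLs, hLna, -, -, -, hcases, -, hT⟩ := hGen G hC hns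
  rcases eq_or_ne (Cfsg.pCore 2 G) ⊥ with hbot | hne
  · let π := QuotientGroup.mk' (Cfsg.pCore 2 G)
    have hπ : Function.Bijective π := by
      refine ⟨(MonoidHom.ker_eq_bot_iff π).1 ?_, QuotientGroup.mk'_surjective _⟩
      rw [QuotientGroup.ker_mk', hbot]
    let e : G ≃* G ⧸ Cfsg.pCore 2 G := MulEquiv.ofBijective π hπ
    rcases hcases with rfl | ⟨hidx, F, i1, i2, hF, ⟨f⟩⟩
    · left
      let e' : G ≃* (⊤ : Subgroup (G ⧸ Cfsg.pCore 2 G)) := e.trans Subgroup.topEquiv.symm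
      haveI := hLs
      haveI : Nontrivial G := e'.toEquiv.nontrivial
      refine ⟨IsSimpleGroup.isSimpleGroup_of_surjective (f := e'.symm.toMonoidHom) e'.symm.surjective
        , fun h => hLna ⟨⟨fun a b => ?_⟩⟩⟩
      obtain ⟨a', rfl⟩ := e'.surjective a
      obtain ⟨b', rfl⟩ := e'.surjective b
      rw [← map_mul, ← map_mul, h.is_comm.comm]
    · refine Or.inr (Or.inl ⟨L.comap π, hLn.comap π, ?_, F, i1, i2, hF, ⟨?_⟩⟩)
      · rw [Subgroup.index_comap_of_surjective _ hπ.2, hidx]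
      · exact (MulEquiv.ofBijective (π.subgroupComap L)
          ⟨fun a b hab => Subtype.ext (hπ.1 (congrArg Subtype.val hab)), fun y => by
            obtain ⟨x, hx⟩ := hπ.2 y.1
            exact ⟨⟨x, show π x ∈ L by rw [hx]; exact y.2⟩, Subtype.ext hx⟩⟩).trans f
  · obtain ⟨hLtop, hL⟩ := hT.resolve_left hne
    subst hLtop
    have hElem : Cfsg.IsElementaryAbelian 2 (Cfsg.pCore 2 G) := by
      rcases hL with ⟨F, i1, i2, ⟨n, hn, hF⟩, ⟨f⟩⟩ | ⟨F, i1, i2, m, hm, hF, ⟨f⟩⟩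
      · exact hNat G hC F n hn hF ⟨Subgroup.topEquiv.symm.trans f⟩
      · exact hSz G hC ⟨F, i1, i2, m, hm, hF, ⟨Subgroup.topEquiv.symm.trans f⟩⟩
    refine Or.inr (Or.inr ⟨Cfsg.pCore 2 G, Cores.pCore_normal 2, hne, Cores.pCore_isPGroup 2, hElem.1,
      fun x hx => by rw [← pow_two]; exact hElem.2 x hx, ?_⟩)
    rcases hL with ⟨F, i1, i2, ⟨n, hn, hF⟩, ⟨f⟩⟩ | h
    · refine Or.inl ⟨F, i1, i2, ?_, ?_, ⟨Subgroup.topEquiv.symm.trans f⟩⟩
      · exact charP_of_card_eq_prime_pow hF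
      · rw [hF]
        calc 4 = 2 ^ 2 := by norm_num
          _ ≤ 2 ^ n := Nat.pow_le_pow_right (by norm_num) hn
    · haveI := hLs
      haveI : Nontrivial (G ⧸ Cfsg.pCore 2 G) :=
        (Subgroup.topEquiv : (⊤ : Subgroup (G ⧸ Cfsg.pCore 2 G)) ≃* _).symm.toEquiv.nontrivial
      haveI : IsSimpleGroup (G ⧸ Cfsg.pCore 2 G) :=
        IsSimpleGroup.isSimpleGroup_of_surjective
          (f := (Subgroup.topEquiv : (⊤ : Subgroup (G ⧸ Cfsg.pCore 2 G)) ≃* _).toMonoidHom)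
          (Subgroup.topEquiv : (⊤ : Subgroup (G ⧸ Cfsg.pCore 2 G)) ≃* _).surjective
      obtain ⟨F, i1, i2, m, hm, hF, ⟨f⟩⟩ := h
      exact Or.inr (Involutions.RankOne.Cons.isSuzuki_of_iso ⟨F, i1, i2, m, hm, hF, ⟨Subgroup.topEquiv.symm.trans f⟩⟩)

end Cfsg.Agent.CIT.CN
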