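import Mathlib

/-!
# CIT consequences: arithmetic

Prime powers of the forms `2 ^ n ± 1` and `q ± 2r + 1`.
-/

set_option autoImplicit false

namespace Cfsg.Agent.CIT

theorem eq_pow_of_dvd_isPrimePow {p m : ℕ} (hp : p.Prime) (hd : p ∣ m) (hm : IsPrimePow m) :
    ∃ b : ℕ, 1 ≤ b ∧ m = p ^ b := by
  obtain ⟨s, b, hs, hb, rfl⟩ := hm
  exact ⟨b, hb, by rw [(Nat.prime_dvd_prime_iff_eq hp hs.nat_prime).1 (hp.dvd_of_dvd_pow hd)]⟩

theorem two_pow_mod_three (n : ℕ) : 2 ^ n % 3 = if Even n then 1 else 2 := by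
  induction n with
  | zero => simp
  | succ n ih => rw [pow_succ, Nat.mul_mod, ih]; simp only [Nat.even_add_one]; split_ifs <;> simp_all

theorem le_two_of_two_pow_eq_three_pow_succ {n b : ℕ} (h : 2 ^ n = 3 ^ b + 1) : n ≤ 2 := by
  by_contra hn
  obtain ⟨k, rfl⟩ := Nat.exists_eq_add_of_le (Nat.not_le.1 hn)
  have h3 : 3 ^ b % 8 = 1 ∨ 3 ^ b % 8 = 3 := by
    clear h
    induction b with
    | zero => simp
    | succ b ih => rw [pow_succ, Nat.mul_mod]; rcases ih with h | h <;> simp [h]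
  rw [pow_add] at h
  omega

theorem le_three_of_two_pow_succ_eq_three_pow {n b : ℕ} (h : 2 ^ n + 1 = 3 ^ b) : n ≤ 3 := by
  by_contra hn
  obtain ⟨k, rfl⟩ := Nat.exists_eq_add_of_le (Nat.not_le.1 hn)
  have h16 : 3 ^ b % 16 = 3 ^ (b % 4) % 16 := by
    conv_lhs => rw [← Nat.div_add_mod b 4, pow_add, pow_mul, Nat.mul_mod, Nat.pow_mod]
    norm_num
  have h5 : 3 ^ b % 5 = 3 ^ (b % 4) % 5 := by
    conv_lhs => rw [← Nat.div_add_mod b 4, pow_add, pow_mul, Nat.mul_mod, Nat.pow_mod]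
    norm_num
  have hlt : b % 4 < 4 := Nat.mod_lt _ (by norm_num)
  rw [pow_add] at h
  have hb : b % 4 = 0 := by
    interval_cases hb' : b % 4 <;> first | rfl | (norm_num at h16; omega)
  rw [hb, pow_zero] at h5
  have h2 : 5 ∣ 2 ^ (3 + 1 + k) := by
    rw [pow_add]
    omega
  exact absurd ((by norm_num : Nat.Prime 5).dvd_of_dvd_pow h2) (by norm_num)

/-- The exponent of `q = 2 ^ n` when `q - 1` and `q + 1` are prime powers. -/
theorem exponent_even_char {n : ℕ} (hn : 2 ≤ n) (hm : IsPrimePow (2 ^ n - 1))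
    (hp : IsPrimePow (2 ^ n + 1)) : n = 2 ∨ n = 3 := by
  have h1 : 1 ≤ 2 ^ n := Nat.one_le_two_pow
  have h3 := two_pow_mod_three n
  by_cases he : Even n
  · rw [if_pos he] at h3
    obtain ⟨b, -, hb⟩ := eq_pow_of_dvd_isPrimePow Nat.prime_three (by omega) hm
    have := le_two_of_two_pow_eq_three_pow_succ (n := n) (b := b) (by omega)
    omega
  · rw [if_neg he] at h3
    obtain ⟨b, -, hb⟩ := eq_pow_of_dvd_isPrimePow Nat.prime_three (by omega) hp
    have := le_three_of_two_pow_succ_eq_three_pow hb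
    omega

theorem three_not_dvd_prime {q : ℕ} (hq : q.Prime) (h5 : 5 ≤ q) : ¬ 3 ∣ q := fun h => by
  have := (Nat.prime_dvd_prime_iff_eq Nat.prime_three hq).1 h
  omega

/-- Fermat primes `q` with `(q + 1) / 2` a prime power. -/
theorem fermat_cases {q k : ℕ} (hq : q.Prime) (h5 : 5 ≤ q) (he : q = 2 ^ k + 1)
    (hp : IsPrimePow ((q + 1) / 2)) : q = 5 ∨ q = 17 := by
  have h3 := three_not_dvd_prime hq h5
  have hk := two_pow_mod_three k
  obtain ⟨j, rfl⟩ : ∃ j, k = j + 1 := Nat.exists_eq_add_one.2 (Nat.pos_of_ne_zero fun h0 => by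
    rw [h0] at he; omega)
  have hke : Even (j + 1) := by
    by_contra hke
    rw [if_neg hke] at hk
    omega
  rw [if_pos hke] at hk
  have hj : 2 ^ (j + 1) = 2 * 2 ^ j := by ring
  have hq2 : (q + 1) / 2 = 2 ^ j + 1 := by omega
  rw [hq2] at hp
  have hj3 := two_pow_mod_three j
  rw [if_neg (Nat.even_add_one.1 hke)] at hj3
  obtain ⟨b, -, hb⟩ := eq_pow_of_dvd_isPrimePow Nat.prime_three (by omega) hp
  have := le_three_of_two_pow_succ_eq_three_pow hb
  interval_cases j <;> simp_all (config := { decide := true })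

/-- Mersenne primes `q` with `(q - 1) / 2` a prime power. -/
theorem mersenne_cases {q k : ℕ} (hq : q.Prime) (h5 : 5 ≤ q) (he : q + 1 = 2 ^ k)
    (hm : IsPrimePow ((q - 1) / 2)) : q = 7 := by
  have h3 := three_not_dvd_prime hq h5
  have hk := two_pow_mod_three k
  obtain ⟨j, rfl⟩ : ∃ j, k = j + 1 := Nat.exists_eq_add_one.2 (Nat.pos_of_ne_zero fun h0 => by
    rw [h0] at he; omega)
  have hko : ¬ Even (j + 1) := by
    intro hke
    rw [if_pos hke] at hk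
    omega
  have hje : Even j := by
    rw [Nat.even_add_one, not_not] at hko
    exact hko
  have hj : 2 ^ (j + 1) = 2 * 2 ^ j := by ring
  have hq2 : (q - 1) / 2 = 2 ^ j - 1 := by omega
  rw [hq2] at hm
  have hj3 := two_pow_mod_three j
  rw [if_pos hje] at hj3
  obtain ⟨b, -, hb⟩ := eq_pow_of_dvd_isPrimePow Nat.prime_three (by omega) hm
  have := le_two_of_two_pow_eq_three_pow_succ (n := j) (b := b) (by omega)
  interval_cases j <;> simp_all (config := { decide := true })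

theorem two_mul_add_two_le_two_pow : ∀ {m : ℕ}, 3 ≤ m → 2 * m + 2 ≤ 2 ^ m := by
  intro m hm
  induction m, hm using Nat.le_induction with
  | base => norm_num
  | succ m _ ih => rw [pow_succ]; omega

/-- A power of five of the form `q ± 2r + 1` has `m ≤ 2`. -/
theorem le_two_of_five_pow {m b : ℕ} (hlt : 5 ^ b ≤ 2 ^ (2 * m + 2)) (h1 : 1 ≤ b)
    (hmod : 2 ^ (m + 1) ∣ 5 ^ b - 1) : m ≤ 2 := by
  by_contra hm
  obtain ⟨n, rfl⟩ : ∃ n, m = n + 1 := ⟨m - 1, by omega⟩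
  have hb : 2 ^ n ∣ b := by
    rw [← ZMod.orderOf_five n]
    refine orderOf_dvd_of_pow_eq_one ?_
    have h := (ZMod.natCast_eq_zero_iff (5 ^ b - 1) (2 ^ (n + 1 + 1))).2 hmod
    rw [Nat.cast_sub (Nat.one_le_pow _ _ (by norm_num)), sub_eq_zero] at h
    push_cast at h
    exact h
  have hle : 2 ^ n ≤ b := Nat.le_of_dvd h1 hb
  have h4 : 4 ^ (2 ^ n) < 5 ^ (2 ^ n) := Nat.pow_lt_pow_left (by norm_num) (by positivity)
  have h5 : 5 ^ (2 ^ n) ≤ 5 ^ b := Nat.pow_le_pow_right (by norm_num) hle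
  have h6 : 2 ^ (2 * (n + 1) + 2) ≤ 4 ^ (2 ^ n) := by
    rw [show (4 : ℕ) = 2 ^ 2 by norm_num, ← pow_mul]
    refine Nat.pow_le_pow_right (by norm_num) ?_
    have := two_mul_add_two_le_two_pow (m := n + 1) (by omega)
    rw [pow_succ] at this
    omega
  omega

theorem five_dvd_suzuki (m : ℕ) :
    5 ∣ 2 ^ (2 * m + 1) + 2 ^ (m + 1) + 1 ∨ 5 ∣ 2 ^ (2 * m + 1) - 2 ^ (m + 1) + 1 := by
  have hle : 2 ^ (m + 1) ≤ 2 ^ (2 * m + 1) := Nat.pow_le_pow_right (by norm_num) (by omega)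
  refine (Nat.Prime.dvd_mul (by norm_num)).1 ?_
  have h : (2 ^ (2 * m + 1) + 2 ^ (m + 1) + 1) * (2 ^ (2 * m + 1) - 2 ^ (m + 1) + 1) =
      4 ^ (2 * m + 1) + 1 := by
    zify [hle]
    rw [show (4 : ℤ) = 2 ^ 2 by norm_num, ← pow_mul]
    ring
  rw [h, Nat.dvd_iff_mod_eq_zero, pow_succ, pow_mul, Nat.add_mod, Nat.mul_mod, Nat.pow_mod]
  norm_num

/-- The Suzuki groups whose exceptional tori are of prime power order. -/
theorem suzuki_cases {m : ℕ} (hm : 1 ≤ m)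
    (hp : IsPrimePow (2 ^ (2 * m + 1) + 2 ^ (m + 1) + 1))
    (hn : IsPrimePow (2 ^ (2 * m + 1) - 2 ^ (m + 1) + 1)) : m = 1 ∨ m = 2 := by
  have hle : 2 ^ (m + 1) ≤ 2 ^ (2 * m + 1) := Nat.pow_le_pow_right (by norm_num) (by omega)
  have h22 : 2 ^ (2 * m + 2) = 2 * 2 ^ (2 * m + 1) := by ring
  have hlt : 2 ^ (m + 1) < 2 ^ (2 * m + 1) := Nat.pow_lt_pow_right (by norm_num) (by omega)
  have hd : 2 ^ (m + 1) ∣ 2 ^ (2 * m + 1) := pow_dvd_pow 2 (by omega)
  suffices m ≤ 2 by omega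
  rcases five_dvd_suzuki m with h | h
  · obtain ⟨b, hb1, hb⟩ := eq_pow_of_dvd_isPrimePow (by norm_num) h hp
    refine le_two_of_five_pow (b := b) (by omega) hb1 ?_
    rw [← hb, Nat.add_sub_cancel]
    exact dvd_add hd dvd_rfl
  · obtain ⟨b, hb1, hb⟩ := eq_pow_of_dvd_isPrimePow (by norm_num) h hn
    refine le_two_of_five_pow (b := b) (by omega) hb1 ?_
    rw [← hb, Nat.add_sub_cancel]
    exact Nat.dvd_sub hd dvd_rfl

end Cfsg.Agent.CIT
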