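import Cfsg.Agent.Lib.CIT.Defs
import Cfsg.Agent.Lib.CIT.ConsArith
import Cfsg.Agent.S0254
import Cfsg.Agent.S0252
import Cfsg.Agent.S0253
import Cfsg.Agent.S2475
import Cfsg.Agent.S0333
import Cfsg.Agent.S3992
import Cfsg.Agent.Lib.Suzuki.LieEquiv

/-!
# CIT consequences: simple groups all of whose elements have prime power order
-/

set_option autoImplicit false

namespace Cfsg.Agent.CIT

universe u

/-- The simple groups all of whose elements have prime power order, with models. -/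
def EPPOList (G : Type*) [Group G] : Prop :=
  Nonempty (G ≃* alternatingGroup (Fin 6)) ∨
  (∃ (F : Type) (_ : Field F) (_ : Fintype F), Fintype.card F ∈ ({4, 7, 8, 17} : Finset ℕ) ∧
    Nonempty (G ≃* Matrix.ProjectiveSpecialLinearGroup (Fin 2) F)) ∨
  (∃ (F : Type) (_ : Field F) (_ : Fintype F), Fintype.card F = 4 ∧
    Nonempty (G ≃* Matrix.ProjectiveSpecialLinearGroup (Fin 3) F)) ∨
  (∃ (F : Type) (_ : Field F) (_ : Fintype F),
    (Fintype.card F = 8 ∧ Nonempty (G ≃* ↥(Cfsg.Lie.Sz F 4))) ∨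
    (Fintype.card F = 32 ∧ Nonempty (G ≃* ↥(Cfsg.Lie.Sz F 8))))

variable {G : Type u} [Group G]

/-- Prime power element orders imply the centraliser condition. -/
theorem isCIT_of_eppo [Finite G] (h : S3992.CP G) : IsCIT G := fun t ht => by
  haveI : Fact (Nat.Prime 2) := ⟨Nat.prime_two⟩
  refine h.isPGroup ht fun g hg => ?_
  exact Subgroup.mem_centralizer_singleton_iff.1 hg

theorem isPrimePow_of_orderOf_eq (h : S3992.CP G) {H : Type*} [Group H] (e : G ≃* H) {k : ℕ}
    (hk : 1 < k) (x : H) (hx : orderOf x = k) : IsPrimePow k := by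
  have ho : orderOf (e.symm x) = k := by rw [MulEquiv.orderOf_eq, hx]
  rw [← ho]
  refine h _ fun h1 => ?_
  rw [h1, orderOf_one] at ho
  omega

theorem psl_orders [Finite G] (h : S3992.CP G) {F : Type} [Field F] [Fintype F]
    (e : G ≃* Matrix.ProjectiveSpecialLinearGroup (Fin 2) F) (h4 : 4 ≤ Fintype.card F) :
    IsPrimePow ((Fintype.card F - 1) / Nat.gcd 2 (Fintype.card F - 1)) ∧
      IsPrimePow ((Fintype.card F + 1) / Nat.gcd 2 (Fintype.card F - 1)) := by
  obtain ⟨p, hp⟩ := CharP.exists F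
  haveI := hp
  haveI : Fact p.Prime := ⟨CharP.char_is_prime F p⟩
  have hr := S2475.result (F := F) p h4
  have hd : Nat.gcd 2 (Fintype.card F - 1) ≤ 2 := Nat.gcd_le_left _ (by norm_num)
  have hd0 : 0 < Nat.gcd 2 (Fintype.card F - 1) := Nat.gcd_pos_of_pos_left _ (by norm_num)
  refine ⟨?_, ?_⟩
  · obtain ⟨x, hx⟩ : (Fintype.card F - 1) / Nat.gcd 2 (Fintype.card F - 1) ∈
        Set.range (orderOf : Matrix.ProjectiveSpecialLinearGroup (Fin 2) F → ℕ) := by
      rw [hr]; exact Or.inr (Or.inl dvd_rfl)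
    refine isPrimePow_of_orderOf_eq h e ?_ x hx
    rw [Nat.lt_iff_add_one_le, Nat.le_div_iff_mul_le hd0]
    by_cases h5 : 5 ≤ Fintype.card F
    · omega
    · have h44 : Fintype.card F = 4 := by omega
      rw [h44]; norm_num
  · obtain ⟨x, hx⟩ : (Fintype.card F + 1) / Nat.gcd 2 (Fintype.card F - 1) ∈
        Set.range (orderOf : Matrix.ProjectiveSpecialLinearGroup (Fin 2) F → ℕ) := by
      rw [hr]; exact Or.inr (Or.inr dvd_rfl)
    refine isPrimePow_of_orderOf_eq h e ?_ x hx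
    rw [Nat.lt_iff_add_one_le, Nat.le_div_iff_mul_le hd0]
    omega

theorem gcd_two_pow_sub_one {n : ℕ} (hn : 1 ≤ n) : Nat.gcd 2 (2 ^ n - 1) = 1 := by
  refine (Nat.prime_two.coprime_iff_not_dvd).2 fun hd => ?_
  obtain ⟨j, rfl⟩ := Nat.exists_eq_add_of_le hn
  have : 1 ≤ 2 ^ j := Nat.one_le_two_pow
  rw [pow_add, pow_one] at hd
  omega

theorem gcd_two_of_odd_prime {q : ℕ} (hq : q.Prime) (h5 : 5 ≤ q) : Nat.gcd 2 (q - 1) = 2 := by
  refine Nat.gcd_eq_left ?_
  have := hq.eq_two_or_odd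
  omega

/-- The list of CIT groups narrows to the list of prime power order groups. -/
theorem eppoList_of_citList [Finite G] (h : S3992.CP G) (hl : CITList G) : EPPOList G := by
  rcases hl with ⟨F, iF, iT, hF, ⟨e⟩⟩ | ⟨F, iF, iT, hF, he⟩ | hS
  · have two : ∀ a : ℕ, Fintype.card F = a → a ∈ ({4, 7, 8, 17} : Finset ℕ) → EPPOList G :=
      fun a ha hm => Or.inr (Or.inl ⟨F, iF, iT, ha.symm ▸ hm, ⟨e⟩⟩)
    rcases hF with hF | ⟨n, hn, hF⟩ | ⟨h5, hq, k, hk⟩
    · obtain ⟨i⟩ := S0254.result (F := F) hF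
      exact Or.inl ⟨e.trans i⟩
    · have h4 : 4 ≤ 2 ^ n := le_trans (by norm_num) (Nat.pow_le_pow_right (by norm_num) hn)
      obtain ⟨h1, h2⟩ := psl_orders h e (by omega)
      rw [hF, gcd_two_pow_sub_one (by omega), Nat.div_one] at h1 h2
      rcases exponent_even_char hn h1 h2 with rfl | rfl
      · exact two 4 (by rw [hF]; norm_num) (by simp)
      · exact two 8 (by rw [hF]; norm_num) (by simp)
    · obtain ⟨h1, h2⟩ := psl_orders h e (by omega)
      rw [gcd_two_of_odd_prime hq h5] at h1 h2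
      rcases hk with hk | hk
      · rcases fermat_cases hq h5 hk h2 with h' | h'
        · obtain ⟨i⟩ := S0253.result (F := F) h'
          letI : Fintype (GaloisField 2 2) := Fintype.ofFinite _
          have h4 : Fintype.card (GaloisField 2 2) = 4 := by
            rw [← Nat.card_eq_fintype_card, GaloisField.card 2 2 (by norm_num)]; norm_num
          obtain ⟨j⟩ := S0252.result (F := GaloisField 2 2) h4
          exact Or.inr (Or.inl ⟨GaloisField 2 2, inferInstance, inferInstance, by simp [h4],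
            ⟨e.trans (i.trans j.symm)⟩⟩)
        · exact two 17 h' (by simp)
      · exact two 7 (mersenne_cases hq h5 hk h1) (by simp)
  · exact Or.inr (Or.inr (Or.inl ⟨F, iF, iT, hF, he⟩))
  · obtain ⟨F, iF, iT, m, hm, hF, ⟨e⟩⟩ := hS
    haveI := Cfsg.Agent.Suzuki.charTwo hF
    obtain ⟨ε⟩ := Cfsg.Agent.Suzuki.lieEquiv hm hF
    have hU := S0333.result (F := F) hm hF
    have key : ∀ k ∈ ({2 ^ (2 * m + 1) + 2 ^ (m + 1) + 1, 2 ^ (2 * m + 1) - 2 ^ (m + 1) + 1} : Set ℕ),
        1 < k → IsPrimePow k := by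
      intro k hk hk1
      obtain ⟨U, hc, hU, -⟩ := hU k hk
      obtain ⟨g, hg⟩ := hc.exists_generator
      refine isPrimePow_of_orderOf_eq h (e.trans ε.symm) hk1 (g : Cfsg.Sz F m) ?_
      rw [Subgroup.orderOf_coe, orderOf_eq_card_of_forall_mem_zpowers hg, hU]
    have hlt : 2 ^ (m + 1) < 2 ^ (2 * m + 1) := Nat.pow_lt_pow_right (by norm_num) (by omega)
    have hpos : 0 < 2 ^ (m + 1) := Nat.two_pow_pos _
    have hm2 := suzuki_cases hm (key _ (Or.inl rfl) (by omega)) (key _ (Or.inr rfl) (by omega))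
    rcases hm2 with rfl | rfl
    · exact Or.inr (Or.inr (Or.inr ⟨F, iF, iT, Or.inl ⟨by rw [hF]; norm_num, ⟨e⟩⟩⟩))
    · exact Or.inr (Or.inr (Or.inr ⟨F, iF, iT, Or.inr ⟨by rw [hF]; norm_num, ⟨e⟩⟩⟩))

/-- Simple groups with prime power element orders, from the classification of CIT groups. -/
theorem eppo_simple [Finite G] [IsSimpleGroup G] (hT : CITTheorem.{u}) (hG : ¬ IsMulCommutative G)
    (h : S3992.CP G) : EPPOList G :=
  eppoList_of_citList h (hT G hG (isCIT_of_eppo h))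

end Cfsg.Agent.CIT
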