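import Cfsg.Agent.Lib.CIT.ConsEPPOFour

/-!
# CIT consequences: the prime divisors of groups with prime power element orders
-/

set_option autoImplicit false

namespace Cfsg.Agent.CIT

open Subgroup

universe u

/-- The possible groups with four prime divisors. -/
def FourConclusion (G : Type u) [Group G] : Prop :=
  (∃ (F : Type) (_ : Field F) (_ : Fintype F), Fintype.card F = 4 ∧
    Nonempty (G ≃* Matrix.ProjectiveSpecialLinearGroup (Fin 3) F)) ∨
  (∃ (N : Subgroup G) (_ : N.Normal), IsPGroup 2 ↥N ∧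
    ∃ (F : Type) (_ : Field F) (_ : Fintype F),
      (Fintype.card F = 8 ∧ Nonempty (G ⧸ N ≃* ↥(Cfsg.Lie.Sz F 4))) ∨
      (Fintype.card F = 32 ∧ Nonempty (G ⧸ N ≃* ↥(Cfsg.Lie.Sz F 8))))

variable {H : Type u} [Group H] [Finite H]

/-- The index is one in the big cases. -/
theorem index_eq_one (h : S3992.CP H) (M : Subgroup H) [M.Normal] [IsSimpleGroup M]
    (hM : ¬ IsMulCommutative M) (hd : BigData (Nat.card M)) : M.index = 1 := by
  obtain ⟨-, r, s, hr, hs, hrs, hr1, hr2, hs1, hs2, hsq, hnd⟩ := hd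
  haveI := Fact.mk hr
  haveI := Fact.mk hs
  obtain ⟨j, -, hj⟩ := index_dvd h M hM hr1 hr2
  obtain ⟨i, hi, -⟩ := index_dvd h M hM hs1 hs2
  refine Nat.eq_one_of_dvd_coprimes ?_ (hj hsq) hi
  refine Nat.Coprime.pow_left j (Nat.Coprime.mul_right ((hr.coprime_iff_not_dvd).2 hnd) ?_)
  exact Nat.Coprime.pow_right i ((Nat.coprime_primes hr hs).2 hrs)

/-- The primes of the index divide the order of `M`. -/
theorem prime_dvd_of_dvd_index (h : S3992.CP H) (M : Subgroup H) [M.Normal] [IsSimpleGroup M]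
    (hM : ¬ IsMulCommutative M) (hl : EPPOList M) {p : ℕ} (hp : p.Prime) (hd : p ∣ M.index) :
    p ∣ Nat.card M := by
  rcases list_data hl with ⟨-, r, hr, hr1, hr2, hrm⟩ | ⟨hb, -⟩
  · haveI := Fact.mk hr
    obtain ⟨j, hj, -⟩ := index_dvd h M hM hr1 hr2
    rcases hp.dvd_mul.1 (hd.trans hj) with h' | h'
    · exact h'.trans hrm
    · rw [(Nat.prime_dvd_prime_iff_eq hp hr).1 (hp.dvd_of_dvd_pow h')]
      exact hr1
  · rw [index_eq_one h M hM hb, Nat.dvd_one] at hd
    exact absurd hd hp.ne_one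

/-- A largest solvable normal subgroup. -/
theorem exists_solvable_radical (G : Type u) [Group G] [Finite G] :
    ∃ (R : Subgroup G) (_ : R.Normal), Group.IsSolvable R ∧
      ∀ N : Subgroup G, N.Normal → Group.IsSolvable ↥N → N ≤ R := by
  obtain ⟨R, ⟨hR, hRs⟩, hmax⟩ := Set.Finite.exists_maximalFor (fun K : Subgroup G => Nat.card K)
    {K : Subgroup G | K.Normal ∧ Group.IsSolvable K} (Set.toFinite _)
    ⟨⊥, inferInstance, isSolvable_of_comm fun a b => Subsingleton.elim _ _⟩
  refine ⟨R, hR, hRs, fun N hN hNs => ?_⟩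
  haveI := hN
  haveI := hR
  haveI := hNs
  set W := N.map (QuotientGroup.mk' R) with hW
  haveI hWs : Group.IsSolvable W :=
    Group.isSolvable_of_surjective ((QuotientGroup.mk' R).subgroupMap_surjective N)
  set V := W.comap (QuotientGroup.mk' R) with hV
  haveI hVn : V.Normal := Subgroup.Normal.comap
    (Subgroup.Normal.map inferInstance _ (QuotientGroup.mk'_surjective R)) _
  have hRV : R ≤ V := by
    rw [hV, hW, Subgroup.comap_map_eq, QuotientGroup.ker_mk']
    exact le_sup_right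
  have hVs : Group.IsSolvable V := by
    haveI := hRs
    let f : V →* W := (QuotientGroup.mk' R).subgroupComap W
    refine Group.isSolvable_of_ker_le_range (Subgroup.inclusion hRV) f fun v hv => ?_
    have hv' : (v : G) ∈ R := (QuotientGroup.eq_one_iff _).1 (congrArg Subtype.val hv)
    exact ⟨⟨v, hv'⟩, rfl⟩
  have hle : Nat.card V ≤ Nat.card R := hmax ⟨hVn, hVs⟩
    (Nat.le_of_dvd Nat.card_pos (Subgroup.card_dvd_of_le hRV))
  exact (Subgroup.le_comap_map _ _).trans (Subgroup.eq_of_le_of_card_ge hRV hle).ge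

/-- Finite groups with prime power element orders: at most four prime divisors. -/
theorem eppo_four {G : Type u} [Group G] [Finite G] (hT : CITTheorem.{u}) (h : S3992.CP G) :
    (Nat.card G).primeFactors.card ≤ 4 ∧ ((Nat.card G).primeFactors.card = 4 → FourConclusion G) := by
  by_cases hsol : Group.IsSolvable G
  · haveI := hsol
    have := S1475.higman _ rfl (G := G) fun g => (em (g = 1)).symm.imp (fun hg => h g hg) id
    exact ⟨by omega, fun h4 => by omega⟩
  obtain ⟨R, hRn, hRs, hRmax⟩ := exists_solvable_radical G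
  obtain ⟨⟨p, hp, hRp⟩, ⟨M, hMn, hMs, hMnc, -⟩, -⟩ := S3992.result hsol h R hRs hRmax
  have hH : S3992.CP (G ⧸ R) := h.quot R
  have hl : EPPOList M := eppo_simple hT hMnc (hH.sub M)
  -- a four-group in the quotient
  obtain ⟨E, hE⟩ := S0204.result (G := M) fun hc => hMnc ⟨⟨fun x y => by
    haveI := hc
    exact IsCyclic.commGroup.mul_comm x y⟩⟩
  haveI := hE
  set E' : Subgroup (G ⧸ R) := E.map M.subtype with hE'
  have hE4 : Nat.card E' = 4 := by rw [hE', Subgroup.card_subtype, IsKleinFour.card_four]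
  let iE : E ≃* E' := E.equivMapOfInjective M.subtype M.subtype_injective
  have hEc : IsMulCommutative E' := ⟨⟨fun x y => by
    haveI := IsKleinFour.isMulCommutative (G := E)
    apply iE.symm.injective
    rw [map_mul, map_mul, (IsMulCommutative.is_comm (M := E)).comm]⟩⟩
  have hEn : ¬ IsCyclic E' := fun hc => by
    haveI := hc
    exact IsKleinFour.not_isCyclic (G := E) (isCyclic_of_surjective iE.symm iE.symm.surjective)
  have h2M : 2 ∣ Nat.card M := by
    have := Subgroup.card_subgroup_dvd_card E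
    rw [IsKleinFour.card_four] at this
    omega
  have hR2 : IsPGroup 2 R := by
    by_cases hp2 : p = 2
    · exact hp2 ▸ hRp
    · haveI := Fact.mk hp
      have hb := eq_bot_of_noncyclic h R E' hEc hEn (by
        obtain ⟨n, hn⟩ := hRp.exists_card_eq
        rw [hE4, hn, show (4 : ℕ) = 2 ^ 2 by norm_num]
        exact ((Nat.coprime_primes Nat.prime_two hp).2 (Ne.symm hp2)).pow _ _)
      rw [hb]
      exact IsPGroup.of_bot
  have hcard : Nat.card G = Nat.card M * M.index * Nat.card R := by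
    rw [Subgroup.card_mul_index, ← Subgroup.card_eq_card_quotient_mul_card_subgroup]
  have hsub : (Nat.card G).primeFactors ⊆ (Nat.card M).primeFactors := by
    intro q hq
    obtain ⟨hq, hd, -⟩ := Nat.mem_primeFactors.1 hq
    refine Nat.mem_primeFactors.2 ⟨hq, ?_, Nat.card_pos.ne'⟩
    rw [hcard] at hd
    rcases hq.dvd_mul.1 hd with hd | hd
    · rcases hq.dvd_mul.1 hd with hd | hd
      · exact hd
      · exact prime_dvd_of_dvd_index hH M hMnc hl hq hd
    · haveI : Fact (Nat.Prime 2) := ⟨Nat.prime_two⟩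
      obtain ⟨n, hn⟩ := hR2.exists_card_eq
      rw [hn] at hd
      rwa [(Nat.prime_dvd_prime_iff_eq hq Nat.prime_two).1 (hq.dvd_of_dvd_pow hd)]
  have hle := Finset.card_le_card hsub
  rcases list_data hl with ⟨h3, -⟩ | ⟨hb, hm⟩
  · exact ⟨by omega, fun h4 => by omega⟩
  refine ⟨hle.trans hb.1, fun _ => ?_⟩
  have hM1 : M = ⊤ := Subgroup.index_eq_one.1 (index_eq_one hH M hMnc hb)
  let eQ : G ⧸ R ≃* M := (Subgroup.topEquiv.symm).trans (MulEquiv.subgroupCongr hM1.symm)
  rcases hm with ⟨F, iF, iT, hF, ⟨e⟩⟩ | ⟨F, iF, iT, hm⟩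
  · left
    obtain ⟨D, hD, hDc, hDn⟩ := exists_nine hF
    let j := (eQ.trans e).symm
    have hb : R = ⊥ := by
      refine eq_bot_of_noncyclic h R (D.map j.toMonoidHom) ⟨⟨fun x y => ?_⟩⟩ (fun hc => ?_) ?_
      · apply (D.equivMapOfInjective j.toMonoidHom j.injective).symm.injective
        rw [map_mul, map_mul, (IsMulCommutative.is_comm (M := D)).comm]
      · haveI := hc
        exact hDn (isCyclic_of_surjective (D.equivMapOfInjective j.toMonoidHom j.injective).symm (D.equivMapOfInjective j.toMonoidHom j.injective).symm.surjective)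
      · haveI : Fact (Nat.Prime 2) := ⟨Nat.prime_two⟩
        obtain ⟨n, hn⟩ := hR2.exists_card_eq
        rw [← Nat.card_congr (D.equivMapOfInjective j.toMonoidHom j.injective).toEquiv, hD, hn]
        exact Nat.Coprime.pow_right _ (by norm_num)
    exact ⟨F, iF, iT, hF, ⟨QuotientGroup.quotientBot.symm.trans
      ((QuotientGroup.quotientMulEquivOfEq hb.symm).trans (eQ.trans e))⟩⟩
  · right
    refine ⟨R, hRn, hR2, F, iF, iT, ?_⟩
    rcases hm with ⟨hF, ⟨e⟩⟩ | ⟨hF, ⟨e⟩⟩
    · exact Or.inl ⟨hF, ⟨eQ.trans e⟩⟩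
    · exact Or.inr ⟨hF, ⟨eQ.trans e⟩⟩

end Cfsg.Agent.CIT
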