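import Cfsg.Agent.Lib.CIT.GenIndex
import Cfsg.Agent.S0205
import Cfsg.Agent.S3050
import Cfsg.Agent.Lib.PrimeBlock.Brauer.CubePerfect

/-!
# Nonsolvable CIT groups

`GenStatement` from the classification of the simple CIT groups, and `GenNatural`.
-/

set_option autoImplicit false
set_option linter.style.haveILetI false

namespace Cfsg.Agent.CIT

open Subgroup

universe u

namespace Gen

variable {G : Type u} [Group G] [Finite G]

theorem three_ne_one {H : Type*} [Group H] {x : H} (h : orderOf x = 3) :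
    x * x * x = 1 ∧ x ≠ 1 ∧ Odd (orderOf x) :=
  ⟨by rw [← pow_three', ← h, pow_orderOf_eq_one], fun e => by rw [e, orderOf_one] at h; omega,
    by rw [h]; decide⟩

/-- A group of order nine cannot act fixed-point-freely. -/
theorem not_hasNine {X : Type u} [Group X] {A : Type u} [AddCommGroup A] [Nontrivial A]
    (h2 : ∀ a : A, a + a = 0) (ρ : X →* AddMonoid.End A)
    (hfpf : ∀ x : X, Odd (orderOf x) → x ≠ 1 → ∀ a : A, ρ x a = a → a = 0) : ¬ HasNine X := by
  rintro ⟨a, b, hab, ha, hb, hab3, habb⟩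
  have q : ∀ x : X, orderOf x = 3 → ρ x * ρ x + ρ x + 1 = 0 := fun x hx =>
    quad_of_fpf ρ (three_ne_one hx).1 (hfpf x (three_ne_one hx).2.2 (three_ne_one hx).2.1)
  have h := one_eq_zero_of_pair ρ (end_add_self h2) hab (q a ha) (q b hb) (q _ hab3) (q _ habb)
    (three_ne_one hb).1
  obtain ⟨v, hv⟩ := exists_ne (0 : A)
  exact hv (DFunLike.congr_fun h v)

/-- `PSL₂(p)`, `p ≥ 7`, cannot act with fixed-point-free elements of order three. -/
theorem not_threeGen {X : Type u} [Group X] [IsSimpleGroup X] {A : Type u} [AddCommGroup A]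
    [Nontrivial A] (h2 : ∀ a : A, a + a = 0) (ρ : X →* AddMonoid.End A)
    (hfpf : ∀ x : X, Odd (orderOf x) → x ≠ 1 → ∀ a : A, ρ x a = a → a = 0)
    (hirr : ∀ f : AddMonoid.End A, (∀ x, Commute f (ρ x)) → f * f = 0 → f = 0) : ¬ ThreeGen X := by
  rintro ⟨y, z, g, hy, hz, hgen, hg⟩
  have q : ∀ x : X, orderOf x = 3 → ρ x * ρ x + ρ x + 1 = 0 := fun x hx =>
    quad_of_fpf ρ (three_ne_one hx).1 (hfpf x (three_ne_one hx).2.2 (three_ne_one hx).2.1)
  obtain ⟨cy, cz⟩ := commute_add_inv ρ (end_add_self h2) (three_ne_one hy).1 (three_ne_one hz).1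
    (q y hy) (q z hz) (h := g) (hgen ▸ mem_top g)
  set n := ρ g + ρ g⁻¹ with hn
  have hcomm : ∀ x, Commute n (ρ x) := by
    intro x
    have hx : x ∈ closure ({y, z} : Set X) := hgen ▸ mem_top x
    induction hx using closure_induction with
    | mem x hx =>
      rcases hx with rfl | rfl
      exacts [cy, cz]
    | one => rw [map_one]; exact Commute.one_right n
    | mul a b _ _ ha hb => rw [map_mul]; exact ha.mul_right hb
    | inv a _ ha =>
      have h1 : ρ a * ρ a⁻¹ = 1 := by rw [← map_mul, mul_inv_cancel, map_one]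
      have h2' : ρ a⁻¹ * ρ a = 1 := by rw [← map_mul, inv_mul_cancel, map_one]
      show n * ρ a⁻¹ = ρ a⁻¹ * n
      calc n * ρ a⁻¹ = ρ a⁻¹ * ρ a * (n * ρ a⁻¹) := by rw [h2', one_mul]
        _ = ρ a⁻¹ * (ρ a * n) * ρ a⁻¹ := by simp only [mul_assoc]
        _ = ρ a⁻¹ * (n * ρ a) * ρ a⁻¹ := by rw [ha.eq]
        _ = ρ a⁻¹ * n * (ρ a * ρ a⁻¹) := by simp only [mul_assoc]
        _ = _ := by rw [h1, mul_one]
  have hg4 : g⁻¹ * g⁻¹ = g * g := by
    rw [← mul_inv_rev, inv_eq_iff_mul_eq_one, ← mul_assoc, ← pow_three', ← pow_succ]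
    exact orderOf_dvd_iff_pow_eq_one.1 (by rw [hg])
  have hnn : n * n = 0 := by
    rw [hn, mul_add, add_mul, add_mul, ← map_mul, ← map_mul, ← map_mul, ← map_mul, inv_mul_cancel,
      mul_inv_cancel, map_one, hg4, show ρ (g * g) + 1 + (1 + ρ (g * g)) =
        (ρ (g * g) + ρ (g * g)) + (1 + 1) by abel, end_add_self h2, end_add_self h2, add_zero]
  have hn0 := hirr n hcomm hnn
  have hgg : ρ g = ρ g⁻¹ := by
    calc ρ g = ρ g + (ρ g⁻¹ + ρ g⁻¹) := by rw [end_add_self h2, add_zero]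
      _ = n + ρ g⁻¹ := (add_assoc _ _ _).symm
      _ = _ := by rw [hn0, zero_add]
  have hker : g * g ∈ ρ.ker := by
    rw [MonoidHom.mem_ker, map_mul]
    nth_rewrite 2 [hgg]
    rw [← map_mul, mul_inv_cancel, map_one]
  have hne : g * g ≠ 1 := fun e => by
    have := orderOf_dvd_of_pow_eq_one ((pow_two g).trans e)
    rw [hg] at this
    exact absurd (Nat.le_of_dvd two_pos this) (by norm_num)
  have hk : ρ.ker = ⊤ := by
    refine (IsSimpleGroup.eq_bot_or_eq_top_of_normal ρ.ker inferInstance).resolve_left fun e => hne ?_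
    rwa [e, mem_bot] at hker
  obtain ⟨v, hv⟩ := exists_ne (0 : A)
  refine hv (hfpf y (three_ne_one hy).2.2 (three_ne_one hy).2.1 v ?_)
  rw [show ρ y = 1 from MonoidHom.mem_ker.1 (hk ▸ mem_top y)]
  rfl

theorem isSolvable_of_quotient (R : Subgroup G) [R.Normal] [Group.IsSolvable R]
    (h : Group.IsSolvable (G ⧸ R)) : Group.IsSolvable G :=
  Group.isSolvable_of_ker_le_range R.subtype (QuotientGroup.mk' R) (by simp)

theorem isSolvable_two {H : Type*} [Group H] [Finite H] (h : IsPGroup 2 H) : Group.IsSolvable H := by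
  haveI : Fact (Nat.Prime 2) := ⟨Nat.prime_two⟩
  exact Coprime.isSolvable_of_isPGroup h

theorem pCore_quotient_eq_bot :
    haveI := TimesPSLTwo.Affine.pCore_two_normal G
    Cfsg.pCore 2 (G ⧸ Cfsg.pCore 2 G) = ⊥ := by
  haveI := TimesPSLTwo.Affine.pCore_two_normal G
  set R := Cfsg.pCore 2 G
  set M := Cfsg.pCore 2 (G ⧸ R)
  have hM : IsPGroup 2 M := TimesPSLTwo.Affine.pCore_two_isPGroup _
  have hle : M.comap (QuotientGroup.mk' R) ≤ R :=
    TimesPSLTwo.Affine.le_pCore_two ((TimesPSLTwo.Affine.pCore_two_normal _).comap _)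
      (hM.comap_of_ker_isPGroup _ (by rw [QuotientGroup.ker_mk']; exact isPGroup_pCore))
  rw [← Subgroup.map_comap_eq_self_of_surjective (QuotientGroup.mk'_surjective R) M, eq_bot_iff]
  rintro _ ⟨g, hg, rfl⟩
  exact (QuotientGroup.eq_one_iff g).2 (hle hg)

end Gen

open Gen in
/-- **Nonsolvable CIT groups.** -/
theorem genStatement (hT : CITTheorem.{u}) : GenStatement.{u} := by
  intro G _ _ hC hns
  haveI : Fact (Nat.Prime 2) := ⟨Nat.prime_two⟩
  haveI := TimesPSLTwo.Affine.pCore_two_normal G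
  set R := Cfsg.pCore 2 G with hR
  have hRp : IsPGroup 2 R := isPGroup_pCore
  have hX : IsCIT (G ⧸ R) := isCIT_quotient hC R hRp
  have hO : Cfsg.pCore 2 (G ⧸ R) = ⊥ := pCore_quotient_eq_bot
  haveI : Group.IsSolvable R := isSolvable_two hRp
  have hnsX : ¬ Group.IsSolvable (G ⧸ R) := fun h => hns (isSolvable_of_quotient R h)
  have hev : 2 ∣ Nat.card (G ⧸ R) := by
    by_contra h
    exact hnsX (S0205.result (Nat.not_even_iff_odd.1 (mt even_iff_two_dvd.1 h)))
  have hfour : ∃ a b : G ⧸ R, orderOf a = 2 ∧ orderOf b = 2 ∧ a ≠ b ∧ Commute a b := by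
    by_contra! hh
    obtain ⟨-, hab, -, hsup, -, -⟩ := rankOne hX hO hev fun a b ha hb hab =>
      by_contra fun hne => hh a b ha hb hne hab
    haveI := InvChar.Core.pPrimeCore_characteristic (G := G ⧸ R) 2
    haveI : (Cfsg.oddCore (G ⧸ R)).Normal := normal_of_characteristic _
    set O := Cfsg.oddCore (G ⧸ R) with hOdef
    haveI : IsMulCommutative O := ⟨⟨fun a b => Subtype.ext (hab a a.2 b b.2)⟩⟩
    haveI : Group.IsSolvable O := Coprime.isSolvable_of_isMulCommutative O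
    obtain ⟨S⟩ : Nonempty (Sylow 2 (G ⧸ R)) := inferInstance
    haveI := isSolvable_two S.isPGroup'
    refine hnsX (isSolvable_of_quotient O ?_)
    refine Group.isSolvable_of_surjective
      (f := (QuotientGroup.mk' O).comp (S : Subgroup (G ⧸ R)).subtype) fun q => ?_
    obtain ⟨x, rfl⟩ := QuotientGroup.mk'_surjective O q
    obtain ⟨o, ho, s, hs, rfl⟩ := Subgroup.mem_sup_of_normal_left.1 (hsup S ▸ mem_top x)
    exact ⟨⟨s, hs⟩, by
      rw [map_mul, show QuotientGroup.mk' O o = 1 from (QuotientGroup.eq_one_iff o).2 ho, one_mul]; rfl⟩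
  have hodd := oddCore_eq_bot_of_two hC R hRp hfour
  obtain ⟨a, b, ha, hb, hne, hab⟩ := hfour
  obtain ⟨L, hLn, hLs, hLna, hLC, hcen, -⟩ := socle hX hO ha hb hne hab
  haveI := hLn
  haveI := hLs
  have hlist : CITList L := hT L hLna hLC
  obtain ⟨hone, hcases⟩ := list_facts hlist
  have hLeven : ∃ t ∈ L, orderOf t = 2 := exists_involution_mem fun ho =>
    hLna ⟨⟨IsSimpleGroup.comm_iff_isSolvable.2 (S0205.result ho)⟩⟩
  have hp := isPGroup_quotient hX L hone hLeven
  have hidx : L = ⊤ ∨ (L.index = 2 ∧ IsPSLTwoNine L) := by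
    rcases hcases with ⟨⟨k, hk, hcl⟩, -⟩ | ⟨h9, ⟨k, k', hk, hcl⟩, -⟩ | hs
    · exact Or.inl (index_eq_one.1 ((index_le hX L hp (k' := k) hk fun x hx => Or.inl (hcl x hx)).2 hcl))
    · have h := (index_le hX L hp hk hcl).1
      rcases Nat.lt_or_ge L.index 2 with h' | h'
      · exact Or.inl (index_eq_one.1 (by
          have := L.index_ne_zero_of_finite
          omega))
      · exact Or.inr ⟨le_antisymm h h', h9⟩
    · exact Or.inl (index_eq_one.1 (index_suzuki L hp hcen hs))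
  have hidx2 : L.index = 1 ∨ L.index = 2 := by
    rcases hidx with h | ⟨h, -⟩
    · exact Or.inl (by rw [h, index_top])
    · exact Or.inr h
  refine ⟨hodd, hX, L, hLn, hLs, hLna, hLC, hcen, hlist, hidx, ?_, ?_⟩
  · intro r hr hr2 hd
    obtain ⟨n, hn⟩ := IsPGroup.iff_card.1 hRp
    rw [Subgroup.card_eq_card_quotient_mul_card_subgroup R, hn] at hd
    rcases hr.dvd_mul.1 hd with h | h
    · rw [← L.card_mul_index] at h
      rcases hr.dvd_mul.1 h with h' | h'
      · exact h'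
      · rcases hidx2 with e | e <;> rw [e] at h'
        · exact absurd (Nat.dvd_one.1 h') hr.ne_one
        · exact absurd ((Nat.prime_dvd_prime_iff_eq hr Nat.prime_two).1 h') hr2
    · exact absurd ((Nat.prime_dvd_prime_iff_eq hr Nat.prime_two).1 (hr.dvd_of_dvd_pow h)) hr2
  · refine or_iff_not_imp_left.2 fun hR1 => ?_
    obtain ⟨A, iA, iN, ρ, h2, hfpf, hirr⟩ := exists_rep hC R hRp hR1
    have hfpfL : ∀ x : L, Odd (orderOf x) → x ≠ 1 → ∀ v : A, ρ.comp L.subtype x v = v → v = 0 :=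
      fun x hx hx1 => hfpf x (by rwa [Subgroup.orderOf_coe]) fun e => hx1 (Subtype.ext e)
    have hnine : ¬ HasNine L := fun h => by
      obtain ⟨a, b, hab, ha, hb, hab3, habb⟩ := h
      exact not_hasNine h2 ρ hfpf ⟨a, b, hab.map L.subtype, by rw [Subgroup.orderOf_coe, ha],
        by rw [Subgroup.orderOf_coe, hb], by rw [← Subgroup.coe_mul, Subgroup.orderOf_coe, hab3],
        by rw [← Subgroup.coe_mul, ← Subgroup.coe_mul, Subgroup.orderOf_coe, habb]⟩
    rcases hcases with ⟨⟨k, hk, hcl⟩, hkind⟩ | ⟨-, -, h⟩ | hs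
    · have htop : L = ⊤ :=
        index_eq_one.1 ((index_le hX L hp (k' := k) hk fun x hx => Or.inl (hcl x hx)).2 hcl)
      rcases hkind with he | h | h
      · exact ⟨htop, he⟩
      · exact absurd h hnine
      · refine absurd h (not_threeGen h2 (ρ.comp L.subtype) hfpfL fun f hf hff =>
          hirr f (fun x => ?_) hff)
        exact hf ⟨x, htop ▸ mem_top x⟩
    · exact absurd h hnine
    · exact ⟨index_eq_one.1 (index_suzuki L hp hcen hs), Or.inr hs⟩

open Gen in
/-- **The 2-core over `SL₂(2ⁿ)`.** -/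
theorem genNatural : GenNatural.{u} := by
  intro G _ _ hC F _ _ n hn hF ⟨e⟩
  haveI : Fact (Nat.Prime 3) := ⟨Nat.prime_three⟩
  haveI := TimesPSLTwo.Affine.pCore_two_normal G
  obtain ⟨ψ⟩ := Cfsg.Agent.PrimeBlock.Brauer.sl_equiv_psl F (show n ≠ 0 by omega) hF
  have h3 : 3 ∣ Nat.card G := by
    refine dvd_trans ?_ (Subgroup.card_quotient_dvd_card (Cfsg.pCore 2 G))
    rw [Nat.card_congr e.toEquiv]
    exact three_dvd_psl
  obtain ⟨x, hx⟩ := exists_prime_orderOf_dvd_card' 3 h3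
  exact (S3050.result _ isPGroup_pCore n hn F hF (e.trans ψ) x hx fun q hq hxq =>
    fixed_eq_one hC isPGroup_pCore (three_ne_one hx).2.2 (three_ne_one hx).2.1 hq hxq).1

end Cfsg.Agent.CIT
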