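import Cfsg.Agent.Lib.CIT.GenModelsThree
import Cfsg.Agent.Lib.CIT.GenQuot
import Cfsg.Agent.Lib.Suzuki.LieEquiv

/-!
# CIT groups: the socle has index one or two

One class of involutions makes the index a power of two, one class of some elements of odd order
makes it odd.
-/

set_option autoImplicit false
set_option linter.style.haveILetI false

namespace Cfsg.Agent.CIT.Gen

open Subgroup

universe u

theorem OneClass.of_equiv {L : Type*} [Group L] {M : Type*} [Group M] (e : L ≃* M) (h : OneClass M) :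
    OneClass L := fun x y hx hy => by
  simpa using e.symm.toMonoidHom.map_isConj
    (h (e x) (e y) (by rw [MulEquiv.orderOf_eq, hx]) (by rw [MulEquiv.orderOf_eq, hy]))

theorem HasNine.of_equiv {L : Type*} [Group L] {M : Type*} [Group M] (e : L ≃* M) (h : HasNine M) :
    HasNine L := by
  obtain ⟨a, b, hab, ha, hb, hab3, habb⟩ := h
  refine ⟨e.symm a, e.symm b, hab.map e.symm.toMonoidHom, ?_, ?_, ?_, ?_⟩
  · rw [MulEquiv.orderOf_eq, ha]
  · rw [MulEquiv.orderOf_eq, hb]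
  · rw [← map_mul, MulEquiv.orderOf_eq, hab3]
  · rw [← map_mul, ← map_mul, MulEquiv.orderOf_eq, habb]

/-- Two elements of odd order covering the elements of order three up to conjugacy. -/
def TwoClasses (L : Type*) [Group L] : Prop :=
  ∃ k k' : L, orderOf k = 3 ∧ ∀ x : L, orderOf x = 3 → IsConj k x ∨ IsConj k' x

/-- One class of elements of order three. -/
def ThreeClass (L : Type*) [Group L] : Prop :=
  ∃ k : L, orderOf k = 3 ∧ ∀ x : L, orderOf x = 3 → IsConj k x

theorem TwoClasses.of_equiv {L : Type*} [Group L] {M : Type*} [Group M] (e : L ≃* M)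
    (h : TwoClasses M) : TwoClasses L := by
  obtain ⟨k, k', hk, h⟩ := h
  refine ⟨e.symm k, e.symm k', by rw [MulEquiv.orderOf_eq, hk], fun x hx => ?_⟩
  refine (h (e x) (by rw [MulEquiv.orderOf_eq, hx])).imp (fun hc => ?_) (fun hc => ?_) <;>
    simpa using e.symm.toMonoidHom.map_isConj hc

theorem ThreeClass.of_equiv {L : Type*} [Group L] {M : Type*} [Group M] (e : L ≃* M)
    (h : ThreeClass M) : ThreeClass L := by
  obtain ⟨k, hk, h⟩ := h
  refine ⟨e.symm k, by rw [MulEquiv.orderOf_eq, hk], fun x hx => ?_⟩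
  simpa using e.symm.toMonoidHom.map_isConj (h (e x) (by rw [MulEquiv.orderOf_eq, hx]))

/-- Two generators of order three and an element of order four. -/
def ThreeGen (L : Type*) [Group L] : Prop :=
  ∃ y z g : L, orderOf y = 3 ∧ orderOf z = 3 ∧ closure ({y, z} : Set L) = ⊤ ∧ orderOf g = 4

theorem ThreeGen.of_equiv {L : Type*} [Group L] {M : Type*} [Group M] (e : L ≃* M)
    (h : ThreeGen M) : ThreeGen L := by
  obtain ⟨y, z, g, hy, hz, hc, hg⟩ := h
  refine ⟨e.symm y, e.symm z, e.symm g, by rw [MulEquiv.orderOf_eq, hy],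
    by rw [MulEquiv.orderOf_eq, hz], ?_, by rw [MulEquiv.orderOf_eq, hg]⟩
  have h1 := e.symm.toMonoidHom.map_closure ({y, z} : Set M)
  rw [hc, map_top_of_surjective _ e.symm.surjective, Set.image_insert_eq, Set.image_singleton] at h1
  exact h1.symm

/-- What is needed about the members of the list. -/
theorem list_facts {L : Type*} [Group L] (h : CITList L) :
    OneClass L ∧
      ((ThreeClass L ∧ (EvenRankOne L ∨ HasNine L ∨ ThreeGen L)) ∨
        (IsPSLTwoNine L ∧ TwoClasses L ∧ HasNine L) ∨ Cfsg.Lie.IsoSuzuki L) := by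
  rcases h with ⟨F, i1, i2, hF, ⟨e⟩⟩ | ⟨F, i1, i2, h4, ⟨e⟩⟩ | hs
  · rcases hF with h9 | ⟨n, hn, h2n⟩ | ⟨h5, hp, k, hk⟩
    · have h2 : (2 : F) ≠ 0 := Ring.two_ne_zero (by
        haveI : Fact (Nat.Prime 3) := ⟨Nat.prime_three⟩
        haveI : CharP F 3 := charP_of_card_eq_prime_pow (p := 3) (f := 2) h9
        rw [ringChar.eq F 3]; norm_num)
      obtain ⟨h1, h2'⟩ := nine_facts h9
      exact ⟨(oneClass_odd h2).of_equiv e,
        Or.inr (Or.inl ⟨⟨F, i1, i2, h9, ⟨e⟩⟩, TwoClasses.of_equiv e h2', h1.of_equiv e⟩)⟩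
    · haveI : CharP F 2 := charP_of_card_eq_prime_pow (p := 2) (f := n) h2n
      have h2 : (2 : F) = 0 := CharTwo.two_eq_zero
      obtain ⟨k, hk⟩ := exists_order_three (F := F)
      exact ⟨(oneClass_two h2).of_equiv e, Or.inl
        ⟨ThreeClass.of_equiv e ⟨k, hk, fun x hx => three_conj_two h2 hk hx⟩,
          Or.inl (Or.inl ⟨F, i1, i2, ⟨n, hn, h2n⟩, ⟨e⟩⟩)⟩⟩
    · haveI : Fact (Fintype.card F).Prime := ⟨hp⟩
      haveI : CharP F (Fintype.card F) := charP_of_card_eq_prime_pow (f := 1) (pow_one _).symm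
      have hne : ∀ j : ℕ, 0 < j → j < Fintype.card F → (j : F) ≠ 0 := fun j hj hlt e0 => by
        have := Nat.le_of_dvd hj ((CharP.cast_eq_zero_iff F (Fintype.card F) j).1 e0)
        omega
      have h2 : (2 : F) ≠ 0 := by simpa using hne 2 two_pos (by omega)
      have h3 : (3 : F) ≠ 0 := by simpa using hne 3 (by norm_num) (by omega)
      obtain ⟨c, hc⟩ := exists_order_three (F := F)
      refine ⟨(oneClass_odd h2).of_equiv e, Or.inl
        ⟨ThreeClass.of_equiv e ⟨c, hc, fun x hx => three_conj_odd h3 hc hx⟩, ?_⟩⟩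
      by_cases h7 : 7 ≤ Fintype.card F
      · obtain ⟨y, z, hy, hz, hgen⟩ := exists_three_gen hp h2
        obtain ⟨g, hg⟩ := exists_order_four h7 hk
        exact Or.inr (Or.inr (ThreeGen.of_equiv e ⟨y, z, g, hy, hz, hgen, hg⟩))
      · have : Fintype.card F = 5 := by
          rcases Nat.lt_or_ge 5 (Fintype.card F) with h | h
          · have h6 : Fintype.card F = 6 := by omega
            rw [h6] at hp
            exact absurd hp (by decide)
          · omega
        obtain ⟨K, j1, j2, hK, ⟨f⟩⟩ := exists_four_of_five this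
        exact Or.inl (Or.inl ⟨K, j1, j2, ⟨2, le_rfl, hK⟩, ⟨e.trans f⟩⟩)
  · have h9 := hasNine_three_four h4
    obtain ⟨a, b, -, ha, -⟩ := h9
    exact ⟨(oneClass_three_four h4).of_equiv e, Or.inl
      ⟨ThreeClass.of_equiv e ⟨a, ha, fun x hx => three_conj_three_four h4 ha hx⟩,
        Or.inr (Or.inl ((hasNine_three_four h4).of_equiv e))⟩⟩
  · refine ⟨?_, Or.inr (Or.inr hs)⟩
    obtain ⟨F, i1, i2, m, hm, hF, ⟨e⟩⟩ := hs
    haveI : Fact (Nat.Prime 2) := ⟨Nat.prime_two⟩
    haveI : CharP F 2 := charP_of_card_eq_prime_pow (f := 2 * m + 1) hF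
    obtain ⟨f⟩ := Suzuki.lieEquiv (F := F) hm hF
    exact (oneClass_sz hm hF).of_equiv (e.trans f.symm)

variable {X : Type u} [Group X] [Finite X]

theorem isPGroup_quotient (h : IsCIT X) (L : Subgroup X) [L.Normal] (h1 : OneClass L)
    (h2 : ∃ t ∈ L, orderOf t = 2) : IsPGroup 2 (X ⧸ L) := by
  obtain ⟨t, htL, ht⟩ := h2
  intro q
  obtain ⟨g, rfl⟩ := QuotientGroup.mk_surjective q
  obtain ⟨l, hl⟩ := isConj_iff.1 (h1 ⟨t, htL⟩ (MulAut.conjNormal g ⟨t, htL⟩)
    (by rw [Subgroup.orderOf_mk, ht]) (by rw [MulEquiv.orderOf_eq, Subgroup.orderOf_mk, ht]))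
  have hl' : (l : X) * t * (l : X)⁻¹ = g * t * g⁻¹ := congrArg Subtype.val hl
  have hc : (l : X)⁻¹ * g ∈ centralizer ({t} : Set X) := mem_centralizer_singleton_iff.2 (by
    calc (l : X)⁻¹ * g * t = (l : X)⁻¹ * (g * t * g⁻¹) * g := by group
      _ = (l : X)⁻¹ * ((l : X) * t * (l : X)⁻¹) * g := by rw [hl']
      _ = _ := by group)
  obtain ⟨k, hk⟩ := h t ht ⟨_, hc⟩
  refine ⟨k, ?_⟩
  have hk' := congrArg (fun z : centralizer ({t} : Set X) => QuotientGroup.mk' L (z : X)) hk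
  simp only [Subgroup.coe_pow, map_pow, map_mul, OneMemClass.coe_one, map_one] at hk'
  rwa [show QuotientGroup.mk' L (l : X)⁻¹ = 1 from (QuotientGroup.eq_one_iff _).2 (inv_mem l.2), one_mul] at hk'

theorem relIndex_odd (h : IsCIT X) (L : Subgroup X) [L.Normal] {k : X} (hk : k ≠ 1)
    (hko : Odd (orderOf k)) : Odd (L.relIndex (L ⊔ centralizer ({k} : Set X))) := by
  rw [Subgroup.relIndex_sup_left]
  refine Odd.of_dvd_nat (Decidable.of_not_not fun hev => hk ?_) (Subgroup.relIndex_dvd_card _ _)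
  obtain ⟨t, htC, ht⟩ := exists_involution_mem hev
  exact h.eq_one_of_commute ht hko (mem_centralizer_singleton_iff.1 htC)

theorem index_le (h : IsCIT X) (L : Subgroup X) [L.Normal] (hp : IsPGroup 2 (X ⧸ L)) {k k' : L}
    (hk : orderOf k = 3) (hcl : ∀ x : L, orderOf x = 3 → IsConj k x ∨ IsConj k' x) :
    L.index ≤ 2 ∧ ((∀ x : L, orderOf x = 3 → IsConj k x) → L.index = 1) := by
  haveI : Fact (Nat.Prime 2) := ⟨Nat.prime_two⟩
  set K := L ⊔ centralizer ({(k : X)} : Set X) with hK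
  have hkX : orderOf (k : X) = 3 := by rw [Subgroup.orderOf_coe, hk]
  have hk1 : (k : X) ≠ 1 := fun e => by rw [e, orderOf_one] at hkX; omega
  have hrel := relIndex_odd h L hk1 (by rw [hkX]; decide)
  obtain ⟨n, hn⟩ := IsPGroup.iff_card.1 hp
  have hidx : L.relIndex K * K.index = L.index := Subgroup.relIndex_mul_index le_sup_left
  have hrel1 : L.relIndex K = 1 := Nat.Coprime.eq_one_of_dvd ((Nat.coprime_two_right.2 hrel).pow_right n)
    (hn ▸ Subgroup.index_eq_card L ▸ Dvd.intro _ hidx)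
  rw [hrel1, one_mul] at hidx
  have hor : ∀ g : X, orderOf (MulAut.conjNormal g k : L) = 3 := fun g => by rw [MulEquiv.orderOf_eq, hk]
  -- elements conjugating `k` within its class lie in `K`
  have mem : ∀ g : X, IsConj k (MulAut.conjNormal g k : L) → g ∈ K := by
    intro g hg
    obtain ⟨l, hl⟩ := isConj_iff.1 hg
    have hl' : (l : X) * k * (l : X)⁻¹ = g * k * g⁻¹ := congrArg Subtype.val hl
    have hc : (l : X)⁻¹ * g ∈ centralizer ({(k : X)} : Set X) := mem_centralizer_singleton_iff.2 (by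
      calc (l : X)⁻¹ * g * k = (l : X)⁻¹ * (g * k * g⁻¹) * g := by group
        _ = (l : X)⁻¹ * ((l : X) * k * (l : X)⁻¹) * g := by rw [hl']
        _ = _ := by group)
    rw [show g = (l : X) * ((l : X)⁻¹ * g) by group]
    exact mul_mem (mem_sup_left l.2) (mem_sup_right hc)
  refine ⟨?_, fun h1 => ?_⟩
  swap
  · rw [← hidx, Subgroup.index_eq_one, eq_top_iff]
    exact fun g _ => mem g (h1 _ (hor g))
  by_cases htop : K = ⊤
  · rw [← hidx, htop, Subgroup.index_top]; norm_num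
  obtain ⟨g₀, hg₀⟩ : ∃ g, g ∉ K := by
    by_contra! hh
    exact htop (eq_top_iff.2 fun g _ => hh g)
  rw [← hidx, Subgroup.index_eq_card]
  let f : Bool → X ⧸ K := fun b => if b then (g₀ : X ⧸ K) else ((1 : X) : X ⧸ K)
  refine le_of_le_of_eq (Nat.card_le_card_of_surjective f ?_) (by simp)
  intro q
  obtain ⟨g, rfl⟩ := QuotientGroup.mk_surjective q
  by_cases hg : g ∈ K
  · exact ⟨false, by simpa [f, QuotientGroup.eq] using hg⟩
  refine ⟨true, ?_⟩
  show (g₀ : X ⧸ K) = g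
  rw [QuotientGroup.eq]
  have hk0 := (hcl _ (hor g₀)).resolve_left fun hc => hg₀ (mem _ hc)
  have hk1' := (hcl _ (hor g)).resolve_left fun hc => hg (mem _ hc)
  obtain ⟨l, hl⟩ := isConj_iff.1 (hk0.symm.trans hk1')
  have hl' : (l : X) * (g₀ * k * g₀⁻¹) * (l : X)⁻¹ = g * k * g⁻¹ := congrArg Subtype.val hl
  have hc : g₀⁻¹ * (l : X)⁻¹ * g ∈ centralizer ({(k : X)} : Set X) := mem_centralizer_singleton_iff.2 (by
    calc g₀⁻¹ * (l : X)⁻¹ * g * k = g₀⁻¹ * (l : X)⁻¹ * (g * k * g⁻¹) * g := by group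
      _ = g₀⁻¹ * (l : X)⁻¹ * ((l : X) * (g₀ * k * g₀⁻¹) * (l : X)⁻¹) * g := by rw [hl']
      _ = _ := by group)
  rw [show g₀⁻¹ * g = g₀⁻¹ * (l : X) * g₀ * (g₀⁻¹ * (l : X)⁻¹ * g) by group]
  exact mul_mem (mem_sup_left (by simpa using (inferInstance : L.Normal).conj_mem _ l.2 g₀⁻¹))
    (mem_sup_right hc)

theorem index_suzuki (L : Subgroup X) [L.Normal] (hp : IsPGroup 2 (X ⧸ L))
    (hcen : centralizer (L : Set X) = ⊥) (hs : Cfsg.Lie.IsoSuzuki L) : L.index = 1 := by
  haveI : Fact (Nat.Prime 2) := ⟨Nat.prime_two⟩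
  obtain ⟨F, i1, i2, m, hm, hF, ⟨e⟩⟩ := hs
  haveI : CharP F 2 := charP_of_card_eq_prime_pow (f := 2 * m + 1) hF
  obtain ⟨f⟩ := Suzuki.lieEquiv (F := F) hm hF
  let φ : X →* MulAut L ⧸ Cfsg.Inn L :=
    (QuotientGroup.mk' (Cfsg.Inn L)).comp MulAut.conjNormal
  have hker : φ.ker = L := by
    ext g
    rw [MonoidHom.mem_ker]
    constructor
    · intro hg
      obtain ⟨l, hl⟩ := (QuotientGroup.eq_one_iff _).1 hg
      have hc : (l : X)⁻¹ * g ∈ centralizer (L : Set X) := mem_centralizer_iff.2 fun y hy => by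
        have h := congrArg (fun a : MulAut L => ((a ⟨y, hy⟩ : L) : X)) hl
        have h' : (l : X) * y * (l : X)⁻¹ = g * y * g⁻¹ := h
        calc y * ((l : X)⁻¹ * g) = (l : X)⁻¹ * ((l : X) * y * (l : X)⁻¹) * g := by group
          _ = (l : X)⁻¹ * (g * y * g⁻¹) * g := by rw [h']
          _ = _ := by group
      rw [hcen, mem_bot, inv_mul_eq_one] at hc
      exact hc ▸ l.2
    · intro hg
      exact (QuotientGroup.eq_one_iff _).2 ⟨⟨g, hg⟩, MulEquiv.ext fun y => Subtype.ext rfl⟩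
  obtain ⟨n, hn⟩ := IsPGroup.iff_card.1 hp
  rw [← Subgroup.index_eq_card] at hn
  have hd : L.index ∣ 2 * m + 1 := by
    rw [← hker, Subgroup.index_ker, ← Suzuki.card_out hm hF]
    refine (Subgroup.card_subgroup_dvd_card _).trans (dvd_of_eq ?_)
    exact Suzuki.out_congr hF (e.trans f.symm)
  exact Nat.Coprime.eq_one_of_dvd
    (hn ▸ ((Nat.coprime_two_left.2 (by simp : Odd (2 * m + 1))).pow_left n)) hd

end Cfsg.Agent.CIT.Gen
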