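import Cfsg.Agent.Lib.PSLBinary.Classify
import Cfsg.Agent.Lib.PSLBinary.Small
import Cfsg.Agent.Lib.Forms.DicksonDihedral
import Cfsg.Agent.Lib.Forms.DicksonField
import Cfsg.Agent.S0494
import Cfsg.Agent.S0252

/-!
# CIT groups: what is needed about the models `PSL₂`
-/

set_option autoImplicit false
set_option linter.unusedSectionVars false

namespace Cfsg.Agent.CIT.Gen

open Matrix
open scoped MatrixGroups
open Cfsg.Agent.PSLBinary
open Cfsg.Agent.Classical.GL2 (uniSL lowSL coe_uniSL coe_lowSL)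

/-- All involutions are conjugate. -/
def OneClass (L : Type*) [Group L] : Prop := ∀ x y : L, orderOf x = 2 → orderOf y = 2 → IsConj x y

/-- There is an elementary abelian subgroup of order nine. -/
def HasNine (L : Type*) [Group L] : Prop :=
  ∃ a b : L, Commute a b ∧ orderOf a = 3 ∧ orderOf b = 3 ∧ orderOf (a * b) = 3 ∧
    orderOf (a * (b * b)) = 3

variable {F : Type*} [Field F] [Fintype F]

local notation "M2" => Matrix (Fin 2) (Fin 2) F
local notation "π" => Forms.KleinPSL.pi F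
local notation "PG" => Matrix.ProjectiveSpecialLinearGroup (Fin 2) F

theorem three_dvd_psl : 3 ∣ Nat.card PG := by
  have h := Forms.DicksonCor.gcd_mul_natCard (F := F)
  have h1 := Fintype.one_lt_card (α := F)
  have hg : Nat.gcd 2 (Fintype.card F - 1) = 1 ∨ Nat.gcd 2 (Fintype.card F - 1) = 2 :=
    (Nat.dvd_prime Nat.prime_two).1 (Nat.gcd_dvd_left _ _)
  have h3 : 3 ∣ Fintype.card F * ((Fintype.card F - 1) * (Fintype.card F + 1)) := by
    obtain ⟨k, hk⟩ : ∃ k, Fintype.card F = k + 1 := ⟨_, (Nat.succ_pred_eq_of_pos Fintype.card_pos).symm⟩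
    rw [hk, Nat.add_sub_cancel]
    have : k % 3 = 0 ∨ k % 3 = 1 ∨ k % 3 = 2 := by omega
    rcases this with e | e | e
    · exact Dvd.dvd.mul_left ((Nat.dvd_of_mod_eq_zero e).mul_right _) _
    · exact Dvd.dvd.mul_left ((Nat.dvd_of_mod_eq_zero (by omega : (k + 1 + 1) % 3 = 0)).mul_left _) _
    · exact Dvd.dvd.mul_right (Nat.dvd_of_mod_eq_zero (by omega : (k + 1) % 3 = 0)) _
  rw [← h] at h3
  rcases hg with e | e <;> rw [e] at h3
  · rwa [one_mul] at h3
  · exact (Nat.Coprime.dvd_of_dvd_mul_left (by norm_num) h3)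

theorem exists_order_three : ∃ k : PG, orderOf k = 3 := by
  haveI : Fact (Nat.Prime 3) := ⟨Nat.prime_three⟩
  exact exists_prime_orderOf_dvd_card' 3 three_dvd_psl

theorem oneClass_two (h2 : (2 : F) = 0) : OneClass PG := fun x y hx hy =>
  (invol_conj_one h2 hx).symm.trans (invol_conj_one h2 hy)

theorem oneClass_odd (h2 : (2 : F) ≠ 0) : OneClass PG := fun x y hx hy =>
  Forms.KleinPSL.involutions_isConj h2 x y hx hy

theorem three_conj_two (h2 : (2 : F) = 0) {x y : PG} (hx : orderOf x = 3) (hy : orderOf y = 3) :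
    IsConj x y := by
  obtain ⟨X, rfl⟩ := Forms.KleinPSL.pi_surjective x
  obtain ⟨Y, rfl⟩ := Forms.KleinPSL.pi_surjective y
  refine (π).map_isConj (isConj_of_trace ?_ ?_)
  · rw [trace_of_order_three h2 hx, trace_of_order_three h2 hy]
  · rw [trace_of_order_three h2 hx]
    intro e
    exact one_ne_zero (α := F) (by linear_combination e + (2 : F) * h2)

theorem three_conj_odd (h3 : (3 : F) ≠ 0) {x y : PG} (hx : orderOf x = 3) (hy : orderOf y = 3) :
    IsConj x y := by
  obtain ⟨X, rfl⟩ := Forms.KleinPSL.pi_surjective x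
  obtain ⟨Y, rfl⟩ := Forms.KleinPSL.pi_surjective y
  exact isConj_pi_of_trace (by rw [trace_sq_three hx]; intro e; exact h3 (by linear_combination -e))
    (sq_eq_sq_iff_eq_or_eq_neg.1 (by rw [trace_sq_three hx, trace_sq_three hy]))

/-- The elements of order three of `PSL₂(9)` form at most two classes; there are two independent
commuting ones. -/
theorem nine_facts (h9 : Fintype.card F = 9) :
    HasNine PG ∧ ∃ k k' : PG, orderOf k = 3 ∧
      ∀ x : PG, orderOf x = 3 → IsConj k x ∨ IsConj k' x := by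
  classical
  haveI : Fact (Nat.Prime 3) := ⟨Nat.prime_three⟩
  haveI : CharP F 3 := charP_of_card_eq_prime_pow (p := 3) (f := 2) h9
  have h3 : (3 : F) = 0 := by exact_mod_cast CharP.cast_eq_zero F 3
  have h2 : (2 : F) ≠ 0 := fun e => one_ne_zero (α := F) (by linear_combination h3 - e)
  set f : Multiplicative F →* PG := (π).comp (Classical.GL2.uniHom F) with hf
  have hfi : Function.Injective f := by
    rw [injective_iff_map_eq_one]
    intro b hb
    apply Multiplicative.toAdd.injective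
    rcases Forms.KleinPSL.pi_eq_one.1 hb with e | e
    · simpa [Classical.GL2.coe_uniHom] using congrArg (fun W : SL(2, F) => (W : M2) 0 1) e
    · simpa [Classical.GL2.coe_uniHom] using congrArg (fun W : SL(2, F) => (W : M2) 0 1) e
  have hU : Nat.card f.range = 3 ^ 2 := by
    rw [← Nat.card_congr (MonoidHom.ofInjective hfi).toEquiv, Nat.card_congr Multiplicative.toAdd,
      Nat.card_eq_fintype_card, h9]
    norm_num
  have hPG : Nat.card PG = 360 := by
    have h := Forms.DicksonCor.gcd_mul_natCard (F := F)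
    rw [h9, show Nat.gcd 2 (9 - 1) = 2 from rfl] at h
    omega
  let P : Sylow 3 PG := Sylow.ofCard f.range (by
    rw [hU, hPG, show 360 = 3 ^ 2 * 40 from rfl, Nat.factorization_mul (by norm_num) (by norm_num),
      Finsupp.add_apply, Nat.Prime.factorization_pow Nat.prime_three, Finsupp.single_eq_same,
      Nat.factorization_eq_zero_of_not_dvd (by norm_num : ¬ 3 ∣ 40)])
  have hu : ∀ c : F, c ≠ 0 → orderOf (π (uniSL c)) = 3 := fun c hc => by
    refine orderOf_eq_prime ?_ fun e => hc ?_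
    · show f (Multiplicative.ofAdd c) ^ 3 = 1
      rw [← map_pow, ← ofAdd_nsmul, nsmul_eq_mul, show ((3 : ℕ) : F) = 0 by simpa using h3, zero_mul,
        ofAdd_zero, map_one]
    · have := hfi (show f (Multiplicative.ofAdd c) = f 1 by rw [map_one]; exact e)
      simpa using congrArg Multiplicative.toAdd this
  have hmul : ∀ b c : F, π (uniSL b) * π (uniSL c) = π (uniSL (b + c)) := fun b c => by
    rw [← map_mul, Classical.GL2.uniSL_mul]
  obtain ⟨c, hc⟩ : ∃ c : F, c ∉ ({0, 1, -1} : Finset F) := by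
    by_contra! hall
    have h := Finset.card_le_card (s := Finset.univ) (fun w _ => hall w)
    have : ({0, 1, -1} : Finset F).card ≤ 3 := Finset.card_le_three
    rw [Finset.card_univ] at h
    omega
  simp only [Finset.mem_insert, Finset.mem_singleton, not_or] at hc
  refine ⟨⟨π (uniSL 1), π (uniSL c), ?_, hu 1 one_ne_zero, hu c hc.1, ?_, ?_⟩, ?_⟩
  · show _ * _ = _ * _
    rw [hmul, hmul, add_comm]
  · rw [hmul]
    exact hu _ fun e => hc.2.2 (by linear_combination e)
  · rw [hmul, hmul]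
    exact hu _ fun e => hc.2.1 (by linear_combination -e + c * h3)
  obtain ⟨ν, hν⟩ := FiniteField.exists_nonsquare (F := F) (by
    rw [ringChar.eq F 3]; norm_num)
  refine ⟨π (uniSL 1), π (uniSL ν), hu 1 one_ne_zero, fun x hx => ?_⟩
  have hp : IsPGroup 3 (Subgroup.zpowers x) := IsPGroup.of_card (n := 1) (by rw [Nat.card_zpowers, hx, pow_one])
  obtain ⟨Q, hQ⟩ := hp.exists_le_sylow
  obtain ⟨g, hg⟩ := MulAction.exists_smul_eq PG P Q
  have hm : x ∈ (Q : Subgroup PG) := hQ (Subgroup.mem_zpowers x)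
  rw [← hg, Sylow.coe_subgroup_smul] at hm
  obtain ⟨_, ⟨b, rfl⟩, e⟩ := hm
  change g * f b * g⁻¹ = x at e
  set b' := Multiplicative.toAdd b with hb'
  have hb : b' ≠ 0 := fun e0 => by
    have : b = 1 := Multiplicative.toAdd.injective e0
    rw [this, map_one, mul_one, mul_inv_cancel] at e
    rw [← e, orderOf_one] at hx
    omega
  have hcj : IsConj (π (uniSL b')) x := isConj_iff.2 ⟨g, e⟩
  have key : ∀ d : F, d ≠ 0 → ∀ r : F, b' = r ^ 2 * d → IsConj (π (uniSL d)) x := fun d _ r hr => by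
    have hr0 : r ≠ 0 := fun e0 => hb (by rw [hr, e0]; ring)
    refine IsConj.trans (isConj_iff.2 ⟨π (PSLBinary.diag (Units.mk0 r hr0)), ?_⟩) hcj
    rw [← map_inv (π) (PSLBinary.diag _), ← map_mul, ← map_mul, diag_uni, mul_inv_cancel_right, Units.val_mk0, ← hr]
  by_cases hsq : IsSquare b'
  · obtain ⟨r, hr⟩ := hsq
    exact Or.inl (key 1 one_ne_zero r (by rw [hr]; ring))
  · have hν0 : ν ≠ 0 := fun e0 => hν (e0 ▸ IsSquare.zero)
    have h1 := (quadraticChar_neg_one_iff_not_isSquare (F := F)).2 hsq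
    have h2' := (quadraticChar_neg_one_iff_not_isSquare (F := F)).2 hν
    obtain ⟨r, hr⟩ := (quadraticChar_one_iff_isSquare (F := F) (mul_ne_zero hb hν0)).1 (by
      rw [map_mul, h1, h2']; norm_num)
    exact Or.inr (key ν hν0 (r / ν) (by field_simp; linear_combination hr))

theorem eq_top_of_uni_low_mem {H : Subgroup PG} (hu : ∀ c, π (uniSL c) ∈ H)
    (hl : ∀ c, π (lowSL c) ∈ H) : H = ⊤ := by
  have h := Forms.DicksonField.eq_top_of_uni_low (H.comap (π)) hu hl
  rw [eq_top_iff]
  intro g _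
  obtain ⟨G, rfl⟩ := Forms.KleinPSL.pi_surjective g
  exact (h ▸ Subgroup.mem_top G : G ∈ H.comap (π))

/-- `PSL₂(p)` is generated by two elements of order three. -/
theorem exists_three_gen (hp : (Fintype.card F).Prime) (h2 : (2 : F) ≠ 0) :
    ∃ y z : PG, orderOf y = 3 ∧ orderOf z = 3 ∧ Subgroup.closure ({y, z} : Set PG) = ⊤ := by
  set Y : SL(2, F) := mkSL (-1) 1 (-1) 0 (by ring) with hY
  set Z : SL(2, F) := mkSL 0 1 (-1) (-1) (by ring) with hZ
  have hY3 : Y * Y * Y = 1 := by
    apply sl2_ext <;> simp [hY, Matrix.SpecialLinearGroup.coe_mul, Matrix.mul_apply, Fin.sum_univ_two]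
  have hZ3 : Z * Z * Z = 1 := by
    apply sl2_ext <;> simp [hZ, Matrix.SpecialLinearGroup.coe_mul, Matrix.mul_apply, Fin.sum_univ_two]
  have hY1 : π Y ≠ 1 := fun e => one_ne_zero (α := F) (by
    rcases Forms.KleinPSL.pi_eq_one.1 e with e | e <;>
      simpa [hY] using congrArg (fun W : SL(2, F) => (W : M2) 0 1) e)
  have hZ1 : π Z ≠ 1 := fun e => one_ne_zero (α := F) (by
    rcases Forms.KleinPSL.pi_eq_one.1 e with e | e <;>
      simpa [hZ] using congrArg (fun W : SL(2, F) => (W : M2) 0 1) e)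
  refine ⟨π Y, π Z, orderOf_eq_prime (hp := ⟨Nat.prime_three⟩) ?_ hY1,
    orderOf_eq_prime (hp := ⟨Nat.prime_three⟩) ?_ hZ1, ?_⟩
  · rw [← map_pow, pow_three', hY3, map_one]
  · rw [← map_pow, pow_three', hZ3, map_one]
  set H := Subgroup.closure ({π Y, π Z} : Set PG)
  have hy : π Y ∈ H := Subgroup.subset_closure (by simp)
  have hz : π Z ∈ H := Subgroup.subset_closure (by simp)
  have hmem : π (uniSL 2) ∈ H ∧ π (lowSL (-2)) ∈ H := by
    have e1 : uniSL (2 : F) = -(Y * Z) := by
      apply sl2_ext <;> simp [hY, hZ, coe_uniSL, Matrix.SpecialLinearGroup.coe_mul, Matrix.mul_apply, Fin.sum_univ_two] <;> norm_num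
    have e2 : lowSL (-2 : F) = -(Z * Y) := by
      apply sl2_ext <;> simp [hY, hZ, coe_lowSL, Matrix.SpecialLinearGroup.coe_mul, Matrix.mul_apply, Fin.sum_univ_two] <;> norm_num
    exact ⟨by rw [e1, Forms.KleinPSL.pi_neg, map_mul]; exact mul_mem hy hz,
      by rw [e2, Forms.KleinPSL.pi_neg, map_mul]; exact mul_mem hz hy⟩
  have key : ∀ (f : F → SL(2, F)), (∀ a b, f (a + b) = f a * f b) → ∀ s : F, s ≠ 0 → π (f s) ∈ H →
      ∀ c, π (f c) ∈ H := by
    intro f hf s hs hsH c
    have h0 : f 0 = 1 := mul_eq_left.1 (by rw [← hf, add_zero] : f 0 * f 0 = f 0)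
    let A : AddSubgroup F :=
      { carrier := {a | π (f a) ∈ H}
        zero_mem' := by simp [h0, one_mem]
        add_mem' := fun {a b} ha hb => by
          show π (f (a + b)) ∈ H
          rw [hf, map_mul]; exact mul_mem ha hb
        neg_mem' := fun {a} ha => by
          show π (f (-a)) ∈ H
          rw [eq_inv_of_mul_eq_one_left (by rw [← hf, neg_add_cancel, h0] : f (-a) * f a = 1), map_inv]
          exact inv_mem ha }
    haveI : Fact (Nat.card F).Prime := ⟨by rwa [Nat.card_eq_fintype_card]⟩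
    rcases A.eq_bot_or_eq_top_of_prime_card with e | e
    · exact absurd ((AddSubgroup.mem_bot).1 (e ▸ (show s ∈ A from hsH))) hs
    · exact (e ▸ AddSubgroup.mem_top c : c ∈ A)
  refine eq_top_of_uni_low_mem (key uniSL (fun a b => (Classical.GL2.uniSL_mul a b).symm) 2 h2 hmem.1)
    (key lowSL (fun a b => ?_) (-2) (neg_ne_zero.2 h2) hmem.2)
  apply sl2_ext <;> simp [coe_lowSL, Matrix.SpecialLinearGroup.coe_mul, Matrix.mul_apply, Fin.sum_univ_two]

/-- `PSL₂(p)`, `p ± 1` a power of two at least 8, has an element of order four. -/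
theorem exists_order_four {k : ℕ} (h7 : 7 ≤ Fintype.card F)
    (hk : Fintype.card F = 2 ^ k + 1 ∨ Fintype.card F + 1 = 2 ^ k) : ∃ g : PG, orderOf g = 4 := by
  have hk3 : 3 ≤ k := by
    by_contra! h
    have := Nat.pow_le_pow_right two_pos (show k ≤ 2 by omega)
    omega
  have h8 : (2 : ℕ) ^ 3 ∣ 2 ^ k := pow_dvd_pow 2 hk3
  norm_num at h8
  have hev : 2 ∣ Fintype.card F - 1 := by rcases hk with e | e <;> omega
  have hgcd : Nat.gcd 2 (Fintype.card F - 1) = 2 := Nat.gcd_eq_left hev
  obtain ⟨g, hg⟩ : ∃ g : PG, 4 ∣ orderOf g := by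
    rcases hk with e | e
    · obtain ⟨-, -, -, g, -, -, -, hg, -⟩ := Forms.DicksonDihedral.exists_minus (F := F)
      exact ⟨g, by rw [hg, hgcd]; omega⟩
    · obtain ⟨-, -, -, g, -, -, -, hg, -⟩ := Forms.DicksonDihedral.exists_plus (F := F)
      exact ⟨g, by rw [hg, hgcd]; omega⟩
  exact ⟨g ^ (orderOf g / 4), orderOf_pow_orderOf_div (orderOf_pos g).ne' hg⟩

/-- `PSL₂(5)` is `PSL₂(4)`. -/
theorem exists_four_of_five (h5 : Fintype.card F = 5) :
    ∃ (K : Type) (_ : Field K) (_ : Fintype K), Fintype.card K = 4 ∧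
      Nonempty (PG ≃* Matrix.ProjectiveSpecialLinearGroup (Fin 2) K) := by
  haveI := Matrix.ProjectiveSpecialLinearGroup.rank_two_simple (F := F)
    (by rw [Nat.card_eq_fintype_card]; omega)
  have h60 : Nat.card PG = 60 := by
    have h := Forms.DicksonCor.gcd_mul_natCard (F := F)
    rw [h5, show Nat.gcd 2 (5 - 1) = 2 from rfl] at h
    omega
  obtain ⟨e⟩ := S0494.result h60
  letI : Fintype (GaloisField 2 2) := Fintype.ofFinite _
  have h4 : Fintype.card (GaloisField 2 2) = 4 := by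
    rw [← Nat.card_eq_fintype_card, GaloisField.card 2 2 two_ne_zero]; norm_num
  obtain ⟨e'⟩ := S0252.result h4
  exact ⟨_, inferInstance, inferInstance, h4, ⟨e.trans e'.symm⟩⟩

end Cfsg.Agent.CIT.Gen
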