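import Cfsg.Agent.Lib.CIT.GraphBasic
import Cfsg.Agent.Lib.Forms.DicksonCor
import Cfsg.Agent.Lib.Suzuki.Group
import Cfsg.Agent.Lib.Classical.Linear

/-!
# The simple CIT groups with the prime divisors of `PSL₂(2ᵐ)` or of a Suzuki group
-/

set_option autoImplicit false

namespace Cfsg.Agent.CIT.Graph

universe u v

local notation "PSL2" F => Matrix.ProjectiveSpecialLinearGroup (Fin 2) F

theorem not_dvd_two_pow {r n : ℕ} (hr : r.Prime) (h2 : r ≠ 2) : ¬ r ∣ 2 ^ n := fun h =>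
  h2 ((Nat.prime_dvd_prime_iff_eq hr Nat.prime_two).1 (hr.dvd_of_dvd_pow h))

/-- The odd prime divisors of `PSL₂(2ᵐ)`. -/
theorem psl_dvd_iff {F : Type u} [Field F] [Fintype F] {m : ℕ} (hm : 0 < m)
    (hF : Fintype.card F = 2 ^ m) {r : ℕ} (hr : r.Prime) (h2 : r ≠ 2) :
    r ∣ Nat.card (PSL2 F) ↔ r ∣ 2 ^ (2 * m) - 1 := by
  have h := Forms.DicksonCor.gcd_mul_natCard (F := F)
  obtain ⟨j, rfl⟩ : ∃ j, m = j + 1 := ⟨m - 1, by omega⟩
  have hg : Nat.gcd 2 (Fintype.card F - 1) = 1 := by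
    rw [hF]
    refine Nat.Coprime.gcd_eq_one (Nat.coprime_two_left.2 ⟨2 ^ j - 1, ?_⟩)
    rw [pow_succ]
    have := Nat.one_le_two_pow (n := j)
    omega
  rw [hg, one_mul, hF, sub_one_mul_add_one] at h
  rw [h, hr.dvd_mul]
  exact or_iff_right (not_dvd_two_pow hr h2)

/-- The odd prime divisors of a Suzuki group. -/
theorem sz_dvd_iff {F : Type u} [Field F] [Fintype F] {k : ℕ} (hk : 1 ≤ k)
    (hF : Fintype.card F = 2 ^ (2 * k + 1)) {r : ℕ} (hr : r.Prime) (h2 : r ≠ 2) :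
    r ∣ Nat.card ↥(Cfsg.Lie.Sz F (2 ^ (k + 1))) ↔
      r ∣ 2 ^ (2 * k + 1) - 1 ∨ r ∣ 2 ^ (2 * (2 * k + 1)) + 1 := by
  have : Fact (Nat.Prime 2) := ⟨Nat.prime_two⟩
  have : CharP F 2 := charP_of_card_eq_prime_pow (p := 2) (f := 2 * k + 1) hF
  obtain ⟨e⟩ := Suzuki.lieEquiv hk hF
  rw [← Nat.card_congr e.toEquiv, Suzuki.card_eq hk hF, hF, ← pow_mul, hr.dvd_mul,
    hr.dvd_mul, mul_comm (2 * k + 1) 2, or_iff_right (not_dvd_two_pow hr h2), or_comm]

theorem dvd_of_sz {n r : ℕ} (h : r ∣ 2 ^ n - 1 ∨ r ∣ 2 ^ (2 * n) + 1) : r ∣ 2 ^ (4 * n) - 1 := by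
  rcases h with h | h
  · exact h.trans (Nat.pow_sub_one_dvd_pow_sub_one 2 (dvd_mul_left n 4))
  · rw [show 4 * n = 2 * (2 * n) by ring, ← sub_one_mul_add_one]
    exact h.trans (dvd_mul_left _ _)

theorem sz_of_ppd {n r : ℕ} (hn : 0 < n) (h : IsPPD r (4 * n)) :
    r ∣ 2 ^ (2 * n) + 1 := by
  have h1 := (h.2 (4 * n)).2 dvd_rfl
  rw [show 4 * n = 2 * (2 * n) by ring, ← sub_one_mul_add_one, h.1.dvd_mul] at h1
  refine h1.resolve_left fun hd => ?_
  have := Nat.le_of_dvd (by omega) ((h.2 _).1 hd)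
  omega

/-- Three divides no Suzuki group's order. -/
theorem three_not_sz {n : ℕ} (hn : Odd n) : ¬ (3 ∣ 2 ^ n - 1 ∨ 3 ∣ 2 ^ (2 * n) + 1) := by
  obtain ⟨j, rfl⟩ := hn
  have h4 : ∀ i : ℕ, 4 ^ i % 3 = 1 := fun i => by simp [Nat.pow_mod]
  rw [show 2 ^ (2 * j + 1) = 4 ^ j * 2 by rw [pow_succ, pow_mul]; norm_num,
    show 2 ^ (2 * (2 * j + 1)) = 4 ^ (2 * j + 1) by rw [pow_mul]; norm_num]
  rintro (h | h)
  · have := h4 j; omega
  · have := h4 (2 * j + 1); omega

theorem three_psl {n : ℕ} : 3 ∣ 2 ^ (2 * n) - 1 := by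
  have h := Nat.pow_sub_one_dvd_pow_sub_one 2 (dvd_mul_right 2 n)
  simpa using h

/-- A prime `2ᵏ + 1` has order `2k`. -/
theorem ppd_fermat {p k : ℕ} (hp : p.Prime) (hk : 0 < k) (h : p = 2 ^ k + 1) : IsPPD p (2 * k) := by
  have hd : p ∣ 2 ^ (2 * k) - 1 := by rw [← sub_one_mul_add_one, h]; exact dvd_mul_left _ _
  refine ⟨hp, fun j => ⟨fun hj => ?_, fun hj => hd.trans (Nat.pow_sub_one_dvd_pow_sub_one 2 hj)⟩⟩
  have hg : p ∣ 2 ^ Nat.gcd j (2 * k) - 1 := by
    rw [← Nat.pow_sub_one_gcd_pow_sub_one]; exact Nat.dvd_gcd hj hd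
  obtain ⟨c, hc⟩ := Nat.gcd_dvd_right j (2 * k)
  have hpos : 0 < Nat.gcd j (2 * k) := Nat.gcd_pos_of_pos_right j (by omega)
  rcases Nat.lt_or_ge c 2 with hc2 | hc2
  · rcases c with _ | _ | c
    · omega
    · rw [zero_add, mul_one] at hc; exact hc ▸ Nat.gcd_dvd_left j (2 * k)
    · omega
  · exfalso
    have := Nat.mul_le_mul_left (Nat.gcd j (2 * k)) hc2
    have hle : 2 ^ Nat.gcd j (2 * k) ≤ 2 ^ k := Nat.pow_le_pow_right two_pos (by omega)
    have h2 : 2 ≤ 2 ^ Nat.gcd j (2 * k) := Nat.le_self_pow hpos.ne' 2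
    have := Nat.le_of_dvd (by omega) hg
    omega

/-- A prime `2ᵏ - 1` has order `k`. -/
theorem ppd_mersenne {p k : ℕ} (hp : p.Prime) (h : p + 1 = 2 ^ k) : IsPPD p k := by
  have hk : 0 < k := by
    rcases k with _ | k
    · have := hp.two_le; simp at h; omega
    · omega
  have hd : p ∣ 2 ^ k - 1 := by rw [← h]; simp
  refine ⟨hp, fun j => ⟨fun hj => ?_, fun hj => hd.trans (Nat.pow_sub_one_dvd_pow_sub_one 2 hj)⟩⟩
  have hg : p ∣ 2 ^ Nat.gcd j k - 1 := by
    rw [← Nat.pow_sub_one_gcd_pow_sub_one]; exact Nat.dvd_gcd hj hd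
  have hpos : 0 < Nat.gcd j k := Nat.gcd_pos_of_pos_right j hk
  rcases Nat.eq_or_lt_of_le (Nat.le_of_dvd hk (Nat.gcd_dvd_right j k)) with e | e
  · exact e ▸ Nat.gcd_dvd_left j k
  · exfalso
    have h2 : 2 ≤ 2 ^ Nat.gcd j k := Nat.le_self_pow hpos.ne' 2
    have := Nat.le_of_dvd (by omega) hg
    have := Nat.pow_lt_pow_right (a := 2) (by norm_num) e
    omega

/-- The prime divisors of `PSL₂(p)`, `p` an odd prime. -/
theorem pslPrime_dvd {F : Type u} [Field F] [Fintype F] {p : ℕ} (hp : p.Prime)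
    (hF : Fintype.card F = p) (h2 : p ≠ 2) {r : ℕ} (hr : r.Prime) (hr2 : r ≠ 2) :
    r ∣ Nat.card (PSL2 F) ↔ r = p ∨ r ∣ p - 1 ∨ r ∣ p + 1 := by
  have h := Forms.DicksonCor.gcd_mul_natCard (F := F)
  obtain ⟨i, hi⟩ := hp.odd_of_ne_two h2
  have hg : Nat.gcd 2 (Fintype.card F - 1) = 2 :=
    Nat.gcd_eq_left (Nat.dvd_of_mod_eq_zero (by omega))
  rw [hg, hF] at h
  rw [← Nat.prime_dvd_prime_iff_eq hr hp, ← hr.dvd_mul, ← hr.dvd_mul, ← h, hr.dvd_mul]
  exact (or_iff_right fun h => hr2 ((Nat.prime_dvd_prime_iff_eq hr Nat.prime_two).1 h)).symm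

theorem card_three_four {F : Type u} [Field F] [Fintype F] (hF : Fintype.card F = 4) :
    Nat.card (Matrix.ProjectiveSpecialLinearGroup (Fin 3) F) = 20160 := by
  have hcard := Classical.Linear.gcd_mul_natCard_PSL_fin (F := F) (show 1 ≤ 3 by omega)
  have hSL := Classical.Linear.mul_natCard_SL_fin (F := F) (show 1 ≤ 3 by omega)
  rw [hF, Fin.prod_univ_three] at hSL
  rw [hF] at hcard
  norm_num at hSL hcard
  omega

/-- Primes of the small groups. -/
theorem small_primes {r : ℕ} (hr : r.Prime) (h2 : r ≠ 2) (h : r ∣ 360 ∨ r ∣ 20160) :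
    r = 3 ∨ r = 5 ∨ r = 7 := by
  have h' : r ∣ 2 ^ 6 * (3 ^ 2 * (5 * 7)) := by
    rcases h with h | h
    · exact h.trans (by norm_num)
    · exact h.trans (by norm_num)
  rcases hr.dvd_mul.1 h' with h1 | h1
  · exact absurd h1 (not_dvd_two_pow hr h2)
  rcases hr.dvd_mul.1 h1 with h1 | h1
  · exact Or.inl ((Nat.prime_dvd_prime_iff_eq hr (by norm_num)).1 (hr.dvd_of_dvd_pow h1))
  rcases hr.dvd_mul.1 h1 with h1 | h1
  · exact Or.inr (Or.inl ((Nat.prime_dvd_prime_iff_eq hr (by norm_num)).1 h1))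
  · exact Or.inr (Or.inr ((Nat.prime_dvd_prime_iff_eq hr (by norm_num)).1 h1))

theorem ppd_small {r n : ℕ} (h : IsPPD r n) (hr : r = 3 ∨ r = 5 ∨ r = 7) : n ≤ 4 := by
  rcases hr with rfl | rfl | rfl
  · exact (Nat.le_of_dvd (by norm_num) ((h.2 2).1 (by norm_num))).trans (by norm_num)
  · exact Nat.le_of_dvd (by norm_num) ((h.2 4).1 (by norm_num))
  · exact (Nat.le_of_dvd (by norm_num) ((h.2 3).1 (by norm_num))).trans (by norm_num)

theorem card_two_nine {F : Type u} [Field F] [Fintype F] (hF : Fintype.card F = 9) :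
    Nat.card (PSL2 F) = 360 := by
  have h := Forms.DicksonCor.gcd_mul_natCard (F := F)
  rw [hF, show Nat.gcd 2 (9 - 1) = 2 by norm_num] at h
  omega

/-- The simple CIT group with the odd prime divisors of `PSL₂(2ᵐ)`, `m ≥ 4`. -/
theorem iso_of_primes_psl {F : Type u} [Field F] [Fintype F] {m : ℕ} (hm : 4 ≤ m)
    (hF : Fintype.card F = 2 ^ m) {L : Type v} [Group L] (hL : CITList L)
    (hπ : ∀ r : ℕ, r.Prime → r ≠ 2 → (r ∣ Nat.card L ↔ r ∣ 2 ^ (2 * m) - 1)) :
    Nonempty (L ≃* PSL2 F) := by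
  obtain ⟨r, hr⟩ := exists_ppd (n := 2 * m) (by omega) (by omega)
  have hr2 := hr.ne_two (by omega)
  have hrL : r ∣ Nat.card L := (hπ r hr.1 hr2).2 ((hr.2 _).2 dvd_rfl)
  rcases hL with ⟨K, iK, iT, hK, ⟨e⟩⟩ | ⟨K, iK, iT, hK, ⟨e⟩⟩ | hS
  · rcases hK with hK | ⟨n, hn, hK⟩ | ⟨h5, hp, k, hk⟩
    · exfalso
      rw [Nat.card_congr e.toEquiv, card_two_nine hK] at hrL
      have := ppd_small hr (small_primes hr.1 hr2 (Or.inl hrL))
      omega
    · have hLn : ∀ s : ℕ, s.Prime → s ≠ 2 → (s ∣ Nat.card L ↔ s ∣ 2 ^ (2 * n) - 1) := fun s hs hs2 => by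
        rw [Nat.card_congr e.toEquiv]; exact psl_dvd_iff (by omega) hK hs hs2
      have hmn : 2 * m ∣ 2 * n := (hr.2 _).1 ((hLn r hr.1 hr2).1 hrL)
      have hmn' := Nat.dvd_of_mul_dvd_mul_left two_pos hmn
      have := Nat.le_of_dvd (by omega) hmn'
      obtain ⟨s, hs⟩ := exists_ppd (n := 2 * n) (by omega) (by omega)
      have hs2 := hs.ne_two (by omega)
      have hnm : 2 * n ∣ 2 * m :=
        (hs.2 _).1 ((hπ s hs.1 hs2).1 ((hLn s hs.1 hs2).2 ((hs.2 _).2 dvd_rfl)))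
      have := Nat.le_of_dvd (by omega) hnm
      exact ⟨e.trans (Classical.SmallIso.pslCongr
        (FiniteField.ringEquivOfCardEq (by rw [hK, hF, show n = m by omega])))⟩
    · exfalso
      set p := Fintype.card K
      have hp2 : p ≠ 2 := by omega
      rw [Nat.card_congr e.toEquiv, pslPrime_dvd hp rfl hp2 hr.1 hr2] at hrL
      have hpm : p ∣ 2 ^ (2 * m) - 1 := (hπ p hp hp2).1 (by
        rw [Nat.card_congr e.toEquiv, pslPrime_dvd hp rfl hp2 hp hp2]; exact Or.inl rfl)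
      rcases hk with hk | hk
      · have hk0 : 2 ≤ k := by
          rcases k with _ | _ | k
          · simp at hk; omega
          · simp at hk; omega
          · omega
        have hP := ppd_fermat hp (by omega) hk
        have hkm := Nat.dvd_of_mul_dvd_mul_left two_pos ((hP.2 _).1 hpm)
        have hsub : ∀ s : ℕ, s.Prime → s ≠ 2 → (s ∣ p - 1 ∨ s ∣ p + 1) → s ∣ 2 ^ (2 * (k - 1)) - 1 := by
          intro s hs hs2 h
          rcases h with h | h
          · rw [hk, Nat.add_sub_cancel] at h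
            exact absurd h (not_dvd_two_pow hs hs2)
          · rw [← sub_one_mul_add_one]
            refine dvd_mul_of_dvd_right ?_ _
            have e2 : p + 1 = 2 * (2 ^ (k - 1) + 1) := by
              rw [hk, show k = k - 1 + 1 by omega, pow_succ, Nat.add_sub_cancel]; ring
            rw [e2, hs.dvd_mul] at h
            exact h.resolve_left fun h => hs2 ((Nat.prime_dvd_prime_iff_eq hs Nat.prime_two).1 h)
        rcases hrL with rfl | hrd
        · have hkm' : 2 * m ∣ 2 * k := (hr.2 _).1 (hP.2 _ |>.2 dvd_rfl)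
          have : k = m := Nat.dvd_antisymm hkm (Nat.dvd_of_mul_dvd_mul_left two_pos hkm')
          subst this
          by_cases h6 : k = 6
          · subst h6; rw [hk] at hp; norm_num at hp
          obtain ⟨s, hs⟩ := exists_ppd (n := k) (by omega) h6
          have hs2 := hs.ne_two (by omega)
          have hsL := (hπ s hs.1 hs2).2 ((hs.2 _).2 (dvd_mul_left k 2))
          rw [Nat.card_congr e.toEquiv, pslPrime_dvd hp rfl hp2 hs.1 hs2] at hsL
          rcases hsL with rfl | hsd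
          · have := (hs.2 k).2 dvd_rfl
            have := Nat.le_of_dvd (by have := Nat.le_self_pow (show k ≠ 0 by omega) 2; omega) this
            omega
          · have hd := (hs.2 _).1 (hsub s hs.1 hs2 hsd)
            have h2k : k ∣ 2 := by
              have h1 : k ∣ 2 * (k - 1) + 2 := by rw [show 2 * (k - 1) + 2 = 2 * k by omega]; exact dvd_mul_left k 2
              exact (Nat.dvd_add_right hd).1 h1
            have := Nat.le_of_dvd two_pos h2k
            omega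
        · have h1 := Nat.dvd_of_mul_dvd_mul_left two_pos ((hr.2 _).1 (hsub r hr.1 hr2 hrd))
          have := Nat.le_of_dvd (by omega) (hkm.trans h1)
          omega
      · have hk0 : 3 ≤ k := by
          by_contra hlt
          have : 2 ^ k ≤ 2 ^ 2 := Nat.pow_le_pow_right two_pos (by omega)
          omega
        have hP := ppd_mersenne hp hk
        have hkm := (hP.2 _).1 hpm
        rcases hrL with rfl | hrd
        · have hk2 : 2 * m ∣ k := (hr.2 _).1 ((hP.2 _).2 dvd_rfl)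
          obtain rfl : k = 2 * m := Nat.dvd_antisymm hkm hk2
          have e1 : p = (2 ^ m - 1) * (2 ^ m + 1) := by rw [sub_one_mul_add_one]; omega
          refine Nat.not_prime_mul (a := 2 ^ m - 1) (b := 2 ^ m + 1) ?_ ?_ (e1 ▸ hp)
          · have : 2 ^ 4 ≤ 2 ^ m := Nat.pow_le_pow_right two_pos hm
            omega
          · have : 2 ^ 4 ≤ 2 ^ m := Nat.pow_le_pow_right two_pos hm
            omega
        · have h1 : r ∣ 2 ^ (k - 1) - 1 := by
            rcases hrd with h | h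
            · have e2 : p - 1 = 2 * (2 ^ (k - 1) - 1) := by
                have : 2 ^ k = 2 ^ (k - 1) * 2 := by rw [← pow_succ, show k - 1 + 1 = k by omega]
                omega
              rw [e2, hr.1.dvd_mul] at h
              exact h.resolve_left fun h => hr2 ((Nat.prime_dvd_prime_iff_eq hr.1 Nat.prime_two).1 h)
            · rw [hk] at h
              exact absurd h (not_dvd_two_pow hr.1 hr2)
          have h2 := hkm.trans ((hr.2 _).1 h1)
          have := Nat.le_of_dvd (by omega) h2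
          omega
  · exfalso
    rw [Nat.card_congr e.toEquiv, card_three_four hK] at hrL
    have := ppd_small hr (small_primes hr.1 hr2 (Or.inr hrL))
    omega
  · exfalso
    obtain ⟨K, iK, iT, j, hj, hK, ⟨e⟩⟩ := hS
    have h3 := (hπ 3 (by norm_num) (by norm_num)).2 three_psl
    rw [Nat.card_congr e.toEquiv, sz_dvd_iff hj hK (by norm_num) (by norm_num)] at h3
    exact three_not_sz (odd_two_mul_add_one j) h3

/-- The simple CIT group with the odd prime divisors of a Suzuki group. -/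
theorem iso_of_primes_sz {F : Type u} [Field F] [Fintype F] {k : ℕ} (hk : 1 ≤ k)
    (hF : Fintype.card F = 2 ^ (2 * k + 1)) {L : Type v} [Group L] (hL : CITList L)
    (hπ : ∀ r : ℕ, r.Prime → r ≠ 2 →
      (r ∣ Nat.card L ↔ r ∣ 2 ^ (2 * k + 1) - 1 ∨ r ∣ 2 ^ (2 * (2 * k + 1)) + 1)) :
    Nonempty (L ≃* ↥(Cfsg.Lie.Sz F (2 ^ (k + 1)))) := by
  have h3 : ¬ 3 ∣ Nat.card L := fun h =>
    three_not_sz (odd_two_mul_add_one k) ((hπ 3 (by norm_num) (by norm_num)).1 h)
  rcases hL with ⟨K, iK, iT, hK, ⟨e⟩⟩ | ⟨K, iK, iT, hK, ⟨e⟩⟩ | hS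
  · exfalso
    refine h3 ?_
    rw [Nat.card_congr e.toEquiv]
    rcases hK with hK | ⟨n, hn, hK⟩ | ⟨h5, hp, -, -⟩
    · rw [card_two_nine hK]; norm_num
    · exact (psl_dvd_iff (by omega) hK (by norm_num) (by norm_num)).2 three_psl
    · rw [pslPrime_dvd hp rfl (by omega) (by norm_num) (by norm_num)]
      obtain ⟨i, hi⟩ := hp.odd_of_ne_two (by omega)
      by_contra hno
      push Not at hno
      have := hno.1; have := hno.2.1; have := hno.2.2
      have h3p : ¬ 3 ∣ Fintype.card K := fun h =>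
        hno.1 ((Nat.prime_dvd_prime_iff_eq (by norm_num) hp).1 h)
      rcases (show Fintype.card K % 3 = 0 ∨ Fintype.card K % 3 = 1 ∨ Fintype.card K % 3 = 2 by omega)
        with e | e | e
      · exact h3p (Nat.dvd_of_mod_eq_zero e)
      · exact hno.2.1 (Nat.dvd_of_mod_eq_zero (by omega))
      · exact hno.2.2 (Nat.dvd_of_mod_eq_zero (by omega))
  · exfalso
    refine h3 ?_
    rw [Nat.card_congr e.toEquiv, card_three_four hK]
    norm_num
  · obtain ⟨K, iK, iT, j, hj, hK, ⟨e⟩⟩ := hS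
    have hLn : ∀ s : ℕ, s.Prime → s ≠ 2 →
        (s ∣ Nat.card L ↔ s ∣ 2 ^ (2 * j + 1) - 1 ∨ s ∣ 2 ^ (2 * (2 * j + 1)) + 1) := fun s hs hs2 => by
      rw [Nat.card_congr e.toEquiv]; exact sz_dvd_iff hj hK hs hs2
    obtain ⟨r, hr⟩ := exists_ppd (n := 4 * (2 * k + 1)) (by omega) (by omega)
    obtain ⟨s, hs⟩ := exists_ppd (n := 4 * (2 * j + 1)) (by omega) (by omega)
    have hr2 := hr.ne_two (by omega)
    have hs2 := hs.ne_two (by omega)
    have h1 := (hr.2 _).1 (dvd_of_sz ((hLn r hr.1 hr2).1 ((hπ r hr.1 hr2).2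
      (Or.inr (sz_of_ppd (by omega) hr)))))
    have h2 := (hs.2 _).1 (dvd_of_sz ((hπ s hs.1 hs2).1 ((hLn s hs.1 hs2).2
      (Or.inr (sz_of_ppd (by omega) hs)))))
    obtain rfl : j = k := by
      have := Nat.dvd_antisymm h2 h1
      omega
    obtain ⟨e'⟩ := sz_congr (FiniteField.ringEquivOfCardEq (hK.trans hF.symm)) (2 ^ (j + 1))
    exact ⟨e.trans e'⟩

end Cfsg.Agent.CIT.Graph
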