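import Cfsg.Agent.Lib.CIT.Defs
import Cfsg.Agent.S1475
import Cfsg.Agent.Lib.Hall.Solvable
import Cfsg.Agent.Lib.CharP.Zsigmondy
import Cfsg.Agent.Lib.Forms.SmallPerm
import Cfsg.Agent.Lib.Classical.SmallIso
import Cfsg.Agent.Lib.Suzuki.LieEquiv

/-!
# Prime graphs with an isolated vertex two and three components
-/

set_option autoImplicit false

namespace Cfsg.Agent.CIT.Graph

open Subgroup
open scoped Matrix

universe u

variable {G : Type u} [Group G]

/-- An element whose order is a multiple of `a` has a power of order `a`. -/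
theorem exists_orderOf_of_dvd [Finite G] {x : G} {a : ℕ} (h : a ∣ orderOf x) :
    ∃ j : ℕ, orderOf (x ^ j) = a := by
  obtain ⟨j, hj⟩ := h
  have hj0 : j ≠ 0 := fun e => by rw [e, mul_zero] at hj; exact (orderOf_pos x).ne' hj
  exact ⟨j, by rw [orderOf_pow' _ hj0, hj, Nat.gcd_eq_right (dvd_mul_left j a),
    Nat.mul_div_cancel _ (Nat.pos_of_ne_zero hj0)]⟩

/-- The prime two is isolated, so involution centralisers are 2-groups. -/
theorem isCIT_of_isolated [Finite G]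
    (h : ∀ r : ℕ, r.Prime → r ≠ 2 → ¬ ∃ y : G, orderOf y = 2 * r) : IsCIT G := by
  intro t ht
  have : Fact (Nat.Prime 2) := ⟨Nat.prime_two⟩
  rw [IsPGroup.iff_orderOf]
  rintro ⟨x, hx⟩
  rw [mem_centralizer_singleton_iff] at hx
  rw [Subgroup.orderOf_mk]
  by_contra hno
  obtain ⟨r, hr, hrd, hr2⟩ : ∃ r : ℕ, r.Prime ∧ r ∣ orderOf x ∧ r ≠ 2 := by
    by_contra hc
    push Not at hc
    exact hno ⟨_, Nat.eq_prime_pow_of_unique_prime_dvd (orderOf_pos x).ne' fun hp hd => hc _ hp hd⟩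
  obtain ⟨j, hj⟩ := exists_orderOf_of_dvd hrd
  refine h r hr hr2 ⟨t * x ^ j, ?_⟩
  rw [((Commute.symm (show Commute x t from hx)).pow_right j).orderOf_mul_eq_mul_orderOf_of_coprime
    (by rw [ht, hj]; exact (Nat.coprime_primes Nat.prime_two hr).2 (Ne.symm hr2)), ht, hj]

/-- Three pairwise nonadjacent primes forbid solvability. -/
theorem not_isSolvable_of_three [Finite G] {p q r : ℕ} (hp : p.Prime) (hq : q.Prime) (hr : r.Prime)
    (hpq : p ≠ q) (hpr : p ≠ r) (hqr : q ≠ r) (hpd : p ∣ Nat.card G) (hqd : q ∣ Nat.card G)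
    (hrd : r ∣ Nat.card G) (h1 : ¬ ∃ y : G, orderOf y = p * q) (h2 : ¬ ∃ y : G, orderOf y = p * r)
    (h3 : ¬ ∃ y : G, orderOf y = q * r) : ¬ Group.IsSolvable G := by
  intro hs
  classical
  have := hs
  set π : Set ℕ := {p, q, r} with hπ
  obtain ⟨K, hK, -⟩ := Hall.exists_hall_dominating π G
  have hdK : ∀ s ∈ π, s.Prime → s ∣ Nat.card G → s ∣ Nat.card K := fun s hs hsp hsd => by
    rw [← K.card_mul_index] at hsd
    exact (hsp.dvd_mul.1 hsd).resolve_right (hK.2 s hsp hs)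
  have hnone : ∀ s t : ℕ, s ∈ π → t ∈ π → s ≠ t → ¬ ∃ y : G, orderOf y = s * t := by
    intro s t hs ht hst
    rcases hs with rfl | rfl | rfl <;> rcases ht with rfl | rfl | rfl
    exacts [absurd rfl hst, h1, h2, fun h => h1 (by simpa [mul_comm] using h), absurd rfl hst, h3,
      fun h => h2 (by simpa [mul_comm] using h), fun h => h3 (by simpa [mul_comm] using h), absurd rfl hst]
  have : Group.IsSolvable K := Group.isSolvable_of_isSolvable_injective K.subtype_injective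
  have hpp : ∀ g : K, IsPrimePow (orderOf g) ∨ g = 1 := by
    intro g
    by_cases hg : g = 1
    · exact Or.inr hg
    left
    have hne : orderOf g ≠ 1 := fun e => hg (orderOf_eq_one_iff.1 e)
    obtain ⟨s, hs, hsd⟩ := Nat.exists_prime_and_dvd hne
    refine (isPrimePow_nat_iff _).2 ⟨s, (orderOf g).primeFactorsList.length, hs, ?_, ?_⟩
    · by_contra h0
      push Not at h0
      have h0' := List.length_eq_zero_iff.1 (Nat.le_zero.1 h0)
      rw [Nat.primeFactorsList_eq_nil] at h0'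
      rcases h0' with e | e
      · exact (orderOf_pos g).ne' e
      · exact hne e
    · refine (Nat.eq_prime_pow_of_unique_prime_dvd (orderOf_pos g).ne' fun {t} ht htd => ?_).symm
      by_contra hts
      obtain ⟨j, hj⟩ := exists_orderOf_of_dvd (Nat.Coprime.mul_dvd_of_dvd_of_dvd
        ((Nat.coprime_primes hs ht).2 (Ne.symm hts)) hsd htd)
      exact hnone s t (hK.1 s hs (hsd.trans (orderOf_dvd_natCard g)))
        (hK.1 t ht (htd.trans (orderOf_dvd_natCard g))) (Ne.symm hts)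
        ⟨((g ^ j : K) : G), by rw [Subgroup.orderOf_coe, hj]⟩
  have h := Cfsg.Agent.S1475.result hpp
  have hsub : ({p, q, r} : Finset ℕ) ⊆ (Nat.card K).primeFactors := by
    intro s hs
    simp only [Finset.mem_insert, Finset.mem_singleton] at hs
    rw [Nat.mem_primeFactors]
    rcases hs with rfl | rfl | rfl
    exacts [⟨hp, hdK _ (by simp [π]) hp hpd, Nat.card_pos.ne'⟩,
      ⟨hq, hdK _ (by simp [π]) hq hqd, Nat.card_pos.ne'⟩,
      ⟨hr, hdK _ (by simp [π]) hr hrd, Nat.card_pos.ne'⟩]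
  have h3' := (Finset.card_le_card hsub).trans h
  rw [Finset.card_insert_of_notMem (by simp [hpq, hpr]), Finset.card_insert_of_notMem (by simp [hqr]),
    Finset.card_singleton] at h3'
  omega

/-! ### Arithmetic of the order of two modulo a prime -/

/-- `2` has order exactly `n` modulo `r`. -/
def IsPPD (r n : ℕ) : Prop :=
  r.Prime ∧ ∀ k : ℕ, r ∣ 2 ^ k - 1 ↔ n ∣ k

theorem exists_ppd {n : ℕ} (hn : 2 < n) (h6 : n ≠ 6) : ∃ r, IsPPD r n := by
  obtain ⟨r, hr, hd, hmin⟩ := CharP.Zsigmondy.zsigmondy (a := 2) (n := n) (by norm_num) (by omega)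
    (fun h => h6 h.2) (fun h => by omega)
  refine ⟨r, hr, fun k => ⟨fun hk => ?_, fun hk => hd.trans (Nat.pow_sub_one_dvd_pow_sub_one 2 hk)⟩⟩
  have hg : r ∣ 2 ^ Nat.gcd k n - 1 := by
    rw [← Nat.pow_sub_one_gcd_pow_sub_one]
    exact Nat.dvd_gcd hk hd
  rcases Nat.eq_or_lt_of_le (Nat.le_of_dvd (by omega) (Nat.gcd_dvd_right k n)) with e | e
  · exact e ▸ Nat.gcd_dvd_left k n
  · exact absurd hg (hmin _ (Nat.gcd_pos_of_pos_right k (by omega)) e)

theorem IsPPD.ne_two {r n : ℕ} (h : IsPPD r n) (hn : n ≠ 0) : r ≠ 2 := fun e => by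
  have := (h.2 n).2 dvd_rfl
  rw [e] at this
  obtain ⟨c, hc⟩ := this
  obtain ⟨j, hj⟩ : 2 ∣ 2 ^ n := dvd_pow_self 2 hn
  have := Nat.one_le_two_pow (n := n)
  omega

theorem sub_one_mul_add_one (n : ℕ) : (2 ^ n - 1) * (2 ^ n + 1) = 2 ^ (2 * n) - 1 := by
  rw [two_mul, pow_add, mul_comm, ← Nat.sq_sub_sq, one_pow, sq]

theorem sz_gen_map {F : Type*} {K : Type*} [Field F] [Field K] (e : F ≃+* K) (n : ℕ)
    {g : GL (Fin 4) F} (hg : g ∈ Cfsg.Lie.Sp4 F ∧ Cfsg.Lie.star4 (g : Matrix (Fin 4) (Fin 4) F) =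
      (g : Matrix (Fin 4) (Fin 4) F).map fun x => x ^ n) :
    Forms.SmallPerm.glCongr e g ∈ Cfsg.Lie.Sp4 K ∧
      Cfsg.Lie.star4 ((Forms.SmallPerm.glCongr e g : GL (Fin 4) K) : Matrix (Fin 4) (Fin 4) K) =
      ((Forms.SmallPerm.glCongr e g : GL (Fin 4) K) : Matrix (Fin 4) (Fin 4) K).map fun x => x ^ n := by
  refine ⟨fun u v => ?_, ?_⟩
  · obtain ⟨u, rfl⟩ : ∃ u0 : Fin 4 → F, e ∘ u0 = u := ⟨e.symm ∘ u, by ext i; simp⟩
    obtain ⟨v, rfl⟩ : ∃ v0 : Fin 4 → F, e ∘ v0 = v := ⟨e.symm ∘ v, by ext i; simp⟩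
    have h := congrArg e (hg.1 u v)
    show Cfsg.Lie.altForm4 ((Forms.SmallPerm.glCongr e g : Matrix (Fin 4) (Fin 4) K) *ᵥ (e ∘ u))
      ((Forms.SmallPerm.glCongr e g : Matrix (Fin 4) (Fin 4) K) *ᵥ (e ∘ v)) = _
    rw [Forms.SmallPerm.glCongr_mulVec, Forms.SmallPerm.glCongr_mulVec]
    simpa [Cfsg.Lie.altForm4, Units.coeHom] using h
  · ext p r
    have h := congrArg e (congrFun (congrFun hg.2 p) r)
    simpa [Cfsg.Lie.star4, Forms.SmallPerm.coe_glCongr] using h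

/-- Isomorphism of the Suzuki groups over isomorphic fields. -/
theorem sz_congr {F K : Type*} [Field F] [Field K] (e : F ≃+* K) (n : ℕ) :
    Nonempty (Cfsg.Lie.Sz F n ≃* Cfsg.Lie.Sz K n) := by
  refine ⟨((Cfsg.Lie.Sz F n).equivMapOfInjective _ (Forms.SmallPerm.glCongr e).injective).trans
    (MulEquiv.subgroupCongr ?_)⟩
  rw [Cfsg.Lie.Sz, Cfsg.Lie.Sz, MonoidHom.map_closure]
  congr 1
  ext g
  refine ⟨?_, fun hg => ⟨(Forms.SmallPerm.glCongr e).symm g, ?_, ?_⟩⟩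
  · rintro ⟨g, hg, rfl⟩
    exact sz_gen_map e n hg
  · have := sz_gen_map e.symm n hg
    have e' : Forms.SmallPerm.glCongr e.symm g = (Forms.SmallPerm.glCongr e).symm g := rfl
    rwa [e'] at this
  · exact (Forms.SmallPerm.glCongr e).apply_symm_apply g

end Cfsg.Agent.CIT.Graph
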