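import Cfsg.Agent.Lib.CIT.GraphArith
import Cfsg.Agent.Lib.CIT.GenDefs
import Cfsg.Agent.Lib.Suzuki.Partition
import Cfsg.Agent.Recognition.PSL2Spectrum

/-!
# Recognition of `PSL₂(2ᵐ)` and the Suzuki groups by their prime graphs

Both theorems here take the classification of nonsolvable CIT groups (`GenStatement`) as a
hypothesis.
-/

set_option autoImplicit false

namespace Cfsg.Agent.CIT.Graph

open Subgroup

universe u v w

local notation "PSL2" F => Matrix.ProjectiveSpecialLinearGroup (Fin 2) F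

theorem orderOf_psl_even {F : Type u} [Field F] [Fintype F] {m : ℕ} (hm : 0 < m)
    (hF : Fintype.card F = 2 ^ m) (x : PSL2 F) :
    orderOf x ∣ 2 ^ m - 1 ∨ orderOf x ∣ 2 ^ m + 1 ∨ orderOf x ∣ 2 := by
  have : Fact (Nat.Prime 2) := ⟨Nat.prime_two⟩
  have : CharP F 2 := charP_of_card_eq_prime_pow (p := 2) (f := m) hF
  simpa [Recognition.PSL2Spectrum.half] using Recognition.PSL2Spectrum.orderOf_cases hF hm x

theorem orderOf_sz {F : Type u} [Field F] [Fintype F] {k : ℕ} (hk : 1 ≤ k)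
    (hF : Fintype.card F = 2 ^ (2 * k + 1)) (x : ↥(Cfsg.Lie.Sz F (2 ^ (k + 1)))) :
    (∃ j, orderOf x ∣ 2 ^ j) ∨ orderOf x ∣ 2 ^ (2 * k + 1) - 1 ∨
      orderOf x ∣ 2 ^ (2 * (2 * k + 1)) + 1 := by
  have : Fact (Nat.Prime 2) := ⟨Nat.prime_two⟩
  have : CharP F 2 := charP_of_card_eq_prime_pow (p := 2) (f := 2 * k + 1) hF
  obtain ⟨e⟩ := Suzuki.lieEquiv hk hF
  obtain ⟨g, rfl⟩ := e.surjective x
  rw [MulEquiv.orderOf_eq]
  by_cases hg : g = 1
  · exact Or.inl ⟨0, by simp [hg]⟩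
  obtain ⟨V, ⟨hV, hgV⟩, -⟩ := Suzuki.partition hk hF g hg
  have hd := Subgroup.orderOf_dvd_natCard V hgV
  rcases hV with ⟨P, rfl⟩ | ⟨-, hc⟩
  · exact Or.inl ⟨_, P.card_eq_multiplicity ▸ hd⟩
  · have hkk := Suzuki.kPlus_mul_kMinus hk
    rw [← pow_mul, mul_comm (2 * k + 1) 2] at hkk
    simp only [Set.mem_insert_iff, Set.mem_singleton_iff] at hc
    rcases hc with e1 | e1 | e1 <;> rw [e1] at hd
    · exact Or.inr (Or.inl hd)
    · exact Or.inr (Or.inr (hkk ▸ dvd_mul_of_dvd_left (show orderOf g ∣ Suzuki.kPlus k from hd) _))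
    · exact Or.inr (Or.inr (hkk ▸ dvd_mul_of_dvd_right (show orderOf g ∣ Suzuki.kMinus k from hd) _))

variable {G : Type v} [Group G] [Finite G]

/-- A group with three pairwise nonadjacent primes, among them two with no neighbour: the simple
group above the largest normal 2-subgroup and its odd primes. -/
theorem simple_top_of_gen (hGen : GenStatement.{v}) {r s : ℕ} (hr : r.Prime) (hs : s.Prime)
    (hr2 : r ≠ 2) (hs2 : s ≠ 2) (hrs : r ≠ s) (hrd : r ∣ Nat.card G) (hsd : s ∣ Nat.card G)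
    (h2d : 2 ∣ Nat.card G) (hrn : ¬ ∃ y : G, orderOf y = r * s)
    (hiso : ∀ t : ℕ, t.Prime → t ≠ 2 → ¬ ∃ y : G, orderOf y = 2 * t) :
    ∃ L : Subgroup (G ⧸ Cfsg.pCore 2 G), CITList L ∧ (L = ⊤ ∨ IsPSLTwoNine L) ∧
      ∀ t : ℕ, t.Prime → t ≠ 2 → (t ∣ Nat.card L ↔ t ∣ Nat.card G) := by
  have hns := not_isSolvable_of_three Nat.prime_two hr hs (Ne.symm hr2) (Ne.symm hs2) hrs h2d hrd hsd
    (hiso r hr hr2) (hiso s hs hs2) hrn
  obtain ⟨-, -, L, -, -, -, -, -, hlist, htop, hdvd, -⟩ := hGen G (isCIT_of_isolated hiso) hns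
  refine ⟨L, hlist, htop.imp_right And.right, fun t ht ht2 => ⟨fun h => ?_, hdvd t ht ht2⟩⟩
  exact h.trans ((Subgroup.card_subgroup_dvd_card L).trans (Subgroup.card_quotient_dvd_card _))

/-- A finite group with the prime graph of `PSL₂(2ᵐ)`, `m ≥ 4`, given the classification of
nonsolvable CIT groups. -/
theorem psl_graph (hGen : GenStatement.{v}) {F : Type u} [Field F] [Fintype F] {m : ℕ} (hm : 4 ≤ m)
    (hF : Fintype.card F = 2 ^ m)
    (h1 : ∀ r : ℕ, r.Prime → (r ∣ Nat.card (PSL2 F) ↔ r ∣ Nat.card G))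
    (h2 : ∀ r s : ℕ, r.Prime → s.Prime → r ≠ s →
      ((∃ x : PSL2 F, orderOf x = r * s) ↔ (∃ y : G, orderOf y = r * s))) :
    Nonempty (G ⧸ Cfsg.pCore 2 G ≃* PSL2 F) := by
  have hbig : 2 ^ 4 ≤ 2 ^ m := Nat.pow_le_pow_right two_pos hm
  have hodd : ∀ {t : ℕ}, t.Prime → t ≠ 2 → (t ∣ Nat.card G ↔ t ∣ 2 ^ (2 * m) - 1) := fun ht ht2 => by
    rw [← h1 _ ht]; exact psl_dvd_iff (by omega) hF ht ht2
  have ht2' : ∀ {t : ℕ}, t.Prime → t ∣ 2 ^ m - 1 → t ≠ 2 := fun ht hd e => by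
    subst e
    obtain ⟨c, hc⟩ := hd
    obtain ⟨j, hj⟩ : 2 ∣ 2 ^ m := dvd_pow_self 2 (by omega)
    omega
  obtain ⟨r, hr⟩ := exists_ppd (n := 2 * m) (by omega) (by omega)
  have hr2 := hr.ne_two (by omega)
  have hrd : r ∣ 2 ^ (2 * m) - 1 := (hr.2 _).2 dvd_rfl
  have hr1 : ¬ r ∣ 2 ^ m - 1 := fun h => by
    have := Nat.le_of_dvd (by omega) ((hr.2 _).1 h); omega
  obtain ⟨s, hs, hsd⟩ := Nat.exists_prime_and_dvd (n := 2 ^ m - 1) (by omega)
  have hs2 := ht2' hs hsd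
  have hrs : r ≠ s := fun e => hr1 (e ▸ hsd)
  have hsq : s ∣ 2 ^ (2 * m) - 1 := hsd.trans (sub_one_mul_add_one m ▸ dvd_mul_right _ _)
  have hiso : ∀ t : ℕ, t.Prime → t ≠ 2 → ¬ ∃ y : G, orderOf y = 2 * t := fun t ht ht2 hy => by
    obtain ⟨x, hx⟩ := (h2 2 t Nat.prime_two ht (Ne.symm ht2)).2 hy
    obtain ⟨j, hj⟩ : 2 ∣ 2 ^ m := dvd_pow_self 2 (by omega)
    rcases orderOf_psl_even (by omega) hF x with h | h | h <;> rw [hx] at h
    · obtain ⟨c, hc⟩ := (dvd_mul_right 2 t).trans h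
      omega
    · obtain ⟨c, hc⟩ := (dvd_mul_right 2 t).trans h
      omega
    · have := Nat.le_of_dvd two_pos h
      have := ht.two_le
      omega
  have hrn : ¬ ∃ y : G, orderOf y = r * s := fun hy => by
    obtain ⟨x, hx⟩ := (h2 r s hr.1 hs hrs).2 hy
    rcases orderOf_psl_even (by omega) hF x with h | h | h <;> rw [hx] at h
    · exact hr1 ((dvd_mul_right r s).trans h)
    · have h' := Nat.dvd_sub ((dvd_mul_left s r).trans h) hsd
      rw [show 2 ^ m + 1 - (2 ^ m - 1) = 2 by omega] at h'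
      exact hs2 ((Nat.prime_dvd_prime_iff_eq hs Nat.prime_two).1 h')
    · exact hr2 ((Nat.prime_dvd_prime_iff_eq hr.1 Nat.prime_two).1 ((dvd_mul_right r s).trans h))
  have h2G : 2 ∣ Nat.card G := by
    have := Forms.DicksonCor.gcd_mul_natCard (F := F)
    refine (h1 2 Nat.prime_two).1 ?_
    have : Fact (Nat.Prime 2) := ⟨Nat.prime_two⟩
    have : CharP F 2 := charP_of_card_eq_prime_pow (p := 2) (f := m) hF
    obtain ⟨x, hx⟩ := Recognition.PSL2Spectrum.exists_unipotent (F := F) (p := 2) (n := m) hF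
    have hd := _root_.orderOf_dvd_natCard x
    rwa [hx] at hd
  obtain ⟨L, hL, htop, hπ⟩ := simple_top_of_gen hGen hr.1 hs hr2 hs2 hrs ((hodd hr.1 hr2).2 hrd)
    ((hodd hs hs2).2 hsq) h2G hrn hiso
  rcases htop with rfl | h9
  · obtain ⟨e⟩ := iso_of_primes_psl hm hF hL fun t ht ht2 => (hπ t ht ht2).trans (hodd ht ht2)
    exact ⟨Subgroup.topEquiv.symm.trans e⟩
  · exfalso
    obtain ⟨K, iK, iT, hK, ⟨e⟩⟩ := h9
    have hrL := (hπ r hr.1 hr2).2 ((hodd hr.1 hr2).2 hrd)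
    rw [Nat.card_congr e.toEquiv, card_two_nine hK] at hrL
    have := ppd_small hr (small_primes hr.1 hr2 (Or.inl hrL))
    omega

/-- A finite group with the prime graph of a Suzuki group, given the classification of nonsolvable
CIT groups. -/
theorem sz_graph (hGen : GenStatement.{v}) {F : Type u} [Field F] [Fintype F] {k : ℕ} (hk : 1 ≤ k)
    (hF : Fintype.card F = 2 ^ (2 * k + 1))
    (h1 : ∀ r : ℕ, r.Prime → (r ∣ Nat.card ↥(Cfsg.Lie.Sz F (2 ^ (k + 1))) ↔ r ∣ Nat.card G))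
    (h2 : ∀ r s : ℕ, r.Prime → s.Prime → r ≠ s →
      ((∃ x : ↥(Cfsg.Lie.Sz F (2 ^ (k + 1))), orderOf x = r * s) ↔ (∃ y : G, orderOf y = r * s))) :
    Nonempty (G ⧸ Cfsg.pCore 2 G ≃* ↥(Cfsg.Lie.Sz F (2 ^ (k + 1)))) := by
  set n := 2 * k + 1 with hn
  have hbig : 2 ^ 3 ≤ 2 ^ n := Nat.pow_le_pow_right two_pos (by omega)
  have hodd : ∀ {t : ℕ}, t.Prime → t ≠ 2 →
      (t ∣ Nat.card G ↔ t ∣ 2 ^ n - 1 ∨ t ∣ 2 ^ (2 * n) + 1) := fun ht ht2 => by
    rw [← h1 _ ht]; exact sz_dvd_iff hk hF ht ht2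
  obtain ⟨j, hj⟩ : 2 ∣ 2 ^ n := dvd_pow_self 2 (by omega)
  obtain ⟨j', hj'⟩ : 2 ∣ 2 ^ (2 * n) := dvd_pow_self 2 (by omega)
  obtain ⟨r, hr⟩ := exists_ppd (n := 4 * n) (by omega) (by omega)
  have hr2 := hr.ne_two (by omega)
  have hrd : r ∣ 2 ^ (2 * n) + 1 := sz_of_ppd (by omega) hr
  have hr1 : ¬ r ∣ 2 ^ n - 1 := fun h => by
    have := Nat.le_of_dvd (by omega) ((hr.2 _).1 h); omega
  obtain ⟨s, hs, hsd⟩ := Nat.exists_prime_and_dvd (n := 2 ^ n - 1) (by omega)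
  have hs2 : s ≠ 2 := fun e => by
    obtain ⟨c, hc⟩ := e ▸ hsd
    omega
  have hrs : r ≠ s := fun e => hr1 (e ▸ hsd)
  have hiso : ∀ t : ℕ, t.Prime → t ≠ 2 → ¬ ∃ y : G, orderOf y = 2 * t := fun t ht ht2 hy => by
    obtain ⟨x, hx⟩ := (h2 2 t Nat.prime_two ht (Ne.symm ht2)).2 hy
    have hS := orderOf_sz hk hF x
    rw [← hn] at hS
    rcases hS with ⟨i, h⟩ | h | h <;> rw [hx] at h
    · exact not_dvd_two_pow ht ht2 ((dvd_mul_left t 2).trans h)
    · obtain ⟨c, hc⟩ := (dvd_mul_right 2 t).trans h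
      omega
    · obtain ⟨c, hc⟩ := (dvd_mul_right 2 t).trans h
      omega
  have hrn : ¬ ∃ y : G, orderOf y = r * s := fun hy => by
    obtain ⟨x, hx⟩ := (h2 r s hr.1 hs hrs).2 hy
    have hS := orderOf_sz hk hF x
    rw [← hn] at hS
    rcases hS with ⟨i, h⟩ | h | h <;> rw [hx] at h
    · exact not_dvd_two_pow hs hs2 ((dvd_mul_left s r).trans h)
    · exact hr1 ((dvd_mul_right r s).trans h)
    · have h' : s ∣ 2 ^ (2 * n) + 1 := (dvd_mul_left s r).trans h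
      have h'' := Nat.dvd_sub h' (hsd.trans (Nat.pow_sub_one_dvd_pow_sub_one 2 (dvd_mul_left n 2)))
      rw [show 2 ^ (2 * n) + 1 - (2 ^ (2 * n) - 1) = 2 by have := Nat.one_le_two_pow (n := 2 * n); omega] at h''
      exact hs2 ((Nat.prime_dvd_prime_iff_eq hs Nat.prime_two).1 h'')
  have h2G : 2 ∣ Nat.card G := by
    refine (h1 2 Nat.prime_two).1 ?_
    have : Fact (Nat.Prime 2) := ⟨Nat.prime_two⟩
    have : CharP F 2 := charP_of_card_eq_prime_pow (p := 2) (f := 2 * k + 1) hF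
    obtain ⟨e⟩ := Suzuki.lieEquiv hk hF
    rw [← Nat.card_congr e.toEquiv, Suzuki.card_eq hk hF, hF]
    exact dvd_mul_of_dvd_left (dvd_mul_of_dvd_left (dvd_pow (dvd_pow_self 2 (by omega)) two_ne_zero) _) _
  obtain ⟨L, hL, htop, hπ⟩ := simple_top_of_gen hGen hr.1 hs hr2 hs2 hrs
    ((hodd hr.1 hr2).2 (Or.inr hrd)) ((hodd hs hs2).2 (Or.inl hsd)) h2G hrn hiso
  rcases htop with rfl | h9
  · obtain ⟨e⟩ := iso_of_primes_sz hk hF hL fun t ht ht2 => (hπ t ht ht2).trans (hodd ht ht2)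
    exact ⟨Subgroup.topEquiv.symm.trans e⟩
  · exfalso
    obtain ⟨K, iK, iT, hK, ⟨e⟩⟩ := h9
    have h3 : 3 ∣ Nat.card L := by
      rw [Nat.card_congr e.toEquiv, card_two_nine hK]; norm_num
    exact three_not_sz (odd_two_mul_add_one k)
      ((hodd (by norm_num) (by norm_num)).1 ((hπ 3 (by norm_num) (by norm_num)).1 h3))

end Cfsg.Agent.CIT.Graph
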