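import Cfsg.Agent.Lib.CIT.Defs
import Cfsg.Agent.Lib.Involutions.Basic

/-!
# The configuration of `L₃(4)`: points and lines

The points are the conjugates of `R` and the lines those of `A`; an involution fixes exactly the
points of one line.
-/

set_option autoImplicit false
set_option linter.style.haveILetI false
set_option linter.unusedSectionVars false

namespace Cfsg.Agent.CIT

open Subgroup Cfsg.Agent.Involutions.Basic

universe u

variable {G : Type u} [Group G]

/-- A conjugate of a subgroup. -/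
def cj (g : G) (X : Subgroup G) : Subgroup G := X.map (MulAut.conj g).toMonoidHom

theorem mem_cj {g x : G} {X : Subgroup G} : x ∈ cj g X ↔ g⁻¹ * x * g ∈ X := by
  constructor
  · rintro ⟨y, hy, rfl⟩
    simpa [mul_assoc] using hy
  · exact fun h => ⟨_, h, by simp [mul_assoc]⟩

theorem conj_mem_cj {g x : G} {X : Subgroup G} (hx : x ∈ X) : g * x * g⁻¹ ∈ cj g X := ⟨x, hx, rfl⟩

theorem cj_cj (g h : G) (X : Subgroup G) : cj g (cj h X) = cj (g * h) X := by
  ext x
  rw [mem_cj, mem_cj, mem_cj, mul_inv_rev]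
  simp only [mul_assoc]

theorem cj_one (X : Subgroup G) : cj 1 X = X := by
  ext x; simp [mem_cj]

theorem cj_mono (g : G) {X Y : Subgroup G} (h : X ≤ Y) : cj g X ≤ cj g Y := map_mono h

theorem card_cj (g : G) (X : Subgroup G) : Nat.card (cj g X) = Nat.card X :=
  (Nat.card_congr (X.equivMapOfInjective _ (MulAut.conj g).injective).toEquiv).symm

theorem cj_eq_self_iff {g : G} {X : Subgroup G} : cj g X = X ↔ g ∈ normalizer (X : Set G) := by
  rw [mem_normalizer_iff]
  constructor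
  · intro h x
    conv_rhs => rw [← h]
    rw [mem_cj, show g⁻¹ * (g * x * g⁻¹) * g = x by group]
  · intro h
    ext x
    rw [mem_cj, h (g⁻¹ * x * g), show g * (g⁻¹ * x * g) * g⁻¹ = x by group]

theorem mem_normalizer_cj {g x : G} {X : Subgroup G} :
    x ∈ normalizer (cj g X : Set G) ↔ g⁻¹ * x * g ∈ normalizer (X : Set G) := by
  rw [← cj_eq_self_iff, ← cj_eq_self_iff, cj_cj]
  constructor <;> intro h
  · rw [show g⁻¹ * x * g = g⁻¹ * (x * g) by group, ← cj_cj, h, cj_cj, inv_mul_cancel, cj_one]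
  · rw [show x * g = g * (g⁻¹ * x * g) by group, ← cj_cj, h]

theorem cj_inv_eq {g : G} {X Y : Subgroup G} (h : cj g X = Y) : cj g⁻¹ Y = X := by
  rw [← h, cj_cj, inv_mul_cancel, cj_one]

theorem commute_of_sq {X : Subgroup G} (h : ∀ x ∈ X, x * x = 1) {x y : G} (hx : x ∈ X) (hy : y ∈ X) :
    x * y = y * x := by
  have h1 := h _ (mul_mem hx hy)
  calc x * y = x * (x * y * (x * y)) * y := by rw [h1, mul_one]
    _ = (x * x) * y * x * (y * y) := by group
    _ = y * x := by rw [h x hx, h y hy, one_mul, mul_one]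

theorem card_image_cj [Finite G] (K X : Subgroup G) :
    ((fun k => cj k X) '' (K : Set G)).ncard *
      Nat.card (K ⊓ normalizer (X : Set G) : Subgroup G) = Nat.card K := by
  set N := (normalizer (X : Set G)).subgroupOf K
  have hkey : ∀ a b : K, cj (a : G) X = cj (b : G) X ↔ a⁻¹ * b ∈ N := fun a b => by
    rw [mem_subgroupOf, ← cj_eq_self_iff, Subgroup.coe_mul, Subgroup.coe_inv, ← cj_cj]
    constructor
    · intro h; rw [← h, cj_cj, inv_mul_cancel, cj_one]
    · intro h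
      conv_lhs => rw [← h]
      rw [cj_cj, mul_inv_cancel, cj_one]
  let f : K ⧸ N → ((fun k => cj k X) '' (K : Set G) : Set (Subgroup G)) :=
    Quotient.lift (fun a : K => ⟨cj (a : G) X, (a : G), a.2, rfl⟩) fun a b h =>
      Subtype.ext ((hkey a b).2 (QuotientGroup.leftRel_apply.1 h))
  have hf : Function.Bijective f := by
    refine ⟨fun x y h => ?_, fun ⟨_, k, hk, rfl⟩ => ⟨QuotientGroup.mk ⟨k, hk⟩, rfl⟩⟩
    induction x using QuotientGroup.induction_on with
    | _ a => induction y using QuotientGroup.induction_on with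
      | _ b => exact QuotientGroup.eq.2 ((hkey a b).1 (congrArg Subtype.val h))
  rw [← Nat.card_coe_set_eq, ← Nat.card_eq_of_bijective f hf, ← Subgroup.index_eq_card,
    ← Nat.card_congr (subgroupOfEquivOfLe (inf_le_left : K ⊓ normalizer (X : Set G) ≤ K)).toEquiv,
    inf_subgroupOf_left, mul_comm]
  exact N.card_mul_index

namespace LThreeFour

variable [Finite G] {U : Sylow 2 G} {R A : Subgroup G} (h : LThreeFour U R A)
include h

theorem not_le_RA : ¬ R ≤ A ∧ ¬ A ≤ R := by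
  constructor <;> intro hle
  · have h4 := h.inf_card
    rw [inf_eq_left.2 hle, h.R_card] at h4
    omega
  · have h4 := h.inf_card
    rw [inf_eq_right.2 hle, h.A_card] at h4
    omega

theorem R_ne_A : R ≠ A := fun e => h.not_le_RA.1 e.le

/-- The only elementary abelian subgroups of order 16 of `U`. -/
theorem eq_or_eq {E : Subgroup G} (hle : E ≤ U) (hc : Nat.card E = 16) (hsq : ∀ x ∈ E, x * x = 1) :
    E = R ∨ E = A := by
  by_cases hR : E ≤ R
  · exact Or.inl (eq_of_le_of_card_ge hR (by rw [hc, h.R_card]))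
  refine Or.inr (eq_of_le_of_card_ge (fun f hf => ?_) (by rw [hc, h.A_card]))
  obtain ⟨e, he, heR⟩ := SetLike.not_le_iff_exists.1 hR
  have hmem : ∀ x ∈ E, x ∈ R ∨ x ∈ A := fun x hx => h.involutions x (hle hx) (hsq x hx)
  have heA := (hmem e he).resolve_left heR
  rcases hmem f hf with hfR | hfA
  · rcases hmem _ (mul_mem he hf) with h1 | h1
    · exact absurd (by simpa using mul_mem h1 (inv_mem hfR)) heR
    · simpa using mul_mem (inv_mem heA) h1
  · exact hfA

theorem sq_cj {g x : G} {X : Subgroup G} (hX : ∀ y ∈ X, y * y = 1) (hx : x ∈ cj g X) :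
    x * x = 1 := by
  obtain ⟨y, hy, rfl⟩ := hx
  show MulAut.conj g y * MulAut.conj g y = 1
  rw [← map_mul, hX y hy, map_one]

theorem sup_eq : R ⊔ A = (U : Subgroup G) := by
  refine eq_of_le_of_card_ge (sup_le h.R_le h.A_le) ?_
  have h1 := (R ⊓ A).subgroupOf R |>.card_mul_index
  rw [Nat.card_congr (subgroupOfEquivOfLe (inf_le_left : R ⊓ A ≤ R)).toEquiv, h.inf_card, h.R_card,
    inf_subgroupOf_left] at h1
  have h2 := (A.subgroupOf (R ⊔ A)).card_mul_index
  rw [Nat.card_congr (subgroupOfEquivOfLe (le_sup_right : A ≤ R ⊔ A)).toEquiv, h.A_card] at h2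
  have h3 : A.relIndex R ≤ A.relIndex (R ⊔ A) :=
    Subgroup.relIndex_le_of_le_right le_sup_left (Subgroup.index_ne_zero_of_finite)
  rw [Subgroup.relIndex, Subgroup.relIndex] at h3
  rw [h.card_U]
  omega

theorem U_le_normalizer : (U : Subgroup G) ≤ normalizer (R : Set G) ∧
    (U : Subgroup G) ≤ normalizer (A : Set G) := by
  have hU : ∀ {E : Subgroup G}, E ≤ U → Nat.card E = 16 → (∀ x ∈ E, x * x = 1) →
      ∀ x ∈ (U : Subgroup G), cj x E = R ∨ cj x E = A := fun hle hc hsq x hx =>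
    h.eq_or_eq ((cj_mono x hle).trans (cj_eq_self_iff.2 (le_normalizer hx)).le)
      (by rw [card_cj, hc]) fun y hy => h.sq_cj hsq hy
  have habel : ∀ {E : Subgroup G}, (∀ x ∈ E, x * x = 1) → ∀ x ∈ E, x ∈ normalizer (E : Set G) :=
    fun _ x hx => le_normalizer hx
  have hR : ∀ x ∈ A, cj x R = R := fun x hx =>
    (hU h.R_le h.R_card h.R_sq x (h.A_le hx)).resolve_right fun e => h.R_ne_A (by
      have h1 := cj_inv_eq e
      rw [cj_eq_self_iff.2 (inv_mem (habel h.A_sq x hx))] at h1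
      exact h1.symm)
  have hA : ∀ x ∈ R, cj x A = A := fun x hx =>
    (hU h.A_le h.A_card h.A_sq x (h.R_le hx)).resolve_left fun e => h.R_ne_A (by
      have h1 := cj_inv_eq e
      rw [cj_eq_self_iff.2 (inv_mem (habel h.R_sq x hx))] at h1
      exact h1)
  rw [← h.sup_eq]
  exact ⟨sup_le le_normalizer fun x hx => cj_eq_self_iff.1 (hR x hx),
    sup_le (fun x hx => cj_eq_self_iff.1 (hA x hx)) le_normalizer⟩

theorem normalizer_U_le : normalizer ((U : Subgroup G) : Set G) ≤
    normalizer (R : Set G) ⊓ normalizer (A : Set G) := by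
  set N := normalizer ((U : Subgroup G) : Set G) with hN
  have hU : ∀ {E : Subgroup G}, E ≤ U → Nat.card E = 16 → (∀ x ∈ E, x * x = 1) →
      ∀ x ∈ N, cj x E = R ∨ cj x E = A := fun hle hc hsq x hx =>
    h.eq_or_eq ((cj_mono x hle).trans (cj_eq_self_iff.2 hx).le) (by rw [card_cj, hc])
      fun y hy => h.sq_cj hsq hy
  have hR : ∀ x ∈ N, cj x R = R := by
    intro x hx
    refine (hU h.R_le h.R_card h.R_sq x hx).resolve_right fun e => ?_
    have hsub : (fun k => cj k R) '' (N : Set G) = {R, A} := by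
      refine Set.Subset.antisymm ?_ ?_
      · rintro _ ⟨k, hk, rfl⟩
        exact hU h.R_le h.R_card h.R_sq k hk
      · rintro _ (rfl | rfl)
        exacts [⟨1, one_mem N, cj_one _⟩, ⟨x, hx, e⟩]
    have h1 := card_image_cj N R
    rw [hsub, Set.ncard_pair h.R_ne_A, hN, h.norm_U] at h1
    have h2 : Nat.card (U : Subgroup G) ∣
        Nat.card (N ⊓ normalizer (R : Set G) : Subgroup G) :=
      card_dvd_of_le (le_inf le_normalizer h.U_le_normalizer.1)
    rw [h.card_U, ← hN] at *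
    omega
  refine fun x hx => ⟨cj_eq_self_iff.1 (hR x hx), cj_eq_self_iff.1 ?_⟩
  refine (hU h.A_le h.A_card h.A_sq x hx).resolve_left fun e => h.R_ne_A ?_
  have h1 := cj_inv_eq e
  rw [hR _ (inv_mem hx)] at h1
  exact h1

theorem normalizer_U : normalizer ((U : Subgroup G) : Set G) =
    normalizer (R : Set G) ⊓ normalizer (A : Set G) := by
  refine le_antisymm h.normalizer_U_le fun x hx => cj_eq_self_iff.1 ?_
  rw [← h.sup_eq]
  show (R ⊔ A).map _ = _
  rw [Subgroup.map_sup]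
  exact congr_arg₂ (· ⊔ ·) (cj_eq_self_iff.2 hx.1) (cj_eq_self_iff.2 hx.2)

/-- A 2-subgroup normalizing a point lies in a Sylow subgroup through the point. -/
theorem exists_sylow {P : Subgroup G} (hP : IsPGroup 2 P) {g : G}
    (hn : P ≤ normalizer (cj g R : Set G)) :
    ∃ k, cj k R = cj g R ∧ P ≤ cj k (U : Subgroup G) := by
  haveI : Fact (Nat.Prime 2) := ⟨Nat.prime_two⟩
  have hle : cj g⁻¹ P ≤ normalizer (R : Set G) := by
    intro x hx
    rw [mem_cj, inv_inv] at hx
    have := mem_normalizer_cj.1 (hn hx)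
    rwa [show g⁻¹ * (g * x * g⁻¹) * g = x by group] at this
  have hP' : IsPGroup 2 ((cj g⁻¹ P).subgroupOf (normalizer (R : Set G))) :=
    (hP.map (MulAut.conj g⁻¹).toMonoidHom).of_equiv (subgroupOfEquivOfLe hle).symm
  obtain ⟨Q, hQ⟩ := hP'.exists_le_sylow
  obtain ⟨m, hm⟩ := MulAction.exists_smul_eq (normalizer (R : Set G)) (U.subtype h.U_le_normalizer.1) Q
  refine ⟨g * m, by rw [← cj_cj, cj_eq_self_iff.2 m.2], fun x hx => ?_⟩
  have hx' : g⁻¹ * x * g ∈ cj g⁻¹ P := by simpa using conj_mem_cj (g := g⁻¹) hx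
  have h1 : (⟨_, hle hx'⟩ : normalizer (R : Set G)) ∈
      ((m • U.subtype h.U_le_normalizer.1 : Sylow 2 _) : Subgroup (normalizer (R : Set G))) := by
    rw [hm]; exact hQ (mem_subgroupOf.2 hx')
  obtain ⟨y, hy, hxy⟩ := h1
  have h2 : (m : G) * y * (m : G)⁻¹ = g⁻¹ * x * g := congrArg Subtype.val hxy
  rw [mem_cj, show (g * (m : G))⁻¹ * x * (g * m) = (m : G)⁻¹ * (g⁻¹ * x * g) * m by group, ← h2,
    show (m : G)⁻¹ * ((m : G) * y * (m : G)⁻¹) * m = y by group]
  exact hy

theorem exists_mem_Z : ∃ z, z ∈ R ⊓ A ∧ z ≠ 1 := by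
  haveI : Nontrivial (R ⊓ A : Subgroup G) :=
    Finite.one_lt_card_iff_nontrivial.1 (by rw [h.inf_card]; norm_num)
  obtain ⟨z, hz⟩ := exists_ne (1 : (R ⊓ A : Subgroup G))
  exact ⟨z, z.2, fun e => hz (Subtype.ext e)⟩

/-- Every involution is central in a conjugate of `U`. -/
theorem exists_center {v : G} (hv : orderOf v = 2) :
    ∃ g, v ∈ cj g (R ⊓ A) ∧ centralizer ({v} : Set G) = cj g (U : Subgroup G) := by
  obtain ⟨z, hz, hz1⟩ := h.exists_mem_Z
  obtain ⟨g, rfl⟩ := isConj_iff.1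
    (h.one_class z v (orderOf_two_iff.2 ⟨h.R_sq z hz.1, hz1⟩) hv)
  refine ⟨g, conj_mem_cj hz, ?_⟩
  ext x
  rw [mem_cj, ← h.cent_z z hz hz1, mem_centralizer_singleton_iff, mem_centralizer_singleton_iff]
  constructor <;> intro e
  · calc g⁻¹ * x * g * z = g⁻¹ * (x * (g * z * g⁻¹)) * g := by group
      _ = z * (g⁻¹ * x * g) := by rw [e]; group
  · calc x * (g * z * g⁻¹) = g * (g⁻¹ * x * g * z) * g⁻¹ := by group
      _ = g * z * g⁻¹ * x := by rw [e]; group

theorem cj_le_centralizer {g v : G} {E : Subgroup G} (hsq : ∀ x ∈ E, x * x = 1) (hv : v ∈ cj g E) :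
    cj g E ≤ centralizer ({v} : Set G) := fun x hx =>
  mem_centralizer_singleton_iff.2 (commute_of_sq (fun _ => h.sq_cj hsq) hx hv)

theorem cj_R_ne_A (g : G) : cj g R ≠ A := by
  intro e
  haveI : Fact (Nat.Prime 2) := ⟨Nat.prime_two⟩
  have h1 : (U : Subgroup G) ≤ normalizer (A : Set G) := h.U_le_normalizer.2
  have h2 : cj g (U : Subgroup G) ≤ normalizer (A : Set G) := fun x hx => by
    rw [← e, mem_normalizer_cj]
    exact h.U_le_normalizer.1 (mem_cj.1 hx)
  have hg : IsPGroup 2 ((cj g (U : Subgroup G)).subgroupOf (normalizer (A : Set G))) :=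
    (U.2.map (MulAut.conj g).toMonoidHom).of_equiv (subgroupOfEquivOfLe h2).symm
  obtain ⟨Q, hQ⟩ := hg.exists_le_sylow
  obtain ⟨m, hm⟩ := MulAction.exists_smul_eq (normalizer (A : Set G)) Q (U.subtype h1)
  have h3 : cj ((m : G) * g) (U : Subgroup G) = (U : Subgroup G) := by
    refine eq_of_le_of_card_ge (fun x hx => ?_) (le_of_eq (card_cj _ _).symm)
    rw [mem_cj, mul_inv_rev] at hx
    have hx' : (m : G)⁻¹ * x * m ∈ cj g (U : Subgroup G) := by
      rw [mem_cj]; simpa [mul_assoc] using hx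
    have h5 : MulAut.conj m (⟨_, h2 hx'⟩ : normalizer (A : Set G)) ∈
        ((m • Q : Sylow 2 _) : Subgroup (normalizer (A : Set G))) :=
      Subgroup.smul_mem_pointwise_smul _ (MulAut.conj m) _ (hQ (mem_subgroupOf.2 hx'))
    rw [hm] at h5
    have h6 : (m : G) * ((m : G)⁻¹ * x * m) * (m : G)⁻¹ ∈ (U : Subgroup G) := h5
    rwa [show (m : G) * ((m : G)⁻¹ * x * m) * (m : G)⁻¹ = x by group] at h6
  have h4 := cj_eq_self_iff.2 (h.normalizer_U_le (cj_eq_self_iff.1 h3)).1
  rw [← cj_cj, e, cj_eq_self_iff.2 m.2] at h4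
  exact h.R_ne_A h4.symm

theorem eq_cj_R {g k : G} (hle : cj g R ≤ cj k (U : Subgroup G)) : cj g R = cj k R := by
  have h1 : cj (k⁻¹ * g) R ≤ (U : Subgroup G) := by
    intro x hx
    have h2 : k * x * k⁻¹ ∈ cj k (cj (k⁻¹ * g) R) := conj_mem_cj hx
    rw [cj_cj, mul_inv_cancel_left] at h2
    have := mem_cj.1 (hle h2)
    rwa [show k⁻¹ * (k * x * k⁻¹) * k = x by group] at this
  rcases h.eq_or_eq h1 (by rw [card_cj, h.R_card]) (fun y hy => h.sq_cj h.R_sq hy) with e | e
  · conv_rhs => rw [← e]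
    rw [cj_cj, mul_inv_cancel_left]
  · exact absurd e (h.cj_R_ne_A _)

theorem eq_cj_A {g k : G} (hle : cj g A ≤ cj k (U : Subgroup G)) : cj g A = cj k A := by
  have h1 : cj (k⁻¹ * g) A ≤ (U : Subgroup G) := by
    intro x hx
    have h2 : k * x * k⁻¹ ∈ cj k (cj (k⁻¹ * g) A) := conj_mem_cj hx
    rw [cj_cj, mul_inv_cancel_left] at h2
    have := mem_cj.1 (hle h2)
    rwa [show k⁻¹ * (k * x * k⁻¹) * k = x by group] at this
  rcases h.eq_or_eq h1 (by rw [card_cj, h.A_card]) (fun y hy => h.sq_cj h.A_sq hy) with e | e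
  · exact absurd (cj_inv_eq e) (h.cj_R_ne_A _)
  · conv_rhs => rw [← e]
    rw [cj_cj, mul_inv_cancel_left]

/-- An involution lies in at most one point. -/
theorem point_unique {v g g' : G} (hv : orderOf v = 2) (h1 : v ∈ cj g R) (h2 : v ∈ cj g' R) :
    cj g R = cj g' R := by
  obtain ⟨k, -, hk⟩ := h.exists_center hv
  rw [h.eq_cj_R ((h.cj_le_centralizer h.R_sq h1).trans hk.le),
    h.eq_cj_R ((h.cj_le_centralizer h.R_sq h2).trans hk.le)]

/-- An involution lies in at most one line. -/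
theorem line_unique {v g g' : G} (hv : orderOf v = 2) (h1 : v ∈ cj g A) (h2 : v ∈ cj g' A) :
    cj g A = cj g' A := by
  obtain ⟨k, -, hk⟩ := h.exists_center hv
  rw [h.eq_cj_A ((h.cj_le_centralizer h.A_sq h1).trans hk.le),
    h.eq_cj_A ((h.cj_le_centralizer h.A_sq h2).trans hk.le)]

/-- An involution of `A` fixes only the points on the line `A`. -/
theorem exists_of_fixes {v g : G} (hv : orderOf v = 2) (hvA : v ∈ A)
    (hn : v ∈ normalizer (cj g R : Set G)) :
    ∃ a ∈ normalizer (A : Set G), cj g R = cj a R := by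
  haveI : Fact (Nat.Prime 2) := ⟨Nat.prime_two⟩
  obtain ⟨k, hk, hle⟩ := h.exists_sylow (P := zpowers v)
    (IsPGroup.of_card (n := 1) (by rw [Nat.card_zpowers, hv, pow_one])) (zpowers_le.2 hn)
  have hvU := mem_cj.1 (hle (mem_zpowers v))
  have hsq : k⁻¹ * v * k * (k⁻¹ * v * k) = 1 := by
    rw [show k⁻¹ * v * k * (k⁻¹ * v * k) = k⁻¹ * (v * v) * k by group, inv_sq_one hv]; group
  have hvA' : v ∈ cj 1 A := by rwa [cj_one]
  rcases h.involutions _ hvU hsq with h1 | h1
  · obtain ⟨l, -, hl⟩ := h.exists_center hv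
    have e1 : cj k R = cj l R :=
      h.eq_cj_R ((h.cj_le_centralizer h.R_sq (mem_cj.2 h1)).trans hl.le)
    have e2 : cj 1 A = cj l A :=
      h.eq_cj_A ((h.cj_le_centralizer h.A_sq hvA').trans hl.le)
    rw [cj_one] at e2
    exact ⟨l, cj_eq_self_iff.1 e2.symm, hk.symm.trans e1⟩
  · have e := h.line_unique hv hvA' (mem_cj.2 h1)
    rw [cj_one] at e
    exact ⟨k, cj_eq_self_iff.1 e.symm, hk.symm⟩

theorem line_fixes {a g : G} (hR : cj g R = cj a R) (ha : a ∈ normalizer (A : Set G)) :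
    A ≤ normalizer (cj g R : Set G) := by
  intro x hx
  rw [hR, mem_normalizer_cj]
  refine h.U_le_normalizer.1 (h.A_le ?_)
  rw [← mem_cj, cj_eq_self_iff.2 ha]
  exact hx

/-- An involution fixing `R` lies on a line through `R`. -/
theorem exists_line {v : G} (hv : orderOf v = 2) (hn : v ∈ normalizer (R : Set G)) :
    ∃ k ∈ normalizer (R : Set G), v ∈ cj k A := by
  haveI : Fact (Nat.Prime 2) := ⟨Nat.prime_two⟩
  obtain ⟨k, hk, hle⟩ := h.exists_sylow (P := zpowers v) (g := 1)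
    (IsPGroup.of_card (n := 1) (by rw [Nat.card_zpowers, hv, pow_one]))
    (zpowers_le.2 (by rwa [cj_one]))
  rw [cj_one, cj_eq_self_iff] at hk
  have hvU := mem_cj.1 (hle (mem_zpowers v))
  have hsq : k⁻¹ * v * k * (k⁻¹ * v * k) = 1 := by
    rw [show k⁻¹ * v * k * (k⁻¹ * v * k) = k⁻¹ * (v * v) * k by group, inv_sq_one hv]; group
  rcases h.involutions _ hvU hsq with h1 | h1
  · obtain ⟨l, hlZ, -⟩ := h.exists_center hv
    have e := h.point_unique hv (mem_cj.2 h1) (cj_mono l inf_le_left hlZ)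
    rw [cj_eq_self_iff.2 hk] at e
    exact ⟨l, cj_eq_self_iff.1 e.symm, cj_mono l inf_le_right hlZ⟩
  · exact ⟨k, hk, mem_cj.2 h1⟩

end LThreeFour

end Cfsg.Agent.CIT
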