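import Cfsg.Agent.Lib.CIT.Base
import Cfsg.Agent.Lib.Transfer.Frobenius
import Cfsg.Agent.Lib.SmallSimple.Basic
import Cfsg.Agent.S0205

/-!
# CIT groups: the main dichotomy

Sections 4A and 4B of `notes/cit-lead.md`: either the normaliser of a Sylow 2-subgroup is strongly
embedded, or there is a pair of adjacent Sylow 2-subgroups in the configuration `MainConfig`.
-/

set_option autoImplicit false
set_option linter.style.haveILetI false
set_option linter.unusedSectionVars false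

namespace Cfsg.Agent.CIT

open Subgroup Cfsg.Agent.Involutions Cfsg.Agent.CharP

universe u

variable {G : Type u} [Group G] [Finite G]

theorem two_dvd_card [IsSimpleGroup G] (hG : ¬ IsMulCommutative G) : 2 ∣ Nat.card G := by
  by_contra h
  have hs := S0205.result (G := G) (Nat.not_even_iff_odd.1 (mt even_iff_two_dvd.1 h))
  exact hG ⟨⟨IsSimpleGroup.comm_iff_isSolvable.2 hs⟩⟩

/-- A nontrivial 2-subgroup of a simple group is not normal. -/
theorem normalizer_ne_top_of_isPGroup [IsSimpleGroup G] (hG : ¬ IsMulCommutative G)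
    {D : Subgroup G} (hD : IsPGroup 2 D) (h1 : D ≠ ⊥) : normalizer (D : Set G) ≠ ⊤ := by
  haveI : Fact (Nat.Prime 2) := ⟨Nat.prime_two⟩
  intro h
  obtain ⟨S⟩ := (inferInstance : Nonempty (Sylow 2 G))
  have htop : D = ⊤ := ((normalizer_eq_top_iff.1 h).eq_bot_or_eq_top).resolve_left h1
  refine SmallSimple.Basic.sylow_ne_top hG S (top_le_iff.1 ?_)
  exact (S.3 (htop ▸ hD) le_top).le

theorem jOf_ne_bot {P : Subgroup G} (hP : IsPGroup 2 P) (h1 : P ≠ ⊥) : jOf P ≠ ⊥ := fun h => by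
  obtain ⟨t, ht, ht2⟩ := exists_involution_jOf hP h1
  rw [h, mem_bot] at ht
  exact Basic.ne_one ht2 ht

/-- Conjugating the Thompson subgroup. -/
theorem jOf_map_conj (g : G) (P : Subgroup G) :
    jOf (P.map (MulAut.conj g).toMonoidHom) = (jOf P).map (MulAut.conj g).toMonoidHom :=
  JComp.J_cjg g P

/-- Section 4A: if adjacent Sylow 2-subgroups always have the same Thompson subgroup, the
normaliser of a Sylow 2-subgroup is strongly embedded. -/
theorem stronglyEmbedded_of_same [IsSimpleGroup G] (hG : ¬ IsMulCommutative G) (hC : IsCIT G)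
    (hall : ∀ S T : Sylow 2 G, Adjacent S T → jOf (S : Subgroup G) = jOf (T : Subgroup G))
    (S : Sylow 2 G) : Cfsg.IsStronglyEmbedded (normalizer ((S : Subgroup G) : Set G)) := by
  haveI : Fact (Nat.Prime 2) := ⟨Nat.prime_two⟩
  have hS1 := SmallSimple.Basic.sylow_ne_bot (two_dvd_card hG) S
  obtain ⟨z, hz⟩ := exists_cenInv S hS1
  set H := normalizer (jOf (S : Subgroup G) : Set G) with hH
  have hne : H ≠ ⊤ := normalizer_ne_top_of_isPGroup hG (JComp.isPGroup_J S.2) (jOf_ne_bot S.2 hS1)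
  have hSH : (S : Subgroup G) ≤ H := JComp.le_normalizer_J _
  have hNS : normalizer ((S : Subgroup G) : Set G) ≤ H := JComp.normalizer_le_normalizer_J _
  have hse : Cfsg.IsStronglyEmbedded H := by
    refine stronglyEmbedded_of hne hSH hz (fun g hg => ?_) (fun t ht ht2 => ?_)
    · have hz' : CenInv (g • S) (g * z * g⁻¹) := by
        refine ⟨Subgroup.smul_mem_pointwise_smul _ (MulAut.conj g) _ hz.mem,
          by rw [Basic.orderOf_conj, hz.order], fun s hs => ?_⟩
        obtain ⟨y, hy, rfl⟩ := hs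
        show g * z * g⁻¹ * (g * y * g⁻¹) = g * y * g⁻¹ * (g * z * g⁻¹)
        calc g * z * g⁻¹ * (g * y * g⁻¹) = g * (z * y) * g⁻¹ := by group
          _ = g * (y * z) * g⁻¹ := by rw [hz.comm y hy]
          _ = _ := by group
      by_cases he : ((g • S : Sylow 2 G) : Subgroup G) = S
      · exact hNS (mem_normalizer_of_conj_map he)
      · have h := hall _ _ (adjacent_of_mem he hz' hg)
        rw [show ((g • S : Sylow 2 G) : Subgroup G) =
          (S : Subgroup G).map (MulAut.conj g).toMonoidHom from rfl, jOf_map_conj] at h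
        exact mem_normalizer_of_conj_map h
    · obtain ⟨T, hT⟩ := (hC t ht2).exists_le_sylow
      have hzT : z ∈ (T : Subgroup G) := hT (mem_centralizer_singleton_iff.2 (hz.comm t ht))
      have hJ : jOf (T : Subgroup G) = jOf (S : Subgroup G) := by
        by_cases he : (S : Subgroup G) = T
        · rw [he]
        · exact (hall _ _ (adjacent_of_mem he hz hzT)).symm
      refine hT.trans ?_
      rw [hH, ← hJ]
      exact JComp.le_normalizer_J _
  have hcore : Cfsg.pCoreOf 2 H ≠ ⊥ := fun h => jOf_ne_bot S.2 hS1 (le_bot_iff.1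
    (h ▸ le_pCoreOf ((JComp.J_le _).trans hSH) le_rfl (JComp.isPGroup_J S.2)))
  rwa [le_antisymm hNS (le_normalizer_of_stronglyEmbedded hC hse hSH hcore)]

/-- Distinct Sylow 2-subgroups of an offender subgroup meet in its core. -/
theorem inter_le_of_offender {M R P : Subgroup G} (hM : OffenderHyp M R P)
    (h : ThreeOffender M R P ∨ ∃ (n : ℕ) (A : Subgroup G), NaturalOffender M R P A n) {m : G}
    (hm : m ∈ M) (hne : P.map (MulAut.conj m).toMonoidHom ≠ P) :
    P ⊓ P.map (MulAut.conj m).toMonoidHom ≤ R := by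
  set P' := P.map (MulAut.conj m).toMonoidHom with hP'
  have hRP : R ≤ P := by
    rcases h with h | ⟨n, A, h⟩
    · exact h.R_le_P
    · exact h.R_le_P
  have hRm : R.map (MulAut.conj m).toMonoidHom = R := conj_map_of_mem (hM.R_normal hm)
  have hRP' : R ≤ P' := hRm.ge.trans (map_mono hRP)
  rcases h with h | ⟨n, A, h⟩
  · have hcard : Nat.card P' = Nat.card P := card_map_of_injective (MulAut.conj m).injective
    have h1 : Nat.card R ∣ Nat.card (P ⊓ P' : Subgroup G) := card_dvd_of_le (le_inf hRP hRP')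
    have h2 : Nat.card (P ⊓ P' : Subgroup G) ∣ Nat.card P := card_dvd_of_le inf_le_left
    obtain ⟨a, ha⟩ := h1
    obtain ⟨b, hb⟩ := h2
    rw [h.card_P, ha, mul_assoc, mul_comm 2] at hb
    have hab : a * b = 2 := (Nat.eq_of_mul_eq_mul_left Nat.card_pos hb).symm
    rcases (Nat.dvd_prime Nat.prime_two).1 (Dvd.intro b hab) with rfl | rfl
    · exact (eq_of_le_of_card_ge (le_inf hRP hRP') (by rw [ha, mul_one])).ge
    · have e : P ⊓ P' = P :=
        eq_of_le_of_card_ge inf_le_left (by rw [ha, h.card_P, mul_comm])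
      exact absurd (eq_of_le_of_card_ge (inf_eq_left.1 e) hcard.le).symm hne
  · intro x hx
    by_contra hxR
    -- the fixed points on `R` of an element outside it
    have hfix : ∀ (Q B : Subgroup G), R ⊔ B = Q → Q ≤ normalizer (R : Set G) →
        (∀ r ∈ R, ∀ a ∈ B, a ∉ R → (r * a = a * r ↔ r ∈ B)) → x ∈ Q →
        ∀ r : G, r ∈ R ⊓ B ↔ r ∈ R ∧ r * x = x * r := by
      intro Q B hQ hQn hc hxQ r
      haveI : Finite Q := inferInstance
      have hxQ' : x ∈ ((R ⊔ B : Subgroup G) : Set G) := hQ.symm ▸ hxQ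
      rw [coe_mul_of_right_le_normalizer_left R B ((le_sup_right.trans hQ.le).trans hQn)] at hxQ'
      obtain ⟨r₀, hr₀, a, ha, rfl⟩ := hxQ'
      have haR : a ∉ R := fun h' => hxR (mul_mem hr₀ h')
      have hab : ∀ r ∈ R, r * r₀ = r₀ * r := fun r hr => by
        have e := h.R_sq _ (mul_mem hr hr₀)
        calc r * r₀ = (r * r₀)⁻¹ := eq_inv_of_mul_eq_one_left e
          _ = r₀ * r := by
            rw [mul_inv_rev, inv_eq_of_mul_eq_one_right (h.R_sq r hr),
              inv_eq_of_mul_eq_one_right (h.R_sq r₀ hr₀)]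
      constructor
      · rintro ⟨hr, hrB⟩
        refine ⟨hr, ?_⟩
        rw [← mul_assoc, hab r hr, mul_assoc, (hc r hr a ha haR).2 hrB, ← mul_assoc]
      · rintro ⟨hr, he⟩
        refine ⟨hr, (hc r hr a ha haR).1 (mul_left_cancel (a := r₀) ?_)⟩
        rw [← mul_assoc, ← hab r hr, mul_assoc, he, mul_assoc]
    have hPn : P ≤ normalizer (R : Set G) := hM.P_le.trans hM.R_normal
    have h1 := hfix P A h.sup_eq hPn h.commute_iff hx.1
    have h2 := hfix P' (A.map (MulAut.conj m).toMonoidHom)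
      (by rw [hP', ← h.sup_eq, Subgroup.map_sup, hRm])
      ((map_mono hPn).trans (by
        rintro _ ⟨y, hy, rfl⟩
        exact mul_mem (mul_mem (hM.R_normal hm) hy) (inv_mem (hM.R_normal hm))))
      (fun r hr a ha haR => by
        obtain ⟨b, hb, rfl⟩ := ha
        obtain ⟨r', hr', rfl⟩ : r ∈ R.map (MulAut.conj m).toMonoidHom := hRm.symm ▸ hr
        have hbR : b ∉ R := fun h' => haR (hRm.le (mem_map_of_mem _ h'))
        rw [← map_mul, ← map_mul, MulEquiv.coe_toMonoidHom, (MulAut.conj m).injective.eq_iff, h.commute_iff r' hr' b hb hbR]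
        exact ⟨fun h' => mem_map_of_mem _ h', fun ⟨c, hc, he⟩ =>
          (MulAut.conj m).injective he ▸ hc⟩)
      hx.2
    have heq : R ⊓ A = R ⊓ A.map (MulAut.conj m).toMonoidHom := ext fun r => (h1 r).trans (h2 r).symm
    haveI : Nontrivial (R ⊓ A : Subgroup G) := Finite.one_lt_card_iff_nontrivial.1 (by
      rw [h.inf_card]; exact Nat.one_lt_two_pow (by have := h.two_le; omega))
    obtain ⟨⟨z, hz⟩, hz1⟩ := exists_ne (1 : (R ⊓ A : Subgroup G))
    have hz1' : z ≠ 1 := fun e => hz1 (Subtype.ext e)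
    have hz' : m * z * m⁻¹ ∈ R ⊓ A := by
      rw [heq]
      exact ⟨(mem_normalizer_iff.1 (hM.R_normal hm) z).1 hz.1, ⟨z, hz.2, rfl⟩⟩
    have hc1 := h.cent_z z hz hz1'
    have hc2 := h.cent_z _ hz' (by simpa using hz1')
    refine hne (Eq.trans ?_ hc2)
    rw [hP', ← hc1]
    ext y
    constructor
    · rintro ⟨w, ⟨hw, hwM⟩, rfl⟩
      exact ⟨mem_centralizer_singleton_iff.2
        ((Commute.conj_iff m).2 (mem_centralizer_singleton_iff.1 hw)),
        (mul_mem (mul_mem hm hwM) (inv_mem hm) : _ ∈ M)⟩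
    · rintro ⟨hy, hyM⟩
      refine ⟨m⁻¹ * y * m, ⟨mem_centralizer_singleton_iff.2 ?_,
        (mul_mem (mul_mem (inv_mem hm) hyM) hm : _ ∈ M)⟩, ?_⟩
      · have := (Commute.conj_iff m⁻¹).2
          (mem_centralizer_singleton_iff.1 hy : Commute y (m * z * m⁻¹))
        rw [inv_inv, show m⁻¹ * (m * z * m⁻¹) * m = z by group] at this
        exact this.eq
      · simp only [MulEquiv.coe_toMonoidHom, MulAut.conj_apply]
        group

theorem odd_relIndex {P M : Subgroup G} (h : IsSylIn 2 P M) : Odd (P.relIndex M) := by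
  haveI : Fact (Nat.Prime 2) := ⟨Nat.prime_two⟩
  rw [← Nat.not_even_iff_odd, even_iff_two_dvd]
  exact h.not_dvd

theorem offenderHyp_of {M P : Subgroup G} (hP : IsSylIn 2 P M)
    (hc : centralizer ((Cfsg.pCoreTwoOf M : Subgroup G) : Set G) ⊓ M ≤ Cfsg.pCoreTwoOf M)
    (hJ : ¬ jOf P ≤ Cfsg.pCoreTwoOf M) : OffenderHyp M (Cfsg.pCoreTwoOf M) P where
  R_le := pCoreOf_le 2 M
  R_normal := le_normalizer_pCoreOf 2 M
  R_pgroup := isPGroup_pCoreOf 2 M
  R_max _ hQ hn hp := le_pCoreOf hQ hn hp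
  cent := hc
  P_le := hP.le
  P_pgroup := hP.isPGroup
  P_odd := odd_relIndex hP
  offender := hJ

/-- Section 4B. -/
theorem exists_mainConfig [IsSimpleGroup G] (hG : ¬ IsMulCommutative G) (hC : IsCIT G)
    (hL : ListBelow.{u} (Nat.card G)) (hoff : OffenderLemma.{u})
    (hdiff : ∃ S T : Sylow 2 G, Adjacent S T ∧ jOf (S : Subgroup G) ≠ jOf (T : Subgroup G)) :
    ∃ (U U' : Sylow 2 G) (D S₀ : Subgroup G), MainConfig U U' D S₀ := by
  haveI : Fact (Nat.Prime 2) := ⟨Nat.prime_two⟩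
  obtain ⟨S₁, T₁, h₁⟩ := hdiff
  obtain ⟨⟨S, T⟩, ⟨hadj, hJ⟩, hmax⟩ := Set.exists_max_image
    {p : Sylow 2 G × Sylow 2 G | Adjacent p.1 p.2 ∧ jOf (p.1 : Subgroup G) ≠ jOf (p.2 : Subgroup G)}
    (fun p => Nat.card ((p.1 : Subgroup G) ⊓ p.2 : Subgroup G)) (Set.toFinite _) ⟨(S₁, T₁), h₁⟩
  dsimp only at hadj hJ hmax
  set D := (S : Subgroup G) ⊓ T with hD
  set N := normalizer (D : Set G) with hN
  have hDp : IsPGroup 2 D := S.2.to_le inf_le_left
  -- Sylow subgroups sharing more than `D` have the same Thompson subgroup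
  have hsame : ∀ U V : Sylow 2 G, D ≤ U → D ≤ V →
      Nat.card D < Nat.card ((U : Subgroup G) ⊓ V : Subgroup G) →
      jOf (U : Subgroup G) = jOf (V : Subgroup G) := by
    intro U V hU hV hlt
    by_contra hne
    have := hmax (U, V) ⟨hadj.adjacent_of_le hC hU hV fun e => hne (by rw [e]), hne⟩
    dsimp only at this
    omega
  -- Sylow subgroups with different Thompson subgroups meet exactly in `D`
  have hinter : ∀ U V : Sylow 2 G, D ≤ U → D ≤ V →
      jOf (U : Subgroup G) ≠ jOf (V : Subgroup G) → (U : Subgroup G) ⊓ V = D := fun U V hU hV hne =>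
    (eq_of_le_of_card_ge (le_inf hU hV) (not_lt.1 fun hlt => hne (hsame U V hU hV hlt))).symm
  have hD1 : D ≠ ⊥ := fun e => by
    obtain ⟨z, hz, -⟩ := hadj.exists_cenInv
    have h' : z ∈ D := hadj.mem_inter_left hC hz
    rw [e, mem_bot] at h'
    exact Basic.ne_one hz.order h'
  have hNtop : N ≠ ⊤ := normalizer_ne_top_of_isPGroup hG hDp hD1
  -- replace `S` by a Sylow subgroup with Sylow trace on `N`
  have hext : ∀ X : Sylow 2 G, D < X → ∃ U : Sylow 2 G, IsSylIn 2 ((U : Subgroup G) ⊓ N) N ∧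
      D < (U : Subgroup G) ⊓ N ∧ jOf (U : Subgroup G) = jOf (X : Subgroup G) := by
    intro X hX
    have hlt := Transfer.Frobenius.lt_inf_normalizer (p := 2) X.2 hX
    obtain ⟨S₀, hS₀, hle⟩ := exists_isSylIn_ge (p := 2) (X.2.to_le inf_le_left)
      (inf_le_right : (X : Subgroup G) ⊓ N ≤ N)
    obtain ⟨U, hU⟩ := hS₀.isPGroup.exists_le_sylow
    have heq : (U : Subgroup G) ⊓ N = S₀ :=
      hS₀.eq_of_le (U.2.to_le inf_le_left) inf_le_right (le_inf hU hS₀.le)
    refine ⟨U, heq ▸ hS₀, heq ▸ hlt.trans_le hle, hsame U X ?_ hX.le ?_⟩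
    · exact hlt.le.trans (hle.trans hU)
    · refine lt_of_lt_of_le (Set.ncard_lt_ncard (SetLike.coe_ssubset_coe.2 hlt)) ?_
      exact card_le_of_le (le_inf (hle.trans hU) inf_le_left)
  have hDS : D < (S : Subgroup G) := lt_of_le_of_ne inf_le_left fun e => hadj.1 <| by
    exact (S.3 T.2 (e ▸ inf_le_right)).symm
  have hDT : D < (T : Subgroup G) := lt_of_le_of_ne inf_le_right fun e => hadj.1 <| by
    exact T.3 S.2 (e ▸ inf_le_left)
  obtain ⟨U, hS₀, hDS₀, hJU⟩ := hext S hDS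
  obtain ⟨U', hT₀, hDT₀, hJU'⟩ := hext T hDT
  set S₀ := (U : Subgroup G) ⊓ N
  set T₀ := (U' : Subgroup G) ⊓ N
  have hDU : D ≤ U := hDS₀.le.trans inf_le_left
  have hDU' : D ≤ U' := hDT₀.le.trans inf_le_left
  have hne : jOf (U : Subgroup G) ≠ jOf (U' : Subgroup G) := by rw [hJU, hJU']; exact hJ
  have hUU' : (U : Subgroup G) ⊓ U' = D := hinter U U' hDU hDU' hne
  have hadj' : Adjacent U U' := hadj.adjacent_of_le hC hDU hDU' fun e => hne (by rw [e])
  have hcore : Cfsg.pCoreTwoOf N = D := le_antisymm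
    (hUU' ▸ le_inf ((pCoreOf_le_of_isSylIn hS₀).trans inf_le_left)
      ((pCoreOf_le_of_isSylIn hT₀).trans inf_le_left))
    (le_pCoreOf le_normalizer le_rfl hDp)
  have hcentD : centralizer (D : Set G) ≤ D := hadj.centralizer_le hC
  suffices hJS : ¬ jOf S₀ ≤ D by
    refine ⟨U, U', D, S₀, hadj', hne, hUU'.symm, fun V W hVW hd => hmax (V, W) ⟨hVW, hd⟩, hcore.symm,
      hcentD, hNtop, rfl, odd_relIndex hS₀, odd_relIndex hT₀, ?_⟩
    have := offenderHyp_of hS₀ (by rw [hcore]; exact inf_le_left.trans hcentD) (by rwa [hcore])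
    rwa [hcore] at this
  intro hle
  set J₀ := jOf S₀ with hJ₀
  have hJD : jOf D = J₀ := JComp.J_eq_of_le_of_le hle hDS₀.le
  obtain ⟨g, hg, hgT⟩ := hS₀.exists_conj hT₀
  have hJT : jOf T₀ = J₀ := by
    rw [← hgT, jOf_map_conj, ← hJ₀, ← hJD]
    exact conj_map_of_mem (JComp.normalizer_le_normalizer_J D hg)
  have hS₀U : S₀ < U := lt_of_le_of_ne inf_le_left fun e => hne (by
    have hcard : Nat.card T₀ = Nat.card U' := by
      rw [← hgT, card_map_of_injective (MulAut.conj g).injective, e,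
        Nat.card_congr (U.equiv U').toEquiv]
    rw [← e, ← (eq_of_le_of_card_ge (inf_le_left : T₀ ≤ U') hcard.ge)]
    exact hJT.symm)
  set X₁ := (U : Subgroup G) ⊓ normalizer (S₀ : Set G) with hX₁
  have hS₀X : S₀ < X₁ := Transfer.Frobenius.lt_inf_normalizer (p := 2) U.2 hS₀U
  set M := normalizer (J₀ : Set G) with hM
  have hNM : N ≤ M := by rw [hM, ← hJD]; exact JComp.normalizer_le_normalizer_J D
  have hX₁M : X₁ ≤ M := inf_le_right.trans (JComp.normalizer_le_normalizer_J S₀)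
  obtain ⟨P, hP, hX₁P⟩ := exists_isSylIn_ge (p := 2) (U.2.to_le inf_le_left) hX₁M
  obtain ⟨P', hP', hT₀P⟩ := exists_isSylIn_ge (p := 2) hT₀.isPGroup (hT₀.le.trans hNM)
  obtain ⟨V, hV⟩ := hP.isPGroup.exists_le_sylow
  obtain ⟨V', hV'⟩ := hP'.isPGroup.exists_le_sylow
  have hDX : D ≤ X₁ := hDS₀.le.trans hS₀X.le
  have hDV : D ≤ V := hDX.trans (hX₁P.trans hV)
  have hDV' : D ≤ V' := hDT₀.le.trans (hT₀P.trans hV')
  have hJV : jOf (V : Subgroup G) = jOf (U : Subgroup G) := hsame V U hDV hDU <| by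
    refine lt_of_lt_of_le (Set.ncard_lt_ncard (SetLike.coe_ssubset_coe.2 (hDS₀.trans hS₀X))) ?_
    exact card_le_of_le (le_inf (hX₁P.trans hV) inf_le_left)
  have hJV' : jOf (V' : Subgroup G) = jOf (U' : Subgroup G) := hsame V' U' hDV' hDU' <| by
    refine lt_of_lt_of_le (Set.ncard_lt_ncard (SetLike.coe_ssubset_coe.2 hDT₀)) ?_
    exact card_le_of_le (le_inf (hT₀P.trans hV') inf_le_left)
  have hVne : jOf (V : Subgroup G) ≠ jOf (V' : Subgroup G) := by rw [hJV, hJV']; exact hne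
  have hVV' : (V : Subgroup G) ⊓ V' = D := hinter V V' hDV hDV' hVne
  have hPP' : P ⊓ P' ≤ D := (inf_le_inf hV hV').trans hVV'.le
  set R := Cfsg.pCoreTwoOf M with hR
  have hRD : R ≤ D := le_trans (le_inf (pCoreOf_le_of_isSylIn hP) (pCoreOf_le_of_isSylIn hP')) hPP'
  have hS₀1 : S₀ ≠ ⊥ := fun e => hD1 (le_bot_iff.1 (e ▸ hDS₀.le))
  have hJ₀R : J₀ ≤ R := le_pCoreOf le_normalizer le_rfl (JComp.isPGroup_J hS₀.isPGroup)
  have hcent : centralizer (R : Set G) ⊓ M ≤ R := by
    refine (inf_le_inf_right _ (centralizer_le hJ₀R)).trans (le_pCoreOf inf_le_right ?_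
      ((isPGroup_centralizer_jOf hC hS₀.isPGroup hS₀1).to_le inf_le_left))
    intro x hx
    refine mem_normalizer_fintype ?_
    rintro y ⟨hy, hyM⟩
    refine ⟨mem_centralizer_iff.2 fun j hj => ?_, (mul_mem (mul_mem hx hyM) (inv_mem hx) : _ ∈ M)⟩
    have hj' := (mem_normalizer_iff.1 (inv_mem hx) j).1 hj
    rw [inv_inv] at hj'
    have h1 := (Commute.conj_iff x).2 (mem_centralizer_iff.1 hy _ hj' : Commute (x⁻¹ * j * x) y)
    rw [show x * (x⁻¹ * j * x) * x⁻¹ = j by group] at h1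
    exact h1.eq
  obtain ⟨m, hm, hmP⟩ := hP.exists_conj hP'
  -- the Thompson subgroup of `P` is not in the core
  have hJP : ¬ jOf P ≤ R := fun hle' => by
    have hJP₀ : jOf P = J₀ := (JComp.J_eq_of_le_of_le (hle'.trans hRD) (hDX.trans hX₁P)).symm.trans hJD
    have hPV : P = V := by
      by_contra hne'
      have hlt := Transfer.Frobenius.lt_inf_normalizer (p := 2) V.2 (lt_of_le_of_ne hV hne')
      refine hlt.ne' (hP.eq_of_le (V.2.to_le inf_le_left) ?_ hlt.le)
      refine inf_le_right.trans ?_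
      rw [hM, ← hJP₀]
      exact JComp.normalizer_le_normalizer_J P
    have hPV' : P' = V' := eq_of_le_of_card_ge hV' (by
      rw [← hmP, card_map_of_injective (MulAut.conj m).injective, hPV,
        Nat.card_congr (V.equiv V').toEquiv])
    refine hVne ?_
    rw [← hPV, ← hPV', ← hmP, jOf_map_conj, hJP₀]
    exact (conj_map_of_mem hm).symm
  have hoffM := offenderHyp_of hP hcent hJP
  have hDR : D = R := by
    refine le_antisymm ?_ hRD
    refine (le_inf (hDX.trans hX₁P) (hDT₀.le.trans hT₀P)).trans ?_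
    rw [← hmP]
    refine inter_le_of_offender hoffM (hoff G hC hL M R P hoffM) hm fun e => hVne ?_
    refine hsame V V' hDV hDV' ?_
    refine lt_of_lt_of_le (Set.ncard_lt_ncard (SetLike.coe_ssubset_coe.2 (hDS₀.trans hS₀X))) ?_
    refine card_le_of_le (le_inf (hX₁P.trans hV) ?_)
    rw [← hmP, e] at hV'
    exact hX₁P.trans hV'
  have hMN : M ≤ N := by rw [hN, hDR]; exact le_normalizer_pCoreOf 2 M
  exact hS₀X.2 (le_inf inf_le_left (hX₁M.trans hMN))

/-- Sections 4A and 4B together. -/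
theorem dichotomy [IsSimpleGroup G] (hG : ¬ IsMulCommutative G) (hC : IsCIT G)
    (hL : ListBelow.{u} (Nat.card G)) (hoff : OffenderLemma.{u}) :
    (∃ S : Sylow 2 G, Cfsg.IsStronglyEmbedded (normalizer ((S : Subgroup G) : Set G))) ∨
      ∃ (U U' : Sylow 2 G) (D S₀ : Subgroup G), MainConfig U U' D S₀ := by
  by_cases h : ∃ S T : Sylow 2 G, Adjacent S T ∧ jOf (S : Subgroup G) ≠ jOf (T : Subgroup G)
  · exact Or.inr (exists_mainConfig hG hC hL hoff h)
  · push Not at h
    obtain ⟨S⟩ := (inferInstance : Nonempty (Sylow 2 G))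
    exact Or.inl ⟨S, stronglyEmbedded_of_same hG hC h S⟩

end Cfsg.Agent.CIT
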