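import Cfsg.Agent.Lib.CIT.Defs
import Cfsg.Agent.Lib.PSLBinary.Invol
import Cfsg.Agent.Lib.L34Mult.OddBound
import Cfsg.Agent.Lib.PrimeBlock.PrimeDegree.Main
import Cfsg.Agent.Lib.Suzuki.Sylow
import Cfsg.Agent.Lib.Suzuki.LieEquiv
import Cfsg.Agent.Lib.Classical.SmallIso

/-!
# CIT groups: what the offender lemma uses about the models
-/

set_option autoImplicit false
set_option linter.style.haveILetI false

namespace Cfsg.Agent.CIT

open Matrix
open scoped MatrixGroups

universe u v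

/-- An elementary abelian subgroup of `PSL₂(q)`, `q` odd, has at most four elements. -/
theorem elementary_le_psl {F : Type*} [Field F] [Fintype F] (h2 : (2 : F) ≠ 0)
    (E : Subgroup (Matrix.ProjectiveSpecialLinearGroup (Fin 2) F)) (hE : ∀ x ∈ E, x * x = 1) :
    Nat.card E ≤ 4 := by
  classical
  haveI : Fintype E := Fintype.ofFinite E
  by_contra hlt
  push Not at hlt
  rw [Nat.card_eq_fintype_card] at hlt
  have hco : ∀ x y : E, x * y = y * x := fun x y => by
    have hi : ∀ z : E, z⁻¹ = z := fun z => inv_eq_of_mul_eq_one_right (Subtype.ext (hE z z.2))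
    conv_lhs => rw [← hi (x * y), _root_.mul_inv_rev, hi, hi]
  obtain ⟨a, ha⟩ := Fintype.exists_ne_of_one_lt_card (by omega) (1 : E)
  obtain ⟨b, hb⟩ : ∃ b : E, b ∉ ({1, a} : Finset E) := by
    obtain ⟨b, -, hb⟩ := Finset.exists_mem_notMem_of_card_lt_card
      (s := ({1, a} : Finset E)) (t := Finset.univ)
      ((Finset.card_le_two).trans_lt (by rw [Finset.card_univ]; omega))
    exact ⟨b, hb⟩
  simp only [Finset.mem_insert, Finset.mem_singleton, not_or] at hb
  have ho : ∀ z : E, z ≠ 1 → orderOf (z : Matrix.ProjectiveSpecialLinearGroup (Fin 2) F) = 2 :=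
    fun z hz => orderOf_eq_prime (by rw [sq]; exact hE z z.2) fun e => hz (Subtype.ext e)
  have hsub : (Finset.univ : Finset E) ⊆ ({1, a, b, a * b} : Finset E) := by
    intro g _
    have := PSLBinary.mem_four h2 (ho a ha) (ho b hb.1) (fun e => hb.2 (Subtype.ext e.symm))
      (congrArg Subtype.val (hco a b)) (congrArg Subtype.val (hco g a))
      (congrArg Subtype.val (hco g b))
    simp only [Finset.mem_insert, Finset.mem_singleton]
    rcases this with e | e | e | e
    exacts [Or.inl (Subtype.ext e), Or.inr (Or.inl (Subtype.ext e)),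
      Or.inr (Or.inr (Or.inl (Subtype.ext e))), Or.inr (Or.inr (Or.inr (Subtype.ext e)))]
  have := (Finset.card_le_card hsub).trans Finset.card_le_four
  rw [Finset.card_univ] at this
  omega

theorem sub_one_mul_add_one_sq (q : ℕ) : (q - 1) * (q + 1) = q ^ 2 - 1 := by
  simpa [mul_comm] using (Nat.sq_sub_sq q 1).symm

/-- The order of `PSL₂(q)`, `q` odd. -/
theorem card_psl_odd {F : Type*} [Field F] [Fintype F] (hodd : Odd (Fintype.card F)) :
    2 * Nat.card (Matrix.ProjectiveSpecialLinearGroup (Fin 2) F) =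
      Fintype.card F * (Fintype.card F ^ 2 - 1) := by
  have h := Classical.SmallIso.natCard_pslTwo F
  have hg : Nat.gcd 2 (Fintype.card F - 1) = 2 := by
    obtain ⟨r, hr⟩ := hodd
    exact Nat.gcd_eq_left ⟨r, by omega⟩
  rw [hg, Classical.GL2.natCard_SL_two, sub_one_mul_add_one_sq] at h
  exact h

/-- An elementary abelian subgroup of `PSL₃(4)` has at most `32` elements. -/
theorem elementary_le_l34 {F : Type*} [Field F] [Fintype F] (hF : Fintype.card F = 4)
    (E : Subgroup (Matrix.ProjectiveSpecialLinearGroup (Fin 3) F)) (hE : ∀ x ∈ E, x * x = 1) :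
    Nat.card E ≤ 32 := by
  classical
  haveI : Fact (Nat.Prime 2) := ⟨Nat.prime_two⟩
  haveI : CharP F 2 := (CharP.charP_iff_prime_eq_zero Nat.prime_two).2
    (pow_eq_zero_iff (n := 2) two_ne_zero |>.1 (by
      rw [← Nat.cast_pow, show (2 : ℕ) ^ 2 = 4 by norm_num, ← hF, Nat.cast_card_eq_zero]))
  have h20 : (2 : F) = 0 := CharTwo.two_eq_zero
  have hcard := L34Mult.card_psl hF
  have hp : IsPGroup 2 E := fun x => ⟨1, Subtype.ext (by
    rw [pow_one, sq]; exact hE x x.2)⟩
  obtain ⟨k, hk⟩ := IsPGroup.iff_card.1 hp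
  have hdvd : 2 ^ k ∣ 20160 := hk ▸ hcard ▸ E.card_subgroup_dvd_card
  have hk6 : k ≤ 6 := by
    by_contra hlt
    exact absurd ((pow_dvd_pow 2 (show 7 ≤ k by omega)).trans hdvd) (by norm_num)
  rcases Nat.lt_or_ge k 6 with h | h
  · rw [hk]; exact (Nat.pow_le_pow_right two_pos (show k ≤ 5 by omega)).trans (by norm_num)
  exfalso
  obtain rfl : k = 6 := by omega
  -- `E` would be a Sylow 2-subgroup, but there are elements of order four
  obtain ⟨J, hJ⟩ : ∃ J : SL(3, F), (J : Matrix (Fin 3) (Fin 3) F) = !![1, 1, 0; 0, 1, 1; 0, 0, 1] :=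
    ⟨⟨!![1, 1, 0; 0, 1, 1; 0, 0, 1], by simp [det_fin_three]⟩, rfl⟩
  set π := QuotientGroup.mk' (Subgroup.center SL(3, F))
  have h4 : π J ^ 4 = 1 := by
    rw [← map_pow, show J ^ 4 = 1 from Subtype.ext (by
      rw [Matrix.SpecialLinearGroup.coe_pow, hJ, show (4 : ℕ) = 2 + 2 from rfl, pow_add, pow_two,
        Matrix.SpecialLinearGroup.coe_one]
      ext i j
      fin_cases i <;> fin_cases j <;>
        simp [Matrix.mul_apply, Fin.sum_univ_three, one_add_one_eq_two, h20]), map_one]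
  have h2 : π J ^ 2 ≠ 1 := by
    rw [← map_pow, QuotientGroup.mk'_apply, Ne, QuotientGroup.eq_one_iff,
      Matrix.SpecialLinearGroup.mem_center_iff]
    rintro ⟨r, -, hr⟩
    rw [Matrix.SpecialLinearGroup.coe_pow, hJ, pow_two] at hr
    have := congrFun (congrFun hr 0) 2
    simp [Matrix.mul_apply, Fin.sum_univ_three] at this
  have hp' : IsPGroup 2 (Subgroup.zpowers (π J)) := by
    obtain ⟨i, -, hi⟩ := (Nat.dvd_prime_pow Nat.prime_two (m := 2)).1 (orderOf_dvd_of_pow_eq_one h4)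
    exact IsPGroup.of_card (n := i) (by rw [Nat.card_zpowers, hi])
  obtain ⟨P, hP⟩ := hp'.exists_le_sylow
  obtain ⟨S, hS⟩ := hp.exists_le_sylow
  have hSE : E = S := Subgroup.eq_of_le_of_card_ge hS (by
    rw [hk, Sylow.card_eq_multiplicity, hcard]
    refine le_of_eq ?_
    rw [show (20160 : ℕ) = 2 ^ 6 * 315 by norm_num, Nat.factorization_mul (by norm_num) (by norm_num),
      Finsupp.add_apply, Nat.Prime.factorization_pow Nat.prime_two,
      Nat.factorization_eq_zero_of_not_dvd (by norm_num : ¬ 2 ∣ 315)]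
    simp)
  obtain ⟨g, hg⟩ := MulAction.exists_smul_eq (Matrix.ProjectiveSpecialLinearGroup (Fin 3) F) S P
  have hm : π J ∈ (P : Subgroup _) := hP (Subgroup.mem_zpowers _)
  rw [← hg, Sylow.coe_subgroup_smul] at hm
  obtain ⟨x, hx, hxJ⟩ := hm
  change MulAut.conj g x = π J at hxJ
  refine h2 ?_
  rw [← hxJ, sq, ← map_mul, hE x (hSE ▸ hx), map_one]

/-- An elementary abelian subgroup of `Sz(q)` has at most `q` elements. -/
theorem elementary_le_sz {F : Type*} [Field F] [Fintype F] [CharP F 2] {m : ℕ} (hm : 1 ≤ m)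
    (hF : Fintype.card F = 2 ^ (2 * m + 1)) (E : Subgroup (Cfsg.Sz F m)) (hE : ∀ x ∈ E, x * x = 1) :
    Nat.card E ≤ Fintype.card F := by
  classical
  haveI : Fact (Nat.Prime 2) := ⟨Nat.prime_two⟩
  have hp : IsPGroup 2 E := fun x => ⟨1, Subtype.ext (by rw [pow_one, sq]; exact hE x x.2)⟩
  obtain ⟨P, hP⟩ := hp.exists_le_sylow
  obtain ⟨e⟩ := Suzuki.sylow_equiv hm hF P
  rw [← Suzuki.card_center hm hF]
  let f : E →* (P : Subgroup (Cfsg.Sz F m)) := Subgroup.inclusion hP
  have hmem : ∀ x : E, e.symm (f x) ∈ Subgroup.center (Suzuki.U (m := m) hF) := by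
    intro x
    obtain ⟨a, b, hab⟩ := Suzuki.ut_surjective hF (e.symm (f x))
    have h1 : e.symm (f x) * e.symm (f x) = 1 := by
      rw [← map_mul, ← map_mul, show x * x = 1 from Subtype.ext (hE x x.2), map_one, map_one]
    rw [hab, Suzuki.ut_mul, ← Suzuki.ut_zero hF] at h1
    have h2 := (Suzuki.ut_injective hF h1).2
    rw [hab, Suzuki.mem_center_iff' hm hF]
    rw [CharTwo.add_self_eq_zero, zero_add, mul_eq_zero] at h2
    exact h2.elim eq_zero_of_pow_eq_zero id
  refine Nat.card_le_card_of_injective (fun x : E => (⟨e.symm (f x), hmem x⟩ :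
    Subgroup.center (Suzuki.U (m := m) hF))) fun x y h => ?_
  exact Subgroup.inclusion_injective hP (e.symm.injective (congrArg Subtype.val h))

/-- An odd number not dividing `2^d - 1` for small `d`: `2^(2n) + 1`. -/
theorem not_dvd_mersenne {n d : ℕ} (hn : 3 ≤ n) (hd1 : 1 ≤ d) (hd : d ≤ 2 * n + 2) :
    ¬ 2 ^ (2 * n) + 1 ∣ 2 ^ d - 1 := by
  intro hdvd
  have hbig : 64 ≤ 2 ^ (2 * n) :=
    le_trans (by norm_num) (Nat.pow_le_pow_right two_pos (show 6 ≤ 2 * n by omega))
  rcases (show d ≤ 2 * n ∨ d = 2 * n + 1 ∨ d = 2 * n + 2 by omega) with h | rfl | rfl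
  · have h1 := Nat.pow_le_pow_right two_pos h
    have h2 : 2 ≤ 2 ^ d := Nat.le_self_pow (by omega) 2
    have := Nat.le_of_dvd (by omega) hdvd
    omega
  · rw [pow_succ] at hdvd
    have h2 : 2 ^ (2 * n) + 1 ∣ (2 ^ (2 * n) + 1) * 2 := dvd_mul_right _ _
    have h3 := Nat.dvd_sub h2 hdvd
    rw [show (2 ^ (2 * n) + 1) * 2 - (2 ^ (2 * n) * 2 - 1) = 3 by omega] at h3
    have := Nat.le_of_dvd (by norm_num) h3
    omega
  · rw [pow_add] at hdvd
    have h2 : 2 ^ (2 * n) + 1 ∣ (2 ^ (2 * n) + 1) * 2 ^ 2 := dvd_mul_right _ _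
    have h3 := Nat.dvd_sub h2 hdvd
    rw [show (2 ^ (2 * n) + 1) * 2 ^ 2 - (2 ^ (2 * n) * 2 ^ 2 - 1) = 5 by norm_num; omega] at h3
    have := Nat.le_of_dvd (by norm_num) h3
    omega

/-- The transport of a bound on elementary abelian subgroups. -/
theorem elementary_of_equiv {L : Type u} [Group L] {M : Type v} [Group M] (e : L ≃* M) {b : ℕ}
    (h : ∀ E : Subgroup M, (∀ x ∈ E, x * x = 1) → Nat.card E ≤ b) (E : Subgroup L)
    (hE : ∀ x ∈ E, x * x = 1) : Nat.card E ≤ b := by
  rw [← Subgroup.card_map_of_injective (f := e.toMonoidHom) e.injective]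
  refine h _ ?_
  rintro _ ⟨x, hx, rfl⟩
  rw [← map_mul, hE x hx, map_one]

/-- What the offender lemma uses about the simple groups on the list. -/
theorem offender_data {L : Type u} [Group L] [Finite L] [IsSimpleGroup L] (h : CITList L) :
    (∃ (K : Type) (_ : Field K) (_ : Fintype K) (n : ℕ), 2 ≤ n ∧ Fintype.card K = 2 ^ n ∧
      Nat.card L = 2 ^ n * ((2 ^ n) ^ 2 - 1) ∧
      Nonempty (L ≃* Matrix.SpecialLinearGroup (Fin 2) K)) ∨
    (∃ e : ℕ, (∀ E : Subgroup L, (∀ x ∈ E, x * x = 1) → Nat.card E ≤ 2 ^ e) ∧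
      ∀ d : ℕ, 1 ≤ d → d ≤ 2 * (e + if 3 ∣ Nat.card L then 0 else 1) →
        ∃ r : ℕ, Odd r ∧ r ∣ Nat.card L ∧ ¬ r ∣ 2 ^ d - 1) := by
  classical
  rcases h with ⟨F, iF, iF', hF, ⟨f⟩⟩ | ⟨F, iF, iF', hF, ⟨f⟩⟩ | ⟨F, iF, iF', m, hm, hF, ⟨f⟩⟩
  · have hL := Nat.card_congr f.toEquiv
    have h2of : Odd (Fintype.card F) → (2 : F) ≠ 0 := fun ho e => by
      have h1 : addOrderOf (1 : F) = 2 :=
        addOrderOf_eq_prime (by rw [two_nsmul, one_add_one_eq_two, e]) one_ne_zero
      exact Nat.not_even_iff_odd.2 ho (even_iff_two_dvd.2 (h1 ▸ addOrderOf_dvd_card))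
    rcases hF with h9 | ⟨n, hn, hF⟩ | ⟨h5, hp, k, hk⟩
    · right
      have hodd : Odd (Fintype.card F) := by rw [h9]; decide
      have hc := card_psl_odd hodd
      rw [h9, ← hL] at hc
      have hc' : Nat.card L = 360 := by norm_num at hc; omega
      refine ⟨2, elementary_of_equiv f fun E hE => elementary_le_psl (h2of hodd) E hE, fun d h1 h4 => ?_⟩
      rw [if_pos (by rw [hc']; norm_num)] at h4
      refine ⟨9, by decide, by rw [hc']; norm_num, ?_⟩
      interval_cases d <;> norm_num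
    · left
      obtain ⟨e⟩ := PrimeBlock.Brauer.sl_equiv_psl F (show n ≠ 0 by omega) hF
      refine ⟨F, iF, iF', n, hn, hF, ?_, ⟨f.trans e⟩⟩
      rw [Nat.card_congr (f.trans e).toEquiv, Classical.GL2.natCard_SL_two, hF, sub_one_mul_add_one_sq]
    · have hodd : Odd (Fintype.card F) := hp.odd_of_ne_two (by omega)
      have hc := card_psl_odd hodd
      rcases Nat.lt_or_ge (Fintype.card F) 7 with h7 | h7
      · left
        have h5' : Fintype.card F = 5 := by obtain ⟨r, hr⟩ := hodd; omega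
        rw [h5', ← hL] at hc
        have hc' : Nat.card L = 60 := by norm_num at hc; omega
        obtain ⟨K, iK, iK', hK, e⟩ := PrimeBlock.PrimeDegree.sl_four_of_card hc'
        exact ⟨K, iK, iK', 2, le_rfl, hK.trans (by norm_num), hc'.trans (by norm_num), e⟩
      right
      rw [← hL] at hc
      set p := Fintype.card F
      have h3 : 3 ∣ Nat.card L := by
        have h3p : p % 3 ≠ 0 := fun e => by
          have := (Nat.prime_dvd_prime_iff_eq Nat.prime_three hp).1 (Nat.dvd_of_mod_eq_zero e)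
          omega
        have : 3 ∣ p ^ 2 - 1 := by
          rw [show p ^ 2 - 1 = (p + 1) * (p - 1) by simpa using Nat.sq_sub_sq p 1]
          rcases (show p % 3 = 1 ∨ p % 3 = 2 by omega) with h | h
          · exact Dvd.dvd.mul_left (by omega) _
          · exact Dvd.dvd.mul_right (by omega) _
        exact (Nat.Coprime.dvd_of_dvd_mul_left (by norm_num : Nat.Coprime 3 2)
          (hc ▸ Dvd.dvd.mul_left this p))
      have hpL : p ∣ Nat.card L :=
        (Nat.Coprime.dvd_of_dvd_mul_left (Nat.coprime_two_right.2 hodd) (hc ▸ dvd_mul_right p _))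
      refine ⟨2, elementary_of_equiv f fun E hE => elementary_le_psl (h2of hodd) E hE, fun d h1 h4 => ?_⟩
      rw [if_pos h3] at h4
      by_cases hd : p ∣ 2 ^ d - 1
      · refine ⟨3, by decide, h3, ?_⟩
        interval_cases d
        · simp at hd; omega
        · have := Nat.le_of_dvd (by norm_num) hd; omega
        · norm_num
        · exfalso
          have h15 : p ∣ 3 * 5 := hd
          rcases hp.dvd_mul.1 h15 with e | e <;> have := Nat.le_of_dvd (by norm_num) e <;> omega
      · exact ⟨p, hodd, hpL, hd⟩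
  · right
    have hc : Nat.card L = 20160 := (Nat.card_congr f.toEquiv).trans (L34Mult.card_psl hF)
    refine ⟨5, elementary_of_equiv f fun E hE => elementary_le_l34 hF E hE, fun d h1 h10 => ?_⟩
    rw [if_pos (by rw [hc]; norm_num)] at h10
    refine ⟨315, by decide, by rw [hc]; norm_num, ?_⟩
    interval_cases d <;> norm_num
  · right
    haveI := Suzuki.charTwo hF
    obtain ⟨e'⟩ := Suzuki.lieEquiv hm hF
    let g : L ≃* Cfsg.Sz F m := f.trans e'.symm
    have hc : Nat.card L = (2 ^ (2 * m + 1)) ^ 2 * ((2 ^ (2 * m + 1)) ^ 2 + 1) * (2 ^ (2 * m + 1) - 1) := by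
      rw [Nat.card_congr g.toEquiv, Suzuki.card_eq hm hF, hF]
    refine ⟨2 * m + 1, elementary_of_equiv g fun E hE => hF ▸ elementary_le_sz hm hF E hE,
      fun d h1 hd => ⟨2 ^ (2 * (2 * m + 1)) + 1,
        (Nat.even_pow.2 ⟨even_two, by omega⟩).add_one, ?_, ?_⟩⟩
    · rw [hc, mul_comm 2 (2 * m + 1), pow_mul]
      exact Dvd.dvd.mul_right (dvd_mul_left _ _) _
    · refine not_dvd_mersenne (by omega) h1 (hd.trans ?_)
      split <;> omega

end Cfsg.Agent.CIT
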