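import Cfsg.Agent.Lib.CIT.NaturalSwap

/-!
# CIT groups: from two natural offenders to the `L₃(4)` configuration

When the Sylow subgroup `U` is `R A` and both `N(R)`, `N(A)` act naturally, the orders of the
normalisers and the fusion of involutions follow; with `q = 4` this is `LThreeFour`.
-/

set_option autoImplicit false
set_option linter.unusedSectionVars false
set_option linter.style.haveILetI false

namespace Cfsg.Agent.CIT

open Subgroup

universe u

namespace SwapKill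

variable {G : Type u} [Group G] [Finite G]

/-- Orbit and stabiliser for conjugation. -/
theorem card_eq_card_orbit_mul (K : Subgroup G) (z : G) (S : Set G)
    (hmaps : ∀ g ∈ K, g * z * g⁻¹ ∈ S) (htr : ∀ w ∈ S, ∃ g ∈ K, g * z * g⁻¹ = w) :
    Nat.card K = Nat.card S * Nat.card (centralizer ({z} : Set G) ⊓ K : Subgroup G) := by
  choose sel hselK hsel using fun w : S => htr w w.2
  rw [← Nat.card_prod]
  refine Nat.card_congr (Equiv.ofBijective
    (fun g : K => ((⟨(g : G) * z * (g : G)⁻¹, hmaps g g.2⟩ : S),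
      (⟨(sel ⟨(g : G) * z * (g : G)⁻¹, hmaps g g.2⟩)⁻¹ * g, Subgroup.mem_inf.2
        ⟨mem_centralizer_singleton_iff.2 ?_, mul_mem (inv_mem (hselK _)) g.2⟩⟩ :
          (centralizer ({z} : Set G) ⊓ K : Subgroup G)))) ⟨?_, ?_⟩)
  · have hs : sel ⟨(g : G) * z * (g : G)⁻¹, hmaps g g.2⟩ * z *
        (sel ⟨(g : G) * z * (g : G)⁻¹, hmaps g g.2⟩)⁻¹ = (g : G) * z * (g : G)⁻¹ := hsel _
    generalize sel ⟨(g : G) * z * (g : G)⁻¹, hmaps g g.2⟩ = t at hs ⊢
    calc t⁻¹ * g * z = t⁻¹ * ((g : G) * z * (g : G)⁻¹) * g := by group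
      _ = z * (t⁻¹ * g) := by rw [← hs]; group
  · intro a b e
    obtain ⟨e1, e2⟩ := Prod.mk.injEq .. ▸ e
    have e2' := congrArg Subtype.val e2
    simp only at e2'
    rw [e1] at e2'
    exact Subtype.ext (mul_left_cancel e2')
  · rintro ⟨w, c⟩
    have hc := Subgroup.mem_inf.1 c.2
    have hc' : (c : G) * z = z * c := mem_centralizer_singleton_iff.1 hc.1
    have hw : sel w * (c : G) * z * (sel w * (c : G))⁻¹ = w := by
      calc sel w * (c : G) * z * (sel w * (c : G))⁻¹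
          = sel w * ((c : G) * z) * (c : G)⁻¹ * (sel w)⁻¹ := by group
        _ = sel w * z * (sel w)⁻¹ := by rw [hc']; group
        _ = w := hsel w
    refine ⟨⟨sel w * c, mul_mem (hselK w) hc.2⟩, Prod.ext (Subtype.ext hw) (Subtype.ext ?_)⟩
    show (sel ⟨_, _⟩)⁻¹ * (sel w * c) = c
    rw [show (⟨sel w * (c : G) * z * (sel w * (c : G))⁻¹, hmaps _ (mul_mem (hselK w) hc.2)⟩ : S) = w
      from Subtype.ext hw, inv_mul_cancel_left]

theorem card_ne_one_set (B : Subgroup G) :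
    Nat.card {g : G | g ∈ B ∧ g ≠ 1} = Nat.card B - 1 := by
  have e : {g : G | g ∈ B ∧ g ≠ 1} = (B : Set G) \ {1} := by ext g; simp
  rw [Nat.card_coe_set_eq, e, Set.ncard_sdiff_singleton_of_mem (one_mem B), ← Nat.card_coe_set_eq]
  rfl

/-- A subgroup normalised by a 2-element, inside a Sylow subgroup equal to it, contains it. -/
theorem mem_of_twoElement_normalizer (U : Sylow 2 G) {g : G}
    (hg : g ∈ normalizer ((U : Subgroup G) : Set G)) (h2 : ∃ k : ℕ, g ^ 2 ^ k = 1) :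
    g ∈ (U : Subgroup G) := by
  obtain ⟨k, hk⟩ := h2
  have hZ : IsPGroup 2 (zpowers g) := by
    intro x
    obtain ⟨i, hi⟩ := x.2
    refine ⟨k, Subtype.ext ?_⟩
    rw [SubmonoidClass.coe_pow, ← show g ^ i = (x : G) from hi, ← zpow_natCast, ← zpow_mul,
      mul_comm, zpow_mul, zpow_natCast, hk, one_zpow]
    rfl
  have := hZ.to_sup_of_normal_right' U.2 (zpowers_le.2 hg)
  rw [← U.3 this le_sup_right]
  exact mem_sup_left (mem_zpowers g)

end SwapKill

open SwapKill

namespace NaturalOffender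

variable {G : Type u} [Group G] [Finite G] {R A : Subgroup G} {n : ℕ}

theorem cent_R_eq {P : Subgroup G} (h : NaturalOffender (normalizer (R : Set G)) R P A n) :
    centralizer (R : Set G) = R := by
  obtain ⟨z, hz, hz1⟩ := h.exists_central
  have hsub : ∀ g ∈ centralizer (R : Set G), g ∈ normalizer (R : Set G) := fun g hg =>
    Subgroup.centralizer_le_normalizer _ hg
  have hP : centralizer (R : Set G) ≤ P := fun g hg => by
    rw [← h.cent_z z hz hz1]
    exact Subgroup.mem_inf.2 ⟨mem_centralizer_singleton_iff.2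
      (mem_centralizer_iff.1 hg z (Subgroup.mem_inf.1 hz).1).symm, hsub g hg⟩
  obtain ⟨K, _, _, M₁, -, hPM, -, -, -, hC, -⟩ := h.natural
  refine le_antisymm ?_ fun r hr => mem_centralizer_iff.2 fun s hs => h.R_comm hs hr
  exact fun g hg => hC.le (Subgroup.mem_inf.2 ⟨hg, hPM (hP hg)⟩)

theorem card_normalizer_R {P : Subgroup G} (h : NaturalOffender (normalizer (R : Set G)) R P A n) :
    Nat.card (normalizer (R : Set G)) = ((2 ^ n) ^ 2 - 1) * (2 ^ n) ^ 3 := by
  obtain ⟨z, hz, hz1⟩ := h.exists_central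
  have hzR := (Subgroup.mem_inf.1 hz).1
  obtain ⟨-, htr⟩ := h.exists_torus
  rw [card_eq_card_orbit_mul (normalizer (R : Set G)) z {g | g ∈ R ∧ g ≠ 1}
    (fun g hg => ⟨(Subgroup.mem_normalizer_iff.1 hg z).1 hzR, fun e => hz1 (conj_eq_one_iff.1 e)⟩)
    (fun w hw => htr z hzR hz1 w hw.1 hw.2), card_ne_one_set, h.R_card, h.cent_z z hz hz1,
    h.card_P]

variable {U : Sylow 2 G} (h : NaturalOffender (normalizer (R : Set G)) R U A n)
include h

theorem normalizer_sylow_le :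
    normalizer ((U : Subgroup G) : Set G) ≤ normalizer (R : Set G) := by
  haveI : Fact (Nat.Prime 2) := ⟨Nat.prime_two⟩
  intro g hg
  have hUR : ∀ u ∈ (U : Subgroup G), u ∈ normalizer (R : Set G) := h.le_normalizer_R
  have hmem : ∀ {B : Subgroup G}, B ≤ (U : Subgroup G) → ∀ b ∈ B, g * b * g⁻¹ ∈ (U : Subgroup G) :=
    fun hB b hb => (Subgroup.mem_normalizer_iff.1 hg b).1 (hB hb)
  rcases h.map_cases (Or.inl rfl) (hmem h.R_le_P) with e | e
  · exact mem_normalizer_of_map_eq e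
  have e' : A.map (MulAut.conj g).toMonoidHom = R :=
    (h.map_cases (Or.inr rfl) (hmem h.A_le)).resolve_right fun e' => h.R_ne_A
      (Subgroup.map_injective (f := (MulAut.conj g).toMonoidHom) (MulAut.conj g).injective
        (e.trans e'.symm))
  have hsq : g ^ 2 ∈ normalizer (R : Set G) := by
    refine mem_normalizer_of_map_eq (conj_map_eq_of_le _ (fun b hb => ?_) le_rfl)
    have := conj_mem_of_map_eq e' (conj_mem_of_map_eq e hb)
    rwa [show g * (g * b * g⁻¹) * g⁻¹ = g * g * b * (g * g)⁻¹ by group, ← sq] at this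
  obtain ⟨a, m, hm, ho⟩ := Nat.exists_eq_two_pow_mul_odd (orderOf_pos g).ne'
  have h2 : g ^ m ∈ normalizer (R : Set G) := hUR _ (mem_of_twoElement_normalizer U (pow_mem hg m)
    ⟨a, by rw [← pow_mul, mul_comm, ← ho, pow_orderOf_eq_one]⟩)
  obtain ⟨j, hj⟩ := hm
  have hg' : g = (g ^ 2) ^ (-(j : ℤ)) * g ^ m := by
    rw [hj, ← zpow_natCast g 2, ← zpow_mul, ← zpow_natCast g (2 * j + 1), ← zpow_add]
    conv_lhs => rw [← zpow_one g]
    congr 1
    push_cast
    ring
  rw [hg']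
  exact mul_mem (zpow_mem hsq _) h2

theorem card_normalizer_sylow :
    Nat.card (normalizer ((U : Subgroup G) : Set G)) = (2 ^ n - 1) * (2 ^ n) ^ 3 := by
  haveI : Fact (Nat.Prime 2) := ⟨Nat.prime_two⟩
  obtain ⟨z, hz, hz1⟩ := h.exists_central
  obtain ⟨⟨τ, hτM, hτN, hτo⟩, -⟩ := h.exists_torus
  set N := normalizer ((U : Subgroup G) : Set G)
  have hmaps : ∀ g ∈ N, g * z * g⁻¹ ∈ {g : G | g ∈ R ⊓ A ∧ g ≠ 1} := fun g hg =>
    ⟨h.center_invariant hg hz, fun e => hz1 (conj_eq_one_iff.1 e)⟩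
  have hstab : centralizer ({z} : Set G) ⊓ N = (U : Subgroup G) := by
    refine le_antisymm (fun g hg => ?_) fun g hg => ?_
    · obtain ⟨h1, h2⟩ := Subgroup.mem_inf.1 hg
      exact (h.cent_z z hz hz1).le (Subgroup.mem_inf.2 ⟨h1, h.normalizer_sylow_le h2⟩)
    · exact Subgroup.mem_inf.2
        ⟨mem_centralizer_singleton_iff.2 (h.center_mem hz hg).symm, le_normalizer hg⟩
  have htr : ∀ w ∈ {g : G | g ∈ R ⊓ A ∧ g ≠ 1}, ∃ g ∈ N, g * z * g⁻¹ = w := by
    intro w hw
    let f : zpowers τ → {g : G | g ∈ R ⊓ A ∧ g ≠ 1} := fun t =>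
      ⟨(t : G) * z * (t : G)⁻¹, hmaps t (zpowers_le.2 hτN t.2)⟩
    have hf : Function.Injective f := by
      intro s t e
      have e' : (s : G) * z * (s : G)⁻¹ = t * z * (t : G)⁻¹ := congrArg Subtype.val e
      have hst : (t : G)⁻¹ * s ∈ zpowers τ := mul_mem (inv_mem t.2) s.2
      have hc : (t : G)⁻¹ * s ∈ centralizer ({z} : Set G) ⊓ normalizer (R : Set G) := by
        refine Subgroup.mem_inf.2 ⟨mem_centralizer_singleton_iff.2 ?_, zpowers_le.2 hτM hst⟩
        calc (t : G)⁻¹ * s * z = (t : G)⁻¹ * ((s : G) * z * (s : G)⁻¹) * s := by group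
          _ = z * ((t : G)⁻¹ * s) := by rw [e']; group
      rw [h.cent_z z hz hz1] at hc
      have hone : (t : G)⁻¹ * s = 1 := by
        have h1 := Subgroup.orderOf_dvd_natCard _ hst
        have h2 := Subgroup.orderOf_dvd_natCard _ hc
        rw [Nat.card_zpowers, hτo] at h1
        rw [h.card_P, ← pow_mul] at h2
        exact orderOf_eq_one_iff.1 (Nat.eq_one_of_dvd_coprimes
          ((Nat.coprime_two_left.2 h.odd_pred).pow_left _) h2 h1)
      exact Subtype.ext (inv_mul_eq_one.1 hone).symm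
    obtain ⟨t, ht⟩ := ((Nat.bijective_iff_injective_and_card f).2 ⟨hf, by
      rw [Nat.card_zpowers, hτo, card_ne_one_set, h.inf_card]⟩).2 ⟨w, hw⟩
    exact ⟨t, zpowers_le.2 hτN t.2, congrArg Subtype.val ht⟩
  rw [card_eq_card_orbit_mul N z _ hmaps htr, card_ne_one_set, h.inf_card, hstab, h.card_P]

theorem cenInv_of_mem {z : G} (hz : z ∈ R ⊓ A) (hz1 : z ≠ 1) : CenInv U z :=
  ⟨h.R_le_P (Subgroup.mem_inf.1 hz).1, Involutions.Basic.orderOf_two_iff.2
    ⟨h.R_sq _ (Subgroup.mem_inf.1 hz).1, hz1⟩, fun g hg => h.center_mem hz hg⟩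

theorem isConj_central (h' : NaturalOffender (normalizer (A : Set G)) A U R n) {z : G}
    (hz : z ∈ R ⊓ A) (hz1 : z ≠ 1) {s : G} (hs : orderOf s = 2) : IsConj s z := by
  haveI : Fact (Nat.Prime 2) := ⟨Nat.prime_two⟩
  obtain ⟨g, -, hg⟩ := exists_conj_mem (H := ⊤) (S := U) le_top (Subgroup.mem_top s)
    ⟨1, by rw [hs, pow_one]⟩
  obtain ⟨hss, hs1⟩ := Involutions.Basic.orderOf_two_iff.1 hs
  refine (isConj_iff.2 ⟨g, rfl⟩ : IsConj s (g * s * g⁻¹)).trans ?_
  have h2 : g * s * g⁻¹ * (g * s * g⁻¹) = 1 := by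
    rw [show g * s * g⁻¹ * (g * s * g⁻¹) = g * (s * s) * g⁻¹ by group, hss, mul_one,
      mul_inv_cancel]
  have h1 : g * s * g⁻¹ ≠ 1 := fun e => hs1 (conj_eq_one_iff.1 e)
  rcases h.involutions _ hg h2 with hR | hA
  · obtain ⟨m, -, hm⟩ := h.exists_torus.2 _ hR h1 z (Subgroup.mem_inf.1 hz).1 hz1
    exact isConj_iff.2 ⟨m, hm⟩
  · obtain ⟨m, -, hm⟩ := h'.exists_torus.2 _ hA h1 z (Subgroup.mem_inf.1 hz).2 hz1
    exact isConj_iff.2 ⟨m, hm⟩

end NaturalOffender

/-- Two natural offenders over `GF(4)` sharing a Sylow subgroup give the configuration of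
`L₃(4)`. -/
theorem lThreeFour_of_natural {G : Type u} [Group G] [Finite G] (hC : IsCIT G) {U : Sylow 2 G}
    {R A : Subgroup G} (h : NaturalOffender (normalizer (R : Set G)) R U A 2)
    (h' : NaturalOffender (normalizer (A : Set G)) A U R 2) : LThreeFour U R A where
  card_U := by rw [h.card_P]; rfl
  R_le := h.R_le_P
  A_le := h.A_le
  R_card := by rw [h.R_card]; rfl
  A_card := by rw [h.A_card]; rfl
  R_sq := h.R_sq
  A_sq := h.A_sq
  inf_card := by rw [h.inf_card]; rfl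
  involutions := h.involutions
  cent_R := h.cent_R_eq
  cent_A := h'.cent_R_eq
  norm_R := by rw [h.card_normalizer_R]; rfl
  norm_A := by rw [h'.card_normalizer_R]; rfl
  norm_U := by rw [h.card_normalizer_sylow]; rfl
  cent_z z hz hz1 := (h.cenInv_of_mem hz hz1).centralizer_eq hC
  one_class s t hs ht := by
    obtain ⟨z, hz, hz1⟩ := h.exists_central
    exact (h.isConj_central h' hz hz1 hs).trans (h.isConj_central h' hz hz1 ht).symm

end Cfsg.Agent.CIT
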