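import Cfsg.Agent.Lib.CIT.NaturalFields

/-!
# CIT groups: the second natural normaliser

Section 4D of `notes/cit-lead.md`: if `P = U` is a Sylow 2-subgroup and `A` is the second elementary subgroup
of order `q²` of `U`, then `N(A)` is not 2-closed (otherwise `N(R)` would be strongly embedded, with involutions
outside `R`), so the offender lemma shows that `N(A)` is of natural type, too.
-/

set_option autoImplicit false
set_option linter.unusedSectionVars false
set_option linter.style.haveILetI false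

namespace Cfsg.Agent.CIT

open Subgroup Cfsg.Agent.Involutions

universe u

namespace NaturalOffender

variable {G : Type u} [Group G] [Finite G] {R A : Subgroup G} {U : Sylow 2 G} {n : ℕ}
variable (h : NaturalOffender (normalizer (R : Set G)) R U A n)
include h

/-- An element of `U` commuting with an element of `A` outside `R` lies in `A`. -/
theorem mem_A_of_commute {a x : G} (ha : a ∈ A) (haR : a ∉ R) (hx : x ∈ (U : Subgroup G))
    (hc : x * a = a * x) : x ∈ A := by
  obtain ⟨r, hr, b, hb, rfl⟩ := h.exists_mul_eq hx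
  refine mul_mem ((h.commute_iff r hr a ha haR).1 (mul_right_cancel (b := b) ?_)) hb
  calc r * a * b = r * (a * b) := mul_assoc r a b
    _ = r * (b * a) := by rw [h.A_comm ha hb]
    _ = r * b * a := (mul_assoc r b a).symm
    _ = a * (r * b) := hc
    _ = a * r * b := (mul_assoc a r b).symm

theorem exists_mem_A_notMem : ∃ a ∈ A, a ∉ R := SetLike.not_le_iff_exists.1 h.A_not_le

variable (hC : IsCIT G)
include hC

theorem centralizer_center {z : G} (hz : z ∈ R ⊓ A) (hz1 : z ≠ 1) :
    centralizer ({z} : Set G) = (U : Subgroup G) :=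
  (h.cenInv_of_mem hz hz1).centralizer_eq hC

theorem centralizer_A : centralizer (A : Set G) = A := by
  refine le_antisymm (fun x hx => ?_)
    fun x hx => mem_centralizer_iff.2 fun a ha => h.A_comm ha hx
  obtain ⟨z, hz, hz1⟩ := h.exists_central
  obtain ⟨a, ha, haR⟩ := h.exists_mem_A_notMem
  exact h.mem_A_of_commute ha haR ((h.cenInv_of_mem hz hz1).mem_of_commute hC
    (mem_centralizer_iff.1 hx z hz.2).symm) (mem_centralizer_iff.1 hx a ha).symm

/-- An involution of `A` outside `R` conjugate to a central one gives an element of `N(A)` outside `N(U)`. -/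
theorem exists_notMem_of_conj {g z : G} (hz : z ∈ R ⊓ A) (hz1 : z ≠ 1)
    (ha : g * z * g⁻¹ ∈ A) (haR : g * z * g⁻¹ ∉ R) :
    ∃ y ∈ normalizer (A : Set G), y ∉ normalizer ((U : Subgroup G) : Set G) := by
  haveI : Fact (Nat.Prime 2) := ⟨Nat.prime_two⟩
  by_contra hno
  push Not at hno
  -- `A` lies in the conjugate of `U` which centralises `g z g⁻¹`
  have hV : ∀ x : G, x * (g * z * g⁻¹) = g * z * g⁻¹ * x → g⁻¹ * x * g ∈ (U : Subgroup G) := by
    intro x hx
    refine (h.cenInv_of_mem hz hz1).mem_of_commute hC ?_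
    calc g⁻¹ * x * g * z = g⁻¹ * (x * (g * z * g⁻¹)) * g := by group
      _ = g⁻¹ * (g * z * g⁻¹ * x) * g := by rw [hx]
      _ = z * (g⁻¹ * x * g) := by group
  have hAU : ∀ a ∈ A, g⁻¹ * a * (g⁻¹)⁻¹ ∈ (U : Subgroup G) := fun a ha' => by
    rw [inv_inv]; exact hV a (h.A_comm ha' ha)
  -- so `g U g⁻¹` normalises `A`
  have hnorm : ∀ u ∈ (U : Subgroup G), g * u * g⁻¹ ∈ normalizer (A : Set G) := by
    intro u hu
    have key : u ∈ normalizer ((A.map (MulAut.conj g⁻¹).toMonoidHom : Subgroup G) : Set G) := by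
      rcases h.map_cases (Or.inr rfl) hAU with e | e <;> rw [e]
      · exact h.le_normalizer_R u hu
      · exact h.le_normalizer_A u hu
    have hmem : ∀ y, y ∈ A ↔ g⁻¹ * y * g ∈ A.map (MulAut.conj g⁻¹).toMonoidHom := fun y => by
      constructor
      · intro hy; exact ⟨y, hy, by simp⟩
      · rintro ⟨y', hy', e⟩
        rwa [show y = y' by
          have : g⁻¹ * y * g = g⁻¹ * y' * g := by simpa using e.symm
          exact mul_left_cancel (mul_right_cancel this)]
    refine mem_normalizer_iff.2 fun y => ?_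
    rw [hmem y, hmem, mem_normalizer_iff.1 key,
      show g⁻¹ * (g * u * g⁻¹ * y * (g * u * g⁻¹)⁻¹) * g = u * (g⁻¹ * y * g) * u⁻¹ by group]
  -- hence `g U g⁻¹ = U`, so `g z g⁻¹` is central in `U`
  have hle : ((g • U : Sylow 2 G) : Subgroup G) ≤ U := by
    rintro _ ⟨u, hu, rfl⟩
    refine SwapKill.mem_of_twoElement_normalizer U (hno _ (hnorm u hu)) ?_
    obtain ⟨k, hk⟩ := U.2 ⟨u, hu⟩
    refine ⟨k, ?_⟩
    show MulAut.conj g u ^ 2 ^ k = 1
    rw [← map_pow, show u ^ 2 ^ k = 1 from congrArg Subtype.val hk, map_one]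
  have hge : (U : Subgroup G) ≤ (g • U : Sylow 2 G) :=
    (eq_of_le_of_card_ge hle (Nat.card_congr ((g • U).equiv U).toEquiv).ge).ge
  refine haR ((h.center _ (h.A_le ha)).1 fun y hy => ?_).1
  obtain ⟨u, hu, rfl⟩ := hge hy
  show g * z * g⁻¹ * (g * u * g⁻¹) = g * u * g⁻¹ * (g * z * g⁻¹)
  calc g * z * g⁻¹ * (g * u * g⁻¹) = g * (z * u) * g⁻¹ := by group
    _ = g * (u * z) * g⁻¹ := by rw [h.center_mem hz hu]
    _ = _ := by group

/-- Section 4D: `N(A)` is not 2-closed. -/
theorem exists_notMem_normalizer (hne : normalizer (R : Set G) ≠ ⊤) :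
    ∃ y ∈ normalizer (A : Set G), y ∉ normalizer ((U : Subgroup G) : Set G) := by
  haveI : Fact (Nat.Prime 2) := ⟨Nat.prime_two⟩
  by_contra hno
  obtain ⟨z, hz, hz1⟩ := h.exists_central
  have hzc := h.cenInv_of_mem hz hz1
  obtain ⟨-, htrans⟩ := h.exists_torus
  have hUM : (U : Subgroup G) ≤ normalizer (R : Set G) := h.le_normalizer_R
  -- a conjugate of `z` in `U` lies in `R`
  have hfix : ∀ g : G, g * z * g⁻¹ ∈ (U : Subgroup G) → g * z * g⁻¹ ∈ R := by
    intro g hg
    have hsq : g * z * g⁻¹ * (g * z * g⁻¹) = 1 := by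
      rw [show g * z * g⁻¹ * (g * z * g⁻¹) = g * (z * z) * g⁻¹ by group, h.R_sq z hz.1]; group
    by_contra hgR
    exact hno (h.exists_notMem_of_conj hC hz hz1 ((h.involutions _ hg hsq).resolve_left hgR) hgR)
  -- `N(R)` is strongly embedded
  have hRconj : ∀ r ∈ R, r ≠ 1 → ∃ m ∈ normalizer (R : Set G), m * z * m⁻¹ = r :=
    fun r hr hr1 => htrans z hz.1 hz1 r hr hr1
  have hH : Cfsg.IsStronglyEmbedded (normalizer (R : Set G)) := by
    refine stronglyEmbedded_of hne hUM hzc (fun g hg => ?_) (fun t ht ht2 => ?_)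
    · obtain ⟨m, hm, he⟩ := hRconj _ (hfix g hg) (fun e => hz1 (conj_eq_one_iff.1 e))
      have hc : m⁻¹ * g * z = z * (m⁻¹ * g) := by
        calc m⁻¹ * g * z = m⁻¹ * (g * z * g⁻¹) * g := by group
          _ = m⁻¹ * (m * z * m⁻¹) * g := by rw [he]
          _ = z * (m⁻¹ * g) := by group
      have := mul_mem hm (hUM (hzc.mem_of_commute hC hc))
      rwa [mul_inv_cancel_left] at this
    · obtain ⟨ht1, ht1'⟩ := Basic.orderOf_two_iff.1 ht2
      by_cases htR : t ∈ R
      · obtain ⟨m, hm, rfl⟩ := hRconj t htR ht1'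
        intro x hx
        have hc : m⁻¹ * x * m * z = z * (m⁻¹ * x * m) := by
          calc m⁻¹ * x * m * z = m⁻¹ * (x * (m * z * m⁻¹)) * m := by group
            _ = m⁻¹ * (m * z * m⁻¹ * x) * m := by rw [mem_centralizer_singleton_iff.1 hx]
            _ = z * (m⁻¹ * x * m) := by group
        have := mul_mem (mul_mem hm (hUM (hzc.mem_of_commute hC hc))) (inv_mem hm)
        rwa [show m * (m⁻¹ * x * m) * m⁻¹ = x by group] at this
      · have htA : t ∈ A := (h.involutions t ht ht1).resolve_left htR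
        obtain ⟨T, hT⟩ := (hC t ht2).exists_le_sylow
        have hAT : ∀ a ∈ A, a ∈ (T : Subgroup G) := fun a ha =>
          hT (mem_centralizer_singleton_iff.2 (h.A_comm ha htA))
        obtain ⟨w, hw⟩ := CIT.exists_cenInv T fun e => ht1' (by
          have := hAT t htA
          rwa [e, mem_bot] at this)
        have hwA : w ∈ A := (h.centralizer_A hC).le
          (mem_centralizer_iff.2 fun a ha => (hw.comm a (hAT a ha)).symm)
        obtain ⟨g, hg⟩ := MulAction.exists_smul_eq G U T
        have hmem : ∀ u ∈ (U : Subgroup G), g * u * g⁻¹ ∈ (T : Subgroup G) := fun u hu =>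
          hg ▸ Subgroup.smul_mem_pointwise_smul _ (MulAut.conj g) _ hu
        obtain ⟨w', hw', hww⟩ : ∃ w' ∈ (U : Subgroup G), g * w' * g⁻¹ = w := by
          have hwT := hw.mem
          rw [← hg] at hwT
          obtain ⟨w', hw', e⟩ := hwT
          exact ⟨w', hw', e⟩
        have hw'Z : w' ∈ R ⊓ A := by
          refine (h.center w' hw').1 fun u hu => ?_
          have hc := hw.comm _ (hmem u hu)
          rw [← hww] at hc
          exact ((Commute.conj_iff g).1 hc).eq
        have hw'1 : w' ≠ 1 := fun e => Basic.ne_one hw.order (by rw [← hww, e]; group)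
        have hwR : w ∈ R := by
          by_contra hwR
          exact hno (h.exists_notMem_of_conj hC hw'Z hw'1 (hww ▸ hwA) (hww ▸ hwR))
        have hTU : (T : Subgroup G) = U := by
          rw [← hw.centralizer_eq hC,
            h.centralizer_center hC ⟨hwR, hwA⟩ (Basic.ne_one hw.order)]
        exact hT.trans (hTU.le.trans hUM)
  obtain ⟨a, ha, haR⟩ := h.exists_mem_A_notMem
  refine haR (involution_mem_of_stronglyEmbedded hH le_normalizer le_rfl (U.2.to_le h.R_le_P)
    (fun e => hz1 (mem_bot.1 (e ▸ (hz.1 : z ∈ R)))) (hUM (h.A_le ha))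
    (Basic.orderOf_two_iff.2 ⟨h.A_sq a ha, fun e => haR (e ▸ one_mem R)⟩)).1

variable (hne : normalizer (R : Set G) ≠ ⊤) (hL : ListBelow.{u} (Nat.card G)) (hoff : OffenderLemma.{u})
include hne hL hoff

/-- Section 4D: the normaliser of `A` is of natural type. -/
theorem second : NaturalOffender (normalizer (A : Set G)) A U R n := by
  haveI : Fact (Nat.Prime 2) := ⟨Nat.prime_two⟩
  obtain ⟨g, hgA, hgU⟩ := h.exists_notMem_normalizer hC hne
  obtain ⟨z, hz, hz1⟩ := h.exists_central
  have hzc := h.cenInv_of_mem hz hz1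
  have hUA : (U : Subgroup G) ≤ normalizer (A : Set G) := h.le_normalizer_A
  have hz' : g * z * g⁻¹ ∈ A := (mem_normalizer_iff.1 hgA z).1 hz.2
  have hz'R : g * z * g⁻¹ ∉ R := by
    intro hR
    have hU' := h.centralizer_center hC (Subgroup.mem_inf.2 ⟨hR, hz'⟩)
      (fun e => hz1 (conj_eq_one_iff.1 e))
    refine hgU (mem_normalizer_iff.2 fun x => ?_)
    rw [← h.centralizer_center hC hz hz1]
    nth_rw 2 [h.centralizer_center hC hz hz1]
    rw [← hU', mem_centralizer_singleton_iff, mem_centralizer_singleton_iff]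
    exact (Commute.conj_iff (a := x) (b := z) g).symm
  have hyp : OffenderHyp (normalizer (A : Set G)) A U := by
    refine ⟨le_normalizer, le_rfl, U.2.to_le h.A_le, fun Q hQ hQn hQp q hq => ?_, ?_,
      hUA, U.2, ?_, ?_⟩
    · have hQU : Q ≤ (U : Subgroup G) := by
        have hsup := U.3 (hQp.to_sup_of_normal_left' U.2 (hUA.trans hQn)) le_sup_right
        exact le_sup_left.trans hsup.le
      have hqU := hQU hq
      refine h.mem_A_of_commute hz' hz'R hqU ?_
      have hq' : g⁻¹ * q * g ∈ Q := by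
        have := (mem_normalizer_iff.1 (hQn (inv_mem hgA)) q).1 hq
        rwa [inv_inv] at this
      have hc : Commute (g⁻¹ * q * g) z := (hzc.comm _ (hQU hq')).symm
      have h2 := (Commute.conj_iff g).2 hc
      rw [show g * (g⁻¹ * q * g) * g⁻¹ = q by group] at h2
      exact h2.eq
    · exact inf_le_left.trans (h.centralizer_A hC).le
    · exact (Nat.odd_iff.2 (Nat.two_dvd_ne_zero.1 U.not_dvd_index)).of_dvd_nat
        (relIndex_dvd_index_of_le hUA)
    · rw [h.jOf_eq]
      intro hle
      exact h.R_ne_A (Subgroup.eq_of_le_of_card_ge (h.R_le_P.trans hle) (by rw [h.R_card, h.A_card]))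
  rcases hoff G hC hL _ _ _ hyp with h3 | ⟨m, A', h'⟩
  · have hc := h3.card_P
    rw [h.card_P, h.A_card, pow_succ' (2 ^ n) 2] at hc
    have := Nat.eq_of_mul_eq_mul_right (pow_pos (Nat.two_pow_pos n) 2) hc
    have := h.four_le
    omega
  · have hm : m = n := by
      have hc := h'.R_card.symm.trans h.A_card
      exact Nat.pow_right_injective le_rfl (Nat.pow_left_injective two_ne_zero hc)
    subst hm
    have hA' : A' = R := by
      rcases h.elem_le A' h'.A_le h'.A_sq with e | e
      · exact Subgroup.eq_of_le_of_card_ge e (by rw [h.R_card, h'.A_card])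
      · exact absurd e h'.A_not_le
    exact hA' ▸ h'

end NaturalOffender

end Cfsg.Agent.CIT
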