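import Cfsg.Agent.Lib.CIT.NaturalTorus
import Cfsg.Agent.Lib.Involutions.ThompsonTransfer
import Cfsg.Agent.Lib.Coprime.SchurZassenhaus

/-!
# CIT groups: the natural offender is a Sylow 2-subgroup

Section 4E of `notes/cit-lead.md`: if the Sylow subgroup `U` were larger than `P = U ⊓ M`, an
involution `x` of `U` would interchange `R` and `A` and normalise a torus; transfer makes `x`
conjugate to the central involution it fixes, and this is absurd for every `q ≥ 4`.
-/

set_option autoImplicit false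
set_option linter.unusedSectionVars false
set_option linter.style.haveILetI false

namespace Cfsg.Agent.CIT

open Subgroup

universe u

namespace SwapKill

variable {G : Type u} [Group G] [Finite G]

theorem conj_map_eq_of_le {B C : Subgroup G} (g : G) (hle : ∀ b ∈ B, g * b * g⁻¹ ∈ C)
    (hcard : Nat.card C ≤ Nat.card B) : B.map (MulAut.conj g).toMonoidHom = C :=
  Subgroup.eq_of_le_of_card_ge (by rintro _ ⟨b, hb, rfl⟩; exact hle b hb)
    (by rwa [Subgroup.card_map_of_injective (f := (MulAut.conj g).toMonoidHom)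
      (MulAut.conj g).injective])

theorem conj_mem_of_map_eq {B C : Subgroup G} {g : G}
    (h : B.map (MulAut.conj g).toMonoidHom = C) {b : G} (hb : b ∈ B) : g * b * g⁻¹ ∈ C :=
  h ▸ ⟨b, hb, rfl⟩

theorem mem_normalizer_of_map_eq {B : Subgroup G} {g : G}
    (h : B.map (MulAut.conj g).toMonoidHom = B) : g ∈ normalizer (B : Set G) :=
  Subgroup.mem_normalizer_iff.2 fun b => ⟨fun hb => conj_mem_of_map_eq h hb, fun hb => by
    replace hb : g * b * g⁻¹ ∈ B.map (MulAut.conj g).toMonoidHom := h.symm ▸ hb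
    obtain ⟨c, hc, hcb⟩ := hb
    rwa [← (MulAut.conj g).injective hcb]⟩

theorem exists_mem_normalizer_notMem {p : ℕ} [Fact p.Prime] {U P : Subgroup G} (hU : IsPGroup p U)
    (hPU : P ≤ U) (hne : P ≠ U) : ∃ x ∈ U, x ∈ normalizer (P : Set G) ∧ x ∉ P := by
  haveI := hU.isNilpotent
  have hlt : P.subgroupOf U < ⊤ := lt_of_le_of_ne le_top fun e => hne (le_antisymm hPU
    (Subgroup.subgroupOf_eq_top.1 e))
  obtain ⟨x, hx, hxP⟩ :=
    SetLike.exists_of_lt (Group.normalizerCondition_of_isNilpotent (P.subgroupOf U) hlt)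
  refine ⟨x, x.2, Subgroup.mem_normalizer_iff.2 fun g => ?_, hxP⟩
  have key := Subgroup.mem_normalizer_iff.1 hx
  constructor
  · intro hg
    exact (key ⟨g, hPU hg⟩).1 hg
  · intro hg
    have hgU : g ∈ U := by
      have := U.mul_mem (U.mul_mem (U.inv_mem x.2) (hPU hg)) x.2
      rwa [show (x : G)⁻¹ * ((x : G) * g * (x : G)⁻¹) * x = g by group] at this
    exact (key ⟨g, hgU⟩).2 hg

end SwapKill

open SwapKill

namespace NaturalOffender

variable {G : Type u} [Group G] [Finite G] {M R P A : Subgroup G} {n : ℕ}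
variable (h : NaturalOffender M R P A n)
include h

theorem A_comm {a a' : G} (ha : a ∈ A) (ha' : a' ∈ A) : a * a' = a' * a := by
  calc a * a' = (a * a')⁻¹ := (inv_eq_of_mul_eq_one_left (h.A_sq _ (mul_mem ha ha'))).symm
    _ = a' * a := by
      rw [_root_.mul_inv_rev, inv_eq_of_mul_eq_one_left (h.A_sq a ha),
        inv_eq_of_mul_eq_one_left (h.A_sq a' ha')]

theorem R_ne_A : R ≠ A := fun e => h.A_not_le e.symm.le

/-- An element normalising `P` permutes `R` and `A`. -/
theorem map_cases {B : Subgroup G} {g : G} (hB : B = R ∨ B = A)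
    (hg : ∀ b ∈ B, g * b * g⁻¹ ∈ P) :
    B.map (MulAut.conj g).toMonoidHom = R ∨ B.map (MulAut.conj g).toMonoidHom = A := by
  set C := B.map (MulAut.conj g).toMonoidHom
  have hcard : Nat.card C = (2 ^ n) ^ 2 := by
    rw [Subgroup.card_map_of_injective (f := (MulAut.conj g).toMonoidHom) (MulAut.conj g).injective]
    rcases hB with rfl | rfl
    exacts [h.R_card, h.A_card]
  have hsq : ∀ c ∈ C, c * c = 1 := by
    rintro _ ⟨b, hb, rfl⟩
    have hbb : b * b = 1 := by
      rcases hB with rfl | rfl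
      exacts [h.R_sq b hb, h.A_sq b hb]
    rw [← map_mul, hbb, map_one]
  rcases h.elem_le C (by rintro _ ⟨b, hb, rfl⟩; exact hg b hb) hsq with hc | hc
  · exact Or.inl (Subgroup.eq_of_le_of_card_ge hc (by rw [hcard, h.R_card]))
  · exact Or.inr (Subgroup.eq_of_le_of_card_ge hc (by rw [hcard, h.A_card]))

theorem le_normalizer_A (g : G) (hg : g ∈ P) : g ∈ normalizer (A : Set G) := by
  refine mem_normalizer_of_map_eq ?_
  rcases h.map_cases (Or.inr rfl) (g := g)
    (fun b hb => mul_mem (mul_mem hg (h.A_le hb)) (inv_mem hg)) with e | e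
  · exfalso
    refine h.A_not_le fun a ha => ?_
    have h1 := conj_mem_of_map_eq e ha
    exact ((Subgroup.mem_normalizer_iff.1 (h.le_normalizer_R g hg)) a).2 h1
  · exact e

theorem center_mem {z : G} (hz : z ∈ R ⊓ A) {g : G} (hg : g ∈ P) : z * g = g * z :=
  (h.center z (h.R_le_P (Subgroup.mem_inf.1 hz).1)).2 hz g hg

theorem center_invariant {g : G} (hg : g ∈ normalizer (P : Set G)) {z : G} (hz : z ∈ R ⊓ A) :
    g * z * g⁻¹ ∈ R ⊓ A := by
  have hzP := h.R_le_P (Subgroup.mem_inf.1 hz).1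
  refine (h.center _ ((Subgroup.mem_normalizer_iff.1 hg z).1 hzP)).1 fun y hy => ?_
  have hy' : g⁻¹ * y * g ∈ P := by
    have := (Subgroup.mem_normalizer_iff.1 (inv_mem hg) y).1 hy
    rwa [inv_inv] at this
  calc g * z * g⁻¹ * y = g * (z * (g⁻¹ * y * g)) * g⁻¹ := by group
    _ = g * ((g⁻¹ * y * g) * z) * g⁻¹ := by rw [h.center_mem hz hy']
    _ = y * (g * z * g⁻¹) := by group

theorem exists_mul_eq {p : G} (hp : p ∈ P) : ∃ r ∈ R, ∃ a ∈ A, p = r * a := by
  have hA : A ≤ normalizer (R : Set G) := fun a ha => h.le_normalizer_R a (h.A_le ha)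
  have hp' : p ∈ R ⊔ A := h.sup_eq.symm ▸ hp
  have hp'' : p ∈ ((R ⊔ A : Subgroup G) : Set G) := hp'
  rw [Subgroup.coe_mul_of_right_le_normalizer_left R A hA] at hp''
  obtain ⟨r, hr, a, ha, e⟩ := hp''
  exact ⟨r, hr, a, ha, e.symm⟩

/-- `R` and `A` commute modulo the centre. -/
theorem comm_mem_center {r a : G} (hr : r ∈ R) (ha : a ∈ A) :
    r * a * r⁻¹ * a⁻¹ ∈ R ⊓ A := by
  refine Subgroup.mem_inf.2 ⟨?_, mul_mem
    ((Subgroup.mem_normalizer_iff.1 (h.le_normalizer_A r (h.R_le_P hr)) a).1 ha) (inv_mem ha)⟩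
  have := (Subgroup.mem_normalizer_iff.1 (h.le_normalizer_R a (h.A_le ha)) r⁻¹).1 (inv_mem hr)
  rw [show r * a * r⁻¹ * a⁻¹ = r * (a * r⁻¹ * a⁻¹) by group]
  exact mul_mem hr this

variable [IsSimpleGroup G] (hnab : ¬ IsMulCommutative G) (hC : IsCIT G)
include hnab hC

/-- Section 4E: the natural offender is a Sylow 2-subgroup. -/
theorem sylow_eq (hM : normalizer (R : Set G) ≤ M) (U : Sylow 2 G)
    (hP : P = (U : Subgroup G) ⊓ M) : (U : Subgroup G) = P := by
  classical
  haveI : Fact (Nat.Prime 2) := ⟨Nat.prime_two⟩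
  by_contra hne
  have hPU : P ≤ (U : Subgroup G) := hP.le.trans inf_le_left
  have hPM : P ≤ M := hP.le.trans inf_le_right
  have hUM : ∀ g ∈ (U : Subgroup G), g ∈ M → g ∈ P := fun g h1 h2 =>
    hP.ge (Subgroup.mem_inf.2 ⟨h1, h2⟩)
  have hq := h.four_le
  -- a swapping element
  obtain ⟨x₀, hx₀U, hx₀N, hx₀P⟩ := exists_mem_normalizer_notMem U.2 hPU (Ne.symm hne)
  have hswap : ∀ g ∈ (U : Subgroup G), g ∈ normalizer (P : Set G) → g ∉ P →
      R.map (MulAut.conj g).toMonoidHom = A ∧ A.map (MulAut.conj g).toMonoidHom = R := by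
    intro g hgU hgN hgP
    have hgB : ∀ B : Subgroup G, B ≤ P → ∀ b ∈ B, g * b * g⁻¹ ∈ P := fun B hB b hb =>
      (Subgroup.mem_normalizer_iff.1 hgN b).1 (hB hb)
    have hRA : R.map (MulAut.conj g).toMonoidHom = A :=
      (h.map_cases (Or.inl rfl) (hgB R h.R_le_P)).resolve_left fun e =>
        hgP (hUM g hgU (hM (mem_normalizer_of_map_eq e)))
    refine ⟨hRA, (h.map_cases (Or.inr rfl) (hgB A h.A_le)).resolve_right fun e => h.R_ne_A ?_⟩
    exact Subgroup.map_injective (f := (MulAut.conj g).toMonoidHom) (MulAut.conj g).injective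
      (hRA.trans e.symm)
  -- the torus
  obtain ⟨⟨τ, hτM, hτN, hτo⟩, htrans⟩ := h.exists_torus
  set T := zpowers τ with hT
  have hTcard : Nat.card T = 2 ^ n - 1 := by rw [hT, Nat.card_zpowers, hτo]
  have hTN : T ≤ normalizer (P : Set G) := zpowers_le.2 hτN
  have hTM : T ≤ M := zpowers_le.2 hτM
  have hTodd : ∀ t ∈ T, Odd (orderOf t) := fun t ht => by
    have hd := Subgroup.orderOf_dvd_natCard T ht
    rw [hTcard] at hd
    exact h.odd_pred.of_dvd_nat hd
  have hT2 : ∀ t ∈ T, (∃ k : ℕ, orderOf t = 2 ^ k) → t = 1 := by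
    intro t ht hk
    obtain ⟨k, hk⟩ := hk
    have ho := hTodd t ht
    rw [hk] at ho
    rcases k with _ | k
    · exact orderOf_eq_one_iff.1 hk
    · exact absurd ho (Nat.not_odd_iff_even.2 (Nat.even_pow.2 ⟨even_two, k.succ_ne_zero⟩))
  have htwo : ∀ g ∈ (U : Subgroup G), ∃ k : ℕ, orderOf g = 2 ^ k := fun g hg => by
    obtain ⟨k, hk⟩ := IsPGroup.iff_orderOf.1 U.2 ⟨g, hg⟩
    exact ⟨k, by rw [← hk, Subgroup.orderOf_mk]⟩
  have hTP : ∀ t ∈ T, t ∈ P → t = 1 := fun t ht htP => hT2 t ht (htwo t (hPU htP))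
  have hz1 : ∀ z ∈ R ⊓ A, z ∈ P := fun z hz => h.R_le_P (Subgroup.mem_inf.1 hz).1
  have hreg : ∀ z ∈ R ⊓ A, z ≠ 1 → ∀ w ∈ R ⊓ A, w ≠ 1 → ∃ t ∈ T, t * z * t⁻¹ = w := by
    intro z hz hzne w hw hwne
    let S : Set G := {g | g ∈ R ⊓ A ∧ g ≠ 1}
    let f : T → S := fun t => ⟨(t : G) * z * (t : G)⁻¹, h.center_invariant (hTN t.2) hz,
      fun e => hzne (conj_eq_one_iff.1 e)⟩
    have hf : Function.Injective f := by
      intro s t e
      have e' : (s : G) * z * (s : G)⁻¹ = t * z * (t : G)⁻¹ := congrArg Subtype.val e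
      have hc : (t : G)⁻¹ * s ∈ centralizer ({z} : Set G) ⊓ M := by
        refine Subgroup.mem_inf.2 ⟨mem_centralizer_singleton_iff.2 ?_,
          hTM (mul_mem (inv_mem t.2) s.2)⟩
        calc (t : G)⁻¹ * s * z = (t : G)⁻¹ * ((s : G) * z * (s : G)⁻¹) * s := by group
          _ = z * ((t : G)⁻¹ * s) := by rw [e']; group
      rw [h.cent_z z hz hzne] at hc
      exact Subtype.ext (inv_mul_eq_one.1 (hTP _ (mul_mem (inv_mem t.2) s.2) hc)).symm
    have hS : Nat.card S = 2 ^ n - 1 := by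
      have e : S = ((R ⊓ A : Subgroup G) : Set G) \ {1} := by ext g; simp [S]
      rw [Nat.card_coe_set_eq, e, Set.ncard_sdiff_singleton_of_mem (one_mem (R ⊓ A)),
        ← Nat.card_coe_set_eq]
      exact congrArg (· - 1) h.inf_card
    obtain ⟨t, ht⟩ := ((Nat.bijective_iff_injective_and_card f).2
      ⟨hf, hTcard.trans hS.symm⟩).2 ⟨w, hw, hwne⟩
    exact ⟨t, t.2, congrArg Subtype.val ht⟩
  obtain ⟨z₁, hz₁, hz₁ne⟩ := h.exists_central
  have hNM : ∀ g, g ∈ M → g ∈ normalizer (P : Set G) → g ∈ P ⊔ T := by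
    intro g hgM hgN
    obtain ⟨t, ht, hte⟩ := hreg z₁ hz₁ hz₁ne _ (h.center_invariant hgN hz₁)
      (fun e => hz₁ne (conj_eq_one_iff.1 e))
    have hc : t⁻¹ * g ∈ centralizer ({z₁} : Set G) ⊓ M := by
      refine Subgroup.mem_inf.2 ⟨mem_centralizer_singleton_iff.2 ?_,
        mul_mem (inv_mem (hTM ht)) hgM⟩
      calc t⁻¹ * g * z₁ = t⁻¹ * (g * z₁ * g⁻¹) * g := by group
        _ = z₁ * (t⁻¹ * g) := by rw [← hte]; group
    rw [h.cent_z z₁ hz₁ hz₁ne] at hc
    rw [show g = t * (t⁻¹ * g) by group]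
    exact mul_mem (mem_sup_right ht) (mem_sup_left hc)
  have hτR : τ ∈ normalizer (R : Set G) := by
    have hg : ∀ B : Subgroup G, B ≤ P → ∀ b ∈ B, τ * b * τ⁻¹ ∈ P := fun B hB b hb =>
      (Subgroup.mem_normalizer_iff.1 hτN b).1 (hB hb)
    rcases h.map_cases (Or.inl rfl) (hg R h.R_le_P) with e | e
    · exact mem_normalizer_of_map_eq e
    · have e' : A.map (MulAut.conj τ).toMonoidHom = R :=
        (h.map_cases (Or.inr rfl) (hg A h.A_le)).resolve_right fun e' => h.R_ne_A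
          (Subgroup.map_injective (f := (MulAut.conj τ).toMonoidHom) (MulAut.conj τ).injective
            (e.trans e'.symm))
      have hsq : τ ^ 2 ∈ normalizer (R : Set G) := by
        refine mem_normalizer_of_map_eq (conj_map_eq_of_le _ (fun b hb => ?_) le_rfl)
        have := conj_mem_of_map_eq e' (conj_mem_of_map_eq e hb)
        rwa [show τ * (τ * b * τ⁻¹) * τ⁻¹ = τ * τ * b * (τ * τ)⁻¹ by group, ← sq] at this
      obtain ⟨k, hk⟩ := h.odd_pred
      have hτk : (τ ^ 2) ^ (k + 1) = τ := by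
        rw [← pow_mul, show 2 * (k + 1) = (2 ^ n - 1) + 1 by omega, pow_succ, ← hτo,
          pow_orderOf_eq_one, one_mul]
      exact hτk ▸ pow_mem hsq _
  -- the conjugate torus
  obtain ⟨hx₀R, hx₀A⟩ := hswap x₀ hx₀U hx₀N hx₀P
  have hconjT : ∀ y : G, y ∈ normalizer (P : Set G) → R.map (MulAut.conj y).toMonoidHom = A →
      A.map (MulAut.conj y).toMonoidHom = R → y * τ * y⁻¹ ∈ P ⊔ T := by
    intro y hy hyR hyA
    refine hNM _ (hM (mem_normalizer_of_map_eq (conj_map_eq_of_le _ (fun r hr => ?_) le_rfl)))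
      (mul_mem (mul_mem hy hτN) (inv_mem hy))
    rw [← hyA] at hr
    obtain ⟨a, ha, rfl⟩ := hr
    show y * τ * y⁻¹ * (y * a * y⁻¹) * (y * τ * y⁻¹)⁻¹ ∈ R
    rw [show y * τ * y⁻¹ * (y * a * y⁻¹) * (y * τ * y⁻¹)⁻¹ = y * (τ * a * τ⁻¹) * y⁻¹ by group]
    refine conj_mem_of_map_eq hyA ?_
    -- `τ` normalises `A`
    have hτA : A.map (MulAut.conj τ).toMonoidHom = A :=
      (h.map_cases (Or.inr rfl) (fun b hb =>
        (Subgroup.mem_normalizer_iff.1 hτN b).1 (h.A_le hb))).resolve_left fun e => h.R_ne_A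
        (Subgroup.map_injective (f := (MulAut.conj τ).toMonoidHom) (MulAut.conj τ).injective
          ((conj_map_eq_of_le τ (fun b hb => (Subgroup.mem_normalizer_iff.1 hτR b).1 hb)
            le_rfl).trans e.symm))
    exact conj_mem_of_map_eq hτA ha
  set H := zpowers (x₀ * τ * x₀⁻¹) with hH
  have hsup : P ⊔ H = P ⊔ T := by
    refine le_antisymm (sup_le le_sup_left (zpowers_le.2 (hconjT x₀ hx₀N hx₀R hx₀A)))
      (sup_le le_sup_left (zpowers_le.2 ?_))
    have hxi : x₀⁻¹ ∈ normalizer (P : Set G) := inv_mem hx₀N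
    have hxiP : x₀⁻¹ ∉ P := fun e => hx₀P (inv_mem_iff.1 e)
    obtain ⟨a, b⟩ := hswap x₀⁻¹ (inv_mem hx₀U) hxi hxiP
    have h1 := hconjT x₀⁻¹ hxi a b
    have hle : (P ⊔ T).map (MulAut.conj x₀).toMonoidHom ≤ P ⊔ H := by
      rw [Subgroup.map_sup]
      refine sup_le ?_ ?_
      · rintro _ ⟨p, hp, rfl⟩
        exact mem_sup_left ((Subgroup.mem_normalizer_iff.1 hx₀N p).1 hp)
      · rw [hT, MonoidHom.map_zpowers]
        exact le_sup_right
    have h2 := hle ⟨_, h1, rfl⟩
    simpa [mul_assoc] using h2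
  have hHcard : Nat.card H = 2 ^ n - 1 := by
    rw [hH, Nat.card_zpowers, show x₀ * τ * x₀⁻¹ = MulAut.conj x₀ τ from rfl, MulEquiv.orderOf_eq,
      hτo]
  have hcop : (Nat.card P).Coprime (2 ^ n - 1) := by
    rw [h.card_P, ← pow_mul]
    exact (Nat.coprime_two_left.2 h.odd_pred).pow_left _
  obtain ⟨p, hp, hpH⟩ := Coprime.exists_conj_eq_of_sup_eq (N := P) (H := H) (K := T)
    (zpowers_le.2 (mul_mem (mul_mem hx₀N hτN) (inv_mem hx₀N))) hTN hsup
    (by rw [hHcard]; exact hcop) (by rw [hTcard]; exact hcop)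
    (Or.inl (by haveI := h.isPGroup_P.isNilpotent; infer_instance))
  obtain ⟨x, hx⟩ : ∃ x, x = p * x₀ := ⟨_, rfl⟩
  have hxU : x ∈ (U : Subgroup G) := hx ▸ mul_mem (hPU hp) hx₀U
  have hxN : x ∈ normalizer (P : Set G) := hx ▸ mul_mem (le_normalizer hp) hx₀N
  have hxP : x ∉ P := fun e => hx₀P ((mul_mem_cancel_left hp).1 (hx ▸ e))
  obtain ⟨hxR, hxA⟩ := hswap x hxU hxN hxP
  have hxT : ∀ t ∈ T, x * t * x⁻¹ ∈ T := by
    have hgen : x * τ * x⁻¹ ∈ T := by
      have h1 := Subgroup.smul_mem_pointwise_smul (x₀ * τ * x₀⁻¹) (MulAut.conj p) H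
        (mem_zpowers _)
      rw [hpH, MulAut.smul_def, MulAut.conj_apply] at h1
      rwa [show x * τ * x⁻¹ = p * (x₀ * τ * x₀⁻¹) * p⁻¹ by rw [hx]; group]
    have hle : T.map (MulAut.conj x).toMonoidHom ≤ T := by
      rw [hT, MonoidHom.map_zpowers, zpowers_le]
      exact hgen
    exact fun t ht => hle ⟨t, ht, rfl⟩
  have hx2 : x * x = 1 := by
    have hxxP : x * x ∈ P := by
      refine hUM _ (mul_mem hxU hxU) (hM (mem_normalizer_of_map_eq
        (conj_map_eq_of_le _ (fun b hb => ?_) le_rfl)))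
      have := conj_mem_of_map_eq hxA (conj_mem_of_map_eq hxR hb)
      rwa [show x * (x * b * x⁻¹) * x⁻¹ = x * x * b * (x * x)⁻¹ by group] at this
    have hcomm : Commute τ (x * x) := by
      have h1 : x * x * τ * (x * x)⁻¹ * τ⁻¹ = 1 := by
        refine hTP _ (mul_mem ?_ (inv_mem (mem_zpowers τ))) ?_
        · have := hxT _ (hxT τ (mem_zpowers τ))
          rwa [show x * (x * τ * x⁻¹) * x⁻¹ = x * x * τ * (x * x)⁻¹ by group] at this
        · rw [show x * x * τ * (x * x)⁻¹ * τ⁻¹ = x * x * (τ * (x * x)⁻¹ * τ⁻¹) by group]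
          exact mul_mem hxxP ((Subgroup.mem_normalizer_iff.1 hτN _).1 (inv_mem hxxP))
      exact (mul_inv_eq_iff_eq_mul.1 (mul_inv_eq_one.1 h1)).symm
    by_contra hxx
    have h1 := hT2 τ (mem_zpowers τ) (two_power_of_commute hC (htwo _ (mul_mem hxU hxU)) hxx hcomm)
    rw [h1, orderOf_one] at hτo
    omega
  have hxinv : x⁻¹ = x := inv_eq_of_mul_eq_one_left hx2
  have hxne : x ≠ 1 := fun e => hxP (e ▸ one_mem _)
  have hxx : ∀ g : G, x * (x * g * x) * x = g := fun g => by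
    rw [show x * (x * g * x) * x = (x * x) * g * (x * x) by group, hx2, one_mul, mul_one]
  have hxR' : ∀ r ∈ R, x * r * x ∈ A := fun r hr => by
    have := conj_mem_of_map_eq hxR hr
    rwa [hxinv] at this
  have hxA' : ∀ a ∈ A, x * a * x ∈ R := fun a ha => by
    have := conj_mem_of_map_eq hxA ha
    rwa [hxinv] at this
  have hxP' : ∀ g ∈ P, x * g * x ∈ P := fun g hg => by
    have := (Subgroup.mem_normalizer_iff.1 hxN g).1 hg
    rwa [hxinv] at this
  -- the central involution fixed by `x`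
  obtain ⟨z₀, hz₀, hz₀ne, hz₀x⟩ : ∃ z ∈ R ⊓ A, z ≠ 1 ∧ x * z * x = z := by
    obtain ⟨hzR, hzA⟩ := Subgroup.mem_inf.1 hz₁
    have hσ : x * z₁ * x ∈ R ⊓ A := Subgroup.mem_inf.2 ⟨hxA' _ hzA, hxR' _ hzR⟩
    by_cases he : z₁ * (x * z₁ * x) = 1
    · refine ⟨z₁, hz₁, hz₁ne, ?_⟩
      rw [← inv_eq_of_mul_eq_one_right he]
      exact inv_eq_of_mul_eq_one_left (h.R_sq _ hzR)
    · refine ⟨_, mul_mem hz₁ hσ, he, ?_⟩
      have e : x * (z₁ * (x * z₁ * x)) * x = (x * z₁ * x) * (x * (x * z₁ * x) * x) := by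
        rw [show (x * z₁ * x) * (x * (x * z₁ * x) * x) = x * z₁ * (x * x) * (x * z₁ * x) * x by
          group, hx2]
        group
      rw [e, hxx]
      exact h.R_comm (Subgroup.mem_inf.1 hσ).1 hzR
  have huniq : ∀ z ∈ R ⊓ A, z ≠ 1 → x * z * x = z → z = z₀ := by
    intro z hz hzne hzx
    obtain ⟨t, ht, hte⟩ := hreg z₀ hz₀ hz₀ne z hz hzne
    have ht' : x * t * x ∈ T := by
      have := hxT t ht
      rwa [hxinv] at this
    have hte' : (x * t * x) * z₀ * (x * t * x)⁻¹ = z := by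
      rw [_root_.mul_inv_rev, _root_.mul_inv_rev, hxinv]
      calc x * t * x * z₀ * (x * (t⁻¹ * x)) = x * (t * (x * z₀ * x) * t⁻¹) * x := by group
        _ = z := by rw [hz₀x, hte, hzx]
    have hc : t⁻¹ * (x * t * x) ∈ centralizer ({z₀} : Set G) ⊓ M := by
      refine Subgroup.mem_inf.2 ⟨mem_centralizer_singleton_iff.2 ?_,
        hTM (mul_mem (inv_mem ht) ht')⟩
      calc t⁻¹ * (x * t * x) * z₀ = t⁻¹ * ((x * t * x) * z₀ * (x * t * x)⁻¹) * (x * t * x) := by
            group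
        _ = z₀ * (t⁻¹ * (x * t * x)) := by rw [hte', ← hte]; group
    rw [h.cent_z z₀ hz₀ hz₀ne] at hc
    have heq := inv_mul_eq_one.1 (hTP _ (mul_mem (inv_mem ht) ht') hc)
    have hcomm : Commute t x := by
      show t * x = x * t
      conv_lhs => rw [heq]
      rw [mul_assoc, hx2, mul_one]
    have ht1 : t = 1 := hT2 t ht (two_power_of_commute hC (htwo x hxU) hxne hcomm)
    rw [← hte, ht1]
    simp
  have hfixP : ∀ w ∈ P, w * w = 1 → x * w * x = w → w = 1 ∨ w = z₀ := by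
    intro w hw hw2 hwx
    by_cases hw1 : w = 1
    · exact Or.inl hw1
    refine Or.inr (huniq w (Subgroup.mem_inf.2 ?_) hw1 hwx)
    rcases h.involutions w hw hw2 with hR | hA
    · exact ⟨hR, hwx ▸ hxR' w hR⟩
    · exact ⟨hwx ▸ hxA' w hA, hA⟩
  -- `U = P ⟨x⟩`
  have hxg : ∀ g ∈ (U : Subgroup G), g ∈ normalizer (P : Set G) → g ∈ P ∨ x * g ∈ P := by
    intro g hgU hgN
    by_cases hgP : g ∈ P
    · exact Or.inl hgP
    refine Or.inr (hUM _ (mul_mem hxU hgU) (hM (mem_normalizer_of_map_eq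
      (conj_map_eq_of_le _ (fun b hb => ?_) le_rfl))))
    have := conj_mem_of_map_eq hxA (conj_mem_of_map_eq (hswap g hgU hgN hgP).1 hb)
    rwa [show x * (g * b * g⁻¹) * x⁻¹ = x * g * b * (x * g)⁻¹ by group] at this
  let U₁ : Subgroup G :=
    { carrier := {g | g ∈ P ∨ x * g ∈ P}
      one_mem' := Or.inl (one_mem P)
      mul_mem' := by
        rintro a b (ha | ha) (hb | hb)
        · exact Or.inl (mul_mem ha hb)
        · refine Or.inr ?_
          rw [show x * (a * b) = (x * a * x⁻¹) * (x * b) by group, hxinv]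
          exact mul_mem (hxP' a ha) hb
        · exact Or.inr (by rw [← mul_assoc]; exact mul_mem ha hb)
        · refine Or.inl ?_
          rw [show a * b = (x⁻¹ * (x * a) * x⁻¹) * (x * b) by group, hxinv]
          exact mul_mem (hxP' _ ha) hb
      inv_mem' := by
        rintro a (ha | ha)
        · exact Or.inl (inv_mem ha)
        · refine Or.inr ?_
          rw [show x * a⁻¹ = x * (x * a)⁻¹ * x by group]
          exact hxP' _ (inv_mem ha) }
  have hU₁ : ∀ g, g ∈ U₁ ↔ g ∈ P ∨ x * g ∈ P := fun g => Iff.rfl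
  have hU₁U : U₁ ≤ (U : Subgroup G) := by
    rintro g (hg | hg)
    · exact hPU hg
    · rw [show g = x⁻¹ * (x * g) by group]
      exact mul_mem (inv_mem hxU) (hPU hg)
  have hUcases : ∀ g ∈ (U : Subgroup G), g ∈ P ∨ x * g ∈ P := by
    by_contra hcon
    push Not at hcon
    obtain ⟨g₁, hg₁U, hg₁a, hg₁b⟩ := hcon
    obtain ⟨y, hyU, hyN, hy⟩ := exists_mem_normalizer_notMem U.2 hU₁U fun e => by
      rcases (hU₁ g₁).1 (e ▸ hg₁U) with h1 | h1
      exacts [hg₁a h1, hg₁b h1]
    have hinto : ∀ B : Subgroup G, B ≤ P → (∀ b ∈ B, b * b = 1) → Nat.card B = (2 ^ n) ^ 2 →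
        ∀ b ∈ B, y * b * y⁻¹ ∈ P := by
      intro B hBP hBsq hBcard b₀ hb₀
      by_contra hout
      set c := y * b₀ * y⁻¹
      set C := B.map (MulAut.conj y).toMonoidHom
      have hCsq : ∀ w ∈ C, w * w = 1 := by
        rintro _ ⟨w, hw, rfl⟩
        rw [← map_mul, hBsq w hw, map_one]
      have hCU : ∀ w ∈ C, w ∈ P ∨ x * w ∈ P := by
        rintro _ ⟨w, hw, rfl⟩
        exact (hU₁ _).1 ((Subgroup.mem_normalizer_iff.1 hyN w).1 ((hU₁ w).2 (Or.inl (hBP hw))))
      have hcC : c ∈ C := ⟨b₀, hb₀, rfl⟩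
      have hxc : x * c ∈ P := (hCU c hcC).resolve_left hout
      have hsmall : ∀ w ∈ C, w ∈ P → w = 1 ∨ w = z₀ := by
        intro w hw hwP
        have hwc : c * w = w * c := by
          calc c * w = (c * w)⁻¹ := (inv_eq_of_mul_eq_one_left (hCsq _ (mul_mem hcC hw))).symm
            _ = w * c := by
              rw [_root_.mul_inv_rev, inv_eq_of_mul_eq_one_left (hCsq w hw),
                inv_eq_of_mul_eq_one_left (hCsq c hcC)]
        have hcx : c = x * (x * c) := by rw [← mul_assoc, hx2, one_mul]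
        have hcN : c ∈ normalizer (P : Set G) := hcx ▸ mul_mem hxN (le_normalizer hxc)
        have hcU : c ∈ (U : Subgroup G) := hU₁U ((hU₁ c).2 (Or.inr hxc))
        obtain ⟨hcR, hcA⟩ := hswap c hcU hcN hout
        have hwZ : w ∈ R ⊓ A := by
          have hcw : c * w * c⁻¹ = w := by rw [hwc, mul_inv_cancel_right]
          rcases h.involutions w hwP (hCsq w hw) with h1 | h1
          · exact Subgroup.mem_inf.2 ⟨h1, hcw ▸ conj_mem_of_map_eq hcR h1⟩
          · exact Subgroup.mem_inf.2 ⟨hcw ▸ conj_mem_of_map_eq hcA h1, h1⟩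
        refine hfixP w hwP (hCsq w hw) ?_
        have hwp := h.center_mem hwZ hxc
        calc x * w * x = x * w * (x * c) * c⁻¹ := by group
          _ = x * ((x * c) * w) * c⁻¹ := by rw [mul_assoc x w, hwp]
          _ = (x * x) * (c * w) * c⁻¹ := by group
          _ = w := by rw [hx2, one_mul, hwc, mul_inv_cancel_right]
      have hle : Nat.card C ≤ 4 := by
        let F : C → Bool × Bool := fun w =>
          (decide ((w : G) ∈ P), decide ((if (w : G) ∈ P then (w : G) else c * w) = 1))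
        have hF : Function.Injective F := by
          intro v w e
          simp only [F, Prod.mk.injEq, decide_eq_decide] at e
          obtain ⟨e1, e2⟩ := e
          by_cases hv : (v : G) ∈ P
          · rw [if_pos hv, if_pos (e1.1 hv)] at e2
            rcases hsmall _ v.2 hv with a | a <;> rcases hsmall _ w.2 (e1.1 hv) with b | b
            · exact Subtype.ext (a.trans b.symm)
            · exact absurd (e2.1 a) (b ▸ hz₀ne)
            · exact absurd (e2.2 b) (a ▸ hz₀ne)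
            · exact Subtype.ext (a.trans b.symm)
          · rw [if_neg hv, if_neg (fun hw => hv (e1.2 hw))] at e2
            have key : ∀ u ∈ C, u ∉ P → c * u ∈ P := fun u hu huP => by
              have hxu := (hCU u hu).resolve_left huP
              rw [show c * u = (x⁻¹ * (x * c) * x⁻¹) * (x * u) by group, hxinv]
              exact mul_mem (hxP' _ hxc) hxu
            rcases hsmall _ (mul_mem hcC v.2) (key _ v.2 hv) with a | a <;>
              rcases hsmall _ (mul_mem hcC w.2) (key _ w.2 fun hw => hv (e1.2 hw)) with b | b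
            · exact Subtype.ext (mul_left_cancel (a.trans b.symm))
            · exact absurd (e2.1 a) (b ▸ hz₀ne)
            · exact absurd (e2.2 b) (a ▸ hz₀ne)
            · exact Subtype.ext (mul_left_cancel (a.trans b.symm))
        have := Nat.card_le_card_of_injective F hF
        simpa [Nat.card_eq_fintype_card] using this
      rw [Subgroup.card_map_of_injective (f := (MulAut.conj y).toMonoidHom)
        (MulAut.conj y).injective, hBcard] at hle
      nlinarith [hle, hq]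
    have hyP : y ∈ normalizer (P : Set G) := by
      refine mem_normalizer_of_map_eq (conj_map_eq_of_le y (fun g hg => ?_) le_rfl)
      obtain ⟨r, hr, a, ha, rfl⟩ := h.exists_mul_eq hg
      rw [show y * (r * a) * y⁻¹ = (y * r * y⁻¹) * (y * a * y⁻¹) by group]
      exact mul_mem (hinto R h.R_le_P h.R_sq h.R_card r hr) (hinto A h.A_le h.A_sq h.A_card a ha)
    exact hy ((hU₁ y).2 (hxg y hyU hyP))
  have hz₀U : CenInv U z₀ := by
    refine ⟨hPU (hz1 _ hz₀), Involutions.Basic.orderOf_two_iff.2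
      ⟨h.R_sq _ (Subgroup.mem_inf.1 hz₀).1, hz₀ne⟩, fun g hg => ?_⟩
    rcases hUcases g hg with h1 | h1
    · exact h.center_mem hz₀ h1
    · have hxz : x * z₀ = z₀ * x := by
        conv_rhs => rw [← hz₀x]
        rw [mul_assoc, hx2, mul_one]
      rw [show g = x * (x * g) by rw [← mul_assoc, hx2, one_mul], ← mul_assoc, ← hxz, mul_assoc,
        h.center_mem hz₀ h1, ← mul_assoc]
  -- transfer
  have hidx : ∀ H : Subgroup G, H.index ≠ 2 := by
    intro H hH2
    haveI := Subgroup.normal_of_index_eq_two hH2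
    rcases IsSimpleGroup.eq_bot_or_eq_top_of_normal H inferInstance with e | e
    · rw [e, Subgroup.index_bot] at hH2
      haveI : Fact (Nat.Prime 2) := ⟨Nat.prime_two⟩
      exact hnab (isCyclic_of_prime_card (α := G) hH2).commutative
    · rw [e, Subgroup.index_top] at hH2
      omega
  have hrel : P.relIndex (U : Subgroup G) = 2 := by
    refine Subgroup.relIindex_eq_two_iff'.2 ⟨x, hxU, fun b hb => ?_⟩
    rcases hUcases b hb with h1 | h1
    · exact Or.inr ⟨h1, fun h2 => hxP (by simpa using mul_mem h2 (inv_mem h1))⟩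
    · exact Or.inl ⟨h1, fun h2 => hxP (by simpa using mul_mem h1 (inv_mem h2))⟩
  have hox : orderOf x = 2 := Involutions.Basic.orderOf_two_iff.2 ⟨hx2, hxne⟩
  obtain ⟨g, hg⟩ := Involutions.ThompsonTransfer.exists_conj_mem hidx U P hPU hrel x hox
  obtain ⟨d, hd⟩ : ∃ d : G, d * x * d⁻¹ = z₀ := by
    have hg2 : (g * x * g⁻¹) * (g * x * g⁻¹) = 1 := by
      rw [show (g * x * g⁻¹) * (g * x * g⁻¹) = g * (x * x) * g⁻¹ by group, hx2, mul_one,
        mul_inv_cancel]
    have hgne : g * x * g⁻¹ ≠ 1 := fun e => hxne (conj_eq_one_iff.1 e)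
    obtain ⟨c, hc⟩ : ∃ c : G, c * (g * x * g⁻¹) * c⁻¹ ∈ R := by
      rcases h.involutions _ hg hg2 with h1 | h1
      · exact ⟨1, by simpa using h1⟩
      · exact ⟨x, conj_mem_of_map_eq hxA h1⟩
    obtain ⟨m, -, hm⟩ := htrans _ hc (fun e => hgne (conj_eq_one_iff.1 e)) z₀
      (Subgroup.mem_inf.1 hz₀).1 hz₀ne
    exact ⟨m * c * g, by rw [← hm]; group⟩
  have hCx : ∀ u : G, u * x = x * u ↔ d * u * d⁻¹ ∈ (U : Subgroup G) := by
    intro u
    have e : d * u * d⁻¹ * z₀ = z₀ * (d * u * d⁻¹) ↔ u * x = x * u := by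
      rw [← hd]
      exact Commute.conj_iff (a := u) (b := x) d
    rw [← e]
    exact ⟨fun h1 => hz₀U.mem_of_commute hC h1, fun h1 => (hz₀U.comm _ h1).symm⟩
  -- an element of order four of `P` commuting with `x`
  obtain ⟨c, hc, hcx, hc1, hcz⟩ : ∃ c ∈ P, c * x = x * c ∧ c ≠ 1 ∧ c ≠ z₀ := by
    by_contra hno
    push Not at hno
    let Zs : Subgroup R := (R ⊓ A).subgroupOf R
    let Φ : (R ⧸ Zs) × (R ⊓ A : Subgroup G) → G := fun q =>
      (q.1.out : G) * (x * (q.1.out : G) * x) * (q.2 : G)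
    let f : P → Set.range Φ := fun g => ⟨(g : G) * x * (g : G)⁻¹ * x, by
      obtain ⟨r, hr, a, ha, hg⟩ := h.exists_mul_eq g.2
      set b := x * a * x with hb_def
      have hb : b ∈ R := hxA' a ha
      have hainv : a⁻¹ = a := inv_eq_of_mul_eq_one_left (h.A_sq a ha)
      have hrinv : r⁻¹ = r := inv_eq_of_mul_eq_one_left (h.R_sq r hr)
      have hw : a * b * a⁻¹ * b⁻¹ ∈ R ⊓ A := by
        have := inv_mem (h.comm_mem_center hb ha)
        rwa [show (b * a * b⁻¹ * a⁻¹)⁻¹ = a * b * a⁻¹ * b⁻¹ by group] at this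
      set w := a * b * a⁻¹ * b⁻¹
      set s : R := ⟨r * b, mul_mem hr hb⟩
      obtain ⟨⟨v, hv⟩, hsv⟩ := QuotientGroup.mk_out_eq_mul Zs s
      have hvZ : ((v : R) : G) ∈ R ⊓ A := hv
      set s₀ := (Quotient.out (s : R ⧸ Zs)) with hs₀
      have hσv : x * (v : G) * x ∈ R ⊓ A := Subgroup.mem_inf.2
        ⟨hxA' _ (Subgroup.mem_inf.1 hvZ).2, hxR' _ (Subgroup.mem_inf.1 hvZ).1⟩
      refine ⟨((s : R ⧸ Zs), ⟨(v : G)⁻¹ * (x * (v : G) * x)⁻¹ * w,
        mul_mem (mul_mem (inv_mem hvZ) (inv_mem hσv)) hw⟩), ?_⟩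
      show (s₀ : G) * (x * (s₀ : G) * x) * ((v : G)⁻¹ * (x * (v : G) * x)⁻¹ * w) = _
      have hs₀v : (s₀ : G) = r * b * v := congrArg Subtype.val hsv
      have hxcP : x * (r * b) * x ∈ P := hxP' _ (h.R_le_P s.2)
      have hvc : (v : G) * (x * (r * b) * x) = x * (r * b) * x * v := h.center_mem hvZ hxcP
      have hsplit : x * (r * b * v) * x = x * (r * b) * x * (x * v * x) := by
        rw [show x * (r * b) * x * (x * v * x) = x * (r * b) * (x * x) * v * x by group, hx2]
        group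
      rw [hs₀v, hsplit, show r * b * (v : G) * (x * (r * b) * x * (x * v * x)) *
        ((v : G)⁻¹ * (x * (v : G) * x)⁻¹ * w) = r * b * ((v : G) * (x * (r * b) * x)) *
        ((x * v * x) * (v : G)⁻¹) * (x * (v : G) * x)⁻¹ * w by group, hvc,
        h.R_comm (Subgroup.mem_inf.1 hσv).1 (inv_mem (Subgroup.mem_inf.1 hvZ).1),
        show r * b * (x * (r * b) * x * v) * ((v : G)⁻¹ * (x * v * x)) * (x * (v : G) * x)⁻¹ * w =
          r * b * ((x * (r * b) * x) * w) by group, ← h.center_mem hw hxcP, hg]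
      -- both sides are `r a b σ(r)`
      have hab : a * b = w * b * a := by rw [show w = a * b * a⁻¹ * b⁻¹ from rfl]; group
      have hxrb : x * (r * b) * x = (x * r * x) * a :=
        calc x * (r * b) * x = x * r * (x * x) * b * x := by rw [hx2]; group
          _ = (x * r * x) * (x * b * x) := by group
          _ = _ := by rw [hb_def, hxx]
      rw [hxrb, show (r * a) * x * (r * a)⁻¹ * x = r * a * (x * a⁻¹ * r⁻¹ * x) by group, hainv,
        hrinv, show x * a * r * x = (x * a * x) * (x⁻¹ * r * x) by group, hxinv, ← hb_def,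
        show r * a * (b * (x * r * x)) = r * (a * b) * (x * r * x) by group, hab,
        h.A_comm (hxR' r hr) ha]
      rw [show r * (w * b * a) * (x * r * x) = r * (w * b) * (a * (x * r * x)) by group,
        h.center_mem hw (h.R_le_P hb)]
      group⟩
    let sel : Set.range f → P := fun v => v.2.choose
    have hsel : ∀ g : P, f (sel ⟨f g, g, rfl⟩) = f g := fun g =>
      (show ∃ g', f g' = f g from ⟨g, rfl⟩).choose_spec
    let F : P → Set.range f × Bool := fun g =>
      (⟨f g, g, rfl⟩, decide (((sel ⟨f g, g, rfl⟩ : P) : G)⁻¹ * g = 1))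
    have hF : Function.Injective F := by
      intro g g' e
      simp only [F, Prod.mk.injEq, decide_eq_decide] at e
      obtain ⟨e1, e2⟩ := e
      have hfib : ∀ g : P, ((sel ⟨f g, g, rfl⟩ : P) : G)⁻¹ * g = 1 ∨
          ((sel ⟨f g, g, rfl⟩ : P) : G)⁻¹ * g = z₀ := by
        intro g
        have hmem : ((sel ⟨f g, g, rfl⟩ : P) : G)⁻¹ * g ∈ P := mul_mem (inv_mem (sel _).2) g.2
        by_cases h1 : ((sel ⟨f g, g, rfl⟩ : P) : G)⁻¹ * g = 1
        · exact Or.inl h1
        refine Or.inr (hno _ hmem ?_ h1)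
        have := mul_right_cancel (congrArg Subtype.val (hsel g) :
          ((sel ⟨f g, g, rfl⟩ : P) : G) * x * ((sel ⟨f g, g, rfl⟩ : P) : G)⁻¹ * x = _)
        calc ((sel ⟨f g, g, rfl⟩ : P) : G)⁻¹ * g * x
            = ((sel ⟨f g, g, rfl⟩ : P) : G)⁻¹ * ((g : G) * x * (g : G)⁻¹) * g := by group
          _ = x * (((sel ⟨f g, g, rfl⟩ : P) : G)⁻¹ * g) := by rw [← this]; group
      have hs : sel ⟨f g, g, rfl⟩ = sel ⟨f g', g', rfl⟩ := congrArg sel e1
      rcases hfib g with a | a <;> rcases hfib g' with b | b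
      · exact Subtype.ext (mul_left_cancel ((a.trans b.symm).trans (by rw [hs])))
      · exact absurd (e2.1 a) (b ▸ hz₀ne)
      · exact absurd (e2.2 b) (a ▸ hz₀ne)
      · exact Subtype.ext (mul_left_cancel ((a.trans b.symm).trans (by rw [hs])))
    have h1 : Nat.card P ≤ Nat.card (Set.range f) * Nat.card Bool := by
      rw [← Nat.card_prod]
      exact Nat.card_le_card_of_injective F hF
    have h2 : Nat.card (Set.range f) ≤ Nat.card (Set.range Φ) :=
      Nat.card_le_card_of_injective Subtype.val Subtype.val_injective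
    have h3 : Nat.card (Set.range Φ) ≤ 2 ^ n * 2 ^ n := by
      refine (Finite.card_range_le Φ).trans (le_of_eq ?_)
      have hZs : Nat.card Zs = 2 ^ n := by
        rw [Nat.card_congr (Subgroup.subgroupOfEquivOfLe (inf_le_left : R ⊓ A ≤ R)).toEquiv,
          h.inf_card]
      have hq' := Subgroup.card_eq_card_quotient_mul_card_subgroup Zs
      rw [h.R_card, hZs, sq] at hq'
      rw [Nat.card_prod, h.inf_card,
        ← Nat.eq_of_mul_eq_mul_right (Nat.two_pow_pos n) hq']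
    rw [h.card_P] at h1
    have hBool : Nat.card Bool = 2 := by simp [Nat.card_eq_fintype_card]
    rw [hBool] at h1
    have h5 := h1.trans (Nat.mul_le_mul_right 2 (h2.trans h3))
    rw [show (2 ^ n) ^ 3 = (2 ^ n * 2 ^ n) * 2 ^ n by ring] at h5
    have := Nat.le_of_mul_le_mul_left h5 (by positivity)
    omega
  -- squares of fixed elements
  have hcomm_fix : ∀ w : G, w * x = x * w → x * w * x = w := fun w hw => by
    rw [← hw, mul_assoc, hx2, mul_one]
  have hsq : ∀ w ∈ P, w * w ∈ R ⊓ A := by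
    intro w hw
    obtain ⟨r, hr, a, ha, rfl⟩ := h.exists_mul_eq hw
    have hk := h.comm_mem_center hr ha
    rwa [show r * a * r⁻¹ * a⁻¹ = r * a * (r * a) by
      rw [inv_eq_of_mul_eq_one_left (h.R_sq r hr), inv_eq_of_mul_eq_one_left (h.A_sq a ha)]
      group] at hk
  have hfixsq : ∀ w ∈ P, w * x = x * w → w * w ≠ 1 → w * w = z₀ := fun w hw hwx hne1 =>
    huniq _ (hsq w hw) hne1 (hcomm_fix _ (by
      rw [mul_assoc, hwx, ← mul_assoc, hwx, mul_assoc]))
  have hcc : c * c = z₀ := hfixsq c hc hcx fun e => by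
    rcases hfixP c hc e (hcomm_fix c hcx) with h1 | h1
    exacts [hc1 h1, hcz h1]
  -- `C(x) ≤ U`
  let T' : Subgroup G := centralizer ({x} : Set G)
  have hT'p : IsPGroup 2 T' := hC x hox
  have hle : T' ≤ (U : Subgroup G) := by
    by_contra hnle
    obtain ⟨y, hy, hyN, hyD⟩ := exists_mem_normalizer_notMem hT'p
      (inf_le_right : (U : Subgroup G) ⊓ T' ≤ T') fun e => hnle (inf_eq_right.1 e)
    refine hyD (Subgroup.mem_inf.2 ⟨hz₀U.mem_of_commute hC ?_, hy⟩)
    have hcmem : c ∈ (U : Subgroup G) ⊓ T' :=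
      Subgroup.mem_inf.2 ⟨hPU hc, mem_centralizer_singleton_iff.2 hcx⟩
    obtain ⟨hdU, hdx⟩ := Subgroup.mem_inf.1 ((Subgroup.mem_normalizer_iff.1 hyN c).1 hcmem)
    have hdx' : y * c * y⁻¹ * x = x * (y * c * y⁻¹) := mem_centralizer_singleton_iff.1 hdx
    have hdd : (y * c * y⁻¹) * (y * c * y⁻¹) = y * z₀ * y⁻¹ := by rw [← hcc]; group
    have hne1 : y * z₀ * y⁻¹ ≠ 1 := fun e => hz₀ne (conj_eq_one_iff.1 e)
    suffices hh : y * z₀ * y⁻¹ = z₀ by exact mul_inv_eq_iff_eq_mul.1 hh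
    rw [← hdd] at hne1 ⊢
    rcases hUcases _ hdU with h1 | h1
    · exact hfixsq _ h1 hdx' hne1
    · obtain ⟨e, he⟩ : ∃ e, e = y * c * y⁻¹ := ⟨_, rfl⟩
      rw [← he] at hne1 h1 hdx' ⊢
      have hee : x * e * (x * e) = e * e := by
        rw [show x * e * (x * e) = x * (e * x) * e by group, hdx', ← mul_assoc, hx2, one_mul]
      rw [← hee] at hne1 ⊢
      exact hfixsq _ h1 (by rw [mul_assoc, hdx', ← mul_assoc]) hne1
  have hmap : T'.map (MulAut.conj d).toMonoidHom = (U : Subgroup G) := by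
    refine le_antisymm ?_ fun u hu => ⟨d⁻¹ * u * d, mem_centralizer_singleton_iff.2
      ((hCx _).2 (by rwa [show d * (d⁻¹ * u * d) * d⁻¹ = u by group])), by simp [mul_assoc]⟩
    rintro _ ⟨u, hu, rfl⟩
    exact (hCx u).1 (mem_centralizer_singleton_iff.1 hu)
  have heq : T' = (U : Subgroup G) := Subgroup.eq_of_le_of_card_ge hle (le_of_eq (by
    rw [← hmap, Subgroup.card_map_of_injective (f := (MulAut.conj d).toMonoidHom)
      (MulAut.conj d).injective]))
  refine h.R_ne_A (Subgroup.eq_of_le_of_card_ge (fun r hr => ?_) (by rw [h.R_card, h.A_card]))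
  have hrT : r ∈ T' := heq.symm ▸ hPU (h.R_le_P hr)
  have := hxR' r hr
  rwa [hcomm_fix r (mem_centralizer_singleton_iff.1 hrT)] at this

end NaturalOffender

end Cfsg.Agent.CIT
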