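import Cfsg.Agent.Lib.CIT.OffenderDefs
import Cfsg.Agent.Lib.CIT.Base

/-!
# CIT groups: the torus of the natural offender

`N_M(P)` holds a cyclic group of order `q - 1`, and `M` is transitive on `R#`.
-/

set_option autoImplicit false
set_option linter.unusedSectionVars false
set_option linter.style.haveILetI false

namespace Cfsg.Agent.CIT

open Subgroup Matrix

universe u

namespace SLTwoAct

variable {K : Type} [Field K]

/-- The action of `SL₂` on column vectors. -/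
def slAct (a : SpecialLinearGroup (Fin 2) K) (v : Fin 2 → K) : Fin 2 → K :=
  (a : Matrix (Fin 2) (Fin 2) K).mulVec v

theorem slAct_def (a : SpecialLinearGroup (Fin 2) K) (v : Fin 2 → K) :
    slAct a v = (a : Matrix (Fin 2) (Fin 2) K).mulVec v := rfl

theorem slAct_one (v : Fin 2 → K) : slAct 1 v = v := Matrix.one_mulVec v

theorem slAct_mul (a b : SpecialLinearGroup (Fin 2) K) (v : Fin 2 → K) :
    slAct (a * b) v = slAct a (slAct b v) := (Matrix.mulVec_mulVec v a.1 b.1).symm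

theorem slAct_smul (a : SpecialLinearGroup (Fin 2) K) (c : K) (v : Fin 2 → K) :
    slAct a (c • v) = c • slAct a v := Matrix.mulVec_smul a.1 c v

theorem slAct_ext (a b : SpecialLinearGroup (Fin 2) K) (e : ∀ v, slAct a v = slAct b v) : a = b :=
  Subtype.ext (Matrix.mulVec_injective (funext e))

theorem slAct_inv_cancel (a : SpecialLinearGroup (Fin 2) K) (v : Fin 2 → K) :
    slAct a⁻¹ (slAct a v) = v := by rw [← slAct_mul, inv_mul_cancel, slAct_one]

/-- The first unit vector. -/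
def e₀ : Fin 2 → K := ![1, 0]

theorem exists_slAct_e₀ {w : Fin 2 → K} (hw : w ≠ 0) :
    ∃ a : SpecialLinearGroup (Fin 2) K, slAct a e₀ = w := by
  by_cases h0 : w 0 = 0
  · have h1 : w 1 ≠ 0 := fun e => hw (funext fun i => by fin_cases i; exacts [h0, e])
    refine ⟨⟨!![w 0, -(w 1)⁻¹; w 1, 0], by rw [Matrix.det_fin_two_of, h0]; field_simp; ring⟩, ?_⟩
    funext i; fin_cases i <;> simp [slAct, e₀, Matrix.mulVec, dotProduct, Fin.sum_univ_two]
  · refine ⟨⟨!![w 0, 0; w 1, (w 0)⁻¹], by rw [Matrix.det_fin_two_of]; field_simp; ring⟩, ?_⟩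
    funext i; fin_cases i <;> simp [slAct, e₀, Matrix.mulVec, dotProduct, Fin.sum_univ_two]

theorem eq_of_fix_e₀ {a b : SpecialLinearGroup (Fin 2) K} (ha : slAct a e₀ = e₀)
    (hb : slAct b e₀ = e₀) (hab : a.1 0 1 = b.1 0 1) : a = b := by
  have key : ∀ x : SpecialLinearGroup (Fin 2) K, slAct x e₀ = e₀ →
      x.1 0 0 = 1 ∧ x.1 1 0 = 0 ∧ x.1 1 1 = 1 := by
    intro x hx
    have h00 : x.1 0 0 = 1 := by
      simpa [slAct, e₀, Matrix.mulVec, dotProduct, Fin.sum_univ_two] using congrFun hx 0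
    have h10 : x.1 1 0 = 0 := by
      simpa [slAct, e₀, Matrix.mulVec, dotProduct, Fin.sum_univ_two] using congrFun hx 1
    have hd : x.1.det = 1 := x.2
    rw [Matrix.det_fin_two, h00, h10, one_mul, mul_zero, sub_zero] at hd
    exact ⟨h00, h10, hd⟩
  obtain ⟨a0, a1, a2⟩ := key a ha
  obtain ⟨b0, b1, b2⟩ := key b hb
  refine Subtype.ext (Matrix.ext fun i j => ?_)
  fin_cases i <;> fin_cases j
  exacts [a0.trans b0.symm, hab, a1.trans b1.symm, a2.trans b2.symm]

theorem card_fix_le [Finite K] {v : Fin 2 → K} (hv : v ≠ 0) :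
    Nat.card {a : SpecialLinearGroup (Fin 2) K // slAct a v = v} ≤ Nat.card K := by
  obtain ⟨g, hg⟩ := exists_slAct_e₀ hv
  refine Nat.card_le_card_of_injective
    (fun a => (g⁻¹ * a.1 * g : SpecialLinearGroup (Fin 2) K).1 0 1) fun a b hab => ?_
  have hfix : ∀ x : {a : SpecialLinearGroup (Fin 2) K // slAct a v = v},
      slAct (g⁻¹ * x.1 * g) e₀ = e₀ := fun x => by
    rw [slAct_mul, hg, slAct_mul, x.2, ← hg, slAct_inv_cancel]
  exact Subtype.ext (mul_left_cancel (mul_right_cancel (eq_of_fix_e₀ (hfix a) (hfix b) hab)))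

/-- The diagonal torus. -/
def diagHom : Kˣ →* SpecialLinearGroup (Fin 2) K where
  toFun a := ⟨!![(a : K), 0; 0, ((a⁻¹ : Kˣ) : K)], by simp [Matrix.det_fin_two_of]⟩
  map_one' := Subtype.ext (by ext i j; fin_cases i <;> fin_cases j <;> simp <;> rfl)
  map_mul' a b := Subtype.ext (by
    show _ = (_ : Matrix (Fin 2) (Fin 2) K) * _
    ext i j; fin_cases i <;> fin_cases j <;> simp [Matrix.mul_apply, Fin.sum_univ_two, mul_comm])

theorem diagHom_val (a : Kˣ) :
    (diagHom a).1 = !![(a : K), 0; 0, ((a⁻¹ : Kˣ) : K)] := rfl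

theorem diagHom_injective : Function.Injective (diagHom (K := K)) := fun a b e => by
  have h00 := congrArg (fun x : SpecialLinearGroup (Fin 2) K => x.1 0 0) e
  exact Units.ext (by simpa [diagHom_val] using h00)

theorem diagHom_e₀ (a : Kˣ) : slAct (diagHom a) e₀ = (a : K) • e₀ := by
  rw [slAct_def, diagHom_val]
  funext i; fin_cases i <;> simp [e₀, Matrix.mulVec, dotProduct, Fin.sum_univ_two]

/-- An element of order `|K| - 1` with `v` as eigenvector. -/
theorem exists_semisimple [Finite K] {v : Fin 2 → K} (hv : v ≠ 0) :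
    ∃ t : SpecialLinearGroup (Fin 2) K, orderOf t = Nat.card K - 1 ∧
      ∀ a, slAct a v = v → slAct (t * a * t⁻¹) v = v := by
  haveI := Fintype.ofFinite K
  obtain ⟨ω, hω⟩ := IsCyclic.exists_generator (α := Kˣ)
  obtain ⟨g, hg⟩ := exists_slAct_e₀ hv
  have hev : ∀ a : Kˣ, slAct (MulAut.conj g (diagHom a)) v = (a : K) • v := fun a => by
    rw [MulAut.conj_apply, slAct_mul, slAct_mul, ← hg, slAct_inv_cancel, diagHom_e₀, slAct_smul]
  refine ⟨MulAut.conj g (diagHom ω), ?_, fun a ha => ?_⟩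
  · rw [MulEquiv.orderOf_eq, orderOf_injective diagHom diagHom_injective,
      orderOf_eq_card_of_forall_mem_zpowers hω, Nat.card_units]
  · rw [← map_inv, ← map_inv, slAct_mul, slAct_mul, hev, slAct_smul, ha, slAct_smul, hev,
      smul_smul, ← Units.val_mul, inv_mul_cancel, Units.val_one, one_smul]

end SLTwoAct

open SLTwoAct

variable {G : Type u} [Group G] [Finite G] {M R P A : Subgroup G} {n : ℕ}

namespace NaturalOffender

variable (h : NaturalOffender M R P A n)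
include h

theorem four_le : 4 ≤ 2 ^ n :=
  le_trans (le_of_eq (by norm_num)) (Nat.pow_le_pow_right two_pos h.two_le)

theorem odd_pred : Odd (2 ^ n - 1) :=
  Nat.Even.sub_odd (by have := h.four_le; omega)
    (Nat.even_pow.2 ⟨even_two, by have := h.two_le; omega⟩) odd_one

theorem isPGroup_P : IsPGroup 2 P :=
  IsPGroup.of_card (n := n * 3) (by rw [h.card_P, pow_mul])

theorem le_normalizer_R (x : G) (hx : x ∈ P) : x ∈ normalizer (R : Set G) := by
  obtain ⟨K, _, _, M₁, -, hP, -, -, -, -, hact⟩ := h.natural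
  exact hact.1 (hP hx)

theorem R_comm {r r' : G} (hr : r ∈ R) (hr' : r' ∈ R) : r * r' = r' * r := by
  calc r * r' = (r * r')⁻¹ := (inv_eq_of_mul_eq_one_left (h.R_sq _ (mul_mem hr hr'))).symm
    _ = r' * r := by
      rw [_root_.mul_inv_rev, inv_eq_of_mul_eq_one_left (h.R_sq r hr),
        inv_eq_of_mul_eq_one_left (h.R_sq r' hr')]

theorem exists_central : ∃ z ∈ R ⊓ A, z ≠ 1 := by
  have : 1 < Nat.card (R ⊓ A : Subgroup G) := by rw [h.inf_card]; have := h.four_le; omega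
  obtain ⟨⟨z, hz⟩, hz1⟩ := Subgroup.ne_bot_iff_exists_ne_one.1
    ((one_lt_card_iff_ne_bot _).1 this)
  exact ⟨z, hz, fun e => hz1 (Subtype.ext e)⟩

/-- The torus inside a given witness of the natural action. -/
theorem exists_torus_witness {K : Type} [Field K] [Fintype K] {M₁ : Subgroup G}
    (hK : Fintype.card K = 2 ^ n) (hPM : P ≤ M₁) (hC : centralizer (R : Set G) ⊓ M₁ = R)
    (hact : Cfsg.ActsAsSL2OnSection K ⊤ M₁ R ⊥) :
    (∃ τ : G, τ ∈ M₁ ∧ τ ∈ normalizer (P : Set G) ∧ orderOf τ = 2 ^ n - 1) ∧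
      ∀ r ∈ R, r ≠ 1 → ∀ s ∈ R, s ≠ 1 → ∃ g ∈ M₁, g * r * g⁻¹ = s := by
  classical
  obtain ⟨-, -, ρ, ψ, hρ, hψs, hψk, hψ⟩ := hact
  have hKn : Nat.card K = 2 ^ n := by rw [Nat.card_eq_fintype_card, hK]
  have hinj : Function.Injective ψ := (injective_iff_map_eq_one ψ).2 fun u hu =>
    Subtype.ext (Subgroup.mem_bot.1 ((hψk u).1 hu))
  let V : R → Fin 2 → K := fun u => Multiplicative.toAdd (ψ u)
  have hVinj : Function.Injective V := fun u w e => hinj (Multiplicative.toAdd.injective e)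
  have hVs : Function.Surjective V := fun v => by
    obtain ⟨u, hu⟩ := hψs (Multiplicative.ofAdd v)
    exact ⟨u, by show Multiplicative.toAdd (ψ u) = v; rw [hu]; rfl⟩
  have hV1 : V 1 = 0 := by show Multiplicative.toAdd (ψ 1) = 0; rw [map_one]; rfl
  have hV : ∀ (e : M₁) (u : R), ∃ w : R, (w : G) = (e : G) * u * (e : G)⁻¹ ∧
      V w = slAct (ρ e) (V u) := fun e u => hψ e u
  have hsurj : Function.Surjective ρ := MonoidHom.range_eq_top.1 hρ
  -- the kernel
  have hker : ∀ e : M₁, ρ e = 1 ↔ (e : G) ∈ R := by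
    intro e
    constructor
    · intro he
      rw [← hC]
      refine Subgroup.mem_inf.2 ⟨Subgroup.mem_centralizer_iff.2 fun u hu => ?_, e.2⟩
      obtain ⟨w, hw, hw'⟩ := hV e ⟨u, hu⟩
      rw [he, slAct_one] at hw'
      have hwu : u = (e : G) * u * (e : G)⁻¹ := by
        have := hVinj hw'
        rw [this] at hw
        exact hw
      calc u * (e : G) = ((e : G) * u * (e : G)⁻¹) * e := by rw [← hwu]
        _ = (e : G) * u := by group
    · intro he
      refine slAct_ext _ _ fun v => ?_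
      obtain ⟨u, rfl⟩ := hVs v
      obtain ⟨w, hw, hw'⟩ := hV e u
      rw [slAct_one, ← hw']
      congr 1
      refine Subtype.ext ?_
      rw [hw, h.R_comm he u.2, mul_inv_cancel_right]
  -- the fixed vector of `P`
  obtain ⟨z, hz, hz1⟩ := h.exists_central
  obtain ⟨hzR, -⟩ := Subgroup.mem_inf.1 hz
  have hne : ∀ (r : G) (hr : r ∈ R), r ≠ 1 → V ⟨r, hr⟩ ≠ 0 := fun r hr hr1 e =>
    hr1 (congrArg Subtype.val (hVinj (e.trans hV1.symm)))
  have hfix : ∀ e : M₁, (e : G) ∈ P → slAct (ρ e) (V ⟨z, hzR⟩) = V ⟨z, hzR⟩ := by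
    intro e he
    obtain ⟨w, hw, hw'⟩ := hV e ⟨z, hzR⟩
    rw [← hw']
    congr 1
    refine Subtype.ext ?_
    have hzc := (h.center z (h.R_le_P hzR)).2 hz (e : G) he
    rw [hw]
    show (e : G) * z * (e : G)⁻¹ = z
    rw [← hzc, mul_inv_cancel_right]
  refine ⟨?_, fun r hr hr1 s hs hs1 => ?_⟩
  swap
  · obtain ⟨a, ha⟩ := exists_slAct_e₀ (hne r hr hr1)
    obtain ⟨b, hb⟩ := exists_slAct_e₀ (hne s hs hs1)
    obtain ⟨e, he⟩ := hsurj (b * a⁻¹)
    obtain ⟨w, hw, hw'⟩ := hV e ⟨r, hr⟩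
    rw [he, ← ha, slAct_mul, slAct_inv_cancel, hb] at hw'
    have hws : (w : G) = s := congrArg Subtype.val (hVinj hw')
    exact ⟨e, e.2, by rw [← hws, hw]⟩
  -- the image of `P` is the stabiliser of `v`
  set v := V ⟨z, hzR⟩
  have hv0 : v ≠ 0 := hne z hzR hz1
  let PM : Subgroup M₁ := P.subgroupOf M₁
  have hQ : ∀ a, slAct a v = v → a ∈ PM.map ρ := by
    have hker' : ρ.ker ⊓ PM = R.subgroupOf M₁ := by
      ext e
      rw [Subgroup.mem_inf, MonoidHom.mem_ker, hker, Subgroup.mem_subgroupOf,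
        Subgroup.mem_subgroupOf]
      exact ⟨fun x => x.1, fun x => ⟨x, h.R_le_P x⟩⟩
    have hc : Nat.card (PM.map ρ) = 2 ^ n := by
      have h1 := Subgroup.card_mul_index (ρ.ker.subgroupOf PM)
      have h2 : Nat.card PM = (2 ^ n) ^ 3 := by
        rw [← h.card_P]
        exact Nat.card_congr (Subgroup.subgroupOfEquivOfLe hPM).toEquiv
      have h3 : Nat.card (ρ.ker.subgroupOf PM) = (2 ^ n) ^ 2 := by
        rw [← Subgroup.inf_subgroupOf_right, hker',
          Nat.card_congr (Subgroup.subgroupOfEquivOfLe (show R.subgroupOf M₁ ≤ PM from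
            fun x hx => h.R_le_P hx)).toEquiv,
          Nat.card_congr (Subgroup.subgroupOfEquivOfLe (h.R_le_P.trans hPM)).toEquiv, h.R_card]
      have h4 : (ρ.ker.subgroupOf PM).index = Nat.card (PM.map ρ) := by
        rw [← MonoidHom.ker_domRestrict, Subgroup.index_ker, MonoidHom.domRestrict_range]
      rw [h2, h3, h4, pow_succ (2 ^ n) 2] at h1
      exact Nat.eq_of_mul_eq_mul_left (pow_pos (Nat.two_pow_pos n) 2) h1
    have hle : ((PM.map ρ : Subgroup _) : Set (SpecialLinearGroup (Fin 2) K)) ⊆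
        {a | slAct a v = v} := by
      rintro _ ⟨e, he, rfl⟩
      exact hfix e he
    have heq := Set.eq_of_subset_of_ncard_le hle (by
      rw [← Nat.card_coe_set_eq, ← Nat.card_coe_set_eq]
      exact ((card_fix_le hv0).trans (le_of_eq (hKn.trans hc.symm)))) (Set.toFinite _)
    intro a ha
    show a ∈ ((PM.map ρ : Subgroup _) : Set (SpecialLinearGroup (Fin 2) K))
    rw [heq]
    exact ha
  -- the torus
  obtain ⟨t, hto, htn⟩ := exists_semisimple hv0
  rw [hKn] at hto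
  obtain ⟨e, he⟩ := hsurj t
  subst he
  have hsub : ∀ x ∈ P, (e : G) * x * (e : G)⁻¹ ∈ P := by
    intro x hx
    have h1 : ρ (e * ⟨x, hPM hx⟩ * e⁻¹) ∈ PM.map ρ := by
      refine hQ _ ?_
      rw [map_mul, map_mul, map_inv]
      exact htn _ (hfix ⟨x, hPM hx⟩ hx)
    obtain ⟨y, hy, hye⟩ := h1
    have h2 : ρ (y⁻¹ * (e * ⟨x, hPM hx⟩ * e⁻¹)) = 1 := by
      rw [map_mul, map_inv, hye, inv_mul_cancel]
    have h3 := h.R_le_P ((hker _).1 h2)
    have h4 := P.mul_mem hy h3
    simpa [Subgroup.subgroupOf] using h4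
  have hePn : (e : G) ∈ normalizer (P : Set G) := by
    have hmap : P.map (MulAut.conj (e : G)).toMonoidHom = P := Subgroup.eq_of_le_of_card_ge
      (by rintro _ ⟨y, hy, rfl⟩; exact hsub y hy)
      (le_of_eq (Subgroup.card_map_of_injective (f := (MulAut.conj (e : G)).toMonoidHom)
        (MulAut.conj (e : G)).injective).symm)
    exact Subgroup.mem_normalizer_iff.2 fun x => ⟨hsub x, fun hx => by
      replace hx : (e : G) * x * (e : G)⁻¹ ∈ P.map (MulAut.conj (e : G)).toMonoidHom := hmap.symm ▸ hx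
      obtain ⟨y, hy, hy'⟩ := hx
      rwa [← (MulAut.conj (e : G)).injective hy']⟩
  refine ⟨(e : G) ^ 2, pow_mem e.2 2, pow_mem hePn 2, ?_⟩
  have hp : ((e : G) ^ 2) ^ (2 ^ n - 1) = 1 := by
    have h1 : ρ (e ^ (2 ^ n - 1)) = 1 := by rw [map_pow, ← hto, pow_orderOf_eq_one]
    rw [← pow_mul, mul_comm, pow_mul, sq]
    exact h.R_sq _ (by simpa using (hker _).1 h1)
  have hdvd : 2 ^ n - 1 ∣ orderOf (e : G) := by
    rw [Subgroup.orderOf_coe, ← hto]
    exact orderOf_map_dvd ρ e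
  refine Nat.dvd_antisymm (orderOf_dvd_of_pow_eq_one hp) ?_
  rw [orderOf_pow' _ two_ne_zero]
  refine (Nat.Coprime.dvd_of_dvd_mul_right (n := Nat.gcd (orderOf (e : G)) 2) ?_ ?_)
  · exact (Nat.coprime_two_right.2 h.odd_pred).coprime_dvd_right (Nat.gcd_dvd_right _ _)
  · rwa [Nat.div_mul_cancel (Nat.gcd_dvd_left _ _)]

/-- A cyclic group of order `q - 1` in `M` normalises `P`, and `M` is transitive on `R#`. -/
theorem exists_torus :
    (∃ τ : G, τ ∈ M ∧ τ ∈ normalizer (P : Set G) ∧ orderOf τ = 2 ^ n - 1) ∧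
      ∀ r ∈ R, r ≠ 1 → ∀ s ∈ R, s ≠ 1 → ∃ g ∈ M, g * r * g⁻¹ = s := by
  obtain ⟨K, _, _, M₁, hK, hPM, hM₁, -, -, hC, hact⟩ := h.natural
  obtain ⟨⟨τ, h1, h2, h3⟩, htr⟩ := h.exists_torus_witness hK hPM hC hact
  exact ⟨⟨τ, hM₁ h1, h2, h3⟩, fun r hr hr1 s hs hs1 => by
    obtain ⟨g, hg, hge⟩ := htr r hr hr1 s hs hs1
    exact ⟨g, hM₁ hg, hge⟩⟩

end NaturalOffender

end Cfsg.Agent.CIT
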