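import Cfsg.Agent.Lib.CIT.Defs
import Cfsg.Agent.Lib.FrobeniusSystem.Main
import Cfsg.Agent.Lib.Involutions.RankOne.ConsBase

/-!
# A strongly embedded subgroup with a Frobenius-like normal subgroup

Piece SE of `notes/cit-lead.md`: if `M` is normal in the strongly embedded subgroup `H`, of even order, TI
off `H`, and contains the `H`-centraliser of each of its non-identity elements, then `G` is `SL₂(2ⁿ)` or a
Suzuki group and `M` is a 2-group (by the counting of two-point stabilisers used for S4235).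
-/

set_option autoImplicit false

open scoped Pointwise

namespace Cfsg.Agent.CIT

open Involutions.Basic

universe u

variable {G : Type u} [Group G] [Finite G] [IsSimpleGroup G]

theorem frobSE_cfg {H M : Subgroup G} (hH : Cfsg.IsStronglyEmbedded H) (hMH : M ≤ H)
    (hMn : ∀ h ∈ H, ∀ x ∈ M, h * x * h⁻¹ ∈ M)
    (hcent : ∀ x ∈ M, x ≠ 1 → ∀ a ∈ H, Commute a x → a ∈ M)
    (hti : ∀ g : G, g ∉ H → M ⊓ MulAut.conj g • M = ⊥) (heven : 2 ∣ Nat.card M) :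
    FrobeniusSystem.Cfg H M := by
  have hne : M ≠ ⊥ := fun e => by
    rw [e, Subgroup.card_bot] at heven
    omega
  have hL : FrobeniusSystem.Loc H M :=
    ⟨hMH, hMn, fun a ha haM x hx e => by_contra fun hx1 => haM (hcent x hx hx1 a ha e.symm), hti, hne⟩
  refine ⟨hL, hH.1, ?_, ?_, heven⟩
  · exact (IsSimpleGroup.eq_bot_or_eq_top_of_normal H.normalCore inferInstance).resolve_right
      fun e => hH.1 (eq_top_iff.2 (e ▸ H.normalCore_le))
  · obtain ⟨x, y, hx1, hy1, hne', hx, hy, hxy⟩ := Involutions.RankOne.Cons.exists_two_commuting hH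
    obtain ⟨t, htH, ht⟩ := Involutions.StronglyEmbedded.exists_involution_mem hH.2.1
    obtain ⟨g, hg⟩ := isConj_iff.1 (Involutions.StronglyEmbedded.isConj_involutions hH
      (orderOf_two_iff.2 ⟨hx, hx1⟩) ht)
    refine ⟨g * x * g⁻¹, g * y * g⁻¹, fun e => hx1 (conj_eq_one_iff.1 e), fun e => hy1 (conj_eq_one_iff.1 e),
      fun e => hne' (mul_left_cancel (mul_right_cancel e)), by rw [conj_mul, hx]; group,
      by rw [conj_mul, hy]; group, by rw [conj_mul, conj_mul, hxy], hg ▸ htH, ?_⟩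
    refine Involutions.StronglyEmbedded.mem_of_commute hH htH ht ?_
    rw [← hg]
    show g * y * g⁻¹ * (g * x * g⁻¹) = g * x * g⁻¹ * (g * y * g⁻¹)
    rw [conj_mul, conj_mul, hxy]

/-- FROB-SE: `M` is a 2-group and `G` is `PSL₂(2ⁿ)` or a Suzuki group. -/
theorem frobSE {H M : Subgroup G} (hH : Cfsg.IsStronglyEmbedded H) (hMH : M ≤ H)
    (hMn : ∀ h ∈ H, ∀ x ∈ M, h * x * h⁻¹ ∈ M)
    (hcent : ∀ x ∈ M, x ≠ 1 → ∀ a ∈ H, Commute a x → a ∈ M)
    (hti : ∀ g : G, g ∉ H → M ⊓ MulAut.conj g • M = ⊥) (heven : 2 ∣ Nat.card M) :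
    IsPGroup 2 M ∧
      ((∃ (F : Type) (_ : Field F) (_ : Fintype F), (∃ n : ℕ, 2 ≤ n ∧ Fintype.card F = 2 ^ n) ∧
          Nonempty (G ≃* Matrix.ProjectiveSpecialLinearGroup (Fin 2) F)) ∨
        Cfsg.Lie.IsoSuzuki G) := by
  have h := frobSE_cfg hH hMH hMn hcent hti heven
  refine ⟨h.isPGroup, ?_⟩
  rcases h.classify with ⟨F, i1, i2, ⟨n, hn, hF⟩, ⟨e⟩⟩ | h'
  · obtain ⟨ψ⟩ := Cfsg.Agent.PrimeBlock.Brauer.sl_equiv_psl F (show n ≠ 0 by omega) hF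
    exact Or.inl ⟨F, i1, i2, ⟨n, hn, hF⟩, ⟨e.trans ψ.symm⟩⟩
  · exact Or.inr h'

/-- FROB-SE, in the form of the list of simple CIT groups. -/
theorem frobSE_list {H M : Subgroup G} (hH : Cfsg.IsStronglyEmbedded H) (hMH : M ≤ H)
    (hMn : ∀ h ∈ H, ∀ x ∈ M, h * x * h⁻¹ ∈ M)
    (hcent : ∀ x ∈ M, x ≠ 1 → ∀ a ∈ H, Commute a x → a ∈ M)
    (hti : ∀ g : G, g ∉ H → M ⊓ MulAut.conj g • M = ⊥) (heven : 2 ∣ Nat.card M) :
    IsPGroup 2 M ∧ CITList G := by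
  obtain ⟨h1, h2⟩ := frobSE hH hMH hMn hcent hti heven
  refine ⟨h1, ?_⟩
  rcases h2 with ⟨F, i1, i2, hn, he⟩ | h'
  · exact Or.inl ⟨F, i1, i2, Or.inr (Or.inl hn), he⟩
  · exact Or.inr (Or.inr h')

/-- A 2-subgroup of a strongly embedded subgroup is TI off it. -/
theorem inf_conj_eq_bot_of_isPGroup {H M : Subgroup G} (hH : Cfsg.IsStronglyEmbedded H) (hMH : M ≤ H)
    (hM : IsPGroup 2 M) {g : G} (hg : g ∉ H) : M ⊓ MulAut.conj g • M = ⊥ := by
  haveI : Fact (Nat.Prime 2) := ⟨Nat.prime_two⟩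
  obtain ⟨k, hk⟩ := IsPGroup.iff_card.1 (hM.to_le inf_le_left :
    IsPGroup 2 ↥(M ⊓ MulAut.conj g • M))
  have hle : M ⊓ MulAut.conj g • M ≤ H ⊓ H.map (MulAut.conj g).toMonoidHom := by
    rintro x ⟨hx, y, hy, rfl⟩
    exact ⟨hMH hx, y, hMH hy, rfl⟩
  have ho := Odd.of_dvd_nat (hH.2.2 g hg) (Subgroup.card_dvd_of_le hle)
  refine Subgroup.card_eq_one.1 ?_
  rcases k with _ | k
  · simpa using hk
  · rw [hk, pow_succ] at ho
    exact absurd ho (by simp [Nat.not_odd_iff_even, Nat.even_mul])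

/-- FROB-SE in a CIT group, with `M` a 2-group. -/
theorem frobSE_cit {H M : Subgroup G} (hH : Cfsg.IsStronglyEmbedded H) (hMH : M ≤ H)
    (hMn : ∀ h ∈ H, ∀ x ∈ M, h * x * h⁻¹ ∈ M) (hM : IsPGroup 2 M) (hne : M ≠ ⊥)
    (hcent : ∀ t ∈ M, orderOf t = 2 → ∀ a ∈ H, Commute a t → a ∈ M) : CITList G := by
  haveI : Fact (Nat.Prime 2) := ⟨Nat.prime_two⟩
  have hpow : ∀ {x : G}, x ∈ M → x ≠ 1 → ∃ k : ℕ, orderOf (x ^ k) = 2 := fun {x} hx hx1 => by
    obtain ⟨n, hn⟩ := hM ⟨x, hx⟩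
    obtain ⟨j, -, hj⟩ := (Nat.dvd_prime_pow Nat.prime_two).1
      (orderOf_dvd_of_pow_eq_one (congrArg Subtype.val hn : x ^ 2 ^ n = 1))
    refine ⟨orderOf x / 2, orderOf_pow_orderOf_div (orderOf_pos x).ne' (hj ▸ dvd_pow_self 2 ?_)⟩
    rintro rfl
    rw [pow_zero, orderOf_eq_one_iff] at hj
    exact hx1 hj
  refine (frobSE_list hH hMH hMn (fun x hx hx1 a ha hc => ?_)
    (fun g hg => inf_conj_eq_bot_of_isPGroup hH hMH hM hg) ?_).2
  · obtain ⟨k, hk⟩ := hpow hx hx1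
    exact hcent _ (pow_mem hx k) hk a ha (hc.pow_right k)
  · obtain ⟨x, hx, hx1⟩ := (Subgroup.bot_or_exists_ne_one M).resolve_left hne
    obtain ⟨k, hk⟩ := hpow hx hx1
    exact hk ▸ (Subgroup.orderOf_mk (x ^ k) (pow_mem hx k)) ▸ orderOf_dvd_natCard _

end Cfsg.Agent.CIT
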