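import Mathlib
import Cfsg.Prelude.Def_Transfer
import Cfsg.Agent.Lib.Characters.Inner

/-!
# Sylow 2-subgroups of type `U₃(4)` and 2-nilpotent involution centralisers: local structure

`Z` holds all involutions and squares of the Sylow subgroup `S` of order 64, is central in it and
has order 4. If the centralisers of involutions are 2-nilpotent, fusion in `S` outside `Z` is given
by an automorphism of order three of `S/Z` without fixed points.
-/

set_option autoImplicit false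
set_option linter.style.haveILetI false
set_option linter.unusedSectionVars false

namespace Cfsg.Agent.CIT

open Subgroup

universe u

variable {G : Type u} [Group G] [Finite G]

/-- A Sylow 2-subgroup of type `U₃(4)` whose three involutions are conjugate. -/
structure UFourSylow (S : Sylow 2 G) (Z : Subgroup G) : Prop where
  Z_le : Z ≤ (S : Subgroup G)
  card_S : Nat.card (S : Subgroup G) = 64
  card_Z : Nat.card Z = 4
  central : ∀ z ∈ Z, ∀ s ∈ (S : Subgroup G), z * s = s * z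
  involutions : ∀ x ∈ (S : Subgroup G), x * x = 1 → x ∈ Z
  sq : ∀ x ∈ (S : Subgroup G), x * x ∈ Z
  conj_full : ∀ x ∈ (S : Subgroup G), x ∉ Z → ∀ z ∈ Z,
    ∃ s ∈ (S : Subgroup G), s * x * s⁻¹ = x * z
  fused : ∀ z ∈ Z, ∀ w ∈ Z, z ≠ 1 → w ≠ 1 → IsConj z w

namespace UFour

variable {S : Sylow 2 G} {Z : Subgroup G}

theorem eq_one_of_mem_odd {K : Subgroup G} (hK : Odd (Nat.card K)) {x : G} (hx : x ∈ K)
    (hxS : x ∈ (S : Subgroup G)) : x = 1 := by
  obtain ⟨n, hn⟩ := IsPGroup.iff_orderOf.1 S.2 ⟨x, hxS⟩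
  rw [Subgroup.orderOf_mk] at hn
  have h1 : orderOf x ∣ Nat.card K := Subgroup.orderOf_dvd_natCard K hx
  rw [hn] at h1
  rcases n with _ | n
  · exact orderOf_eq_one_iff.1 (by rw [hn, pow_zero])
  · exact absurd ((dvd_pow_self 2 n.succ_ne_zero).trans h1)
      (fun h2 => Nat.not_even_iff_odd.2 hK (even_iff_two_dvd.2 h2))

/-- A 2-element normalising a Sylow 2-subgroup lies in it. -/
theorem mem_of_normalizer {x : G} (hx : x ∈ normalizer ((S : Subgroup G) : Set G)) {k : ℕ}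
    (hk : x ^ 2 ^ k = 1) : x ∈ (S : Subgroup G) := by
  haveI : Fact (Nat.Prime 2) := ⟨Nat.prime_two⟩
  obtain ⟨j, -, hj⟩ := (Nat.dvd_prime_pow Nat.prime_two).1 (orderOf_dvd_of_pow_eq_one hk)
  have hz : IsPGroup 2 (zpowers x) := IsPGroup.of_card (n := j) (by rw [Nat.card_zpowers, hj])
  have hle : zpowers x ⊔ (S : Subgroup G) = S :=
    S.3 (hz.to_sup_of_normal_right' S.2 (by rwa [zpowers_le])) le_sup_right
  exact hle ▸ mem_sup_left (mem_zpowers x)

variable (h : UFourSylow S Z)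
include h

theorem comm_mem {s t : G} (hs : s ∈ (S : Subgroup G)) (ht : t ∈ (S : Subgroup G)) :
    t * s * t⁻¹ * s⁻¹ ∈ Z := by
  have h1 := h.sq t ht
  have h2 := h.sq _ (mul_mem (inv_mem ht) hs)
  have h3 := h.sq _ (inv_mem hs)
  rw [show t * s * t⁻¹ * s⁻¹ = t * t * (t⁻¹ * s * (t⁻¹ * s)) * (s⁻¹ * s⁻¹) by group]
  exact mul_mem (mul_mem h1 h2) h3

theorem le_centralizer {z : G} (hz : z ∈ Z) : (S : Subgroup G) ≤ centralizer ({z} : Set G) :=
  fun s hs => mem_centralizer_singleton_iff.2 (h.central z hz s hs).symm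

theorem mul_self_eq_one {z : G} (hz : z ∈ Z) : z * z = 1 := by
  have h4 := h.card_Z
  have h1 : orderOf z ∣ 2 ^ 2 := by
    rw [show (2 : ℕ) ^ 2 = Nat.card Z by rw [h4]; rfl]
    exact Subgroup.orderOf_dvd_natCard Z hz
  obtain ⟨k, hk, hk'⟩ := (Nat.dvd_prime_pow Nat.prime_two).1 h1
  by_contra hne
  have hk2 : k = 2 := by
    have : ¬ k ≤ 1 := fun hle => hne (by
      rw [← sq]
      exact orderOf_dvd_iff_pow_eq_one.1 (hk' ▸ (pow_dvd_pow 2 hle).trans (by norm_num)))
    omega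
  subst hk2
  -- a cyclic `Z` has only one involution
  have hcyc : Z = zpowers z := (eq_of_le_of_card_ge (zpowers_le.2 hz)
    (by rw [Nat.card_zpowers, hk', h4]; rfl)).symm
  have hzz : z * z * (z * z) = 1 := by
    rw [← sq, ← sq, ← pow_mul, show 2 * 2 = orderOf z by rw [hk']; rfl, pow_orderOf_eq_one]
  have hz1 : z ≠ 1 := fun e => hne (by rw [e, one_mul])
  obtain ⟨g, hg⟩ := isConj_iff.1 (h.fused _ (mul_mem hz hz) z hz hne hz1)
  exact hne (by rw [← hg, show g * (z * z) * g⁻¹ * (g * (z * z) * g⁻¹) =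
    g * (z * z * (z * z)) * g⁻¹ by group, hzz]; group)

theorem sq_ne_one {x : G} (hx : x ∈ (S : Subgroup G)) (hxZ : x ∉ Z) : x * x ≠ 1 :=
  fun e => hxZ (h.involutions x hx e)

theorem centralizer_le_sq (x : G) :
    centralizer ({x} : Set G) ≤ centralizer ({x * x} : Set G) := fun c hc => by
  have hc' : Commute c x := mem_centralizer_singleton_iff.1 hc
  exact mem_centralizer_singleton_iff.2 (hc'.mul_right hc').eq

theorem normal_subgroupOf : (Z.subgroupOf (S : Subgroup G)).Normal :=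
  ⟨fun z hz g => by
    rw [mem_subgroupOf] at hz ⊢
    rwa [Subgroup.coe_mul, Subgroup.coe_mul, Subgroup.coe_inv, ← h.central _ hz g g.2,
      mul_inv_cancel_right]⟩

variable (hI : ∀ t : G, orderOf t = 2 →
  Cfsg.HasNormalPComplement 2 ↥(centralizer ({t} : Set G)))
include hI

/-- The centraliser of an involution of `Z` is an odd normal subgroup times `S`. -/
theorem exists_core {z : G} (hz : z ∈ Z) (hz1 : z ≠ 1) :
    ∃ K : Subgroup G, K ≤ centralizer ({z} : Set G) ∧
      centralizer ({z} : Set G) ≤ normalizer (K : Set G) ∧ Odd (Nat.card K) ∧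
      ∀ c ∈ centralizer ({z} : Set G), ∃ o ∈ K, ∃ t ∈ (S : Subgroup G), c = o * t := by
  haveI : Fact (Nat.Prime 2) := ⟨Nat.prime_two⟩
  set C := centralizer ({z} : Set G) with hC
  obtain ⟨P, N, hN, hNP⟩ : Cfsg.HasNormalPComplement 2 C :=
    hI z (orderOf_eq_prime (by rw [sq]; exact mul_self_eq_one h hz) hz1)
  haveI := hN
  have hodd : Odd (Nat.card N) := Nat.not_even_iff_odd.1 fun he => P.not_dvd_index (by
    rw [hNP.index_eq_card]; exact even_iff_two_dvd.1 he)
  set S' : Sylow 2 C := S.subtype (le_centralizer h hz)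
  have hcard : Nat.card N * Nat.card (S' : Subgroup C) = Nat.card C := by
    rw [S'.card_eq_multiplicity, ← P.card_eq_multiplicity]; exact hNP.card_mul_card
  have hNS : N.IsComplement' (S' : Subgroup C) := isComplement'_of_coprime hcard (by
    obtain ⟨n, hn⟩ := IsPGroup.iff_card.1 S'.2
    rw [hn]
    exact Nat.Coprime.pow_right n hodd.coprime_two_right)
  refine ⟨N.map C.subtype, map_subtype_le N, fun c hc => ?_, ?_, fun c hc => ?_⟩
  · refine mem_normalizer_fintype ?_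
    rintro _ ⟨n, hn, rfl⟩
    exact ⟨⟨c, hc⟩ * n * ⟨c, hc⟩⁻¹, hN.conj_mem n hn _, rfl⟩
  · rwa [card_map_of_injective C.subtype_injective]
  · obtain ⟨⟨o, t⟩, he, -⟩ := IsComplement.existsUnique hNS ⟨c, hc⟩
    exact ⟨_, ⟨o.1, o.2, rfl⟩, ((t : C) : G), t.2, (congrArg Subtype.val he).symm⟩

omit h hI in
theorem conj_eq_of_core {z : G} {K : Subgroup G}
    (hn : centralizer ({z} : Set G) ≤ normalizer (K : Set G)) (hodd : Odd (Nat.card K))
    (hSC : (S : Subgroup G) ≤ centralizer ({z} : Set G)) {o t s : G} (ho : o ∈ K)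
    (ht : t ∈ (S : Subgroup G)) (hs : s ∈ (S : Subgroup G))
    (hmem : o * t * s * (o * t)⁻¹ ∈ (S : Subgroup G)) :
    o * t * s * (o * t)⁻¹ = t * s * t⁻¹ := by
  set y := t * s * t⁻¹ with hy
  have hyS : y ∈ (S : Subgroup G) := mul_mem (mul_mem ht hs) (inv_mem ht)
  have hmem' : o * t * s * (o * t)⁻¹ * y⁻¹ ∈ (S : Subgroup G) := mul_mem hmem (inv_mem hyS)
  have hK : o * t * s * (o * t)⁻¹ * y⁻¹ ∈ K := by
    rw [show o * t * s * (o * t)⁻¹ * y⁻¹ = o * (y * o⁻¹ * y⁻¹) by rw [hy]; group]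
    exact mul_mem ho ((mem_normalizer_iff.1 (hn (hSC hyS)) _).1 (inv_mem ho))
  exact mul_inv_eq_one.1 (eq_one_of_mem_odd hodd hK hmem')

/-- Fusion in `S` under the centraliser of an involution of `Z` is fusion in `S`. -/
theorem conj_in_sylow {z g s : G} (hz : z ∈ Z) (hz1 : z ≠ 1)
    (hg : g ∈ centralizer ({z} : Set G)) (hs : s ∈ (S : Subgroup G))
    (hgs : g * s * g⁻¹ ∈ (S : Subgroup G)) :
    ∃ t ∈ (S : Subgroup G), g * s * g⁻¹ = t * s * t⁻¹ := by
  obtain ⟨K, -, hn, hodd, hdec⟩ := exists_core h hI hz hz1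
  obtain ⟨o, ho, t, ht, rfl⟩ := hdec g hg
  exact ⟨t, ht, conj_eq_of_core hn hodd (le_centralizer h hz) ho ht hs hgs⟩

/-- No involution inverts an element of `S` outside `Z`. -/
theorem not_inverted {x i : G} (hx : x ∈ (S : Subgroup G)) (hxZ : x ∉ Z) (hi : i * i = 1) :
    i * x * i⁻¹ ≠ x⁻¹ := by
  intro he
  have hz := h.sq x hx
  have hz1 := sq_ne_one h hx hxZ
  have hiC : i ∈ centralizer ({x * x} : Set G) := mem_centralizer_singleton_iff.2 (by
    rw [← mul_inv_eq_iff_eq_mul, show i * (x * x) * i⁻¹ = (i * x * i⁻¹) * (i * x * i⁻¹) by group,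
      he, ← mul_inv_rev, inv_eq_of_mul_eq_one_right (mul_self_eq_one h hz)])
  obtain ⟨K, -, hn, hodd, hdec⟩ := exists_core h hI hz hz1
  obtain ⟨o, ho, t, ht, rfl⟩ := hdec i hiC
  have hts := conj_eq_of_core hn hodd (le_centralizer h hz) ho ht hx (he ▸ inv_mem hx)
  have htt : t * t ∈ K := by
    have h1 : t * t = (t * o * t⁻¹)⁻¹ * o⁻¹ * (o * t * (o * t)) := by group
    rw [h1, hi, mul_one]
    exact mul_mem (inv_mem ((mem_normalizer_iff.1 (hn (le_centralizer h hz ht)) _).1 ho))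
      (inv_mem ho)
  have htZ : t ∈ Z := h.involutions t ht (eq_one_of_mem_odd hodd htt (mul_mem ht ht))
  rw [he, h.central t htZ x hx, mul_inv_cancel_right] at hts
  exact hz1 (by nth_rewrite 1 [← hts]; exact inv_mul_cancel x)

/-- The centraliser of an element of `S` inside that of an involution of `Z`: an odd normal
subgroup whose index is the order of the centraliser in `S`. -/
theorem exists_centralizer_core {s z : G} (hs : s ∈ (S : Subgroup G)) (hz : z ∈ Z) (hz1 : z ≠ 1)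
    (hle : centralizer ({s} : Set G) ≤ centralizer ({z} : Set G)) :
    ∃ K : Subgroup (centralizer ({s} : Set G)), K.Normal ∧ Odd (Nat.card K) ∧
      K.index = Nat.card (centralizer ({⟨s, hs⟩} : Set (S : Subgroup G))) := by
  obtain ⟨K, -, hn, hodd, hdec⟩ := exists_core h hI hz hz1
  set C := centralizer ({s} : Set G) with hC
  set K' := K.subgroupOf C with hK'
  set T := (S : Subgroup G).subgroupOf C with hT
  have hK'n : K'.Normal := ⟨fun x hx g => (mem_normalizer_iff.1 (hn (hle g.2)) _).1 hx⟩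
  have hK'odd : Odd (Nat.card K') := by
    refine hodd.of_dvd_nat ?_
    rw [← card_map_of_injective C.subtype_injective (K := K'), subgroupOf_map_subtype]
    exact card_dvd_of_le inf_le_left
  refine ⟨K', hK'n, hK'odd, ?_⟩
  have hcomp : K'.IsComplement' T := by
    refine isComplement'_of_disjoint_and_mul_eq_univ ?_ (Set.eq_univ_of_forall fun c => ?_)
    · rw [disjoint_def]
      intro x hxK hxS
      exact Subtype.ext (eq_one_of_mem_odd hodd hxK hxS)
    · obtain ⟨o, ho, t, ht, hc⟩ := hdec c (hle c.2)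
      have hcs : (c : G) * s * (c : G)⁻¹ = s :=
        mul_inv_eq_iff_eq_mul.2 (mem_centralizer_singleton_iff.1 c.2)
      have hts : t * s * t⁻¹ = s := by
        rw [← conj_eq_of_core hn hodd (le_centralizer h hz) ho ht hs (by rw [← hc, hcs]; exact hs),
          ← hc, hcs]
      have htC : t ∈ C := mem_centralizer_singleton_iff.2 (mul_inv_eq_iff_eq_mul.1 hts)
      have hoC : o ∈ C := by
        have := mul_mem c.2 (inv_mem htC)
        rwa [hc, mul_inv_cancel_right] at this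
      exact ⟨⟨o, hoC⟩, ho, ⟨t, htC⟩, ht, Subtype.ext hc.symm⟩
  rw [hcomp.symm.index_eq_card]
  refine Nat.card_congr
    { toFun := fun x => ⟨⟨x.1.1, x.2⟩, mem_centralizer_singleton_iff.2
        (Subtype.ext (mem_centralizer_singleton_iff.1 x.1.2))⟩
      invFun := fun x => ⟨⟨x.1.1, mem_centralizer_singleton_iff.2
        (congrArg Subtype.val (mem_centralizer_singleton_iff.1 x.2))⟩, x.1.2⟩
      left_inv := fun _ => rfl
      right_inv := fun _ => rfl }

omit hI in
/-- Outside `Z` the centraliser in `S` has order sixteen. -/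
theorem card_centralizer_outside {x : G} (hx : x ∈ (S : Subgroup G)) (hxZ : x ∉ Z) :
    Nat.card (centralizer ({⟨x, hx⟩} : Set (S : Subgroup G))) = 16 := by
  set x' : (S : Subgroup G) := ⟨x, hx⟩
  have hmem : ∀ y : (S : Subgroup G),
      y ∈ (ConjClasses.mk x').carrier ↔ x⁻¹ * (y : G) ∈ Z := by
    intro y
    rw [ConjClasses.mem_carrier_iff_mk_eq, ConjClasses.mk_eq_mk_iff_isConj]
    constructor
    · intro hy
      obtain ⟨t, ht⟩ := isConj_iff.1 hy.symm
      rw [← ht]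
      show x⁻¹ * ((t : G) * x * (t : G)⁻¹) ∈ Z
      have h' := comm_mem h (inv_mem hx) t.2
      rw [inv_inv] at h'
      rw [show x⁻¹ * ((t : G) * x * (t : G)⁻¹) =
        ((t : G) * x⁻¹ * (t : G)⁻¹ * x)⁻¹ by group]
      exact inv_mem h'
    · intro hy
      obtain ⟨t, ht, he⟩ := h.conj_full x hx hxZ _ hy
      exact (isConj_iff.2 ⟨⟨t, ht⟩, Subtype.ext (by
        show t * x * t⁻¹ = (y : G)
        rw [he, mul_inv_cancel_left])⟩ : IsConj x' y).symm
  have hc : Nat.card (ConjClasses.mk x').carrier = 4 := by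
    rw [← h.card_Z]
    exact Nat.card_congr
      { toFun := fun y => ⟨x⁻¹ * (y.1 : G), (hmem y.1).1 y.2⟩
        invFun := fun z => ⟨⟨x * z, mul_mem hx (h.Z_le z.2)⟩, (hmem _).2 (by
          rw [inv_mul_cancel_left]; exact z.2)⟩
        left_inv := fun y => Subtype.ext (Subtype.ext (mul_inv_cancel_left x (y.1 : G)))
        right_inv := fun z => Subtype.ext (inv_mul_cancel_left x (z : G)) }
  have := Characters.card_carrier_mul_card_centralizer x'
  rw [hc, h.card_S] at this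
  omega

omit hI in
/-- A nontrivial element of `Z` is centralised by all of `S`. -/
theorem card_centralizer_Z {z : G} (hz : z ∈ Z) :
    Nat.card (centralizer ({⟨z, h.Z_le hz⟩} : Set (S : Subgroup G))) = 64 := by
  rw [show centralizer ({⟨z, h.Z_le hz⟩} : Set (S : Subgroup G)) = ⊤ from eq_top_iff.2
    fun s _ => mem_centralizer_singleton_iff.2 (Subtype.ext (h.central z hz s s.2).symm),
    card_top, h.card_S]

omit hI in
/-- An element of the normaliser of `S` permuting the involutions cyclically. -/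
theorem exists_rotation : ∃ a ∈ normalizer ((S : Subgroup G) : Set G),
    (∀ z, z ∈ Z ↔ a * z * a⁻¹ ∈ Z) ∧ (∀ z ∈ Z, z ≠ 1 → a * z * a⁻¹ ≠ z) ∧
    (∀ z ∈ Z, a ^ 3 * z * (a ^ 3)⁻¹ = z) ∧
    ∀ z ∈ Z, z ≠ 1 → ∀ w ∈ Z, w ≠ 1 → ∃ i : Fin 3, a ^ (i : ℕ) * z * (a ^ (i : ℕ))⁻¹ = w := by
  haveI : Fact (Nat.Prime 2) := ⟨Nat.prime_two⟩
  classical
  haveI := Fintype.ofFinite Z
  have hZ4 : Fintype.card Z = 4 := by rw [← Nat.card_eq_fintype_card]; exact h.card_Z
  have hcent : ∀ z ∈ Z, z ∈ centralizer ((S : Subgroup G) : Set G) := fun z hz =>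
    mem_centralizer_iff.2 fun s hs => (h.central z hz s hs).symm
  have hinv : ∀ n ∈ normalizer ((S : Subgroup G) : Set G), ∀ z ∈ Z, n * z * n⁻¹ ∈ Z :=
    fun n hn z hz => h.involutions _ ((mem_normalizer_iff.1 hn z).1 (h.Z_le hz)) (by
      rw [show n * z * n⁻¹ * (n * z * n⁻¹) = n * (z * z) * n⁻¹ by group, mul_self_eq_one h hz]
      group)
  obtain ⟨z₀, hz₀, hz₀1⟩ : ∃ z ∈ Z, z ≠ 1 := by
    haveI : Nontrivial Z := Fintype.one_lt_card_iff_nontrivial.1 (by omega)
    obtain ⟨z, hz⟩ := exists_ne (1 : Z)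
    exact ⟨z, z.2, fun e => hz (Subtype.ext e)⟩
  obtain ⟨z₁, hz₁, hz₁1, h01⟩ : ∃ z ∈ Z, z ≠ 1 ∧ z₀ ≠ z := by
    by_contra! hall
    have hle : (Finset.univ : Finset Z) ⊆ {1, ⟨z₀, hz₀⟩} := fun z _ => by
      by_cases e : (z : G) = 1
      · simp [Subtype.ext_iff, e]
      · exact Finset.mem_insert.2 (Or.inr (Finset.mem_singleton.2 (Subtype.ext (hall z z.2 e).symm)))
    have h1 := (Finset.card_le_card hle).trans Finset.card_le_two
    rw [Finset.card_univ, hZ4] at h1
    omega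
  have hthree : ∀ z ∈ Z, z = 1 ∨ z = z₀ ∨ z = z₁ ∨ z = z₀ * z₁ := by
    have hu : ({1, ⟨z₀, hz₀⟩, ⟨z₁, hz₁⟩, ⟨z₀ * z₁, mul_mem hz₀ hz₁⟩} : Finset Z) =
        Finset.univ := by
      refine Finset.eq_univ_of_card _ ?_
      have n1 : z₀ * z₁ ≠ 1 := fun e => h01 (by
        rw [← inv_eq_of_mul_eq_one_right e, inv_eq_of_mul_eq_one_right (mul_self_eq_one h hz₀)])
      have n2 : z₀ ≠ z₀ * z₁ := fun e => hz₁1 (mul_eq_left.1 e.symm)
      have n3 : z₁ ≠ z₀ * z₁ := fun e => hz₀1 (mul_eq_right.1 e.symm)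
      rw [hZ4, Finset.card_insert_of_notMem, Finset.card_insert_of_notMem, Finset.card_pair]
      · exact fun e => n3 (congrArg Subtype.val e)
      · simp only [Finset.mem_insert, Finset.mem_singleton, Subtype.ext_iff, not_or]
        exact ⟨h01, n2⟩
      · simp only [Finset.mem_insert, Finset.mem_singleton, Subtype.ext_iff, not_or,
          OneMemClass.coe_one]
        exact ⟨Ne.symm hz₀1, Ne.symm hz₁1, Ne.symm n1⟩
    intro z hz
    have := hu.ge (Finset.mem_univ ⟨z, hz⟩)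
    simpa [Subtype.ext_iff] using this
  obtain ⟨g, hg⟩ := isConj_iff.1 (h.fused z₀ hz₀ z₁ hz₁ hz₀1 hz₁1)
  obtain ⟨n', hn', he'⟩ := S.conj_eq_normalizer_conj_of_mem_centralizer z₀ g⁻¹ (hcent _ hz₀)
    (by rw [inv_inv, hg]; exact hcent _ hz₁)
  rw [inv_inv, hg] at he'
  obtain ⟨n, hnN, he⟩ : ∃ n ∈ normalizer ((S : Subgroup G) : Set G), n * z₀ * n⁻¹ = z₁ :=
    ⟨n'⁻¹, inv_mem hn', by rw [inv_inv]; exact he'.symm⟩
  refine ⟨n, hnN, ?_⟩
  have hinj : ∀ z w : G, n * z * n⁻¹ = n * w * n⁻¹ → z = w := fun z w e =>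
    mul_left_cancel (mul_right_cancel e)
  -- `z₁` does not go back to `z₀`
  have h12 : n * z₁ * n⁻¹ = z₀ * z₁ := by
    rcases hthree _ (hinv n hnN _ hz₁) with e | e | e | e
    · exact absurd (hinj z₁ 1 (by rw [e]; group)) hz₁1
    · exfalso
      -- an involutory permutation would be induced by a 2-element, which centralises `Z`
      obtain ⟨k, o, ho, hord⟩ := Nat.exists_eq_two_pow_mul_odd (orderOf_pos n).ne'
      obtain ⟨l, hl⟩ := ho
      have hsw : ∀ j : ℕ, n ^ (2 * j + 1) * z₀ * (n ^ (2 * j + 1))⁻¹ = z₁ := by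
        intro j
        induction j with
        | zero => simpa using he
        | succ j ih =>
          calc n ^ (2 * (j + 1) + 1) * z₀ * (n ^ (2 * (j + 1) + 1))⁻¹
              = n * (n * (n ^ (2 * j + 1) * z₀ * (n ^ (2 * j + 1))⁻¹) * n⁻¹) * n⁻¹ := by
                rw [show 2 * (j + 1) + 1 = (2 * j + 1) + 1 + 1 by ring, pow_succ', pow_succ']
                group
            _ = z₁ := by rw [ih, e, he]
      have hpow : (n ^ o) ^ 2 ^ k = 1 := by
        rw [← pow_mul, mul_comm, ← hord, pow_orderOf_eq_one]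
      have hoS : n ^ o ∈ (S : Subgroup G) := mem_of_normalizer (pow_mem hnN o) hpow
      have h' := hsw l
      rw [← hl, ← h.central z₀ hz₀ _ hoS, mul_inv_cancel_right] at h'
      exact h01 h'
    · exact absurd (hinj z₁ z₀ (by rw [e, he])) (Ne.symm h01)
    · exact e
  have h20 : n * (z₀ * z₁) * n⁻¹ = z₀ := by
    rw [show n * (z₀ * z₁) * n⁻¹ = n * z₀ * n⁻¹ * (n * z₁ * n⁻¹) by group, he, h12,
      show z₁ * (z₀ * z₁) = z₀ * (z₁ * z₁) by
        rw [← mul_assoc, h.central z₁ hz₁ z₀ (h.Z_le hz₀), mul_assoc],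
      mul_self_eq_one h hz₁, mul_one]
  refine ⟨fun z => ⟨hinv n hnN z, fun hz => ?_⟩, fun z hz hz1 => ?_, fun z hz => ?_,
    fun z hz hz1 w hw hw1 => ?_⟩
  · have h' := hinv n⁻¹ (inv_mem hnN) _ hz
    rwa [inv_inv, show n⁻¹ * (n * z * n⁻¹) * n = z by group] at h'
  · rcases hthree z hz with rfl | rfl | rfl | rfl
    · exact absurd rfl hz1
    · rw [he]; exact Ne.symm h01
    · rw [h12]; exact fun e => hz₀1 (mul_eq_right.1 e)
    · rw [h20]; exact fun e => hz₁1 (mul_eq_left.1 e.symm)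
  · rw [show n ^ 3 * z * (n ^ 3)⁻¹ = n * (n * (n * z * n⁻¹) * n⁻¹) * n⁻¹ by
      simp only [pow_succ, pow_zero, one_mul, mul_inv_rev, mul_assoc]]
    rcases hthree z hz with rfl | rfl | rfl | rfl
    · group
    · rw [he, h12, h20]
    · rw [h12, h20, he]
    · rw [h20, he, h12]
  · have c2 : ∀ x : G, n ^ 2 * x * (n ^ 2)⁻¹ = n * (n * x * n⁻¹) * n⁻¹ := fun x => by
      simp only [pow_two, mul_inv_rev, mul_assoc]
    rcases hthree z hz with rfl | rfl | rfl | rfl <;>
      rcases hthree w hw with rfl | rfl | rfl | rfl <;>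
      first
        | exact absurd rfl hz1
        | exact absurd rfl hw1
        | (refine ⟨0, ?_⟩; simp only [Fin.val_zero, pow_zero, one_mul, inv_one, mul_one]; done)
        | (refine ⟨1, ?_⟩; simp only [Fin.val_one, pow_one, he, h12, h20]; done)
        | (refine ⟨2, ?_⟩; simp only [Fin.val_two, c2, he, h12, h20]; done)

/-- Fusion outside `Z` is an automorphism of `S/Z` of order three without fixed points. -/
theorem exists_fusion [(Z.subgroupOf (S : Subgroup G)).Normal] :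
    ∃ α : MulAut ((S : Subgroup G) ⧸ Z.subgroupOf (S : Subgroup G)),
      α ^ 3 = 1 ∧ (∀ q, q ≠ 1 → α q ≠ q) ∧
      ∀ s t : (S : Subgroup G), (s : G) ∉ Z → (t : G) ∉ Z →
        (IsConj (s : G) t ↔ ∃ i : Fin 3,
          (α ^ (i : ℕ)) (QuotientGroup.mk s) = QuotientGroup.mk t) := by
  obtain ⟨a, haN, haZ, hfpf, ha3, htrans⟩ := exists_rotation h
  set φ : MulAut (S : Subgroup G) :=
    { toFun := fun s => ⟨a * s * a⁻¹, (mem_normalizer_iff.1 haN _).1 s.2⟩
      invFun := fun s => ⟨a⁻¹ * s * a, (mem_normalizer_iff''.1 haN _).1 s.2⟩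
      left_inv := fun s => Subtype.ext (by group)
      right_inv := fun s => Subtype.ext (by group)
      map_mul' := fun s t => Subtype.ext (by simp [mul_assoc]) } with hφ
  have hφv : ∀ s, ((φ s : (S : Subgroup G)) : G) = a * s * a⁻¹ := fun s => rfl
  have hmap : (Z.subgroupOf (S : Subgroup G)).map φ.toMonoidHom = Z.subgroupOf (S : Subgroup G) := by
    ext s
    constructor
    · rintro ⟨y, hy, rfl⟩
      exact (haZ _).1 hy
    · intro hs
      refine ⟨φ.symm s, (haZ _).2 ?_, φ.apply_symm_apply s⟩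
      show a * (φ.symm s : G) * a⁻¹ ∈ Z
      rw [← hφv, φ.apply_symm_apply]
      exact hs
  set α := QuotientGroup.congr (Z.subgroupOf (S : Subgroup G)) (Z.subgroupOf (S : Subgroup G))
    φ hmap
  have hα : ∀ (i : ℕ) (s : (S : Subgroup G)),
      (α ^ i) (QuotientGroup.mk s) = QuotientGroup.mk ((φ ^ i) s) := by
    intro i s
    induction i with
    | zero => simp
    | succ i ih => rw [pow_succ', pow_succ', MulAut.mul_apply, MulAut.mul_apply, ih]; rfl
  have hφi : ∀ (i : ℕ) (s : (S : Subgroup G)),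
      (((φ ^ i) s : (S : Subgroup G)) : G) = a ^ i * s * (a ^ i)⁻¹ := by
    intro i s
    induction i with
    | zero => simp
    | succ i ih => rw [pow_succ', MulAut.mul_apply, hφv, ih, pow_succ']; group
  have hmk : ∀ s t : (S : Subgroup G),
      (QuotientGroup.mk s : (S : Subgroup G) ⧸ Z.subgroupOf (S : Subgroup G)) = QuotientGroup.mk t ↔
        (s : G)⁻¹ * t ∈ Z := fun s t => by
    rw [QuotientGroup.eq, mem_subgroupOf, Subgroup.coe_mul, Subgroup.coe_inv]
  have hone : ∀ s : (S : Subgroup G),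
      (QuotientGroup.mk s : (S : Subgroup G) ⧸ Z.subgroupOf (S : Subgroup G)) = 1 ↔ (s : G) ∈ Z :=
    fun s => by rw [QuotientGroup.eq_one_iff, mem_subgroupOf]
  have hsq : ∀ u v : G, u ∈ (S : Subgroup G) → u⁻¹ * v ∈ Z → v * v = u * u := by
    intro u v hu huv
    obtain ⟨z, hz, rfl⟩ : ∃ z ∈ Z, v = u * z := ⟨u⁻¹ * v, huv, by group⟩
    calc u * z * (u * z) = u * (z * u) * z := by group
      _ = u * u * (z * z) := by rw [h.central z hz u hu]; group
      _ = u * u := by rw [mul_self_eq_one h hz, mul_one]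
  refine ⟨α, ?_, ?_, ?_⟩
  · refine MulEquiv.ext fun q => ?_
    obtain ⟨s, rfl⟩ := QuotientGroup.mk_surjective q
    rw [hα, MulAut.one_apply, hmk, hφi]
    by_cases hs : (s : G) ∈ Z
    · rw [ha3 _ hs, inv_mul_cancel]; exact one_mem Z
    have hC : a ^ 3 ∈ centralizer ({(s : G) * s} : Set G) := mem_centralizer_singleton_iff.2
      (mul_inv_eq_iff_eq_mul.1 (ha3 _ (h.sq _ s.2)))
    obtain ⟨t, ht, he⟩ := conj_in_sylow h hI (h.sq _ s.2) (sq_ne_one h s.2 hs) hC s.2
      ((mem_normalizer_iff.1 (pow_mem haN 3) _).1 s.2)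
    rw [he]
    have h' := comm_mem h s.2 ht
    rw [show (t * s * t⁻¹)⁻¹ * (s : G) = (t * s * t⁻¹)⁻¹ * ((t * s * t⁻¹ * (s : G)⁻¹)⁻¹ *
      (t * s * t⁻¹)) by group]
    rw [h.central _ (inv_mem h') _ (mul_mem (mul_mem ht s.2) (inv_mem ht)), inv_mul_cancel_left]
    exact inv_mem h'
  · intro q hq hfix
    obtain ⟨s, rfl⟩ := QuotientGroup.mk_surjective q
    have hs : (s : G) ∉ Z := fun e => hq ((hone s).2 e)
    rw [← pow_one α, hα, hmk, hφi, pow_one] at hfix
    have h2 := hsq _ _ ((mem_normalizer_iff.1 haN _).1 s.2) hfix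
    exact hfpf _ (h.sq _ s.2) (sq_ne_one h s.2 hs)
      ((show a * ((s : G) * s) * a⁻¹ = a * s * a⁻¹ * (a * s * a⁻¹) by group).trans h2.symm)
  · intro s t hs ht
    constructor
    · intro hst
      obtain ⟨g, hg⟩ := isConj_iff.1 hst
      have hz := h.sq _ s.2
      have hw := h.sq _ t.2
      obtain ⟨i, hi⟩ := htrans _ hz (sq_ne_one h s.2 hs) _ hw (sq_ne_one h t.2 ht)
      refine ⟨i, ?_⟩
      rw [hα, hmk]
      set s' := (φ ^ (i : ℕ)) s with hs'
      have hs'v : (s' : G) = a ^ (i : ℕ) * s * (a ^ (i : ℕ))⁻¹ := hφi _ _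
      have hg'v : g * (a ^ (i : ℕ))⁻¹ * (s' : G) * (g * (a ^ (i : ℕ))⁻¹)⁻¹ = t := by
        rw [hs'v, ← hg]; group
      have hs2 : (s' : G) * s' = (t : G) * t := by rw [hs'v, ← hi]; group
      have hgC : g * (a ^ (i : ℕ))⁻¹ ∈ centralizer ({(t : G) * t} : Set G) :=
        mem_centralizer_singleton_iff.2 (mul_inv_eq_iff_eq_mul.1 (by
          conv_lhs => arg 1; arg 2; rw [← hs2]
          rw [← hg'v]
          group))
      obtain ⟨u, hu, he⟩ := conj_in_sylow h hI hw (sq_ne_one h t.2 ht) hgC s'.2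
        (by rw [hg'v]; exact t.2)
      rw [hg'v] at he
      rw [he]
      have h' := comm_mem h (inv_mem s'.2) hu
      rw [inv_inv] at h'
      rw [show (s' : G)⁻¹ * (u * s' * u⁻¹) = (u * (s' : G)⁻¹ * u⁻¹ * s')⁻¹ by group]
      exact inv_mem h'
    · rintro ⟨i, hi⟩
      rw [hα, hmk] at hi
      set s' := (φ ^ (i : ℕ)) s with hs'
      have hs'v : (s' : G) = a ^ (i : ℕ) * s * (a ^ (i : ℕ))⁻¹ := hφi _ _
      have hs'Z : (s' : G) ∉ Z := fun e => ht (by simpa using mul_mem e hi)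
      obtain ⟨u, -, he⟩ := h.conj_full _ s'.2 hs'Z _ hi
      rw [mul_inv_cancel_left] at he
      exact (isConj_iff.2 ⟨_, hs'v.symm⟩).trans (isConj_iff.2 ⟨u, he⟩)

end UFour

end Cfsg.Agent.CIT
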