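import Mathlib
import Cfsg.Agent.Lib.CIT.Socle

/-!
# Outer parts over a simple normal subgroup

The index of a simple normal subgroup with cyclic Sylow 3-subgroups is odd; with some cyclic odd Sylow
subgroup an elementary abelian 2-subgroup meets it in index at most two.
-/

set_option autoImplicit false
set_option linter.all false

namespace Cfsg.Agent.CIT

open Subgroup

universe u

variable {X : Type u} [Group X]

/-- The socle, with the hypothesis on the 2-core spelled out. -/
theorem exists_socle [Finite X] (hX : IsCIT X)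
    (hcore : ∀ N : Subgroup X, N.Normal → IsPGroup 2 N → N = ⊥)
    (hfour : ∃ a b : X, orderOf a = 2 ∧ orderOf b = 2 ∧ a ≠ b ∧ a * b = b * a) :
    ∃ L : Subgroup X, L.Normal ∧ IsSimpleGroup L ∧ ¬ IsMulCommutative L ∧ IsCIT L := by
  obtain ⟨a, b, ha, hb, hne, hab⟩ := hfour
  obtain ⟨L, h1, h2, h3, h4, -⟩ := socle hX
    (hcore _ (TimesPSLTwo.Affine.pCore_two_normal X) (TimesPSLTwo.Affine.pCore_two_isPGroup X))
    ha hb hne hab
  exact ⟨L, h1, h2, h3, h4⟩

/-- In a nonabelian simple group an element of order 3 in a cyclic Sylow 3-subgroup is inverted. -/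
theorem exists_inverts_three {L : Type u} [Group L] [Finite L] [IsSimpleGroup L]
    (hna : ¬ IsMulCommutative L) (P : Sylow 3 L) [IsCyclic P] (h3 : 3 ∣ Nat.card L) {k : L}
    (hkP : k ∈ (P : Subgroup L)) (hk : orderOf k = 3) : ∃ u : L, u * k * u⁻¹ = k⁻¹ := by
  classical
  haveI : Fact (Nat.Prime 3) := ⟨Nat.prime_three⟩
  by_contra hno
  push_neg at hno
  obtain ⟨p₀, hp₀⟩ := IsCyclic.exists_generator (α := (P : Subgroup L))
  have hgen : ∀ x ∈ (P : Subgroup L), ∃ j : ℤ, (p₀ : L) ^ j = x := fun x hx => by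
    obtain ⟨j, hj⟩ := mem_zpowers_iff.1 (hp₀ ⟨x, hx⟩)
    exact ⟨j, by rw [← Subgroup.coe_zpow, hj]⟩
  obtain ⟨a, ha⟩ := IsPGroup.iff_card.1 P.isPGroup'
  have hle : normalizer ((P : Subgroup L) : Set L) ≤ centralizer ((P : Subgroup L) : Set L) := by
    intro u hu
    obtain ⟨m, hm⟩ := hgen _ ((mem_normalizer_iff.1 hu (p₀ : L)).1 p₀.2)
    have hpow : ∀ i : ℕ, u ^ i * (p₀ : L) * (u ^ i)⁻¹ = (p₀ : L) ^ (m ^ i : ℤ) := by
      intro i
      induction i with
      | zero => simp
      | succ i ih =>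
        rw [pow_succ' u, show u * u ^ i * (p₀ : L) * (u * u ^ i)⁻¹ = u * (u ^ i * p₀ * (u ^ i)⁻¹) * u⁻¹ by group,
          ih, ← conj_zpow, ← hm, ← zpow_mul, pow_succ' m]
    obtain ⟨j, hj⟩ := hgen k hkP
    have hkm : u * k * u⁻¹ = k ^ m := by
      rw [← hj, ← conj_zpow, ← hm, ← zpow_mul, ← zpow_mul, mul_comm]
    have h3m : (3 : ℤ) ∣ m - 1 := by
      have h0 : ¬ (3 : ℤ) ∣ m := by
        intro e
        have h1 : k ^ m = 1 := orderOf_dvd_iff_zpow_eq_one.1 (by rw [hk]; exact_mod_cast e)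
        rw [h1] at hkm
        rw [show k = 1 by simpa using hkm, orderOf_one] at hk
        exact absurd hk (by norm_num)
      by_contra h1
      refine hno u ?_
      rw [hkm, ← zpow_neg_one]
      have h2 : (3 : ℤ) ∣ m - (-1) := by omega
      have := (orderOf_dvd_sub_iff_zpow_eq_zpow (x := k) (a := m) (b := -1)).1 (by rw [hk]; exact_mod_cast h2)
      exact this
    have hc1 : u ^ 3 ^ a ∈ centralizer ((P : Subgroup L) : Set L) := by
      have hfix : (p₀ : L) ^ (m ^ 3 ^ a : ℤ) = p₀ := by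
        conv_rhs => rw [← zpow_one (p₀ : L)]
        refine (orderOf_dvd_sub_iff_zpow_eq_zpow).1 ?_
        have h1 := dvd_sub_pow_of_dvd_sub (p := 3) (a := m) (b := 1) (by exact_mod_cast h3m) a
        rw [one_pow] at h1
        refine Int.dvd_trans ?_ h1
        have h2 : orderOf (p₀ : L) ∣ 3 ^ (a + 1) := by
          rw [Subgroup.orderOf_coe]
          exact (orderOf_dvd_natCard p₀).trans (ha ▸ pow_dvd_pow 3 (Nat.le_succ a))
        exact_mod_cast h2
      refine mem_centralizer_iff.2 fun x hx => ?_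
      obtain ⟨i, rfl⟩ := hgen x hx
      have hcomm : Commute (u ^ 3 ^ a) (p₀ : L) := by
        have := hpow (3 ^ a)
        rw [hfix] at this
        exact mul_inv_eq_iff_eq_mul.1 this
      exact ((hcomm.zpow_right i).eq).symm
    obtain ⟨e, q, hq, hord⟩ := Nat.exists_eq_pow_mul_and_not_dvd (orderOf_pos u).ne' 3 (by norm_num)
    have hc2 : u ^ q ∈ centralizer ((P : Subgroup L) : Set L) := by
      have hp : IsPGroup 3 (zpowers (u ^ q)) := by
        refine IsPGroup.of_card_dvd_pow (n := e) ?_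
        rw [Nat.card_zpowers]
        exact orderOf_dvd_of_pow_eq_one (by rw [← pow_mul, mul_comm, ← hord, pow_orderOf_eq_one])
      have hmax := P.is_maximal' (IsPGroup.to_sup_of_normal_right' hp P.isPGroup'
        (zpowers_le.2 (pow_mem hu q))) le_sup_right
      have hmem : u ^ q ∈ (P : Subgroup L) := hmax ▸ mem_sup_left (mem_zpowers _)
      refine mem_centralizer_iff.2 fun x hx => ?_
      obtain ⟨i, rfl⟩ := hgen x hx
      obtain ⟨l, hl⟩ := hgen _ hmem
      rw [← hl]
      exact ((Commute.refl (p₀ : L)).zpow_zpow i l).eq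
    have hco : Nat.Coprime q (3 ^ a) :=
      (((Nat.prime_three.coprime_iff_not_dvd).2 hq).pow_left a).symm
    have hb := Nat.gcd_eq_gcd_ab q (3 ^ a)
    rw [hco] at hb
    have : u = (u ^ q) ^ (Nat.gcdA q (3 ^ a)) * (u ^ 3 ^ a) ^ (Nat.gcdB q (3 ^ a)) := by
      rw [← zpow_natCast u q, ← zpow_natCast u (3 ^ a), ← zpow_mul, ← zpow_mul, ← zpow_add]
      rw [Nat.cast_one] at hb
      rw [← hb, zpow_one]
    rw [this]
    exact mul_mem (zpow_mem hc2 _) (zpow_mem hc1 _)
  have hnd := MonoidHom.not_dvd_card_ker_transferSylow P hle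
  rcases IsSimpleGroup.eq_bot_or_eq_top_of_normal (MonoidHom.transferSylow P hle).ker inferInstance with h0 | h1
  · refine hna ⟨⟨fun x y => (MonoidHom.ker_eq_bot_iff _).1 h0 ?_⟩⟩
    rw [map_mul, map_mul]
    exact IsCyclic.commGroup.mul_comm _ _
  · exact hnd (by rw [h1, Subgroup.card_top]; exact h3)

/-- A simple normal subgroup with cyclic nontrivial Sylow 3-subgroups has odd index. -/
theorem odd_index_of_three [Finite X] (hX : IsCIT X) (L : Subgroup X) [L.Normal] [IsSimpleGroup L]
    (hna : ¬ IsMulCommutative L) (P : Sylow 3 L) [IsCyclic P] (h3 : 3 ∣ Nat.card L) :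
    Odd L.index := by
  classical
  haveI : Fact (Nat.Prime 3) := ⟨Nat.prime_three⟩
  obtain ⟨n, hn, hcard⟩ := P.isPGroup'.nontrivial_iff_card.1
    ((Subgroup.nontrivial_iff_ne_bot _).2 (P.ne_bot_of_dvd_card h3))
  obtain ⟨k₀, hk₀⟩ := exists_prime_orderOf_dvd_card' (G := (P : Subgroup L)) 3
    (hcard ▸ dvd_pow_self 3 hn.ne')
  set k : L := (k₀ : L) with hkdef
  have hk : orderOf k = 3 := by rw [hkdef, Subgroup.orderOf_coe, hk₀]
  obtain ⟨u, hu⟩ := exists_inverts_three hna P h3 k₀.2 hk
  refine index_odd_of_class hX L (k := (k : X)) (fun e => ?_) ?_ fun g => ?_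
  · rw [show k = 1 from Subtype.ext e, orderOf_one] at hk; exact absurd hk (by norm_num)
  · rw [Subgroup.orderOf_coe, hk]; decide
  · set k' : L := (MulAut.conjNormal g : MulAut L) k with hk'
    have hk'3 : orderOf k' = 3 := ((MulAut.conjNormal g : MulAut L).orderOf_eq k).trans hk
    obtain ⟨Q, hQ⟩ := (IsPGroup.of_card (G := zpowers k') (n := 1)
      (by rw [Nat.card_zpowers, hk'3, pow_one])).exists_le_sylow
    obtain ⟨c, hc⟩ := MulAction.exists_smul_eq L P Q
    have hmem : k' ∈ ((c • P : Sylow 3 L) : Subgroup L) := by rw [hc]; exact hQ (mem_zpowers k')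
    rw [Sylow.coe_subgroup_smul, Subgroup.mem_pointwise_smul_iff_inv_smul_mem] at hmem
    set y : L := (MulAut.conj c)⁻¹ • k' with hy
    have hy3 : y ^ 3 = 1 := by
      rw [hy, ← smul_pow', ← hk'3, pow_orderOf_eq_one, smul_one]
    have hy1 : y ≠ 1 := fun e => by
      rw [hy, inv_smul_eq_iff, smul_one] at e
      rw [e, orderOf_one] at hk'3
      exact absurd hk'3 (by norm_num)
    have hcase : y = k ∨ y = k⁻¹ := by
      haveI := Fintype.ofFinite (P : Subgroup L)
      have hle := IsCyclic.card_pow_eq_one_le (α := (P : Subgroup L)) (n := 3) (by norm_num)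
      by_contra hcon
      push_neg at hcon
      have hk3 : k₀ ^ 3 = 1 := by have := pow_orderOf_eq_one k₀; rwa [hk₀] at this
      have hk1 : k₀ ≠ 1 := fun e => by rw [e, orderOf_one] at hk₀; exact absurd hk₀ (by norm_num)
      have hkk : k₀ ≠ k₀⁻¹ := fun e => by
        have : k₀ ^ 2 = 1 := by rw [sq]; nth_rw 1 [e]; exact inv_mul_cancel _
        have h4 := orderOf_dvd_of_pow_eq_one this
        rw [hk₀] at h4; norm_num at h4
      have hsub : ({1, k₀, k₀⁻¹, ⟨y, hmem⟩} : Finset (P : Subgroup L)) ⊆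
          Finset.univ.filter fun a : (P : Subgroup L) => a ^ 3 = 1 := by
        intro x hx
        simp only [Finset.mem_insert, Finset.mem_singleton] at hx
        refine Finset.mem_filter.2 ⟨Finset.mem_univ _, ?_⟩
        rcases hx with rfl | rfl | rfl | rfl
        · exact one_pow _
        · exact hk3
        · rw [inv_pow, hk3, inv_one]
        · exact Subtype.ext hy3
      have h4 : ({1, k₀, k₀⁻¹, ⟨y, hmem⟩} : Finset (P : Subgroup L)).card = 4 := by
        have n1 : (1 : (P : Subgroup L)) ≠ ⟨y, hmem⟩ := fun e => hy1 (congrArg Subtype.val e).symm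
        have n2 : k₀ ≠ ⟨y, hmem⟩ := fun e => hcon.1 (congrArg Subtype.val e).symm
        have n3 : k₀⁻¹ ≠ ⟨y, hmem⟩ := fun e => hcon.2 (congrArg Subtype.val e).symm
        have n4 : (1 : (P : Subgroup L)) ≠ k₀⁻¹ := fun e => hk1 (inv_eq_one.1 e.symm)
        simp [Finset.card_insert_of_notMem, hk1.symm, hkk, n1, n2, n3, n4]
      have := (Finset.card_le_card hsub).trans hle
      omega
    have hk'y : k' = c * y * c⁻¹ := by
      have : (MulAut.conj c) • y = k' := smul_inv_smul _ _
      exact this.symm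
    have hval : ∀ l : L, l * k * l⁻¹ = k' → ∃ l' ∈ L, l' * (k : X) * l'⁻¹ = g * k * g⁻¹ := fun l hl =>
      ⟨l, l.2, by simpa [hk'] using congrArg (fun z : L => (z : X)) hl⟩
    rcases hcase with h | h
    · exact hval c (by rw [hk'y, h])
    · exact hval (c * u) (by rw [hk'y, h, ← hu]; simp only [hkdef]; group)

/-- With a cyclic odd Sylow subgroup in the socle, an elementary abelian 2-subgroup meets the socle
in index at most two. -/
theorem card_elementary_le [Finite X] (hX : IsCIT X) (L : Subgroup X) [L.Normal] {r : ℕ}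
    [Fact r.Prime] (hr : r ≠ 2) (hdvd : r ∣ Nat.card L) (R : Sylow r L) [hRc : IsCyclic R]
    (E : Subgroup X) (hE : ∀ x ∈ E, x * x = 1) :
    Nat.card E ≤ 2 * Nat.card (E ⊓ L : Subgroup X) := by
  classical
  haveI : Fact (Nat.Prime 2) := ⟨Nat.prime_two⟩
  set R' : Subgroup X := (R : Subgroup L).map L.subtype with hR'
  let eR : (R : Subgroup L) ≃* R' := (R : Subgroup L).equivMapOfInjective _ L.subtype_injective
  haveI : IsCyclic R' := isCyclic_of_surjective eR.toMonoidHom eR.surjective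
  obtain ⟨a, ha⟩ := IsPGroup.iff_card.1 R.isPGroup'
  have hcR' : Nat.card R' = r ^ a := by rw [Nat.card_congr eR.toEquiv.symm, ha]
  haveI : IsCyclic (MulAut R') := by
    haveI : IsCyclic (ZMod (Nat.card R'))ˣ := by
      rw [hcR']; exact ZMod.isCyclic_units_of_prime_pow r Fact.out hr a
    exact isCyclic_of_surjective (IsCyclic.mulAutMulEquiv R').symm.toMonoidHom
      (IsCyclic.mulAutMulEquiv R').symm.surjective
  set N : Subgroup X := normalizer (R' : Set X) with hN
  let π : N →* X ⧸ L := (QuotientGroup.mk' L).comp N.subtype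
  have hπ : Function.Surjective π := by
    intro q
    obtain ⟨x, rfl⟩ := QuotientGroup.mk'_surjective L q
    have hx : x ∈ N ⊔ L := (Sylow.normalizer_sup_eq_top R : N ⊔ L = ⊤) ▸ mem_top x
    obtain ⟨n, hn, l, hl, rfl⟩ := Subgroup.mem_sup_of_normal_right.1 hx
    refine ⟨⟨n, hn⟩, ?_⟩
    show QuotientGroup.mk' L n = QuotientGroup.mk' L (n * l)
    rw [map_mul, show QuotientGroup.mk' L l = 1 from (QuotientGroup.eq_one_iff l).2 hl, mul_one]
  obtain ⟨S⟩ : Nonempty (Sylow 2 N) := inferInstance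
  let ψ : (S : Subgroup N) →* MulAut R' :=
    (Subgroup.normalizerMonoidHom R').comp (S : Subgroup N).subtype
  have hψ : Function.Injective ψ := by
    rw [← MonoidHom.ker_eq_bot_iff, eq_bot_iff_forall]
    intro s hs
    by_contra hs1
    have hker : ((s : N)) ∈ (Subgroup.normalizerMonoidHom R').ker := hs
    rw [Subgroup.normalizerMonoidHom_ker, mem_subgroupOf] at hker
    obtain ⟨i, hi⟩ := IsPGroup.iff_orderOf.1 S.isPGroup' s
    have hs2 : 2 ∣ orderOf (((s : N) : X)) := by
      rw [Subgroup.orderOf_coe, Subgroup.orderOf_coe, hi]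
      refine dvd_pow_self 2 fun e => hs1 ?_
      rw [e, pow_zero, orderOf_eq_one_iff] at hi
      exact hi
    have ht := orderOf_pow_orderOf_div (orderOf_pos ((s : N) : X)).ne' hs2
    obtain ⟨y, hy⟩ := exists_prime_orderOf_dvd_card' (G := R') r (by
      rw [hcR']
      refine dvd_pow_self r fun e => ?_
      rw [e, pow_zero] at ha
      exact R.ne_bot_of_dvd_card hdvd (Subgroup.card_eq_one.1 ha))
    have hyo : Odd (orderOf (y : X)) := by
      rw [Subgroup.orderOf_coe, hy]; exact (Fact.out : r.Prime).odd_of_ne_two hr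
    have hcom : Commute ((s : N) : X) (y : X) := (mem_centralizer_iff.1 hker (y : X) y.2).symm
    have := hX.eq_one_of_commute ht hyo (hcom.pow_left _)
    rw [← Subgroup.orderOf_coe, this, orderOf_one] at hy
    exact (Fact.out : r.Prime).one_lt.ne hy
  haveI : IsCyclic (S : Subgroup N) := isCyclic_of_injective ψ hψ
  let T : Sylow 2 (X ⧸ L) := S.mapSurjective hπ
  haveI hTc : IsCyclic T := isCyclic_of_surjective (π.subgroupMap (S : Subgroup N))
    (π.subgroupMap_surjective (S : Subgroup N))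
  set Eb : Subgroup (X ⧸ L) := E.map (QuotientGroup.mk' L) with hEb
  have hEb2 : IsPGroup 2 Eb := by
    intro x
    obtain ⟨y, hy, hyx⟩ := x.2
    refine ⟨1, Subtype.ext ?_⟩
    rw [Subgroup.coe_pow, pow_one, ← hyx, ← map_pow, sq, hE y hy, map_one]
    rfl
  obtain ⟨Q, hQ⟩ := hEb2.exists_le_sylow
  haveI : IsCyclic Q := isCyclic_of_surjective (Sylow.equiv T Q).toMonoidHom (Sylow.equiv T Q).surjective
  haveI : IsCyclic Eb := isCyclic_of_injective (Subgroup.inclusion hQ) (Subgroup.inclusion_injective hQ)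
  have hEbc : Nat.card Eb ≤ 2 := by
    obtain ⟨x, hx⟩ := IsCyclic.exists_ofOrder_eq_natCard (α := Eb)
    rw [← hx]
    obtain ⟨y, hy, hyx⟩ := x.2
    refine Nat.le_of_dvd two_pos (orderOf_dvd_of_pow_eq_one (Subtype.ext ?_))
    rw [Subgroup.coe_pow, ← hyx, ← map_pow, sq, hE y hy, map_one]
    rfl
  let θ : E →* X ⧸ L := (QuotientGroup.mk' L).comp E.subtype
  have hrange : θ.range = Eb := by
    rw [MonoidHom.range_comp, Subgroup.range_subtype]
  have hkercard : Nat.card θ.ker = Nat.card (E ⊓ L : Subgroup X) := by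
    refine Nat.card_congr ⟨fun x => ⟨((x : E) : X), (x : E).2, (QuotientGroup.eq_one_iff _).1 x.2⟩,
      fun x => ⟨⟨(x : X), x.2.1⟩, (QuotientGroup.eq_one_iff _).2 x.2.2⟩, fun x => rfl, fun x => rfl⟩
  have := θ.ker.card_mul_index
  rw [Subgroup.index_ker, hrange, hkercard] at this
  rw [← this, mul_comm]
  exact Nat.mul_le_mul_right _ hEbc

end Cfsg.Agent.CIT
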