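import Cfsg.Agent.Lib.Suzuki.Group

/-!
# Equivariant biadditive products on the natural module of a Suzuki group vanish

A biadditive map is a sum of components, semilinear for two Frobenius powers.  Equal powers give a
torus-fixed value on two opposite points; different powers factor through an irreducible module of
dimension sixteen, which is taken as a hypothesis.
-/

set_option autoImplicit false
set_option linter.unusedSectionVars false

namespace Cfsg.Agent.CIT.SuzukiBilinear

open Matrix hiding vec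
open Finset Cfsg.Agent.Suzuki

variable {F : Type*} [Field F] [Fintype F] [CharP F 2] {n m : ℕ}

/-- The matrix of an element of the group. -/
abbrev mat (g : Cfsg.Sz F m) : Matrix (Fin 4) (Fin 4) F := (g : SpecialLinearGroup (Fin 4) F).1

/-- The twisted tensor products of two copies of the natural module are irreducible. -/
def PairIrreducible (F : Type*) [Field F] [Fintype F] (m : ℕ) : Prop :=
  ∀ i < 2 * m + 1, ∀ j < 2 * m + 1, i ≠ j → ∀ W : Submodule F (Matrix (Fin 4) (Fin 4) F),
    (∀ g : Cfsg.Sz F m, ∀ X ∈ W,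
      (mat g).map (· ^ 2 ^ i) * X * ((mat g).map (· ^ 2 ^ j))ᵀ ∈ W) → W = ⊥ ∨ W = ⊤

/-- The absolute trace. -/
def trace₂ (n : ℕ) (x : F) : F := ∑ i ∈ range n, x ^ 2 ^ i

theorem trace₂_cases (hq : Fintype.card F = 2 ^ n) (x : F) : trace₂ n x = 0 ∨ trace₂ n x = 1 := by
  have h : trace₂ n x ^ 2 = trace₂ n x := by
    have h1 := congrArg (· - x) (sum_range_succ' (fun i => x ^ 2 ^ i) n)
    simp only [sum_range_succ, pow_zero, pow_one, add_sub_cancel_right] at h1
    rw [← hq, FiniteField.pow_card, add_sub_cancel_right] at h1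
    unfold trace₂
    rw [CharTwo.sum_sq]
    conv_rhs => rw [h1]
    exact sum_congr rfl fun i _ => by rw [pow_succ 2 i, pow_mul]
  have h2 : trace₂ n x * (trace₂ n x - 1) = 0 := by linear_combination h
  exact (mul_eq_zero.1 h2).imp id sub_eq_zero.1

theorem sum_units_mul [DecidableEq F] (hn : 0 < n) (hq : Fintype.card F = 2 ^ n) (t : F) :
    ∑ a : Fˣ, trace₂ n (t * (a : F)⁻¹) * (a : F) = t := by
  simp only [trace₂, sum_mul]
  rw [sum_comm]
  have key : ∀ i ∈ range n, ∑ a : Fˣ, (t * (a : F)⁻¹) ^ 2 ^ i * (a : F) =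
      t ^ 2 ^ i * if i = 0 then 1 else 0 := by
    intro i hi
    rw [← Equiv.sum_comp (Equiv.inv Fˣ)]
    have h1 : ∀ a : Fˣ, (t * (((Equiv.inv Fˣ) a : Fˣ) : F)⁻¹) ^ 2 ^ i * (((Equiv.inv Fˣ) a : Fˣ) : F) =
        t ^ 2 ^ i * ((a ^ (2 ^ i - 1) : Fˣ) : F) := by
      intro a
      have h2 : (a : F) ^ 2 ^ i = (a : F) ^ (2 ^ i - 1) * (a : F) := by
        rw [← pow_succ, Nat.sub_add_cancel Nat.one_le_two_pow]
      have ha := a.ne_zero
      simp only [Equiv.inv_apply, Units.val_inv_eq_inv_val, Units.val_pow_eq_pow_val, inv_inv, mul_pow, h2]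
      field_simp
    rw [sum_congr rfl fun a _ => h1 a, ← mul_sum]
    simp only [Units.val_pow_eq_pow_val]
    rw [FiniteField.sum_pow_units]
    congr 1
    by_cases h0 : i = 0
    · subst h0
      simp [CharTwo.neg_eq]
    · rw [if_neg h0, if_neg]
      intro hd
      rw [hq] at hd
      have h3 : 2 ^ i < 2 ^ n := Nat.pow_lt_pow_right (by norm_num) (mem_range.1 hi)
      have h4 : 2 ≤ 2 ^ i := le_self_pow₀ (by norm_num) h0
      have := Nat.le_of_dvd (by omega) hd
      omega
  rw [sum_congr rfl key, sum_eq_single 0]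
  · simp
  · intro i _ h0; simp [h0]
  · intro h; exact absurd (mem_range.2 hn) h

/-- An additive map is the sum of its semilinear components. -/
theorem apply_eq_sum {M : Type*} [AddCommGroup M] [Module F M] [DecidableEq F] (hn : 0 < n)
    (hq : Fintype.card F = 2 ^ n) (L : F →+ M) (t : F) :
    L t = ∑ i ∈ range n, t ^ 2 ^ i • ∑ a : Fˣ, ((a : F)⁻¹) ^ 2 ^ i • L (a : F) := by
  conv_lhs => rw [← sum_units_mul hn hq t, map_sum]
  simp only [smul_sum]
  rw [sum_comm]
  refine sum_congr rfl fun a _ => ?_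
  have h : L (trace₂ n (t * (a : F)⁻¹) * (a : F)) = trace₂ n (t * (a : F)⁻¹) • L (a : F) := by
    rcases trace₂_cases hq (t * (a : F)⁻¹) with h | h <;> simp [h]
  rw [h, trace₂, sum_smul]
  exact sum_congr rfl fun i _ => by rw [smul_smul, mul_pow]

variable (B : (Fin 4 → F) →+ (Fin 4 → F) →+ (Fin 4 → F))

/-- The component of `B` which is semilinear for the powers `2 ^ i` and `2 ^ j`. -/
def comp [DecidableEq F] (i j : ℕ) : (Fin 4 → F) →+ (Fin 4 → F) →+ (Fin 4 → F) :=
  AddMonoidHom.mk' (fun u => AddMonoidHom.mk'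
    (fun v => ∑ a : Fˣ, ∑ b : Fˣ, (((a : F)⁻¹) ^ 2 ^ i * ((b : F)⁻¹) ^ 2 ^ j) • B ((a : F) • u) ((b : F) • v))
    fun v w => by simp [smul_add, sum_add_distrib])
    fun u w => AddMonoidHom.ext fun v => by simp [smul_add, sum_add_distrib]

theorem comp_apply [DecidableEq F] (i j : ℕ) (u v : Fin 4 → F) :
    comp B i j u v =
      ∑ a : Fˣ, ∑ b : Fˣ, (((a : F)⁻¹) ^ 2 ^ i * ((b : F)⁻¹) ^ 2 ^ j) • B ((a : F) • u) ((b : F) • v) := rfl

theorem eq_sum_comp [DecidableEq F] (hn : 0 < n) (hq : Fintype.card F = 2 ^ n) (u v : Fin 4 → F) :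
    B u v = ∑ i ∈ range n, ∑ j ∈ range n, comp B i j u v := by
  have h1 := apply_eq_sum hn hq (AddMonoidHom.mk' (fun s : F => B (s • u) v)
    fun s t => by simp [add_smul]) 1
  simp only [AddMonoidHom.mk'_apply, one_smul, one_pow] at h1
  have h2 : ∀ a : Fˣ, B ((a : F) • u) v =
      ∑ j ∈ range n, ∑ b : Fˣ, ((b : F)⁻¹) ^ 2 ^ j • B ((a : F) • u) ((b : F) • v) := by
    intro a
    have h := apply_eq_sum hn hq (AddMonoidHom.mk' (fun s : F => B ((a : F) • u) (s • v))
      fun s t => by simp [add_smul]) 1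
    simpa using h
  rw [h1]
  refine sum_congr rfl fun i _ => ?_
  simp only [h2, comp_apply, smul_sum, smul_smul]
  rw [sum_comm]

theorem comp_smul_left [DecidableEq F] (i j : ℕ) (c : F) (u v : Fin 4 → F) :
    comp B i j (c • u) v = c ^ 2 ^ i • comp B i j u v := by
  by_cases hc : c = 0
  · simp [hc, zero_pow]
  simp only [comp_apply, smul_sum]
  rw [← Equiv.sum_comp (Equiv.mulRight (Units.mk0 c hc)⁻¹)]
  refine sum_congr rfl fun a _ => sum_congr rfl fun b _ => ?_
  rw [smul_smul, smul_smul]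
  congr 1
  · simp only [Equiv.coe_mulRight, Units.val_mul, Units.val_inv_eq_inv_val, Units.val_mk0, mul_inv,
      inv_inv, mul_pow]
    ring
  · simp [hc, mul_assoc]

theorem comp_smul_right [DecidableEq F] (i j : ℕ) (c : F) (u v : Fin 4 → F) :
    comp B i j u (c • v) = c ^ 2 ^ j • comp B i j u v := by
  by_cases hc : c = 0
  · simp [hc, zero_pow]
  simp only [comp_apply, smul_sum]
  refine sum_congr rfl fun a _ => ?_
  rw [← Equiv.sum_comp (Equiv.mulRight (Units.mk0 c hc)⁻¹)]
  refine sum_congr rfl fun b _ => ?_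
  rw [smul_smul, smul_smul]
  congr 1
  · simp only [Equiv.coe_mulRight, Units.val_mul, Units.val_inv_eq_inv_val, Units.val_mk0, mul_inv,
      inv_inv, mul_pow]
    ring
  · simp [hc, mul_assoc]

theorem eq_sum_single (v : Fin 4 → F) : v = ∑ k, v k • Pi.single k (1 : F) :=
  pi_eq_sum_univ' v

variable (hF : Fintype.card F = 2 ^ (2 * m + 1))
variable (hB : ∀ (g : Cfsg.Sz F m) (u v : Fin 4 → F), B (mat g *ᵥ u) (mat g *ᵥ v) = mat g *ᵥ B u v)
include hB

theorem comp_equivariant [DecidableEq F] (i j : ℕ) (g : Cfsg.Sz F m) (u v : Fin 4 → F) :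
    comp B i j (mat g *ᵥ u) (mat g *ᵥ v) = mat g *ᵥ comp B i j u v := by
  simp only [comp_apply, Matrix.mulVec_sum, ← Matrix.mulVec_smul, hB]

omit hB in
/-- The affine points of the ovoid span. -/
theorem ext_vec {L : (Fin 4 → F) →+ (Fin 4 → F)} {σ : F → F} (hσ : ∀ c v, L (c • v) = σ c • L v)
    (hm : 1 ≤ m) (hF : Fintype.card F = 2 ^ (2 * m + 1)) (h : ∀ a b, L (vec m a b) = 0) : L = 0 := by
  classical
  have e3 : L (Pi.single 3 1) = 0 := by
    rw [← h 0 0]; congr 1; funext k; fin_cases k <;> simp [vec, ovf_zero]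
  have hb : ∀ b : F, σ (theta F m b) • L (Pi.single 0 1) + σ b • L (Pi.single 1 1) = 0 := by
    intro b
    have h1 := h 0 b
    rw [show vec m (0 : F) b = theta F m b • Pi.single 0 1 + b • Pi.single 1 1 + Pi.single 3 1 by
      funext k; fin_cases k <;> simp [vec, ovf_eq], map_add, map_add, hσ, hσ, e3, add_zero] at h1
    exact h1
  obtain ⟨c, hc0, hc1⟩ : ∃ c : F, c ≠ 0 ∧ c ≠ 1 := by
    by_contra! hh
    have : (univ : Finset F) ⊆ {0, 1} := fun x _ => by
      by_cases hx : x = 0
      · simp [hx]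
      · simp [hh x hx]
    have h2 := card_le_card this
    have h3 : ({0, 1} : Finset F).card ≤ 2 := card_le_two
    have h8 : 2 ^ 3 ≤ 2 ^ (2 * m + 1) := Nat.pow_le_pow_right (by norm_num) (by omega)
    rw [card_univ, hF] at h2
    omega
  have hct : theta F m c ≠ c := fun hh => (eq_zero_or_one_of_theta hF hh).elim hc0 hc1
  have h01 : L (theta F m c • Pi.single 0 1 + c • Pi.single 1 1) = 0 := by
    rw [map_add, hσ, hσ]; exact hb c
  have h11 : L (Pi.single 0 1 + Pi.single 1 1) = 0 := by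
    have := h 0 1
    rw [show vec m (0 : F) 1 = (Pi.single 0 1 + Pi.single 1 1) + Pi.single 3 1 by
      funext k; fin_cases k <;> simp [vec, ovf_eq], map_add, e3, add_zero] at this
    exact this
  have h2 : (2 : F) = 0 := CharTwo.two_eq_zero
  have e0 : L (Pi.single 0 1) = 0 := by
    have hsum : (theta F m c + c)⁻¹ • ((theta F m c • Pi.single 0 1 + c • Pi.single 1 1) +
        c • (Pi.single 0 1 + Pi.single 1 1)) = (Pi.single 0 1 : Fin 4 → F) := by
      have hne : theta F m c + c ≠ 0 := fun hh => hct (CharTwo.add_eq_zero.1 hh)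
      funext k
      fin_cases k <;> simp [hne, CharTwo.add_self_eq_zero]
    rw [← hsum, hσ, map_add, h01, hσ, h11, smul_zero, add_zero, smul_zero]
  have e1 : L (Pi.single 1 1) = 0 := by rwa [map_add, e0, zero_add] at h11
  have e2 : L (Pi.single 2 1) = 0 := by
    have := h 1 0
    rw [show vec m (1 : F) 0 = Pi.single 0 1 + Pi.single 2 1 + Pi.single 3 1 by
      funext k; fin_cases k <;> simp [vec, ovf_eq], map_add, map_add, e0, e3, zero_add, add_zero] at this
    exact this
  refine AddMonoidHom.ext fun v => ?_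
  rw [eq_sum_single v, map_sum, AddMonoidHom.zero_apply]
  refine sum_eq_zero fun k _ => ?_
  rw [hσ]
  fin_cases k <;> simp_all

include hF

theorem comp_eq_zero_of_eq [DecidableEq F] (hm : 1 ≤ m) (i : ℕ) : comp B i i = 0 := by
  set C := comp B i i with hC
  let p0 : Fin 4 → F := ![1, 0, 0, 0]
  have hC0 : C p0 (vec m 0 0) = 0 := by
    obtain ⟨s, hs⟩ := exists_unit_ne_one hm hF
    have h := comp_equivariant B hB i i (tor hF s) p0 (vec m 0 0)
    have hp : mat (tor hF s) *ᵥ p0 = ((s : F) ^ 2 ^ (m + 1) * s) • p0 := torus_mulVec_inf s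
    have hv : mat (tor hF s) *ᵥ vec m 0 0 = ((s : F) ^ 2 ^ (m + 1) * s)⁻¹ • vec m 0 0 := by
      show torusMat m s *ᵥ vec m 0 0 = _
      rw [torus_mulVec_vec hF, mul_zero, mul_zero]
    have hne : (s : F) ^ 2 ^ (m + 1) * s ≠ 0 := by simp
    rw [hp, hv, comp_smul_left, comp_smul_right, smul_smul, ← mul_pow, mul_inv_cancel₀ hne, one_pow,
      one_smul, ← hC] at h
    have h1 : (s : F) ≠ 1 := fun e => hs (Units.ext e)
    have hw : (s : F) ^ 2 ^ (m + 1) * s ≠ 1 := fun e => h1 (eq_one_of_theta_mul hF (by rw [theta_def]; exact e))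
    funext k
    have hk := congrFun h k
    change C p0 (vec m 0 0) k = (torusMat m s *ᵥ C p0 (vec m 0 0)) k at hk
    rw [torusMat, Matrix.mulVec_diagonal] at hk
    set d := C p0 (vec m 0 0) k with hd
    clear_value d
    clear hd
    have hfix : ∀ x : F, x ≠ 1 → d = x * d → d = 0 := by
      intro x hx hd
      have : (x - 1) * d = 0 := by linear_combination -hd
      exact (mul_eq_zero.1 this).resolve_left (sub_ne_zero.2 hx)
    fin_cases k
    · exact hfix _ hw hk
    · exact hfix _ h1 hk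
    · exact hfix _ (fun e => h1 (inv_eq_one.1 e)) hk
    · exact hfix _ (fun e => hw (inv_eq_one.1 e)) hk
  have hinf : ∀ a b, mat (tr hF a b) *ᵥ p0 = p0 := fun a b => trans_mulVec_inf a b
  have hvec : ∀ a b, mat (tr hF a b) *ᵥ vec m 0 0 = vec m a b := fun a b => by
    show transMat m a b *ᵥ vec m 0 0 = _
    rw [trans_mulVec_vec hF]
    simp
  have hp : C p0 = 0 := ext_vec (σ := (· ^ 2 ^ i)) (comp_smul_right B i i · p0 ·) hm hF fun a b => by
    have h := comp_equivariant B hB i i (tr hF a b) p0 (vec m 0 0)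
    rwa [hinf, hvec, ← hC, hC0, Matrix.mulVec_zero] at h
  have hg : ∀ (g : Cfsg.Sz F m) (v : Fin 4 → F), C (mat g *ᵥ p0) v = 0 := by
    intro g v
    have h := comp_equivariant B hB i i g p0 (mat g⁻¹ *ᵥ v)
    rw [Matrix.mulVec_mulVec, show mat g * mat g⁻¹ = 1 from
      congrArg (fun x : Cfsg.Sz F m => mat x) (mul_inv_cancel g), Matrix.one_mulVec, ← hC, hp,
      AddMonoidHom.zero_apply, Matrix.mulVec_zero] at h
    exact h
  refine AddMonoidHom.ext fun u => AddMonoidHom.ext fun v => ?_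
  have : C.flip v = 0 := ext_vec (σ := (· ^ 2 ^ i)) (fun c w => comp_smul_left B i i c w v) hm hF fun a b => by
    have hsw : mat (tr hF a b * sw hF) *ᵥ p0 = vec m a b := by
      show (transMat m a b * swapMat) *ᵥ p0 = _
      rw [← Matrix.mulVec_mulVec, Suzuki.swap_mulVec]
      exact (congrArg _ (by funext k; fin_cases k <;> simp [p0, vec, ovf_zero])).trans (hvec a b)
    rw [AddMonoidHom.flip_apply, ← hsw]
    exact hg _ v
  exact (DFunLike.congr_fun this u :)

theorem comp_eq_zero_of_ne [DecidableEq F] (hirr : PairIrreducible F m) {i j : ℕ}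
    (hi : i < 2 * m + 1) (hj : j < 2 * m + 1) (hij : i ≠ j) : comp B i j = 0 := by
  set C := comp B i j with hC
  let c : Fin 4 → Fin 4 → Fin 4 → F := fun k l => C (Pi.single k 1) (Pi.single l 1)
  let Φ : Matrix (Fin 4) (Fin 4) F →ₗ[F] Fin 4 → F :=
    { toFun := fun X => ∑ k, ∑ l, X k l • c k l
      map_add' := fun X Y => by simp [add_smul, sum_add_distrib]
      map_smul' := fun r X => by simp [smul_sum, smul_smul] }
  have hC2 : ∀ u v : Fin 4 → F, C u v = ∑ k, ∑ l, (u k ^ 2 ^ i * v l ^ 2 ^ j) • c k l := by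
    intro u v
    conv_lhs => rw [eq_sum_single u, eq_sum_single v]
    rw [map_sum C, AddMonoidHom.finsetSum_apply]
    refine sum_congr rfl fun k _ => ?_
    rw [map_sum]
    refine sum_congr rfl fun l _ => ?_
    rw [hC, comp_smul_left, comp_smul_right, smul_smul]
  have heq : ∀ (g : Cfsg.Sz F m) X,
      Φ ((mat g).map (· ^ 2 ^ i) * X * ((mat g).map (· ^ 2 ^ j))ᵀ) = mat g *ᵥ Φ X := by
    intro g X
    have hR : mat g *ᵥ Φ X = ∑ p, ∑ q, X p q • C (mat g *ᵥ Pi.single p 1) (mat g *ᵥ Pi.single q 1) := by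
      simp only [hC, comp_equivariant B hB]
      simp [Φ, c, Matrix.mulVec_sum, Matrix.mulVec_smul, ← hC]
    rw [hR]
    simp only [hC2, Matrix.mulVec_single_one, Matrix.col_apply, Φ, LinearMap.coe_mk, AddHom.coe_mk,
      Matrix.mul_apply, Matrix.transpose_apply, Matrix.map_apply, sum_mul, sum_smul, smul_sum, smul_smul]
    rw [sum_congr rfl fun k _ => sum_comm]
    rw [sum_comm]
    rw [sum_congr rfl fun q _ => sum_congr rfl fun k _ => sum_comm]
    rw [sum_congr rfl fun q _ => sum_comm]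
    rw [sum_comm]
    refine sum_congr rfl fun p _ => sum_congr rfl fun q _ => sum_congr rfl fun k _ => sum_congr rfl fun l _ => ?_
    congr 1
    ring
  rcases hirr i hi j hj hij (LinearMap.ker Φ) (fun g X hX => by
    rw [LinearMap.mem_ker] at hX ⊢
    rw [heq, hX, Matrix.mulVec_zero]) with h | h
  · have h1 := LinearMap.finrank_le_finrank_of_injective (LinearMap.ker_eq_bot.1 h)
    rw [Module.finrank_matrix, Module.finrank_pi] at h1
    simp at h1
  · have hc : ∀ k l, c k l = 0 := by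
      intro k l
      have h1 : Matrix.single k l (1 : F) ∈ LinearMap.ker Φ := h ▸ Submodule.mem_top
      simpa [Φ, Matrix.single_apply, ite_smul, ite_and] using h1
    refine AddMonoidHom.ext fun u => AddMonoidHom.ext fun v => ?_
    rw [hC2]
    simp [hc]

/-- Equivariant biadditive maps `N × N → N` vanish. -/
theorem eq_zero (hm : 1 ≤ m) (hirr : PairIrreducible F m) : B = 0 := by
  classical
  refine AddMonoidHom.ext fun u => AddMonoidHom.ext fun v => ?_
  rw [eq_sum_comp B (n := 2 * m + 1) (by omega) hF u v]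
  refine sum_eq_zero fun i hi => sum_eq_zero fun j hj => ?_
  rw [mem_range] at hi hj
  rcases eq_or_ne i j with rfl | hij
  · rw [comp_eq_zero_of_eq B hF hB hm i]; rfl
  · rw [comp_eq_zero_of_ne B hF hB hirr hi hj hij]; rfl

end Cfsg.Agent.CIT.SuzukiBilinear
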