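import Cfsg.Agent.Lib.CIT.SuzukiHecke
import Cfsg.Agent.Lib.Suzuki.Sylow
import Cfsg.Agent.Lib.Suzuki.Aut

/-!
# The rank-one data of a Suzuki group
-/

set_option autoImplicit false
set_option linter.unusedSectionVars false

namespace Cfsg.Agent.CIT.Hecke

open MulAction

variable {F : Type*} [Field F] [Fintype F] [CharP F 2] {m : ℕ}
variable (hm : 1 ≤ m) (hF : Fintype.card F = 2 ^ (2 * m + 1))

/-- The torus as a homomorphism. -/
noncomputable def torHom : Fˣ →* Cfsg.Sz F m where
  toFun := Suzuki.tor hF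
  map_one' := Suzuki.tor_one hF
  map_mul' := Suzuki.tor_mul hF

theorem mem_torHom {g : Cfsg.Sz F m} : g ∈ (torHom (m := m) hF).range ↔ ∃ s, Suzuki.tor hF s = g :=
  Iff.rfl

include hm in
/-- The data over the field of definition. -/
theorem suzuki_data :
    Data F (Suzuki.U (m := m) hF) (stabilizer (Cfsg.Sz F m) (Suzuki.infty (F := F) m)) (Suzuki.sw hF)
      (torHom (m := m) hF).range where
  setup :=
    { le := by
        rintro _ ⟨a, b, rfl⟩
        exact Suzuki.tr_smul_infty hF a b
      sw_notMem := fun h => Suzuki.point_ne_infty (F := F) (m := m) 0 0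
        ((Suzuki.sw_smul_infty hF).symm.trans (mem_stabilizer_iff.1 h))
      bruhat := by
        intro g hg
        rcases Suzuki.bruhat hm hF g with ⟨a, b, s, rfl⟩ | ⟨a, b, c, d, s, rfl⟩
        · exact absurd (mem_stabilizer_iff.2 (by
            rw [mul_smul, Suzuki.tor_smul_infty, Suzuki.tr_smul_infty])) hg
        · exact ⟨_, ⟨a, b, rfl⟩, _, mem_stabilizer_iff.2 (by
            rw [mul_smul, Suzuki.tor_smul_infty, Suzuki.tr_smul_infty]), rfl⟩
      free := by
        rintro _ ⟨a, b, rfl⟩ h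
        rw [mem_stabilizer_iff, mul_smul, mul_smul, Suzuki.sw_smul_infty, Suzuki.tr_smul_zero,
          inv_smul_eq_iff, Suzuki.sw_smul_infty] at h
        obtain ⟨rfl, rfl⟩ := Suzuki.point_injective h
        exact Suzuki.tr_zero hF }
  torus :=
    { cyclic := isCyclic_of_surjective (torHom (m := m) hF).rangeRestrict
        (MonoidHom.rangeRestrict_surjective _)
      le := by
        rintro _ ⟨s, rfl⟩
        exact Suzuki.tor_smul_infty hF s
      factor := by
        intro g hg
        obtain ⟨a, b, s, rfl⟩ := Suzuki.exists_tr_to hm hF (mem_stabilizer_iff.1 hg)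
        exact ⟨_, ⟨a, b, rfl⟩, _, ⟨s, rfl⟩, rfl⟩
      normal := by
        rintro _ ⟨s, rfl⟩ _ ⟨a, b, rfl⟩
        exact ⟨_, _, Suzuki.conj_tr hF s a b⟩
      inv := by
        rintro _ ⟨s, rfl⟩
        show Suzuki.sw hF * Suzuki.tor hF s = (Suzuki.tor hF s)⁻¹ * Suzuki.sw hF
        rw [Suzuki.tor_inv, ← Suzuki.tor_swap' hF, mul_assoc _ (Suzuki.sw hF) (Suzuki.sw hF),
          Suzuki.sw_mul_self, mul_one]
      sq := Suzuki.sw_mul_self hF }
  two := CharTwo.two_eq_zero
  pgroup := IsPGroup.of_card (n := (2 * m + 1) * 2) (by rw [Suzuki.card_U hF, hF, ← pow_mul])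
  ne := fun h => by
    have h1 := Suzuki.card_U (m := m) hF
    rw [h, Subgroup.card_bot] at h1
    have := Fintype.one_lt_card (α := F)
    nlinarith
  dvd := by
    rintro _ ⟨s, rfl⟩
    classical
    rw [← map_pow, ← Fintype.card_units, pow_card_eq_one, map_one]

end Cfsg.Agent.CIT.Hecke
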