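import Cfsg.Agent.Lib.CIT.SuzukiNatural

/-!
# From the field of definition down to two elements

An irreducible elementary abelian 2-group on which the elements of odd order act without fixed
points is a copy of the natural module, once this holds for modules over the field.
-/

set_option autoImplicit false
set_option linter.unusedSectionVars false
set_option linter.style.haveILetI false
set_option maxHeartbeats 800000

namespace Cfsg.Agent.CIT.SuzukiDescent

open Matrix SuzukiTensor TensorProduct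

universe u

variable {F : Type} [Field F] [Fintype F] [CharP F 2] {m : ℕ}

local notation "H" => Cfsg.Sz F m

/-- Irreducible fixed-point-free modules over `F` are twists of the natural module. -/
def NaturalOver (F : Type) [Field F] [Fintype F] [CharP F 2] (m : ℕ) : Prop :=
  ∀ (M : Type u) [AddCommGroup M] [Module F M] [Finite M] [Nontrivial M]
    (ρ : Representation F (Cfsg.Sz F m) M), Hecke.Irreducible ρ →
    (∀ g : Cfsg.Sz F m, Odd (orderOf g) → g ≠ 1 → ∀ v : M, ρ g v = v → v = 0) →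
    ∃ i < 2 * m + 1, ∃ L : M ≃ₗ[F] (Fin 4 → F), ∀ g v, L (ρ g v) = (mat g).map (frob i) *ᵥ L v

theorem naturalOver (hm : 1 ≤ m) (hF : Fintype.card F = 2 ^ (2 * m + 1)) : NaturalOver.{u} F m :=
  fun _ _ _ _ _ ρ hirr hfpf => natural_of_fpf hm hF ρ hirr hfpf

theorem frob_mulVec (i : ℕ) (M : Matrix (Fin 4) (Fin 4) F) (v : Fin 4 → F) :
    M.map (frob i) *ᵥ (frob i ∘ v) = frob i ∘ (M *ᵥ v) := by
  funext j
  simp [Matrix.mulVec, dotProduct, map_sum]

/-- Entrywise application of a twist. -/
noncomputable def twistEquiv (i : ℕ) : (Fin 4 → F) ≃+ (Fin 4 → F) :=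
  AddEquiv.piCongrRight fun _ =>
    (RingEquiv.ofBijective (frob (F := F) i)
      (Finite.injective_iff_bijective.1 (RingHom.injective _))).toAddEquiv

theorem twistEquiv_apply (i : ℕ) (v : Fin 4 → F) : twistEquiv i v = frob i ∘ v := rfl

theorem wt_surjective (hF : Fintype.card F = 2 ^ (2 * m + 1)) (c : Fˣ) :
    ∃ s : Fˣ, wt m s = (c : F) := by
  have hinj : Function.Injective (powMonoidHom (2 ^ (m + 1) + 1) : Fˣ →* Fˣ) := by
    rw [injective_iff_map_eq_one]
    intro u hu
    have h1 : orderOf u ∣ 2 ^ (m + 1) + 1 := orderOf_dvd_of_pow_eq_one hu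
    have h2 : orderOf u ∣ 2 ^ (2 * m + 1) - 1 := by
      classical
      have h := orderOf_dvd_card (x := u)
      rwa [Fintype.card_units, hF] at h
    have h3 : orderOf u ∣ 2 * 2 ^ (2 * m + 1) - 1 := by
      refine dvd_trans h1 ⟨2 ^ (m + 1) - 1, ?_⟩
      have : 1 ≤ 2 ^ (m + 1) := Nat.one_le_two_pow
      rw [show 2 * 2 ^ (2 * m + 1) = 2 ^ (m + 1) * 2 ^ (m + 1) by rw [← pow_succ', ← pow_add]; ring_nf]
      have := Nat.mul_self_sub_mul_self_eq (2 ^ (m + 1)) 1
      rw [Nat.mul_one] at this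
      exact this
    have h4 := Nat.dvd_sub h3 (dvd_mul_of_dvd_right h2 2)
    have : 1 ≤ 2 ^ (2 * m + 1) := Nat.one_le_two_pow
    rw [show 2 * 2 ^ (2 * m + 1) - 1 - 2 * (2 ^ (2 * m + 1) - 1) = 1 by omega, Nat.dvd_one,
      orderOf_eq_one_iff] at h4
    exact h4
  obtain ⟨s, hs⟩ := (Finite.injective_iff_bijective.1 hinj).2 c
  refine ⟨s, ?_⟩
  have := congrArg Units.val hs
  simpa [wt, pow_succ] using this

/-- The natural action on `F ^ 4`. -/
noncomputable def natRep : Representation F H (Fin 4 → F) where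
  toFun g := Matrix.toLin' (mat g)
  map_one' := by rw [mat_one, Matrix.toLin'_one]; rfl
  map_mul' g h := by rw [mat_mul, Matrix.toLin'_mul]; rfl

theorem natRep_apply (g : H) (v : Fin 4 → F) : natRep g v = mat g *ᵥ v := Matrix.toLin'_apply _ _

theorem tr_top (hF : Fintype.card F = 2 ^ (2 * m + 1)) (a b : F) :
    mat (Suzuki.tr (m := m) hF a b) *ᵥ ![1, 0, 0, 0] = ![1, 0, 0, 0] := by
  funext j
  fin_cases j <;> simp [mat, Suzuki.tr, Suzuki.transSL, Suzuki.transMat, Matrix.mulVec, dotProduct,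
    Fin.sum_univ_four]

theorem tor_top (hF : Fintype.card F = 2 ^ (2 * m + 1)) (s : Fˣ) :
    mat (Suzuki.tor (m := m) hF s) *ᵥ ![1, 0, 0, 0] = wt m s • ![(1 : F), 0, 0, 0] := by
  funext j
  fin_cases j <;> simp [mat, Suzuki.tor, Suzuki.torusSL, Suzuki.torusMat, Matrix.mulVec, dotProduct,
    Matrix.diagonal, wt]

/-- An invariant additive subgroup of the natural module is trivial or everything. -/
theorem additive_irreducible (hm : 1 ≤ m) (hF : Fintype.card F = 2 ^ (2 * m + 1))
    (hirr : Hecke.Irreducible (natRep (F := F) (m := m))) (X : AddSubgroup (Fin 4 → F))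
    (hX : ∀ g : H, ∀ v ∈ X, mat g *ᵥ v ∈ X) : X = ⊥ ∨ X = ⊤ := by
  classical
  haveI : Fact (Nat.Prime 2) := ⟨Nat.prime_two⟩
  haveI := Fintype.ofFinite (Suzuki.U (m := m) hF)
  have hD := Hecke.suzuki_data hm hF
  by_cases h0 : X = ⊥
  · exact Or.inl h0
  right
  -- a vector of `X` fixed by the translations
  letI : MulAction (Suzuki.U (m := m) hF) X :=
    { smul := fun u w => ⟨mat (u : H) *ᵥ (w : Fin 4 → F), hX _ _ w.2⟩
      one_smul := fun w => Subtype.ext (by
        show mat ((1 : Suzuki.U (m := m) hF) : H) *ᵥ (w : Fin 4 → F) = w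
        rw [OneMemClass.coe_one, mat_one, Matrix.one_mulVec])
      mul_smul := fun a b w => Subtype.ext (by
        show mat ((a * b : Suzuki.U (m := m) hF) : H) *ᵥ (w : Fin 4 → F) =
          mat (a : H) *ᵥ (mat (b : H) *ᵥ (w : Fin 4 → F))
        rw [Subgroup.coe_mul, mat_mul, Matrix.mulVec_mulVec]) }
  obtain ⟨x, hxX, hx0⟩ : ∃ x ∈ X, x ≠ 0 := by
    by_contra! h
    exact h0 ((AddSubgroup.eq_bot_iff_forall X).2 h)
  have h2 : 2 ∣ Nat.card X := by
    rw [← addOrderOf_eq_prime (p := 2) (x := (⟨x, hxX⟩ : X)) (Subtype.ext (by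
      show 2 • x = 0
      rw [← Nat.cast_smul_eq_nsmul F, Nat.cast_two, CharTwo.two_eq_zero, zero_smul]))
      fun h => hx0 (congrArg Subtype.val h)]
    exact addOrderOf_dvd_natCard _
  obtain ⟨⟨v, hvX⟩, hv, hne⟩ := hD.pgroup.exists_fixed_point_of_prime_dvd_card_of_fixed_point X h2
    (a := (0 : X)) fun u => Subtype.ext (by
      show mat _ *ᵥ (0 : Fin 4 → F) = 0
      exact Matrix.mulVec_zero _)
  have hv0 : v ≠ 0 := fun h => hne (Subtype.ext h.symm)
  -- it is a multiple of the highest vector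
  have hfix : ∀ u ∈ Suzuki.U (m := m) hF, natRep u (![1, 0, 0, 0] : Fin 4 → F) = ![1, 0, 0, 0] := by
    rintro _ ⟨a, b, rfl⟩
    rw [natRep_apply, tr_top]
  obtain ⟨y, hy⟩ := Hecke.fixed_line natRep hD hirr (v := ![1, 0, 0, 0]) (w := v)
    (fun h => by simpa using congrFun h 0) hfix
    (fun u hu => by rw [natRep_apply]; exact congrArg Subtype.val (hv ⟨u, hu⟩))
  have hy0 : y ≠ 0 := fun h => hv0 (by rw [hy, h, zero_smul])
  -- so `X` contains the line
  have hline : ∀ c : F, c • (![1, 0, 0, 0] : Fin 4 → F) ∈ X := by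
    intro c
    rcases eq_or_ne c 0 with rfl | hc
    · rw [zero_smul]; exact X.zero_mem
    obtain ⟨s, hs⟩ := wt_surjective hF (Units.mk0 (c / y) (div_ne_zero hc hy0))
    have h := hX (Suzuki.tor hF s) v hvX
    rw [hy, Matrix.mulVec_smul, tor_top, smul_smul, hs, Units.val_mk0, mul_div_cancel₀ _ hy0] at h
    exact h
  -- the largest subspace inside `X`
  let Y : Submodule F (Fin 4 → F) :=
    { carrier := {w | ∀ c : F, c • w ∈ X}
      add_mem' := fun ha hb c => by rw [smul_add]; exact X.add_mem (ha c) (hb c)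
      zero_mem' := fun c => by rw [smul_zero]; exact X.zero_mem
      smul_mem' := fun d w hw c => by rw [smul_smul]; exact hw _ }
  have hYinv : ∀ g : H, ∀ w ∈ Y, natRep g w ∈ Y := fun g w hw c => by
    rw [natRep_apply, ← Matrix.mulVec_smul]
    exact hX g _ (hw c)
  have hY : Y = ⊤ := (hirr Y hYinv).resolve_left fun h => by
    have he : (![1, 0, 0, 0] : Fin 4 → F) ∈ Y := hline
    rw [h, Submodule.mem_bot] at he
    simpa using congrFun he 0
  refine eq_top_iff.2 fun w _ => ?_
  have hw : w ∈ Y := by rw [hY]; trivial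
  simpa using hw 1

section descent

variable {A : Type u} [AddCommGroup A] [Finite A]

/-- An irreducible fixed-point-free module over two elements is the natural module. -/
theorem natural_of_irreducible (hm : 1 ≤ m) (hF : Fintype.card F = 2 ^ (2 * m + 1))
    [Nontrivial A] (h2 : ∀ a : A, a + a = 0)
    (ρ : H →* AddMonoid.End A)
    (hirr : ∀ X : AddSubgroup A, (∀ g : H, ∀ a ∈ X, ρ g a ∈ X) → X = ⊥ ∨ X = ⊤)
    (hfpf : ∀ g : H, Odd (orderOf g) → g ≠ 1 → ∀ a : A, ρ g a = a → a = 0) :
    ∃ L : A ≃+ (Fin 4 → F), ∀ g a, L (ρ g a) = mat g *ᵥ L a := by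
  classical
  letI : Module (ZMod 2) A := AddCommGroup.zmodModule fun a => by rw [two_nsmul]; exact h2 a
  letI : Algebra (ZMod 2) F := ZMod.algebra F 2
  let σ : Representation (ZMod 2) H A :=
    { toFun := fun g => AddMonoidHom.toZModLinearMap 2 (ρ g)
      map_one' := LinearMap.ext fun a => by rw [map_one]; rfl
      map_mul' := fun g h => LinearMap.ext fun a => by rw [map_mul]; rfl }
  have hσ : ∀ g a, σ g a = ρ g a := fun g a => rfl
  let τ : Representation F H (F ⊗[ZMod 2] A) :=
    { toFun := fun g => (σ g).baseChange F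
      map_one' := by rw [map_one]; exact LinearMap.baseChange_id
      map_mul' := fun g h => by
        rw [map_mul, Module.End.mul_eq_comp, LinearMap.baseChange_comp]; rfl }
  haveI : Module.Finite F (F ⊗[ZMod 2] A) := inferInstance
  haveI : Finite (F ⊗[ZMod 2] A) := Module.finite_of_finite F
  have hτfix : ∀ g : H, Odd (orderOf g) → g ≠ 1 → ∀ x : F ⊗[ZMod 2] A, τ g x = x → x = 0 := by
    intro g ho hg x hx
    have hinj : Function.Injective (σ g - LinearMap.id : A →ₗ[ZMod 2] A) := by
      rw [← LinearMap.ker_eq_bot, LinearMap.ker_eq_bot']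
      intro a ha
      exact hfpf g ho hg a (by rw [← hσ]; exact sub_eq_zero.1 ha)
    have h1 := Module.Flat.lTensor_preserves_injective_linearMap (M := F) _ hinj
    refine h1 ?_
    rw [map_zero, LinearMap.lTensor_sub, LinearMap.lTensor_id, LinearMap.sub_apply, LinearMap.id_apply,
      sub_eq_zero]
    exact hx
  obtain ⟨W, ⟨hW, hW0⟩, hmin⟩ := (Set.toFinite {W : Submodule F (F ⊗[ZMod 2] A) |
      (∀ g : H, ∀ x ∈ W, τ g x ∈ W) ∧ W ≠ ⊥}).exists_minimal (by
    refine ⟨⊤, fun g x _ => trivial, fun h => ?_⟩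
    obtain ⟨a, ha⟩ := exists_ne (0 : A)
    have h1 : (1 : F) ⊗ₜ[ZMod 2] a = 0 := by
      rw [← Submodule.mem_bot F, ← h]; trivial
    obtain ⟨φ, hφ⟩ : ∃ φ : Module.Dual (ZMod 2) F, φ 1 ≠ 0 := by
      by_contra! hh
      exact one_ne_zero ((Module.forall_dual_apply_eq_zero_iff (ZMod 2) (1 : F)).1 hh)
    have h3 := congrArg ((TensorProduct.lid (ZMod 2) A).toLinearMap ∘ₗ φ.rTensor A) h1
    simp only [LinearEquiv.coe_coe, LinearMap.comp_apply, LinearMap.rTensor_tmul, lid_tmul, map_zero] at h3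
    exact (smul_eq_zero.1 h3).elim hφ ha)
  haveI : Nontrivial W := (Submodule.nontrivial_iff_ne_bot).2 hW0
  let τW : Representation F H W :=
    { toFun := fun g => (τ g).restrict fun x hx => hW g x hx
      map_one' := LinearMap.ext fun x => Subtype.ext (by simp)
      map_mul' := fun g h => LinearMap.ext fun x => Subtype.ext (by simp [map_mul]) }
  have hτW : ∀ g (x : W), (τW g x : F ⊗[ZMod 2] A) = τ g x := fun g x => rfl
  have hWirr : @Hecke.Irreducible F _ (Cfsg.Sz F m) _ W _ _ τW := by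
    intro V hV
    by_cases h0 : V = ⊥
    · exact Or.inl h0
    right
    have hle : Submodule.map W.subtype V ≤ W := Submodule.map_subtype_le _ _
    have hge : W ≤ Submodule.map W.subtype V := hmin ⟨fun g x hx => by
      obtain ⟨y, hy, rfl⟩ := hx
      exact ⟨τW g y, hV g y hy, rfl⟩, fun h => h0
        (Submodule.map_injective_of_injective W.subtype_injective (h.trans (Submodule.map_bot _).symm))⟩ hle
    exact Submodule.map_injective_of_injective W.subtype_injective
      (by rw [Submodule.map_subtype_top]; exact le_antisymm hle hge)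
  obtain ⟨i, -, L, hL⟩ := naturalOver hm hF W τW hWirr fun g ho hg x hx =>
    Subtype.ext (hτfix g ho hg x (congrArg Subtype.val hx))
  let Φ : (Fin 4 → F) ≃+ W := (twistEquiv i).trans L.symm.toAddEquiv
  have hΦ : ∀ g v, Φ (mat g *ᵥ v) = τW g (Φ v) := by
    intro g v
    apply L.injective
    rw [hL]
    show L (L.symm (twistEquiv i (mat g *ᵥ v))) = (mat g).map (frob i) *ᵥ L (L.symm (twistEquiv i v))
    rw [L.apply_symm_apply, L.apply_symm_apply, twistEquiv_apply, twistEquiv_apply, frob_mulVec]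
  -- irreducibility of the natural module over `F`
  have hNirr : Hecke.Irreducible (natRep (F := F) (m := m)) := by
    intro Y hY
    let S : Submodule F (Fin 4 → F) :=
      { carrier := {z | ∃ y ∈ Y, twistEquiv i y = z}
        add_mem' := by
          rintro _ _ ⟨a, ha, rfl⟩ ⟨b, hb, rfl⟩
          exact ⟨a + b, Y.add_mem ha hb, map_add _ _ _⟩
        zero_mem' := ⟨0, Y.zero_mem, map_zero _⟩
        smul_mem' := by
          rintro c _ ⟨a, ha, rfl⟩
          obtain ⟨d, rfl⟩ := (Finite.injective_iff_bijective.1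
            (RingHom.injective (frob (F := F) i))).2 c
          exact ⟨d • a, Y.smul_mem d ha, funext fun j => by simp [twistEquiv_apply]⟩ }
    let Z : Submodule F W := S.map (L.symm : (Fin 4 → F) →ₗ[F] W)
    have hmem : ∀ z : Fin 4 → F, L.symm z ∈ Z ↔ ∃ y ∈ Y, twistEquiv i y = z := by
      intro z
      constructor
      · rintro ⟨z', hz', he⟩
        rwa [← L.symm.injective he]
      · exact fun h => ⟨z, h, rfl⟩
    have hZinv : ∀ g : H, ∀ x ∈ Z, τW g x ∈ Z := by
      intro g x hx
      rw [← L.symm_apply_apply x] at hx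
      obtain ⟨y, hy, he⟩ := (hmem _).1 hx
      have h1 : x = Φ y := by
        show x = L.symm (twistEquiv i y)
        rw [he, L.symm_apply_apply]
      rw [h1, ← hΦ]
      exact (hmem _).2 ⟨_, by simpa [natRep_apply] using hY g y hy, rfl⟩
    rcases hWirr Z hZinv with h | h
    · refine Or.inl ((Submodule.eq_bot_iff _).2 fun y hy => ?_)
      have h1 : L.symm (twistEquiv i y) ∈ Z := (hmem _).2 ⟨y, hy, rfl⟩
      rw [h, Submodule.mem_bot, LinearEquiv.map_eq_zero_iff, AddEquiv.map_eq_zero_iff] at h1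
      exact h1
    · refine Or.inr (eq_top_iff.2 fun y _ => ?_)
      have h1 : L.symm (twistEquiv i y) ∈ Z := by rw [h]; trivial
      obtain ⟨y', hy', he⟩ := (hmem _).1 h1
      rwa [← (twistEquiv i).injective he]
  -- a projection to `A` which does not kill `W`
  obtain ⟨x, hxW, hx0⟩ := W.exists_mem_ne_zero_of_ne_bot hW0
  let b := Module.finBasis (ZMod 2) F
  obtain ⟨j, hj⟩ : ∃ j, (TensorProduct.equivFinsuppOfBasisLeft b x) j ≠ 0 := by
    by_contra! h
    exact hx0 ((TensorProduct.equivFinsuppOfBasisLeft b).injective (by ext k; simp [h k]))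
  let π : F ⊗[ZMod 2] A →ₗ[ZMod 2] A :=
    (Finsupp.lapply j) ∘ₗ (TensorProduct.equivFinsuppOfBasisLeft b).toLinearMap
  have hπ : ∀ g y, π (τ g y) = σ g (π y) := by
    intro g y
    induction y using TensorProduct.induction_on with
    | zero => simp
    | tmul c a =>
      show TensorProduct.equivFinsuppOfBasisLeft b (c ⊗ₜ σ g a) j =
        σ g (TensorProduct.equivFinsuppOfBasisLeft b (c ⊗ₜ a) j)
      simp [TensorProduct.equivFinsuppOfBasisLeft_apply_tmul_apply]
    | add y z hy hz => simp only [map_add, hy, hz]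
  let f : (Fin 4 → F) →+ A :=
    π.toAddMonoidHom.comp ((W.subtype.toAddMonoidHom).comp Φ.toAddMonoidHom)
  have hf : ∀ g v, f (mat g *ᵥ v) = ρ g (f v) := fun g v => by
    show π (Φ (mat g *ᵥ v) : F ⊗[ZMod 2] A) = ρ g (π (Φ v : F ⊗[ZMod 2] A))
    rw [hΦ, hτW, hπ, hσ]
  have hf0 : f ≠ 0 := fun h => hj (by
    have := DFunLike.congr_fun h (Φ.symm ⟨x, hxW⟩)
    simpa [f, π] using this)
  have hsurj : f.range = ⊤ := (hirr f.range fun g a ha => by
    obtain ⟨v, rfl⟩ := ha
    exact ⟨_, hf g v⟩).resolve_left fun h => hf0 (AddMonoidHom.range_eq_bot_iff.1 h)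
  have hker : f.ker = ⊥ := (additive_irreducible hm hF hNirr f.ker fun g v hv => by
    rw [AddMonoidHom.mem_ker] at hv ⊢
    rw [hf, hv, map_zero]).resolve_right fun h => hf0 (AddMonoidHom.ker_eq_top_iff.1 h)
  let e : (Fin 4 → F) ≃+ A := AddEquiv.ofBijective f
    ⟨(AddMonoidHom.ker_eq_bot_iff f).1 hker, AddMonoidHom.range_eq_top.1 hsurj⟩
  refine ⟨e.symm, fun g a => e.injective ?_⟩
  rw [e.apply_symm_apply]
  show ρ g a = f (mat g *ᵥ e.symm a)
  rw [hf]
  exact congrArg (ρ g) (e.apply_symm_apply a).symm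

end descent

end Cfsg.Agent.CIT.SuzukiDescent
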