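import Cfsg.Agent.Lib.Suzuki.Group

/-!
# Suzuki groups have no fixed-point-free natural module inside `2 • V`

The torus norm vanishes on a module on which the torus acts without fixed points.  Written out for
products of two translations it gives an operator `D` with `2 • D = 0`, and `D` does not kill
the lowest weight vector of the natural module.
-/

set_option autoImplicit false
set_option linter.unusedSectionVars false

namespace Cfsg.Agent.CIT.SuzukiExponent

open Matrix Finset Cfsg.Agent.Suzuki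

variable {F : Type*} [Field F] [Fintype F] [DecidableEq F] [CharP F 2] {m : ℕ}

/-- The elements different from `0` and `1`. -/
def generic (F : Type*) [Field F] [Fintype F] [DecidableEq F] : Finset F :=
  univ.filter fun u => u ≠ 0 ∧ u ≠ 1

/-- The nonzero elements of trace zero. -/
def traceZero (F : Type*) [Field F] [Fintype F] [DecidableEq F] : Finset F :=
  (generic F).image fun u => u * (u + 1)

theorem ne_add_one (x : F) : x ≠ x + 1 := fun h =>
  one_ne_zero (add_left_cancel (h.symm.trans (add_zero x).symm))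

theorem fiber_eq {u : F} (hu : u ∈ generic F) :
    (generic F).filter (fun x => x * (x + 1) = u * (u + 1)) = {u, u + 1} := by
  simp only [generic, mem_filter, mem_univ, true_and] at hu ⊢
  have h2 : (2 : F) = 0 := CharTwo.two_eq_zero
  ext x
  simp only [mem_filter, mem_univ, true_and, mem_insert, mem_singleton]
  constructor
  · rintro ⟨-, hx⟩
    have h : (x - u) * (x - (u + 1)) = 0 := by linear_combination hx - (u * x + x - u ^ 2 - u) * h2
    rcases mul_eq_zero.1 h with h | h
    · exact Or.inl (sub_eq_zero.1 h)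
    · exact Or.inr (sub_eq_zero.1 h)
  · rintro (rfl | rfl)
    · exact ⟨hu, rfl⟩
    · refine ⟨⟨fun h => hu.2 ?_, fun h => hu.1 ?_⟩, ?_⟩
      · rw [← CharTwo.add_eq_zero]; exact h
      · simpa using h
      · linear_combination (u + 1) * h2

theorem card_fiber {z : F} (hz : z ∈ traceZero F) :
    ((generic F).filter fun x => x * (x + 1) = z).card = 2 := by
  obtain ⟨u, hu, rfl⟩ := mem_image.1 hz
  rw [fiber_eq hu]
  exact card_pair (ne_add_one u)

theorem sum_comp_generic {M : Type*} [AddCommMonoid M] (φ : F → M) :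
    ∑ u ∈ generic F, φ (u * (u + 1)) = 2 • ∑ z ∈ traceZero F, φ z := by
  rw [Finset.sum_comp φ fun u : F => u * (u + 1), smul_sum]
  exact sum_congr rfl fun z hz => by rw [card_fiber hz]

theorem sum_inv_traceZero (h : 2 < Fintype.card F) : ∑ z ∈ traceZero F, z⁻¹ = 1 := by
  have h1 : ∑ z ∈ traceZero F, z⁻¹ = ∑ u ∈ generic F, u⁻¹ := by
    rw [← sum_fiberwise_of_maps_to (t := traceZero F) (g := fun u : F => u * (u + 1))
      fun u hu => mem_image_of_mem _ hu]
    refine sum_congr rfl fun z hz => ?_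
    obtain ⟨u, hu, rfl⟩ := mem_image.1 hz
    rw [fiber_eq hu, sum_pair (ne_add_one u)]
    simp only [generic, mem_filter, mem_univ, true_and] at hu
    have hu1 : u + 1 ≠ 0 := fun h => hu.2 (CharTwo.add_eq_zero.1 h)
    have h2 : (2 : F) = 0 := CharTwo.two_eq_zero
    rw [inv_add_inv hu.1 hu1, show u + (u + 1) = 1 by linear_combination u * h2, one_div]
  have h3 : ∑ u : F, u⁻¹ = 0 := by
    rw [Fintype.sum_bijective (fun u : F => u⁻¹) inv_involutive.bijective (fun u => u⁻¹) id fun _ => rfl]
    have := FiniteField.sum_pow_lt_card_sub_one F 1 (by omega)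
    simpa using this
  have h4 : generic F = (univ.erase 0).erase 1 := by
    ext x
    simp only [generic, mem_filter, mem_univ, true_and, mem_erase, and_true]
    tauto
  rw [h1, h4, sum_erase_eq_sub (by simp), sum_erase_eq_sub (by simp), h3, _root_.inv_zero, inv_one,
    sub_zero, zero_sub, CharTwo.neg_eq]

variable (hF : Fintype.card F = 2 ^ (2 * m + 1))
include hF

/-- The reparametrisation of the torus by its action on the centre of the translations. -/
theorem exists_torusHom : ∃ T : Fˣ →* Cfsg.Sz F m,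
    (∀ b : Fˣ, ∀ c : F, T b * tr hF 0 c * (T b)⁻¹ = tr hF 0 ((b : F) * c)) ∧
    ∀ b : Fˣ, ∃ s : Fˣ, T b = tor hF s ∧ (b : F) = (s : F) ^ 2 ^ (m + 1) * (s : F) ^ 2 ∧
      (b ≠ 1 → s ≠ 1) := by
  let ψ : Fˣ →* Fˣ := powMonoidHom (2 ^ (m + 1) + 2)
  have hψ : Function.Injective ψ := by
    rw [injective_iff_map_eq_one]
    intro u hu
    have h1 : (u : F) ^ (2 ^ (m + 1) + 2) = 1 := by
      have := congrArg Units.val hu
      simpa [ψ] using this
    exact Units.ext (eq_one_of_theta_mul_sq hF (by rw [theta_def, ← pow_add]; exact h1))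
  let e : Fˣ ≃* Fˣ := MulEquiv.ofBijective ψ (Finite.injective_iff_bijective.1 hψ)
  let t : Fˣ →* Cfsg.Sz F m :=
    { toFun := tor hF, map_one' := tor_one hF, map_mul' := tor_mul hF }
  have he : ∀ b : Fˣ, (b : F) = (e.symm b : F) ^ 2 ^ (m + 1) * (e.symm b : F) ^ 2 := by
    intro b
    have h1 : ψ (e.symm b) = b := e.apply_symm_apply b
    rw [← pow_add]
    conv_lhs => rw [← h1]
    simp [ψ]
  refine ⟨t.comp e.symm.toMonoidHom, fun b c => ?_, fun b => ⟨e.symm b, rfl, he b, ?_⟩⟩
  · show tor hF (e.symm b) * tr hF 0 c * (tor hF (e.symm b))⁻¹ = _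
    rw [conj_tr, mul_zero, he b]
  · exact fun hb hs => hb ((map_eq_one_iff e.symm e.symm.injective).1 hs)

/-- If the torus acts without fixed points, no equivariant copy of the natural module has its
lowest weight vector in `2 • V`. -/
theorem no_two_smul {V : Type*} [AddCommGroup V] (hm : 1 ≤ m)
    (ρ : Cfsg.Sz F m →* AddMonoid.End V)
    (hfix : ∀ s : Fˣ, s ≠ 1 → ∀ v : V, ρ (tor hF s) v = v → v = 0)
    (f : (Fin 4 → F) →+ V) (hf : Function.Injective f)
    (heq : ∀ (g : Cfsg.Sz F m) (x : Fin 4 → F),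
      f (((g : SpecialLinearGroup (Fin 4) F) : Matrix (Fin 4) (Fin 4) F) *ᵥ x) = ρ g (f x))
    (w : V) (hw : f ![0, 0, 0, 1] = 2 • w) : False := by
  obtain ⟨T, hT, hTs⟩ := exists_torusHom hF
  have hq : 8 ≤ Fintype.card F := by
    rw [hF]; exact le_trans (by norm_num) (Nat.pow_le_pow_right (n := 2) (by norm_num) (show 3 ≤ 2 * m + 1 by omega))
  have mulv : ∀ g g' : Cfsg.Sz F m, ∀ v : V, ρ (g * g') v = ρ g (ρ g' v) := fun g g' v => by
    rw [map_mul]; rfl
  -- the norm of the torus is zero
  have hN : ∀ v : V, ∑ b : Fˣ, ρ (T b) v = 0 := by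
    intro v
    haveI : Nontrivial Fˣ := by
      rw [← Fintype.one_lt_card_iff_nontrivial, Fintype.card_units]; omega
    obtain ⟨b₀, hb₀⟩ := exists_ne (1 : Fˣ)
    obtain ⟨s, hs, -, hs1⟩ := hTs b₀
    refine hfix s (hs1 hb₀) _ ?_
    rw [← hs, map_sum]
    rw [← Equiv.sum_comp (Equiv.mulLeft b₀) fun b => ρ (T b) v]
    exact sum_congr rfl fun b _ => by simp [map_mul]
  -- products of two translations
  let t : F → Cfsg.Sz F m := fun c => tr hF 0 c
  have t_add : ∀ a b : F, t (a + b) = t a * t b := fun a b => by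
    simp only [t, tr_mul]; simp
  have key : ∀ v : V, ∑ a : Fˣ, ∑ b : Fˣ, ρ (t ((a : F) + b) * T (a * b)) v = 0 := by
    intro v
    refine sum_eq_zero fun a _ => ?_
    rw [← Equiv.sum_comp (Equiv.mulLeft a)]
    have h1 : ∀ b : Fˣ, ρ (t ((a : F) + (a * b : Fˣ)) * T (a * (a * b))) v =
        ρ (T a * t 1) (ρ (T b) (ρ (t 1 * T a) v)) := by
      intro b
      rw [← mulv, ← mulv]
      congr 2
      have ct : ∀ x : Fˣ, t (x : F) = T x * t 1 * (T x)⁻¹ := fun x => by
        simp only [t]; rw [hT, mul_one]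
      have ca := ct a
      have cb := ct (a * b)
      rw [t_add, ca, cb, mul_comm a (a * b), map_mul T (a * b) a, map_mul T a b]
      group
    simp only [Equiv.coe_mulLeft, h1]
    rw [← map_sum, hN, map_zero]
  -- rewrite as a sum over the nonzero elements
  let K : V → F → F → V := fun v c x => if h : x = 0 then 0 else ρ (t c * T (Units.mk0 x h)) v
  let A : Finset F := univ.erase 0
  have hA : ∀ φ : F → V, ∑ a : Fˣ, φ a = ∑ a ∈ A, φ a := by
    intro φ
    refine sum_bij (fun a _ => (a : F)) (fun a _ => by simp [A]) (fun a _ b _ h => Units.ext h)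
      (fun x hx => ⟨Units.mk0 x (by simpa [A] using hx), mem_univ _, rfl⟩) fun _ _ => rfl
  have hK : ∀ v (c : F) (a : Fˣ), K v c a = ρ (t c * T a) v := by
    intro v c a
    simp [K, a.ne_zero]
  have key2 : ∀ v : V, ∑ p ∈ A ×ˢ A, K v (p.1 + p.2) (p.1 * p.2) = 0 := by
    intro v
    rw [sum_product]
    rw [← hA]
    simp only [← hA]
    simp only [← Units.val_mul, hK]
    exact key v
  have diag : ∀ v : V, ∑ p ∈ (A ×ˢ A).filter (fun p => p.1 = p.2), K v (p.1 + p.2) (p.1 * p.2) = 0 := by
    intro v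
    have hd : (A ×ˢ A).filter (fun p : F × F => p.1 = p.2) = A.image fun a => (a, a) := by
      ext ⟨a, b⟩
      simp only [A, mem_filter, mem_product, mem_erase, mem_univ, and_true, mem_image, Prod.mk.injEq]
      exact ⟨fun h => ⟨a, h.1.1, rfl, h.2⟩, fun ⟨x, hx, e1, e2⟩ => by subst e1; subst e2; exact ⟨⟨hx, hx⟩, rfl⟩⟩
    rw [hd, sum_image (fun a _ b _ h => congrArg Prod.fst h)]
    rw [← hA (fun a => K v (a + a) (a * a))]
    simp only [CharTwo.add_self_eq_zero, ← Units.val_mul, hK]
    have t0 : t 0 = 1 := tr_zero hF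
    simp only [t0, one_mul]
    have hbij : Function.Bijective fun a : Fˣ => a * a := Finite.injective_iff_bijective.1 <| by
      intro a b h
      have := congrArg Units.val h
      simp only [Units.val_mul] at this
      exact Units.ext (frobenius_inj F 2 (by simpa [frobenius_def, pow_two] using this))
    rw [hbij.sum_comp fun b => ρ (T b) v]
    exact hN v
  let D : V → V := fun v => ∑ c ∈ A, ∑ z ∈ traceZero F, K v c (c ^ 2 * z)
  have twoD : ∀ v : V, 2 • D v = 0 := by
    intro v
    have h1 : 2 • D v = ∑ c ∈ A, ∑ u ∈ generic F, K v c (c ^ 2 * (u * (u + 1))) := by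
      simp only [D, smul_sum]
      refine sum_congr rfl fun c _ => ?_
      rw [sum_comp_generic fun z => K v c (c ^ 2 * z), smul_sum]
    rw [h1, ← sum_product']
    have hoff := key2 v
    rw [← sum_filter_add_sum_filter_not (A ×ˢ A) (fun p => p.1 = p.2), diag, zero_add] at hoff
    rw [← hoff]
    have h2 : (2 : F) = 0 := CharTwo.two_eq_zero
    refine sum_bij' (fun p _ => (p.1 * p.2, p.1 * (p.2 + 1))) (fun p _ => (p.1 + p.2, p.1 / (p.1 + p.2)))
      ?_ ?_ ?_ ?_ ?_
    · rintro ⟨c, u⟩ hp
      simp only [A, generic, mem_product, mem_erase, mem_filter, mem_univ, and_true, true_and] at hp ⊢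
      refine ⟨⟨mul_ne_zero hp.1 hp.2.1, mul_ne_zero hp.1 fun h => hp.2.2 (CharTwo.add_eq_zero.1 h)⟩, fun h => ?_⟩
      exact ne_add_one u (mul_left_cancel₀ hp.1 h)
    · rintro ⟨a, b⟩ hp
      simp only [A, generic, mem_product, mem_erase, mem_filter, mem_univ, and_true, true_and] at hp ⊢
      have hab : a + b ≠ 0 := fun h => hp.2 (CharTwo.add_eq_zero.1 h)
      refine ⟨hab, div_ne_zero hp.1.1 hab, fun h => hp.1.2 ?_⟩
      exact add_left_cancel (((div_eq_one_iff_eq hab).1 h).symm.trans (add_zero a).symm)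
    · rintro ⟨c, u⟩ hp
      simp only [A, generic, mem_product, mem_erase, mem_filter, mem_univ, and_true, true_and] at hp
      have hc : c * u + c * (u + 1) = c := by linear_combination (c * u) * h2
      simp [hc, hp.1]
    · rintro ⟨a, b⟩ hp
      simp only [A, generic, mem_product, mem_erase, mem_filter, mem_univ, and_true, true_and] at hp
      have hab : a + b ≠ 0 := fun h => hp.2 (CharTwo.add_eq_zero.1 h)
      refine Prod.ext ?_ ?_
      · field_simp
      · field_simp
        linear_combination a * h2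
    · rintro ⟨c, u⟩ hp
      congr 1
      · linear_combination -(c * u) * h2
      · ring
  -- the low weight vector
  let e : Fin 4 → F := ![0, 0, 0, 1]
  have hDlin : D (f e) = 2 • D w := by
    simp only [D, smul_sum]
    refine sum_congr rfl fun c _ => sum_congr rfl fun z _ => ?_
    simp only [K]
    split
    · simp
    · rw [hw, map_nsmul]
  have hD0 : D (f e) = 0 := by rw [hDlin, twoD]
  let L : F → F → (Fin 4 → F) := fun c x => if h : x = 0 then 0 else
    ((t c * T (Units.mk0 x h) : Cfsg.Sz F m) : SpecialLinearGroup (Fin 4) F).1 *ᵥ e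
  have hDf : D (f e) = f (∑ c ∈ A, ∑ z ∈ traceZero F, L c (c ^ 2 * z)) := by
    simp only [D, map_sum]
    refine sum_congr rfl fun c _ => sum_congr rfl fun z _ => ?_
    simp only [K, L]
    split
    · simp
    · exact (heq _ _).symm
  have hL : ∀ c x : F, x ≠ 0 → theta F m (L c x 0) = c ^ 2 * x⁻¹ := by
    intro c x hx
    obtain ⟨s, hs, hb, -⟩ := hTs (Units.mk0 x hx)
    rw [Units.val_mk0] at hb
    simp only [L, dif_neg hx, hs]
    show theta F m (((transMat m 0 c * torusMat m s) *ᵥ e) 0) = _
    have h0 : ((transMat m 0 c * torusMat m s) *ᵥ e) 0 =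
        theta F m c * (theta F m (s : F) * s)⁻¹ := by
      simp [e, transMat, torusMat, Matrix.mul_apply, Matrix.mulVec, dotProduct, Fin.sum_univ_four,
        ovf_eq, theta_def, zero_pow]
    rw [h0, map_mul, map_inv₀, map_mul, theta_theta hF, theta_theta hF, hb, theta_def]
    rw [mul_comm ((s : F) ^ 2)]
  have h0 : (∑ c ∈ A, ∑ z ∈ traceZero F, L c (c ^ 2 * z)) = 0 := by
    apply hf
    rw [← hDf, hD0, map_zero]
  have hsum : ∀ c ∈ A, ∀ z ∈ traceZero F, theta F m (L c (c ^ 2 * z) 0) = z⁻¹ := by
    intro c hc z hz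
    have hc0 : c ≠ 0 := by simpa [A] using hc
    have hz0 : z ≠ 0 := by
      obtain ⟨u, hu, rfl⟩ := mem_image.1 hz
      simp only [generic, mem_filter, mem_univ, true_and] at hu
      exact mul_ne_zero hu.1 fun h => hu.2 (CharTwo.add_eq_zero.1 h)
    rw [hL c _ (mul_ne_zero (pow_ne_zero 2 hc0) hz0)]
    field_simp
  have h1 := congrArg (theta F m) (congrFun h0 0)
  simp only [Finset.sum_apply, map_sum, Pi.zero_apply, map_zero] at h1
  rw [sum_congr rfl fun c hc => (sum_congr rfl (hsum c hc)).trans (sum_inv_traceZero (by omega)),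
    sum_const, card_erase_of_mem (mem_univ _), card_univ, nsmul_eq_mul, mul_one, hF,
    Nat.cast_sub Nat.one_le_two_pow, Nat.cast_pow, Nat.cast_ofNat, CharTwo.two_eq_zero,
    zero_pow (by omega), Nat.cast_one, zero_sub, neg_eq_zero] at h1
  exact one_ne_zero h1

end Cfsg.Agent.CIT.SuzukiExponent
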