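import Cfsg.Agent.Lib.CIT.SuzukiTensor

/-!
# The translations fix only the highest line of a tensor product of distinct twists

The product over all twists is free over the translations.
-/

set_option autoImplicit false
set_option linter.unusedSectionVars false
set_option linter.style.haveILetI false

namespace Cfsg.Agent.CIT.SuzukiTensor

open Matrix Kron

variable {F : Type*} [Field F] [Fintype F] [CharP F 2] {m : ℕ}

local notation "H" => Cfsg.Sz F m

variable (hm : 1 ≤ m) (hF : Fintype.card F = 2 ^ (2 * m + 1)) {ι : Type*} [Fintype ι] [DecidableEq ι]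

include hF in
theorem coe_card_sub_one : (((Fintype.card F) ^ 2 - 1 : ℕ) : F) = 1 := by
  have h1 : 1 ≤ (Fintype.card F) ^ 2 := Nat.one_le_pow _ _ Fintype.card_pos
  rw [Nat.cast_sub h1, Nat.cast_pow, Nat.cast_card_eq_zero, Nat.cast_one, zero_pow two_ne_zero, zero_sub,
    CharTwo.neg_eq]

include hF in
theorem sum_ovf_pow :
    ∑ p : F × F, (Suzuki.ovf m p.1 p.2) ^ (Fintype.card F - 1) = 1 := by
  classical
  have h : ∀ p : F × F, (Suzuki.ovf m p.1 p.2) ^ (Fintype.card F - 1) = if p = 0 then 0 else 1 := by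
    intro p
    by_cases hp : p = 0
    · subst hp
      have := Fintype.one_lt_card (α := F)
      rw [if_pos rfl, Prod.fst_zero, Prod.snd_zero, Suzuki.ovf_zero, zero_pow (by omega)]
    · rw [if_neg hp]
      refine FiniteField.pow_card_sub_one_eq_one _ fun e => hp ?_
      obtain ⟨h1, h2⟩ := Suzuki.ovf_eq_zero hF e
      exact Prod.ext h1 h2
  simp only [h]
  rw [Finset.sum_ite, Finset.sum_const_zero, zero_add, Finset.sum_const, Finset.filter_ne',
    Finset.card_erase_of_mem (Finset.mem_univ _), Finset.card_univ, Fintype.card_prod, nsmul_one, ← sq]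
  exact coe_card_sub_one hF

include hm hF in
/-- All twists: the module is free over the translations. -/
theorem fixedLine_full (ε : ι ≃ Fin (2 * m + 1)) : FixedLine hF (fun i => (ε i : ℕ)) := by
  classical
  set e : ι → ℕ := fun i => (ε i : ℕ) with he
  set U := Suzuki.U (m := m) hF with hUdef
  have hU : IsPGroup 2 U := (Hecke.suzuki_data hm hF).pgroup
  let f : (U → F) →ₗ[F] ((ι → Fin 4) → F) :=
    { toFun := fun c => ∑ u, c u • rep e (u : H) (low ι)
      map_add' := fun c c' => by simp [add_smul, Finset.sum_add_distrib]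
      map_smul' := fun x c => by simp [Finset.smul_sum, smul_smul] }
  let ρ : Representation F U (U → F) :=
    { toFun := fun u => LinearMap.funLeft F F fun w => u⁻¹ * w
      map_one' := LinearMap.ext fun c => funext fun w => by simp [LinearMap.funLeft]
      map_mul' := fun u u' => LinearMap.ext fun c => funext fun w => by
        simp [LinearMap.funLeft, mul_assoc] }
  have hfρ : ∀ (u : U) c, f (ρ u c) = rep e (u : H) (f c) := by
    intro u c
    show ∑ w, c (u⁻¹ * w) • rep e (w : H) (low ι) = rep e (u : H) (∑ w, c w • rep e (w : H) (low ι))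
    rw [map_sum]
    refine Fintype.sum_equiv (Equiv.mulLeft u⁻¹) _ _ fun w => ?_
    rw [map_smul, ← Module.End.mul_apply, ← map_mul, ← Subgroup.coe_mul]
    simp
  have hS : (∑ u : U, rep e (u : H) (low ι)) (fun _ => 0) = 1 := by
    rw [Finset.sum_apply]
    rw [← sum_ovf_pow (m := m) hF]
    refine (Fintype.sum_bijective (fun p : F × F => Suzuki.ut hF p.1 p.2) ?_ _ _ fun p => ?_).symm
    · refine ⟨fun p q h => ?_, fun u => ?_⟩
      · obtain ⟨h1, h2⟩ := Suzuki.ut_injective hF h
        exact Prod.ext h1 h2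
      · obtain ⟨a, b, rfl⟩ := Suzuki.ut_surjective hF u
        exact ⟨(a, b), rfl⟩
    show _ = rep e (Suzuki.tr hF p.1 p.2) (low ι) fun _ => 0
    rw [low, rep_pure]
    have hprod : ∀ i, ((mat (Suzuki.tr hF p.1 p.2 : H)).map (frob (e i)) *ᵥ ![0, 0, 0, 1]) 0 =
        Suzuki.ovf m p.1 p.2 ^ 2 ^ e i := fun i => by
      simp [mat, Suzuki.tr, Suzuki.transSL, Suzuki.transMat, Matrix.mulVec, dotProduct,
        Fin.sum_univ_four, frob_def]
    simp only [prodVec, hprod, Finset.prod_pow_eq_pow_sum]
    congr 1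
    rw [he, Fintype.sum_equiv ε (fun i => 2 ^ (ε i : ℕ)) (fun j => 2 ^ (j : ℕ)) fun i => rfl,
      Fin.sum_univ_eq_sum_range (fun j => 2 ^ j), Nat.geomSum_eq le_rfl, hF]
    simp
  have hker : f.ker = ⊥ := by
    by_contra hk
    obtain ⟨c, hc, hc0, hfix⟩ := exists_fixed_mem ρ (U := ⊤) (hU.to_subgroup ⊤) (W := f.ker)
      (fun u c hc => by rw [LinearMap.mem_ker] at hc ⊢; rw [hfρ, hc, map_zero]) hk
    have hconst : ∀ w, c w = c 1 := fun w => by
      have := congrFun (hfix w⁻¹ trivial) 1
      simpa [ρ, LinearMap.funLeft] using this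
    refine hc0 (funext fun w => ?_)
    have h := congrFun (LinearMap.mem_ker.1 hc) fun _ => 0
    change (∑ u, c u • rep e (u : H) (low ι)) _ = 0 at h
    rw [Finset.sum_congr rfl fun u _ => by rw [hconst u], ← Finset.smul_sum, Pi.smul_apply, hS,
      smul_eq_mul, mul_one] at h
    rw [hconst w, h]
    rfl
  have hbij : Function.Bijective f := by
    have hinj := LinearMap.ker_eq_bot.1 hker
    refine ⟨hinj, (LinearMap.injective_iff_surjective_of_finrank_eq_finrank ?_).1 hinj⟩
    rw [Module.finrank_fintype_fun_eq_card, Module.finrank_fintype_fun_eq_card,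
      ← Nat.card_eq_fintype_card, Suzuki.card_U hF, Fintype.card_fun, Fintype.card_fin,
      Fintype.card_congr ε, Fintype.card_fin, hF, ← pow_mul, show (4 : ℕ) = 2 ^ 2 from rfl, ← pow_mul,
      mul_comm]
  have line : ∀ v : (ι → Fin 4) → F, (∀ a b : F, rep e (Suzuki.tr hF a b) v = v) →
      ∃ x : F, v = x • ∑ u : U, rep e (u : H) (low ι) := by
    intro v hv
    obtain ⟨c, rfl⟩ := hbij.2 v
    refine ⟨c 1, ?_⟩
    have hc : ∀ u : U, c u = c 1 := fun u => by
      obtain ⟨a, b, hab⟩ := (u⁻¹).2
      have h1 : f (ρ u⁻¹ c) = f c := by rw [hfρ, hab, hv a b]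
      have := congrFun (hbij.1 h1) 1
      simpa [ρ, LinearMap.funLeft] using this
    show ∑ u, c u • _ = _
    rw [Finset.smul_sum]
    exact Finset.sum_congr rfl fun u _ => by rw [hc u]
  intro v hv
  obtain ⟨x, rfl⟩ := line v hv
  obtain ⟨y, hy⟩ := line (top ι) fun a b => rep_tr_top e hF a b
  have hy0 : y ≠ 0 := fun h => top_ne_zero (by rw [hy, h, zero_smul])
  exact ⟨x * y⁻¹, by rw [hy, smul_smul, mul_assoc, inv_mul_cancel₀ hy0, mul_one]⟩

include hm hF in
/-- Distinct twists. -/
theorem fixedLine {e : ι → ℕ} (hinj : Function.Injective e) (he : ∀ i, e i < 2 * m + 1) :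
    FixedLine hF e := by
  classical
  let j : ι → Fin (2 * m + 1) := fun i => ⟨e i, he i⟩
  have hj : Function.Injective j := fun a b h => hinj (congrArg Fin.val h)
  let κ := {x : Fin (2 * m + 1) // x ∉ Set.range j}
  let ε : ι ⊕ κ ≃ Fin (2 * m + 1) :=
    (Equiv.sumCongr (Equiv.ofInjective j hj) (Equiv.refl κ)).trans
      (Equiv.Set.sumCompl (Set.range j))
  intro v hv
  have hεl : ∀ i, (ε (Sum.inl i) : ℕ) = e i := fun i => by
    show ((Equiv.Set.sumCompl (Set.range j)) (Sum.inl (Equiv.ofInjective j hj i)) : ℕ) = e i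
    rw [Equiv.Set.sumCompl_apply_inl]
    rfl
  obtain ⟨x, hx⟩ := fixedLine_full hm hF ε (sumVec v (top κ)) fun a b => by
    rw [rep_apply, kron_sum_mulVec]
    refine congrArg₂ sumVec ?_ ?_
    · rw [show twists (fun i => (ε i : ℕ)) (Suzuki.tr hF a b : H) ∘ Sum.inl =
        twists e (Suzuki.tr hF a b) from funext fun i => by simp [twists, hεl], ← rep_apply]
      exact hv a b
    · show kron (twists (fun k : κ => (ε (Sum.inr k) : ℕ)) (Suzuki.tr hF a b : H)) *ᵥ top κ = top κ
      rw [← rep_apply]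
      exact rep_tr_top _ hF a b
  refine ⟨x, funext fun a => ?_⟩
  have h := congrFun hx (Sum.elim a fun _ => 0)
  simp only [sumVec, Sum.elim_comp_inl, Sum.elim_comp_inr, top_apply, mul_one] at h
  rw [h, Pi.smul_apply, Pi.smul_apply]
  congr 1
  simp [top, prodVec, Fintype.prod_sum_type]

include hm hF in
/-- A tensor product of distinct twists is irreducible. -/
theorem irreducible {e : ι → ℕ} (hinj : Function.Injective e) (he : ∀ i, e i < 2 * m + 1) :
    Hecke.Irreducible (rep (m := m) (F := F) e) :=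
  irreducible_of_fixedLine e hm hF (fixedLine hm hF hinj he)

end Cfsg.Agent.CIT.SuzukiTensor
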