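import Mathlib

/-!
# The rank-one lemma for groups with a split BN-pair of rank one (item 1 of notes/suzuki-module-h14.md)

If the sum of `u σ e` over the unipotent subgroup `U` is a multiple of `e`, an invariant functional
vanishing at `σ e` vanishes on all translates of `e`.
-/

set_option autoImplicit false
set_option linter.unusedSectionVars false
set_option linter.style.haveILetI false

namespace Cfsg.Agent.CIT.Hecke

/-- A split BN-pair of rank one, as much as is needed. -/
structure Setup {H : Type*} [Group H] (U B : Subgroup H) (σ : H) : Prop where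
  le : U ≤ B
  sw_notMem : σ ∉ B
  bruhat : ∀ g : H, g ∉ B → ∃ u ∈ U, ∃ b ∈ B, g = u * σ * b
  free : ∀ u ∈ U, σ⁻¹ * u * σ ∈ B → u = 1

variable {K : Type*} [Field K] {H : Type*} [Group H] {M : Type*} [AddCommGroup M] [Module K M]
  (ρ : Representation K H M) {U B : Subgroup H} {σ : H}

/-- `e` spans a line invariant under `B`, and the sum of its translates by `U σ` is a multiple of it. -/
structure Highest (U B : Subgroup H) (σ : H) [Fintype U] (e : M) : Prop where
  line : ∀ b ∈ B, ∃ x : K, ρ b e = x • e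
  rel : ∃ c : K, ∑ u : U, ρ ((u : H) * σ) e = c • e

variable [Fintype U] {e : M}

theorem apply_eq_zero_of_notMem (hS : Setup U B σ) (he : Highest ρ U B σ e) {φ : Module.Dual K M}
    (hU : ∀ u ∈ U, ∀ m, φ (ρ u m) = φ m) (hσ : φ (ρ σ e) = 0) {g : H} (hg : g ∉ B) :
    φ (ρ g e) = 0 := by
  obtain ⟨u, hu, b, hb, rfl⟩ := hS.bruhat g hg
  obtain ⟨x, hx⟩ := he.line b hb
  rw [map_mul, map_mul, Module.End.mul_apply, Module.End.mul_apply, hU u hu, hx, map_smul, map_smul,
    hσ, smul_zero]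

/-- The rank-one lemma. -/
theorem apply_eq_zero (hS : Setup U B σ) (he : Highest ρ U B σ e) {φ : Module.Dual K M}
    (hU : ∀ u ∈ U, ∀ m, φ (ρ u m) = φ m) (hσ : φ (ρ σ e) = 0) (g : H) : φ (ρ g e) = 0 := by
  classical
  have h0 : φ e = 0 := by
    obtain ⟨c, hc⟩ := he.rel
    have h := congrArg (fun m => φ (ρ σ⁻¹ m)) hc
    simp only [map_sum, map_smul] at h
    have hR : φ (ρ σ⁻¹ e) = 0 := apply_eq_zero_of_notMem ρ hS he hU hσ fun hh => hS.sw_notMem (by
      simpa using B.inv_mem hh)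
    rw [hR, smul_zero, Finset.sum_eq_single (1 : U) (fun u _ hu => ?_)
      (fun hh => absurd (Finset.mem_univ _) hh)] at h
    · rwa [← Module.End.mul_apply, ← map_mul, OneMemClass.coe_one, one_mul, inv_mul_cancel, map_one,
        Module.End.one_apply] at h
    · rw [← Module.End.mul_apply, ← map_mul, ← mul_assoc]
      exact apply_eq_zero_of_notMem ρ hS he hU hσ fun hh => hu (Subtype.ext (hS.free _ u.2 hh))
  by_cases hg : g ∈ B
  · obtain ⟨x, hx⟩ := he.line g hg
    rw [hx, map_smul, h0, smul_zero]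
  · exact apply_eq_zero_of_notMem ρ hS he hU hσ hg

/-- Invariant functionals on the module generated by `e` are determined by their value at `σ e`. -/
theorem dual_eq_smul (hS : Setup U B σ) (he : Highest ρ U B σ e)
    (hgen : Submodule.span K (Set.range fun g : H => ρ g e) = ⊤) {φ ψ : Module.Dual K M}
    (hφ : ∀ u ∈ U, ∀ m, φ (ρ u m) = φ m) (hψ : ∀ u ∈ U, ∀ m, ψ (ρ u m) = ψ m) :
    ψ (ρ σ e) • φ = φ (ρ σ e) • ψ := by
  refine LinearMap.ext_on_range hgen fun g => sub_eq_zero.1 ?_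
  exact apply_eq_zero ρ hS he (φ := ψ (ρ σ e) • φ - φ (ρ σ e) • ψ)
    (fun u hu m => by simp [hφ u hu m, hψ u hu m]) (by simp [mul_comm]) g

theorem eq_zero_of_dual (hS : Setup U B σ) (he : Highest ρ U B σ e)
    (hgen : Submodule.span K (Set.range fun g : H => ρ g e) = ⊤) {φ : Module.Dual K M}
    (hφ : ∀ u ∈ U, ∀ m, φ (ρ u m) = φ m) (hσ : φ (ρ σ e) = 0) : φ = 0 :=
  LinearMap.ext_on_range hgen fun g => apply_eq_zero ρ hS he hφ hσ g

section exists_highest

variable (T : Subgroup H)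

/-- The torus part: `B = U T`, `T` normalises `U`, and `σ` inverts `T`. -/
structure Torus (U B : Subgroup H) (σ : H) (T : Subgroup H) : Prop where
  cyclic : IsCyclic T
  le : T ≤ B
  factor : ∀ b ∈ B, ∃ u ∈ U, ∃ t ∈ T, b = u * t
  normal : ∀ t ∈ T, ∀ u ∈ U, t * u * t⁻¹ ∈ U
  inv : ∀ t ∈ T, σ * t = t⁻¹ * σ
  sq : σ * σ = 1

variable {T}

/-- The sum of the translates by `U σ`. -/
def phi (U : Subgroup H) [Fintype U] (σ : H) : Module.End K M := ∑ u : U, ρ ((u : H) * σ)

theorem phi_apply (v : M) : phi ρ U σ v = ∑ u : U, ρ ((u : H) * σ) v :=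
  LinearMap.sum_apply _ _ _

theorem smul_phi (v : M) {u : H} (hu : u ∈ U) : ρ u (phi ρ U σ v) = phi ρ U σ v := by
  rw [phi_apply, map_sum]
  refine Fintype.sum_equiv (Equiv.mulLeft (⟨u, hu⟩ : U)) _ _ fun w => ?_
  rw [← Module.End.mul_apply, ← map_mul, ← mul_assoc]
  rfl

theorem torus_phi (hT : Torus U B σ T) (v : M) {t : H} (ht : t ∈ T) :
    ρ t (phi ρ U σ v) = phi ρ U σ (ρ t⁻¹ v) := by
  rw [phi_apply, phi_apply, map_sum]
  refine Fintype.sum_bijective (fun w : U => (⟨t * w * t⁻¹, hT.normal t ht w w.2⟩ : U)) ?_ _ _ fun w => ?_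
  · refine Finite.injective_iff_bijective.1 fun a b h => Subtype.ext ?_
    exact mul_left_cancel (mul_right_cancel (congrArg Subtype.val h))
  rw [← Module.End.mul_apply, ← map_mul, ← Module.End.mul_apply, ← map_mul]
  congr 2
  have h1 := hT.inv t⁻¹ (inv_mem ht)
  rw [inv_inv] at h1
  rw [mul_assoc (t * (w : H) * t⁻¹), h1]
  group

/-- A common eigenvector: fixed by `U`, eigen for `T`. -/
structure Weight (U T : Subgroup H) (e : M) : Prop where
  ne : e ≠ 0
  fix : ∀ u ∈ U, ρ u e = e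
  eig : ∀ t ∈ T, ∃ x : K, ρ t e = x • e

theorem Weight.line (hT : Torus U B σ T) (he : Weight ρ U T e) {b : H} (hb : b ∈ B) :
    ∃ x : K, ρ b e = x • e := by
  obtain ⟨u, hu, t, ht, rfl⟩ := hT.factor b hb
  obtain ⟨x, hx⟩ := he.eig t ht
  exact ⟨x, by rw [map_mul, Module.End.mul_apply, hx, map_smul, he.fix u hu]⟩

theorem phi_phi (hS : Setup U B σ) (hT : Torus U B σ T) (h2 : ((Nat.card U : ℕ) : K) = 0)
    (he : Weight ρ U T e) : ∃ c : K, phi ρ U σ (phi ρ U σ e) = c • phi ρ U σ e := by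
  classical
  have key : ∀ w : U, ∃ c : K, phi ρ U σ (ρ ((w : H) * σ) e) = c • phi ρ U σ e := by
    intro w
    by_cases hw : w = 1
    · refine ⟨0, ?_⟩
      subst hw
      rw [zero_smul, phi_apply, Finset.sum_congr rfl (g := fun _ => e) fun u _ => ?_, Finset.sum_const,
        Finset.card_univ, ← Nat.card_eq_fintype_card, ← Nat.cast_smul_eq_nsmul K, h2, zero_smul]
      rw [← Module.End.mul_apply, ← map_mul, OneMemClass.coe_one, one_mul, mul_assoc, hT.sq, mul_one,
        he.fix u u.2]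
    · obtain ⟨u', hu', b, hb, hub⟩ := hS.bruhat (σ * w * σ) fun hh => hw (Subtype.ext (hS.free _ w.2 (by
        rwa [inv_eq_of_mul_eq_one_right hT.sq])))
      obtain ⟨x, hx⟩ := he.line ρ hT hb
      refine ⟨x, ?_⟩
      rw [phi_apply, phi_apply, Finset.smul_sum]
      refine Fintype.sum_equiv (Equiv.mulRight (⟨u', hu'⟩ : U)) _ _ fun u => ?_
      rw [← map_smul, ← hx, ← Module.End.mul_apply, ← map_mul, ← Module.End.mul_apply, ← map_mul]
      congr 2
      rw [mul_assoc (u : H) σ, ← mul_assoc σ (w : H) σ, hub]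
      simp [mul_assoc]
  choose c hc using key
  refine ⟨∑ w : U, c w, ?_⟩
  rw [Finset.sum_smul]
  conv_lhs => arg 2; rw [phi_apply]
  rw [map_sum]
  exact Finset.sum_congr rfl fun w _ => hc w

/-- Some vector fixed by `U` and eigen for `T` has its `U σ`-sum a multiple of itself. -/
theorem exists_highest (hS : Setup U B σ) (hT : Torus U B σ T) (h2 : ((Nat.card U : ℕ) : K) = 0)
    (he : Weight ρ U T e) : ∃ e' : M, Weight ρ U T e' ∧ Highest ρ U B σ e' := by
  by_cases h0 : phi ρ U σ e = 0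
  · exact ⟨e, he, fun b hb => he.line ρ hT hb, 0, by rw [zero_smul, ← phi_apply, h0]⟩
  have he' : Weight ρ U T (phi ρ U σ e) := by
    refine ⟨h0, fun u hu => smul_phi ρ e hu, fun t ht => ?_⟩
    obtain ⟨x, hx⟩ := he.eig t⁻¹ (inv_mem ht)
    exact ⟨x, by rw [torus_phi ρ hT e ht, hx, map_smul]⟩
  obtain ⟨c, hc⟩ := phi_phi ρ hS hT h2 he
  exact ⟨_, he', fun b hb => he'.line ρ hT hb, c, by rw [← phi_apply, hc]⟩

/-- With a non-trivial weight the sum vanishes. -/
theorem Highest.rel_zero (hT : Torus U B σ T) (he : Highest ρ U B σ e) (h0 : e ≠ 0) {t : H}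
    (ht : t ∈ T) {x : K} (hx : ρ t e = x • e) (hx2 : x * x ≠ 1) :
    ∑ u : U, ρ ((u : H) * σ) e = (0 : K) • e := by
  obtain ⟨c, hc⟩ := he.rel
  rw [← phi_apply] at hc ⊢
  have hinv : x • ρ t⁻¹ e = e := by
    rw [← map_smul, ← hx, ← Module.End.mul_apply, ← map_mul, inv_mul_cancel, map_one, Module.End.one_apply]
  have h1 : c • x • e = phi ρ U σ (ρ t⁻¹ e) := by
    rw [← torus_phi ρ hT e ht, hc, map_smul, hx]
  have h2 : x • (c • x • e) = c • e := by
    rw [h1, ← map_smul, hinv, hc]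
  rw [smul_smul, smul_smul] at h2
  have h3 := smul_left_injective K h0 h2
  have hc0 : c = 0 := by
    by_contra hne
    exact hx2 (mul_left_cancel₀ hne (by linear_combination h3))
  rw [hc, hc0]

end exists_highest

/-- The rank-one data with the hypotheses on the field: `U` is a 2-group, the characteristic is two,
and the orders in `T` divide `|K| - 1`. -/
structure Data (K : Type*) [Field K] [Fintype K] (U B : Subgroup H) (σ : H) (T : Subgroup H) : Prop where
  setup : Setup U B σ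
  torus : Torus U B σ T
  two : (2 : K) = 0
  pgroup : IsPGroup 2 U
  ne : U ≠ ⊥
  dvd : ∀ t ∈ T, t ^ (Fintype.card K - 1) = 1

section finite

variable [Fintype K] [Finite M] {T : Subgroup H}

theorem Data.card_eq (hD : Data K U B σ T) : ((Nat.card U : ℕ) : K) = 0 := by
  haveI : Fact (Nat.Prime 2) := ⟨Nat.prime_two⟩
  obtain ⟨n, hn⟩ := IsPGroup.iff_card.1 hD.pgroup
  have hn0 : n ≠ 0 := fun e => hD.ne (Subgroup.eq_bot_of_card_eq U (by rw [hn, e, pow_zero]))
  rw [hn, Nat.cast_pow, Nat.cast_two, hD.two, zero_pow hn0]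

omit [Fintype U] in
theorem exists_fixed_ne_zero (hD : Data K U B σ T) [Nontrivial M] :
    ∃ v : M, v ≠ 0 ∧ ∀ u ∈ U, ρ u v = v := by
  haveI : Fact (Nat.Prime 2) := ⟨Nat.prime_two⟩
  letI : MulAction U M :=
    { smul := fun u m => ρ (u : H) m
      one_smul := fun m => by show ρ ((1 : U) : H) m = m; rw [OneMemClass.coe_one, map_one]; rfl
      mul_smul := fun a b m => by
        show ρ ((a * b : U) : H) m = ρ (a : H) (ρ (b : H) m)
        rw [Subgroup.coe_mul, map_mul]; rfl }
  obtain ⟨m, hm⟩ := exists_ne (0 : M)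
  have h2 : 2 ∣ Nat.card M := by
    rw [← addOrderOf_eq_prime (p := 2) (x := m) (by
      rw [← Nat.cast_smul_eq_nsmul K, Nat.cast_two, hD.two, zero_smul]) hm]
    exact addOrderOf_dvd_natCard m
  obtain ⟨v, hv, hne⟩ := hD.pgroup.exists_fixed_point_of_prime_dvd_card_of_fixed_point M h2
    (a := (0 : M)) fun u => map_zero (ρ (u : H))
  exact ⟨v, hne.symm, fun u hu => hv ⟨u, hu⟩⟩

omit [Fintype U] in
theorem exists_weight (hD : Data K U B σ T) [Nontrivial M] : ∃ e : M, Weight ρ U T e := by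
  classical
  obtain ⟨v, hv, hfix⟩ := exists_fixed_ne_zero ρ hD
  haveI := hD.torus.cyclic
  obtain ⟨⟨t₀, ht₀⟩, hgen⟩ := IsCyclic.exists_generator (α := T)
  set n := Fintype.card K - 1 with hn
  have hn0 : 0 < n := by have := Fintype.one_lt_card (α := K); omega
  have ht : t₀ ^ n = 1 := hD.dvd t₀ ht₀
  let w : Kˣ → M := fun a => ∑ i ∈ Finset.range n, ((a : K) ^ i) • ρ (t₀ ^ i) v
  have hsum : ∑ a : Kˣ, w a = -v := by
    rw [Finset.sum_comm]
    rw [Finset.sum_congr rfl fun i _ => (Finset.sum_smul (f := fun a : Kˣ => (a : K) ^ i)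
      (s := Finset.univ) (x := ρ (t₀ ^ i) v)).symm]
    rw [Finset.sum_eq_single 0]
    · rw [FiniteField.sum_pow_units]; simp
    · intro i hi hi0
      rw [FiniteField.sum_pow_units, if_neg (fun hd => hi0 (Nat.eq_zero_of_dvd_of_lt hd
        (Finset.mem_range.1 hi))), zero_smul]
    · intro h0; exact absurd (Finset.mem_range.2 hn0) h0
  obtain ⟨a, ha⟩ : ∃ a, w a ≠ 0 := by
    by_contra! hh
    rw [Finset.sum_eq_zero fun a _ => hh a, eq_comm, neg_eq_zero] at hsum
    exact hv hsum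
  have hfix' : ∀ (i : ℕ), ∀ u ∈ U, ρ u (ρ (t₀ ^ i) v) = ρ (t₀ ^ i) v := by
    intro i u hu
    have hmem := hD.torus.normal _ (inv_mem (pow_mem ht₀ i)) u hu
    rw [inv_inv] at hmem
    calc ρ u (ρ (t₀ ^ i) v) = ρ (t₀ ^ i) (ρ ((t₀ ^ i)⁻¹ * u * t₀ ^ i) v) := by
          rw [← Module.End.mul_apply, ← map_mul, ← Module.End.mul_apply, ← map_mul]; congr 2; group
      _ = _ := by rw [hfix _ hmem]
  have hw : (a : K) • ρ t₀ (w a) = w a := by
    have hs : ∀ i, (a : K) • ρ t₀ ((a : K) ^ i • ρ (t₀ ^ i) v) = (a : K) ^ (i + 1) • ρ (t₀ ^ (i + 1)) v :=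
      fun i => by rw [map_smul, smul_smul, ← pow_succ', pow_succ' t₀, map_mul, Module.End.mul_apply]
    show (a : K) • ρ t₀ (∑ i ∈ Finset.range n, ((a : K) ^ i) • ρ (t₀ ^ i) v) = _
    rw [map_sum, Finset.smul_sum, Finset.sum_congr rfl fun i _ => hs i]
    refine add_right_cancel (b := ((a : K) ^ 0) • ρ (t₀ ^ 0) v) ?_
    rw [← Finset.sum_range_succ' (fun i => ((a : K) ^ i) • ρ (t₀ ^ i) v) n, Finset.sum_range_succ, ht,
      hn, FiniteField.pow_card_sub_one_eq_one _ a.ne_zero, pow_zero, pow_zero]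
  have hw' : ρ t₀ (w a) = (a : K)⁻¹ • w a := by
    conv_rhs => rw [← hw]
    rw [smul_smul, inv_mul_cancel₀ a.ne_zero, one_smul]
  refine ⟨w a, ha, fun u hu => ?_, fun t htT => ?_⟩
  · show ρ u (∑ i ∈ Finset.range n, ((a : K) ^ i) • ρ (t₀ ^ i) v) = _
    rw [map_sum]
    exact Finset.sum_congr rfl fun i _ => by rw [map_smul, hfix' i u hu]
  · obtain ⟨i, hi⟩ : ∃ i : ℕ, t₀ ^ i = t := by
      obtain ⟨i, hi⟩ := Subgroup.mem_zpowers_iff.1 (hgen ⟨t, htT⟩)
      refine ⟨(i % n).toNat, ?_⟩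
      rw [← zpow_natCast, Int.toNat_of_nonneg (Int.emod_nonneg _ (by omega)),
        ← show t₀ ^ i = t from congrArg Subtype.val hi]
      conv_rhs => rw [← Int.emod_add_mul_ediv i n, zpow_add, zpow_mul, zpow_natCast, ht, one_zpow, mul_one]
    subst hi
    refine ⟨((a : K)⁻¹) ^ i, ?_⟩
    clear htT
    induction i with
    | zero => simp
    | succ i ih => rw [pow_succ t₀, map_mul, Module.End.mul_apply, hw', map_smul, ih, smul_smul, ← pow_succ']

/-- No invariant subspaces. -/
def Irreducible (ρ : Representation K H M) : Prop :=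
  ∀ W : Submodule K M, (∀ g : H, ∀ w ∈ W, ρ g w ∈ W) → W = ⊥ ∨ W = ⊤

omit [Fintype U] [Fintype K] [Finite M] in
theorem Irreducible.span_eq_top (hirr : Irreducible ρ) {v : M} (hv : v ≠ 0) :
    Submodule.span K (Set.range fun g : H => ρ g v) = ⊤ := by
  refine (hirr _ ?_).resolve_left fun h => hv ?_
  · intro g w hw
    induction hw using Submodule.span_induction with
    | mem x hx =>
      obtain ⟨h, rfl⟩ := hx
      exact Submodule.subset_span ⟨g * h, by simp [map_mul]⟩
    | zero => rw [map_zero]; exact Submodule.zero_mem _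
    | add x y _ _ hx hy => rw [map_add]; exact Submodule.add_mem _ hx hy
    | smul c x _ hx => rw [map_smul]; exact Submodule.smul_mem _ c hx
  · have h1 : ρ 1 v ∈ Submodule.span K (Set.range fun g : H => ρ g v) := Submodule.subset_span ⟨1, rfl⟩
    rwa [h, Submodule.mem_bot, map_one] at h1

omit [Fintype U] [Fintype K] in
theorem Irreducible.dual (hirr : Irreducible ρ) : Irreducible ρ.dual := by
  intro W hW
  have hinv : ∀ g : H, ∀ m ∈ W.dualCoannihilator, ρ g m ∈ W.dualCoannihilator := by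
    intro g m hm
    rw [Submodule.mem_dualCoannihilator] at hm ⊢
    intro φ hφ
    have := hm _ (hW g⁻¹ φ hφ)
    rwa [Representation.dual_apply, inv_inv, Module.Dual.transpose_apply, LinearMap.comp_apply] at this
  rcases hirr W.dualCoannihilator hinv with h | h
  · right
    rw [← Subspace.dualCoannihilator_dualAnnihilator_eq (W := W), h, Submodule.dualAnnihilator_bot]
  · left
    rw [← Subspace.dualCoannihilator_dualAnnihilator_eq (W := W), h, Submodule.dualAnnihilator_top]

/-- In an irreducible module the vectors fixed by `U` form a line. -/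
theorem fixed_line (hD : Data K U B σ T) (hirr : Irreducible ρ) {v w : M} (hv : v ≠ 0)
    (hvf : ∀ u ∈ U, ρ u v = v) (hwf : ∀ u ∈ U, ρ u w = w) : ∃ x : K, w = x • v := by
  classical
  haveI : Nontrivial M := ⟨⟨v, 0, hv⟩⟩
  haveI : Module.Free K M := inferInstance
  haveI : Finite (Module.Dual K M) := Module.finite_of_finite K
  haveI : Nontrivial (Module.Dual K M) := by
    obtain ⟨φ, hφ⟩ : ∃ φ : Module.Dual K M, φ v ≠ 0 := by
      by_contra! hh
      exact hv ((Module.forall_dual_apply_eq_zero_iff K v).1 hh)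
    exact ⟨⟨φ, 0, fun e => hφ (by rw [e]; rfl)⟩⟩
  obtain ⟨e₀, he₀⟩ := exists_weight ρ.dual hD
  obtain ⟨e, he, hh⟩ := exists_highest ρ.dual hD.setup hD.torus hD.card_eq he₀
  have hgen := (hirr.dual ρ).span_eq_top ρ.dual he.ne
  have heval : ∀ z : M, (∀ u ∈ U, ρ u z = z) → ∀ u ∈ U, ∀ φ, Module.Dual.eval K M z (ρ.dual u φ) =
      Module.Dual.eval K M z φ := fun z hz u hu φ => by
    simp only [Module.Dual.eval_apply, Representation.dual_apply, Module.Dual.transpose_apply,
      LinearMap.comp_apply, hz _ (inv_mem hu)]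
  have hinj : ∀ z : M, (∀ u ∈ U, ρ u z = z) → (ρ.dual σ e) z = 0 → z = 0 := fun z hz h0 =>
    (Module.eval_apply_eq_zero_iff K z).1 (eq_zero_of_dual ρ.dual hD.setup hh hgen (heval z hz) h0)
  refine ⟨(ρ.dual σ e) w / (ρ.dual σ e) v, sub_eq_zero.1 (hinj _ (fun u hu => ?_) ?_)⟩
  · rw [map_sub, map_smul, hvf u hu, hwf u hu]
  · rw [map_sub, map_smul, smul_eq_mul, div_mul_cancel₀ _ fun e0 => hv (hinj v hvf e0), sub_self]

variable {M' : Type*} [AddCommGroup M'] [Module K M'] [Finite M'] (ρ' : Representation K H M')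

theorem highest_of_weight (hD : Data K U B σ T) (hirr : Irreducible ρ) (he : Weight ρ U T e) :
    Highest ρ U B σ e := by
  refine ⟨fun b hb => he.line ρ hD.torus hb, ?_⟩
  obtain ⟨c, hc⟩ := fixed_line ρ hD hirr he.ne he.fix fun u hu => smul_phi ρ (σ := σ) e hu
  exact ⟨c, by rw [← phi_apply, hc]⟩

/-- Irreducible modules with the same non-trivial weight are isomorphic. -/
theorem exists_equiv (hD : Data K U B σ T) (hirr : Irreducible ρ) (hirr' : Irreducible ρ')
    {e' : M'} (he : Weight ρ U T e) (he' : Weight ρ' U T e')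
    (hsame : ∀ t ∈ T, ∀ x : K, ρ t e = x • e → ρ' t e' = x • e')
    {t : H} (ht : t ∈ T) {x : K} (hx : ρ t e = x • e) (hx2 : x * x ≠ 1) :
    ∃ L : M ≃ₗ[K] M', (∀ g m, L (ρ g m) = ρ' g (L m)) ∧ L e = e' := by
  classical
  let τ : Representation K H (M × M') :=
    { toFun := fun g => (ρ g).prodMap (ρ' g)
      map_one' := by rw [map_one, map_one]; rfl
      map_mul' := fun g h => by rw [map_mul, map_mul]; rfl }
  have hτ : ∀ g m m', τ g (m, m') = (ρ g m, ρ' g m') := fun g m m' => rfl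
  have hH := highest_of_weight ρ hD hirr he
  have hH' := highest_of_weight ρ' hD hirr' he'
  have hz := hH.rel_zero ρ hD.torus he.ne ht hx hx2
  have hz' := hH'.rel_zero ρ' hD.torus he'.ne ht (hsame t ht x hx) hx2
  have hHτ : Highest τ U B σ (e, e') := by
    refine ⟨fun b hb => ?_, 0, ?_⟩
    · obtain ⟨u, hu, s, hs, rfl⟩ := hD.torus.factor b hb
      obtain ⟨y, hy⟩ := he.eig s hs
      refine ⟨y, ?_⟩
      rw [hτ, map_mul, map_mul, Module.End.mul_apply, Module.End.mul_apply, hy, hsame s hs y hy,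
        map_smul, map_smul, he.fix u hu, he'.fix u hu]
      rfl
    · rw [zero_smul] at hz hz' ⊢
      refine Prod.ext ?_ ?_
      · rw [Prod.fst_sum]; exact hz
      · rw [Prod.snd_sum]; exact hz'
  set N : Submodule K (M × M') := Submodule.span K (Set.range fun g : H => τ g (e, e')) with hN
  have hNinv : ∀ g : H, ∀ w ∈ N, τ g w ∈ N := by
    intro g w hw
    induction hw using Submodule.span_induction with
    | mem x hx =>
      obtain ⟨h, rfl⟩ := hx
      exact Submodule.subset_span ⟨g * h, by simp [map_mul]⟩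
    | zero => rw [map_zero]; exact Submodule.zero_mem _
    | add x y _ _ hx hy => rw [map_add]; exact Submodule.add_mem _ hx hy
    | smul c x _ hx => rw [map_smul]; exact Submodule.smul_mem _ c hx
  have heN : (e, e') ∈ N := Submodule.subset_span ⟨1, by simp only [map_one]; rfl⟩
  have hne : N ≠ ⊤ := by
    intro htop
    haveI : Nontrivial M := ⟨⟨e, 0, he.ne⟩⟩
    haveI : Nontrivial M' := ⟨⟨e', 0, he'.ne⟩⟩
    haveI : Finite (Module.Dual K M) := Module.finite_of_finite K
    haveI : Finite (Module.Dual K M') := Module.finite_of_finite K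
    haveI : Nontrivial (Module.Dual K M) := by
      obtain ⟨φ, hφ⟩ : ∃ φ : Module.Dual K M, φ e ≠ 0 := by
        by_contra! hh
        exact he.ne ((Module.forall_dual_apply_eq_zero_iff K e).1 hh)
      exact ⟨⟨φ, 0, fun e0 => hφ (by rw [e0]; rfl)⟩⟩
    haveI : Nontrivial (Module.Dual K M') := by
      obtain ⟨φ, hφ⟩ : ∃ φ : Module.Dual K M', φ e' ≠ 0 := by
        by_contra! hh
        exact he'.ne ((Module.forall_dual_apply_eq_zero_iff K e').1 hh)
      exact ⟨⟨φ, 0, fun e0 => hφ (by rw [e0]; rfl)⟩⟩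
    obtain ⟨φ, hφ0, hφ⟩ := exists_fixed_ne_zero ρ.dual hD
    obtain ⟨ψ, hψ0, hψ⟩ := exists_fixed_ne_zero ρ'.dual hD
    have hφ' : ∀ u ∈ U, ∀ m, φ (ρ u m) = φ m := fun u hu m => by
      conv_rhs => rw [← hφ _ (inv_mem hu)]
      simp [Representation.dual_apply, Module.Dual.transpose_apply]
    have hψ' : ∀ u ∈ U, ∀ m, ψ (ρ' u m) = ψ m := fun u hu m => by
      conv_rhs => rw [← hψ _ (inv_mem hu)]
      simp [Representation.dual_apply, Module.Dual.transpose_apply]
    have h := dual_eq_smul τ hD.setup hHτ htop (φ := φ ∘ₗ LinearMap.fst K M M')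
      (ψ := ψ ∘ₗ LinearMap.snd K M M') (fun u hu m => hφ' u hu m.1) (fun u hu m => hψ' u hu m.2)
    obtain ⟨m, hm⟩ : ∃ m, φ m ≠ 0 := by
      by_contra! hh
      exact hφ0 (LinearMap.ext hh)
    have h1 := LinearMap.congr_fun h (m, (0 : M'))
    simp only [LinearMap.smul_apply, LinearMap.comp_apply, LinearMap.fst_apply, LinearMap.snd_apply,
      map_zero, smul_zero, hτ, smul_eq_mul, mul_eq_zero, mul_zero, hm, or_false] at h1
    exact hψ0 (eq_zero_of_dual ρ' hD.setup hH' (hirr'.span_eq_top ρ' he'.ne) hψ' h1)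
  have hfull : ∀ a : M, ∀ b : M', (a, (0 : M')) ∈ N → ((0 : M), b) ∈ N → (a, b) ∈ N := fun a b ha hb => by
    simpa using N.add_mem ha hb
  have hboth : ¬ ((e, (0 : M')) ∈ N ∨ ((0 : M), e') ∈ N) := by
    intro hh
    have h1 : (e, (0 : M')) ∈ N := hh.elim id fun h => by simpa using N.sub_mem heN h
    have h2 : ((0 : M), e') ∈ N := by simpa using N.sub_mem heN h1
    refine hne (eq_top_iff.2 ?_)
    rintro ⟨a, b⟩ -
    refine hfull a b ?_ ?_
    · have := (hirr (N.comap (LinearMap.inl K M M')) fun g w hw => by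
        show (ρ g w, (0 : M')) ∈ N
        have := hNinv g _ (show (w, (0 : M')) ∈ N from hw)
        rwa [hτ, map_zero] at this).resolve_left fun hb =>
        he.ne ((Submodule.mem_bot K).1 (hb ▸ (h1 : e ∈ N.comap (LinearMap.inl K M M'))))
      exact (this ▸ Submodule.mem_top : a ∈ N.comap (LinearMap.inl K M M'))
    · have := (hirr' (N.comap (LinearMap.inr K M M')) fun g w hw => by
        show ((0 : M), ρ' g w) ∈ N
        have := hNinv g _ (show ((0 : M), w) ∈ N from hw)
        rwa [hτ, map_zero] at this).resolve_left fun hb =>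
        he'.ne ((Submodule.mem_bot K).1 (hb ▸ (h2 : e' ∈ N.comap (LinearMap.inr K M M'))))
      exact (this ▸ Submodule.mem_top : b ∈ N.comap (LinearMap.inr K M M'))
  have hk : ∀ a : M, (a, (0 : M')) ∈ N → a = 0 := fun a ha => by
    rcases hirr (N.comap (LinearMap.inl K M M')) fun g w hw => (by
      show (ρ g w, (0 : M')) ∈ N
      have := hNinv g _ (show (w, (0 : M')) ∈ N from hw)
      rwa [hτ, map_zero] at this) with h | h
    · exact (Submodule.mem_bot K).1 (h ▸ (ha : a ∈ N.comap (LinearMap.inl K M M')))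
    · exact absurd (Or.inl (h ▸ Submodule.mem_top : e ∈ N.comap (LinearMap.inl K M M'))) hboth
  have hk' : ∀ b : M', ((0 : M), b) ∈ N → b = 0 := fun b hb => by
    rcases hirr' (N.comap (LinearMap.inr K M M')) fun g w hw => (by
      show ((0 : M), ρ' g w) ∈ N
      have := hNinv g _ (show ((0 : M), w) ∈ N from hw)
      rwa [hτ, map_zero] at this) with h | h
    · exact (Submodule.mem_bot K).1 (h ▸ (hb : b ∈ N.comap (LinearMap.inr K M M')))
    · exact absurd (Or.inr (h ▸ Submodule.mem_top : e' ∈ N.comap (LinearMap.inr K M M'))) hboth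
  have hp : Function.Bijective ((LinearMap.fst K M M').comp N.subtype) := by
    refine ⟨?_, ?_⟩
    · rw [injective_iff_map_eq_zero]
      rintro ⟨⟨a, b⟩, hab⟩ (ha : a = 0)
      subst ha
      simp [hk' b hab]
    · rw [← LinearMap.range_eq_top]
      refine (hirr _ ?_).resolve_left fun h => he.ne ?_
      · rintro g _ ⟨w, rfl⟩
        exact ⟨⟨τ g w, hNinv g _ w.2⟩, rfl⟩
      · exact (Submodule.mem_bot K).1 (h ▸ ⟨⟨(e, e'), heN⟩, rfl⟩)
  have hq : Function.Bijective ((LinearMap.snd K M M').comp N.subtype) := by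
    refine ⟨?_, ?_⟩
    · rw [injective_iff_map_eq_zero]
      rintro ⟨⟨a, b⟩, hab⟩ (hb : b = 0)
      subst hb
      simp [hk a hab]
    · rw [← LinearMap.range_eq_top]
      refine (hirr' _ ?_).resolve_left fun h => he'.ne ?_
      · rintro g _ ⟨w, rfl⟩
        exact ⟨⟨τ g w, hNinv g _ w.2⟩, rfl⟩
      · exact (Submodule.mem_bot K).1 (h ▸ ⟨⟨(e, e'), heN⟩, rfl⟩)
  set P := LinearEquiv.ofBijective _ hp with hP
  set Q := LinearEquiv.ofBijective _ hq with hQ
  refine ⟨P.symm.trans Q, fun g m => ?_, ?_⟩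
  · obtain ⟨w, rfl⟩ := P.surjective m
    rw [LinearEquiv.trans_apply, LinearEquiv.trans_apply, P.symm_apply_apply,
      show ρ g (P w) = P ⟨τ g w, hNinv g _ w.2⟩ from rfl, P.symm_apply_apply]
    rfl
  · rw [LinearEquiv.trans_apply, show e = P ⟨(e, e'), heN⟩ from rfl, P.symm_apply_apply]
    rfl

end finite

end Cfsg.Agent.CIT.Hecke
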