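import Mathlib

/-!
# Tensor powers in coordinates

`kron A` is the Kronecker product of a family of square matrices, `prodVec v` the product of a family
of vectors, both indexed by functions.
-/

set_option autoImplicit false
set_option linter.unusedSectionVars false

namespace Cfsg.Agent.CIT.Kron

open Matrix

variable {R : Type*} [CommRing R] {ι : Type*} [Fintype ι] [DecidableEq ι] {n : Type*} [Fintype n]
  [DecidableEq n]

/-- The Kronecker product of a family. -/
def kron (A : ι → Matrix n n R) : Matrix (ι → n) (ι → n) R := fun a b => ∏ i, A i (a i) (b i)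

/-- The product of a family of vectors. -/
def prodVec (v : ι → n → R) : (ι → n) → R := fun a => ∏ i, v i (a i)

theorem kron_mul (A B : ι → Matrix n n R) : kron A * kron B = kron fun i => A i * B i := by
  ext a b
  simp only [kron, Matrix.mul_apply, Fintype.prod_sum, Finset.prod_mul_distrib]

theorem kron_one : kron (fun _ : ι => (1 : Matrix n n R)) = 1 := by
  ext a b
  by_cases h : a = b
  · subst h
    simp [kron]
  · obtain ⟨i, hi⟩ := Function.ne_iff.1 h
    rw [Matrix.one_apply_ne h]
    exact Finset.prod_eq_zero (Finset.mem_univ i) (Matrix.one_apply_ne hi)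

theorem kron_transpose (A : ι → Matrix n n R) : (kron A)ᵀ = kron fun i => (A i)ᵀ := rfl

theorem kron_mulVec_pure (A : ι → Matrix n n R) (v : ι → n → R) :
    kron A *ᵥ prodVec v = prodVec fun i => A i *ᵥ v i := by
  funext a
  simp only [kron, prodVec, Matrix.mulVec, dotProduct, Fintype.prod_sum, Finset.prod_mul_distrib]

theorem pure_dotProduct (v w : ι → n → R) : prodVec v ⬝ᵥ prodVec w = ∏ i, v i ⬝ᵥ w i := by
  simp only [prodVec, dotProduct, Fintype.prod_sum, Finset.prod_mul_distrib]

theorem pure_smul (c : ι → R) (v : ι → n → R) :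
    prodVec (fun i => c i • v i) = (∏ i, c i) • prodVec v := by
  funext a
  simp [prodVec, Finset.prod_mul_distrib]

theorem pure_single (a : ι → n) : prodVec (fun i => (Pi.single (a i) 1 : n → R)) = Pi.single a 1 := by
  funext b
  by_cases h : b = a
  · subst h
    simp [prodVec]
  · obtain ⟨i, hi⟩ := Function.ne_iff.1 h
    rw [Pi.single_eq_of_ne h]
    exact Finset.prod_eq_zero (Finset.mem_univ i) (Pi.single_eq_of_ne hi 1)

section transport

variable {κ : Type*} [Fintype κ] [DecidableEq κ]

/-- The product of vectors on the summands of `ι ⊕ κ`. -/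
def sumVec (v : (ι → n) → R) (w : (κ → n) → R) : (ι ⊕ κ → n) → R :=
  fun a => v (a ∘ Sum.inl) * w (a ∘ Sum.inr)

theorem kron_sum_mulVec (A : ι ⊕ κ → Matrix n n R) (v : (ι → n) → R) (w : (κ → n) → R) :
    kron A *ᵥ sumVec v w =
      sumVec (kron (A ∘ Sum.inl) *ᵥ v) (kron (A ∘ Sum.inr) *ᵥ w) := by
  funext a
  simp only [sumVec, Matrix.mulVec, dotProduct, Finset.sum_mul_sum, ← Fintype.sum_prod_type']
  refine Fintype.sum_equiv (Equiv.sumArrowEquivProdArrow ι κ n) _ _ fun b => ?_
  simp only [kron, Fintype.prod_sum_type, Equiv.sumArrowEquivProdArrow_apply_fst,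
    Equiv.sumArrowEquivProdArrow_apply_snd, Function.comp]
  ring!

/-- A fixed vector on `ι ⊕ κ` from fixed vectors on the summands. -/
theorem sum_fixed {A : Matrix n n R} {v : (ι → n) → R} {w : (κ → n) → R}
    (hv : kron (fun _ : ι => A) *ᵥ v = v) (hw : kron (fun _ : κ => A) *ᵥ w = w) :
    kron (fun _ : ι ⊕ κ => A) *ᵥ sumVec v w = sumVec v w := by
  rw [kron_sum_mulVec]
  exact congrArg₂ sumVec hv hw

/-- Fixed vectors transport along a bijection of the index. -/
theorem reindex_fixed {A : Matrix n n R} (e : ι ≃ κ) {v : (ι → n) → R}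
    (hv : kron (fun _ : ι => A) *ᵥ v = v) :
    kron (fun _ : κ => A) *ᵥ (fun a => v (a ∘ e)) = fun a => v (a ∘ e) := by
  funext a
  have h1 := congrFun hv (a ∘ e)
  simp only [Matrix.mulVec, dotProduct] at h1 ⊢
  rw [← h1]
  refine Fintype.sum_equiv (Equiv.arrowCongr e.symm (Equiv.refl n)) _ _ fun b => ?_
  simp only [kron]
  rw [show (Equiv.arrowCongr e.symm (Equiv.refl n)) b = b ∘ e from rfl]
  congr 1
  exact (Fintype.prod_equiv e _ _ fun i => rfl).symm

end transport

end Cfsg.Agent.CIT.Kron
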