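import Cfsg.Agent.Lib.CIT.SzModuleExponent
import Cfsg.Agent.Lib.CIT.CNStructure

/-!
# A CIT group modulo its 2-core a Suzuki group has elementary abelian 2-core
-/

set_option autoImplicit false
set_option linter.unusedSectionVars false
set_option linter.style.haveILetI false

namespace Cfsg.Agent.CIT.SzModule

open Cfsg.Agent.Suzuki
open scoped IsMulCommutative

universe u

variable {F : Type} [Field F] [Fintype F] [CharP F 2] {m : ℕ}
variable (hm : 1 ≤ m) (hF : Fintype.card F = 2 ^ (2 * m + 1))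

/-- An element of prime order fixing a coset of an invariant subgroup fixes a point of it. -/
theorem fpf_quot {A : Type*} [AddCommGroup A] (h2 : ∀ a : A, a + a = 0) {f : AddMonoid.End A}
    {p : ℕ} (hp : Odd p) (hf : f ^ p = 1) (hfix : ∀ a, f a = a → a = 0) {S : AddSubgroup A}
    (hS : ∀ a ∈ S, f a ∈ S) {a : A} (ha : f a - a ∈ S) : a ∈ S := by
  have hmem : ∀ i : ℕ, (f ^ i) a - a ∈ S := by
    intro i
    induction i with
    | zero => simp
    | succ i ih =>
      have e : (f ^ (i + 1)) a - a = f ((f ^ i) a - a) + (f a - a) := by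
        rw [map_sub, pow_succ']
        show f ((f ^ i) a) - a = _
        abel
      rw [e]
      exact S.add_mem (hS _ ih) ha
  have h0 : ∑ i ∈ Finset.range p, (f ^ i) a = 0 := by
    refine hfix _ ?_
    rw [map_sum]
    have e1 := Finset.sum_range_succ (fun i => (f ^ i) a) p
    have e2 := Finset.sum_range_succ' (fun i => (f ^ i) a) p
    rw [e2, hf, pow_zero] at e1
    refine Eq.trans (Finset.sum_congr rfl fun i _ => ?_) (add_right_cancel e1)
    rw [pow_succ']
    rfl
  have hsum : ∑ i ∈ Finset.range p, ((f ^ i) a - a) ∈ S := S.sum_mem fun i _ => hmem i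
  rw [Finset.sum_sub_distrib, h0, Finset.sum_const, Finset.card_range, zero_sub] at hsum
  obtain ⟨k, rfl⟩ := hp
  rw [add_nsmul, one_nsmul, mul_nsmul, two_nsmul, h2, nsmul_zero, zero_add] at hsum
  exact S.neg_mem_iff.1 hsum

/-- A module of `Sz(q)` on which nontrivial elements of odd order fix nothing. -/
def Fpf {A : Type*} [AddCommGroup A] (ρ : Cfsg.Sz F m →* AddMonoid.End A) : Prop :=
  ∀ g, Odd (orderOf g) → g ≠ 1 → ∀ a, ρ g a = a → a = 0

/-- An invariant subgroup of such a module. -/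
def subAct {A : Type*} [AddCommGroup A] (ρ : Cfsg.Sz F m →* AddMonoid.End A) (S : AddSubgroup A)
    (hS : ∀ g, ∀ a ∈ S, ρ g a ∈ S) : Cfsg.Sz F m →* AddMonoid.End S where
  toFun g := AddMonoidHom.mk' (fun a => ⟨ρ g a, hS g a a.2⟩) fun a b => Subtype.ext (map_add (ρ g) _ _)
  map_one' := AddMonoidHom.ext fun a => Subtype.ext (by
    show ρ 1 (a : A) = a
    rw [map_one]; rfl)
  map_mul' g h := AddMonoidHom.ext fun a => Subtype.ext (by
    show ρ (g * h) (a : A) = ρ g (ρ h a)
    rw [map_mul]; rfl)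

theorem subAct_fpf {A : Type*} [AddCommGroup A] {ρ : Cfsg.Sz F m →* AddMonoid.End A} (h : Fpf ρ)
    (S : AddSubgroup A) (hS : ∀ g, ∀ a ∈ S, ρ g a ∈ S) : Fpf (subAct ρ S hS) :=
  fun g hg hg1 a ha => Subtype.ext (h g hg hg1 a (congrArg Subtype.val ha))

/-- The quotient by an invariant subgroup. -/
def quotAct {A : Type*} [AddCommGroup A] (ρ : Cfsg.Sz F m →* AddMonoid.End A) (S : AddSubgroup A)
    (hS : ∀ g, ∀ a ∈ S, ρ g a ∈ S) : Cfsg.Sz F m →* AddMonoid.End (A ⧸ S) where
  toFun g := QuotientAddGroup.map S S (ρ g) fun a ha => hS g a ha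
  map_one' := AddMonoidHom.ext fun q => by
    refine QuotientAddGroup.induction_on q fun a => ?_
    show QuotientAddGroup.mk (ρ 1 a) = _
    rw [map_one]; rfl
  map_mul' g h := AddMonoidHom.ext fun q => by
    refine QuotientAddGroup.induction_on q fun a => ?_
    show QuotientAddGroup.mk (ρ (g * h) a) = _
    rw [map_mul]; rfl

theorem quotAct_fpf {A : Type*} [AddCommGroup A] {ρ : Cfsg.Sz F m →* AddMonoid.End A} (h : Fpf ρ)
    (h2 : ∀ a : A, a + a = 0) (S : AddSubgroup A) (hS : ∀ g, ∀ a ∈ S, ρ g a ∈ S) :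
    Fpf (quotAct ρ S hS) := by
  intro g hg hg1 q hq
  induction q using QuotientAddGroup.induction_on with
  | H a =>
    refine (QuotientAddGroup.eq_zero_iff _).2 ?_
    refine fpf_quot h2 (p := orderOf g) hg ?_ (h g hg hg1) (hS g) ?_
    · rw [← map_pow, pow_orderOf_eq_one, map_one]
    · exact QuotientAddGroup.eq_iff_sub_mem.1 hq

include hm hF

/-- No equivariant biadditive maps from fixed-point-free elementary modules to the natural one. -/
theorem bilinear_module_zero : ∀ (n : ℕ) (A B : Type u) [AddCommGroup A] [Finite A] [AddCommGroup B]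
    [Finite B], Nat.card A + Nat.card B = n → (∀ a : A, a + a = 0) → (∀ b : B, b + b = 0) →
    ∀ (ρA : Cfsg.Sz F m →* AddMonoid.End A) (ρB : Cfsg.Sz F m →* AddMonoid.End B),
    Fpf ρA → Fpf ρB → ∀ β : A →+ B →+ (Fin 4 → F),
    (∀ g a b, β (ρA g a) (ρB g b) = natAct g (β a b)) → ∀ a b, β a b = 0 := by
  intro n
  induction n using Nat.strong_induction_on with
  | _ n ih =>
  intro A B _ _ _ _ hn hA2 hB2 ρA ρB hA hB β hβ a b
  rcases eq_or_ne a 0 with rfl | ha
  · simp
  rcases eq_or_ne b 0 with rfl | hb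
  · simp
  haveI : Nontrivial A := nontrivial_of_ne a 0 ha
  haveI : Nontrivial B := nontrivial_of_ne b 0 hb
  by_cases hAs : ∀ S : AddSubgroup A, (∀ g, ∀ x ∈ S, ρA g x ∈ S) → S = ⊥ ∨ S = ⊤
  · by_cases hBs : ∀ S : AddSubgroup B, (∀ g, ∀ x ∈ S, ρB g x ∈ S) → S = ⊥ ∨ S = ⊤
    · obtain ⟨EA, hEA⟩ := exists_natural hm hF hA2 ρA hA hAs
      obtain ⟨EB, hEB⟩ := exists_natural hm hF hB2 ρB hB hBs
      let β' : (Fin 4 → F) →+ (Fin 4 → F) →+ (Fin 4 → F) :=
        AddMonoidHom.mk' (fun u => (β (EA.symm u)).comp EB.symm.toAddMonoidHom) fun u v =>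
          AddMonoidHom.ext fun w => by simp
      have h := bilinear_eq_zero hm hF β' (fun g u v => by
        show β (EA.symm _) (EB.symm _) = natAct g (β (EA.symm u) (EB.symm v))
        rw [← hβ]
        congr 2
        · exact EA.injective (by rw [EA.apply_symm_apply, hEA, EA.apply_symm_apply])
        · exact EB.injective (by rw [EB.apply_symm_apply, hEB, EB.apply_symm_apply])) (EA a) (EB b)
      show β a b = 0
      have e : β' (EA a) (EB b) = β a b := by
        show β (EA.symm (EA a)) (EB.symm (EB b)) = _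
        rw [EA.symm_apply_apply, EB.symm_apply_apply]
      rwa [e] at h
    · push Not at hBs
      obtain ⟨S, hS, hSb, hSt⟩ := hBs
      have hS1 : Nat.card S < Nat.card B := lt_of_le_of_ne
        (AddSubgroup.card_le_card_addGroup _) fun e => hSt (AddSubgroup.eq_top_of_card_eq _ e)
      have h0 : ∀ x (y : S), β x y = 0 := fun x y =>
        ih _ (by omega) A S rfl hA2 (fun y => Subtype.ext (hB2 y)) ρA (subAct ρB S hS) hA
          (subAct_fpf hB S hS) (AddMonoidHom.mk' (fun x => (β x).comp S.subtype) fun x x' => by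
            ext y; simp) (fun g x y => hβ g x y) x y
      have hq : Nat.card (B ⧸ S) < Nat.card B := by
        rw [AddSubgroup.card_eq_card_quotient_mul_card_addSubgroup S]
        exact lt_mul_of_one_lt_right Nat.card_pos
          ((AddSubgroup.one_lt_card_iff_ne_bot S).2 hSb)
      exact ih _ (by omega) A (B ⧸ S) rfl hA2 (fun q => by
          induction q using QuotientAddGroup.induction_on with
          | H y => rw [← QuotientAddGroup.mk_add, hB2]; rfl)
        ρA (quotAct ρB S hS) hA (quotAct_fpf hB hB2 S hS)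
        (AddMonoidHom.mk' (fun x => QuotientAddGroup.lift S (β x) fun y hy => h0 x ⟨y, hy⟩)
          fun x x' => AddMonoidHom.ext fun q => QuotientAddGroup.induction_on q fun y => by
            show β (x + x') y = β x y + β x' y
            simp) (fun g x q => by
            induction q using QuotientAddGroup.induction_on with
            | H y => exact hβ g x y) a (QuotientAddGroup.mk b)
  · push Not at hAs
    obtain ⟨S, hS, hSb, hSt⟩ := hAs
    have hS1 : Nat.card S < Nat.card A := lt_of_le_of_ne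
      (AddSubgroup.card_le_card_addGroup _) fun e => hSt (AddSubgroup.eq_top_of_card_eq _ e)
    have h0 : ∀ (x : S) y, β x y = 0 := fun x y =>
      ih _ (by omega) S B rfl (fun x => Subtype.ext (hA2 x)) hB2 (subAct ρA S hS) ρB
        (subAct_fpf hA S hS) hB (β.comp S.subtype) (fun g x y => hβ g x y) x y
    have hq : Nat.card (A ⧸ S) < Nat.card A := by
      rw [AddSubgroup.card_eq_card_quotient_mul_card_addSubgroup S]
      exact lt_mul_of_one_lt_right Nat.card_pos ((AddSubgroup.one_lt_card_iff_ne_bot S).2 hSb)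
    exact ih _ (by omega) (A ⧸ S) B rfl (fun q => by
        induction q using QuotientAddGroup.induction_on with
        | H y => rw [← QuotientAddGroup.mk_add, hA2]; rfl)
      hB2 (quotAct ρA S hS) ρB (quotAct_fpf hA hA2 S hS) hB
      (QuotientAddGroup.lift S β fun x hx => AddMonoidHom.ext fun y => h0 ⟨x, hx⟩ y)
      (fun g q y => by
        induction q using QuotientAddGroup.induction_on with
        | H x => exact hβ g x y) (QuotientAddGroup.mk a) b

section Group

variable {G : Type u} [Group G]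

omit hm hF in
/-- Elements of odd prime order fix nothing in the kernel. -/
def KerFpf (π : G →* Cfsg.Sz F m) : Prop :=
  ∀ g : G, (orderOf g).Prime → orderOf g ≠ 2 → ∀ v ∈ π.ker, g * v = v * g → v = 1

omit hm hF in
theorem exists_odd_lift {H : Type*} [Group H] {K : Type*} [Group K] [Finite H] {f : H →* K}
    (hf : Function.Surjective f) (hker : IsPGroup 2 f.ker) {k : K} {p : ℕ} (hk : orderOf k = p)
    (hp : p.Prime) (hp2 : p ≠ 2) :
    ∃ h : H, ∃ j : ℕ, orderOf h = p ∧ f h = k ^ j ∧ k ^ j ≠ 1 := by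
  obtain ⟨h₀, rfl⟩ := hf k
  obtain ⟨i, hi⟩ := hker ⟨h₀ ^ p, by rw [MonoidHom.mem_ker, map_pow, ← hk, pow_orderOf_eq_one]⟩
  have hi' : (h₀ ^ p) ^ 2 ^ i = 1 := congrArg Subtype.val hi
  have hne : f h₀ ^ 2 ^ i ≠ 1 := fun e => hp2 ((Nat.prime_dvd_prime_iff_eq hp Nat.prime_two).1
    (hp.dvd_of_dvd_pow (hk ▸ orderOf_dvd_of_pow_eq_one e)))
  refine ⟨h₀ ^ 2 ^ i, 2 ^ i, ?_, map_pow _ _ _, hne⟩
  haveI := Fact.mk hp
  refine orderOf_eq_prime (by rw [← pow_mul, mul_comm, pow_mul, hi']) fun e => hne ?_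
  rw [← map_pow, e, map_one]

omit hm hF in
/-- Conjugation on a normal subgroup, written additively. -/
noncomputable def conjEnd (N : Subgroup G) [N.Normal] : G →* AddMonoid.End (Additive N) where
  toFun g := MonoidHom.toAdditive (MulAut.conjNormal (H := N) g).toMonoidHom
  map_one' := AddMonoidHom.ext fun x => Additive.toMul.injective (Subtype.ext (by
    show (1 : G) * (x.toMul : G) * 1⁻¹ = (x.toMul : G)
    simp))
  map_mul' g h := AddMonoidHom.ext fun x => Additive.toMul.injective (Subtype.ext (by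
    show (g * h) * (x.toMul : G) * (g * h)⁻¹ = g * (h * (x.toMul : G) * h⁻¹) * g⁻¹
    group))

omit hm hF in
theorem conjEnd_apply (N : Subgroup G) [N.Normal] (g : G) (x : Additive N) :
    ((conjEnd N g x).toMul : G) = g * (x.toMul : G) * g⁻¹ := rfl

omit hm hF in
theorem conjEnd_congr {π : G →* Cfsg.Sz F m} (N : Subgroup G) [N.Normal]
    (hc : ∀ v ∈ π.ker, ∀ x ∈ N, v * x = x * v) {g g' : G} (h : π g = π g') :
    conjEnd N g = conjEnd N g' := by
  refine AddMonoidHom.ext fun x => Additive.toMul.injective (Subtype.ext ?_)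
  show g * (x.toMul : G) * g⁻¹ = g' * (x.toMul : G) * g'⁻¹
  have hk : g'⁻¹ * g ∈ π.ker := by
    rw [MonoidHom.mem_ker, map_mul, map_inv, h, inv_mul_cancel]
  rw [show g * (x.toMul : G) * g⁻¹ = g' * ((g'⁻¹ * g) * (x.toMul : G) * (g'⁻¹ * g)⁻¹) * g'⁻¹ by group,
    hc _ hk _ x.toMul.2, mul_inv_cancel_right]

omit hm hF in
/-- The action of the quotient on an abelian normal subgroup centralised by the kernel. -/
noncomputable def kerAct {π : G →* Cfsg.Sz F m} (hπ : Function.Surjective π) (N : Subgroup G)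
    [N.Normal] (hc : ∀ v ∈ π.ker, ∀ x ∈ N, v * x = x * v) :
    Cfsg.Sz F m →* AddMonoid.End (Additive N) where
  toFun h := conjEnd N (Function.surjInv hπ h)
  map_one' := by
    rw [conjEnd_congr N hc ((Function.surjInv_eq hπ 1).trans (map_one π).symm), map_one]
  map_mul' h k := by
    rw [← map_mul]
    exact conjEnd_congr N hc (by
      rw [map_mul, Function.surjInv_eq hπ, Function.surjInv_eq hπ, Function.surjInv_eq hπ])

omit hm hF in
theorem kerAct_apply {π : G →* Cfsg.Sz F m} (hπ : Function.Surjective π) (N : Subgroup G) [N.Normal]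
    (hc : ∀ v ∈ π.ker, ∀ x ∈ N, v * x = x * v) (g : G) (x : Additive N) :
    (((kerAct hπ N hc (π g)) x).toMul : G) = g * (x.toMul : G) * g⁻¹ := by
  show ((conjEnd N (Function.surjInv hπ (π g)) x).toMul : G) = _
  rw [conjEnd_congr N hc (Function.surjInv_eq hπ (π g))]
  rfl

omit hm hF in
theorem kerAct_fpf [Finite G] {π : G →* Cfsg.Sz F m} (hπ : Function.Surjective π)
    (hker : IsPGroup 2 π.ker) (hfpf : KerFpf π) (N : Subgroup G) [N.Normal] (hN : N ≤ π.ker)
    [IsMulCommutative N] (hc : ∀ v ∈ π.ker, ∀ x ∈ N, v * x = x * v) :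
    Fpf (A := Additive N) (kerAct hπ N hc) := by
  intro h hh h1 x hx
  obtain ⟨p, hp, hpd⟩ := Nat.exists_prime_and_dvd (mt orderOf_eq_one_iff.1 h1)
  have hp2 : p ≠ 2 := by
    rintro rfl
    exact Nat.not_even_iff_odd.2 hh (even_iff_two_dvd.2 hpd)
  have hk : orderOf (h ^ (orderOf h / p)) = p := orderOf_pow_orderOf_div (orderOf_pos h).ne' hpd
  obtain ⟨g, j, hgo, hgk, -⟩ := exists_odd_lift hπ hker hk hp hp2
  have hfix : ∀ i : ℕ, kerAct hπ N hc (h ^ i) x = x := by
    intro i
    induction i with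
    | zero => simp
    | succ i ih =>
      rw [pow_succ, map_mul]
      show kerAct hπ N hc (h ^ i) (kerAct hπ N hc h x) = x
      rw [hx, ih]
  have h3 : g * (x.toMul : G) * g⁻¹ = (x.toMul : G) := by
    rw [← kerAct_apply hπ N hc, hgk, ← pow_mul, hfix]
  have := hfpf g (by rw [hgo]; exact hp) (by rw [hgo]; exact hp2) _ (hN x.toMul.2)
    (by conv_rhs => rw [← h3, inv_mul_cancel_right])
  exact Additive.toMul.injective (Subtype.ext this)

omit hm hF in
theorem kerFpf_quot [Finite G] {π : G →* Cfsg.Sz F m} (hker : IsPGroup 2 π.ker) (hfpf : KerFpf π)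
    {W : Subgroup G} [W.Normal] (hW : W ≤ π.ker) : KerFpf (QuotientGroup.lift W π hW) := by
  intro g' hp hp2 v' hv' hcomm
  set p := orderOf g' with hp'
  obtain ⟨g, j, hgo, hgk, hne⟩ := exists_odd_lift (QuotientGroup.mk'_surjective W)
    (by rw [QuotientGroup.ker_mk']; exact hker.to_le hW) hp'.symm hp hp2
  obtain ⟨v, rfl⟩ := QuotientGroup.mk'_surjective W v'
  have hv : v ∈ π.ker := hv'
  haveI := Fact.mk hp
  have hgv : g * v * g⁻¹ * v⁻¹ ∈ W := by
    rw [← QuotientGroup.eq_one_iff]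
    show QuotientGroup.mk' W _ = 1
    have hc2 : Commute (g' ^ j) (QuotientGroup.mk' W v) := Commute.pow_left hcomm j
    rw [map_mul, map_mul, map_mul, map_inv, map_inv, hgk, hc2.eq, mul_inv_cancel_right,
      mul_inv_cancel]
  let α := {x : G // x * v⁻¹ ∈ W}
  let P := Subgroup.zpowers g
  have hPact : ∀ a ∈ P, ∀ x : α, a * x.1 * a⁻¹ * v⁻¹ ∈ W := by
    intro a ha x
    have key : a * v * a⁻¹ * v⁻¹ ∈ W := by
      let C : Subgroup (G ⧸ W) := Subgroup.centralizer {QuotientGroup.mk' W v}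
      have hgC : QuotientGroup.mk' W g ∈ C := by
        rw [Subgroup.mem_centralizer_singleton_iff, hgk]
        exact Commute.pow_left hcomm j
      have haC : QuotientGroup.mk' W a ∈ C :=
        (Subgroup.zpowers_le.2 (show g ∈ C.comap (QuotientGroup.mk' W) from hgC)) ha
      rw [← QuotientGroup.eq_one_iff]
      show QuotientGroup.mk' W _ = 1
      rw [Subgroup.mem_centralizer_singleton_iff] at haC
      rw [map_mul, map_mul, map_mul, map_inv, map_inv, haC, mul_inv_cancel_right, mul_inv_cancel]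
    have e : a * x.1 * a⁻¹ * v⁻¹ = a * (x.1 * v⁻¹) * a⁻¹ * (a * v * a⁻¹ * v⁻¹) := by group
    rw [e]
    exact W.mul_mem (Subgroup.Normal.conj_mem inferInstance _ x.2 _) key
  letI : MulAction P α :=
    { smul := fun a x => ⟨(a : G) * x.1 * (a : G)⁻¹, hPact a a.2 x⟩
      one_smul := fun x => Subtype.ext (by show (1 : G) * x.1 * 1⁻¹ = x.1; simp)
      mul_smul := fun a b x => Subtype.ext (by
        show (a : G) * (b : G) * x.1 * ((a : G) * b)⁻¹ = (a : G) * ((b : G) * x.1 * (b : G)⁻¹) * (a : G)⁻¹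
        group) }
  have hcard : Nat.card α = Nat.card W := Nat.card_congr
    { toFun := fun x => ⟨_, x.2⟩
      invFun := fun w => ⟨w.1 * v, by simp⟩
      left_inv := fun x => Subtype.ext (by simp)
      right_inv := fun w => Subtype.ext (by simp) }
  have hP : IsPGroup p P := IsPGroup.of_card (n := 1) (by rw [Nat.card_zpowers, hgo, pow_one])
  have hndvd : ¬ p ∣ Nat.card α := by
    haveI := Fact.mk Nat.prime_two
    obtain ⟨i, hi⟩ := (hker.to_le hW).exists_card_eq
    rw [hcard, hi]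
    exact fun h => hp2 ((Nat.prime_dvd_prime_iff_eq hp Nat.prime_two).1 (hp.dvd_of_dvd_pow h))
  haveI : Finite α := Subtype.finite
  obtain ⟨x, hx⟩ := hP.nonempty_fixed_point_of_prime_not_dvd_card α hndvd
  have hx1 : g * x.1 * g⁻¹ = x.1 := congrArg Subtype.val (hx ⟨g, Subgroup.mem_zpowers g⟩)
  have hxker : x.1 ∈ π.ker := by
    have := π.ker.mul_mem (hW x.2) hv
    rwa [inv_mul_cancel_right] at this
  have hx0 := hfpf g (by rw [hgo]; exact hp) (by rw [hgo]; exact hp2) _ hxker
    (by conv_rhs => rw [← hx1, inv_mul_cancel_right])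
  have h := x.2
  rw [hx0, one_mul] at h
  exact (QuotientGroup.eq_one_iff v).2 (W.inv_mem_iff.1 h)

/-- The kernel is elementary abelian. -/
theorem core : ∀ (n : ℕ) (G : Type u) [Group G] [Finite G], Nat.card G = n →
    ∀ π : G →* Cfsg.Sz F m, Function.Surjective π → IsPGroup 2 π.ker → KerFpf π →
    ∀ v ∈ π.ker, v * v = 1 ∧ ∀ w ∈ π.ker, v * w = w * v := by
  intro n
  induction n using Nat.strong_induction_on with
  | _ n ih =>
  intro G _ _ hn π hπ hker hfpf
  classical
  haveI : Fact (Nat.Prime 2) := ⟨Nat.prime_two⟩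
  rcases eq_or_ne π.ker ⊥ with hb | hb
  · intro v hv
    rw [hb, Subgroup.mem_bot] at hv
    subst hv
    exact ⟨one_mul 1, fun w _ => by rw [one_mul, mul_one]⟩
  -- a minimal normal subgroup in the kernel
  have hex : ∃ k, ∃ N : Subgroup G, N.Normal ∧ N ≤ π.ker ∧ N ≠ ⊥ ∧ Nat.card N = k :=
    ⟨_, π.ker, inferInstance, le_rfl, hb, rfl⟩
  obtain ⟨W, hWn, hWV, hWb, hWk⟩ := Nat.find_spec hex
  have hmin : ∀ N : Subgroup G, N.Normal → N ≤ W → N ≠ ⊥ → N = W := fun N h1 h2 h3 =>
    Subgroup.eq_of_le_of_card_ge h2 (by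
      rw [hWk]; exact Nat.find_min' hex ⟨N, h1, h2.trans hWV, h3, rfl⟩)
  -- it is central in the kernel
  have hWc : ∀ v ∈ π.ker, ∀ x ∈ W, v * x = x * v := by
    let C := W ⊓ Subgroup.centralizer (π.ker : Set G)
    have hC : C = W := by
      refine hmin C inferInstance inf_le_left ?_
      letI : MulAction π.ker W :=
        { smul := fun v x => ⟨(v : G) * x.1 * (v : G)⁻¹, hWn.conj_mem _ x.2 _⟩
          one_smul := fun x => Subtype.ext (by show (1 : G) * x.1 * 1⁻¹ = x.1; simp)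
          mul_smul := fun a b x => Subtype.ext (by
            show (a : G) * (b : G) * x.1 * ((a : G) * b)⁻¹ = (a : G) * ((b : G) * x.1 * (b : G)⁻¹) * (a : G)⁻¹
            group) }
      have hdvd : 2 ∣ Nat.card W := by
        obtain ⟨i, hi⟩ := (hker.to_le hWV).exists_card_eq
        rcases i with _ | i
        · exact absurd (Subgroup.card_eq_one.1 (by rw [hi, pow_zero])) hWb
        · rw [hi]; exact dvd_pow_self 2 (Nat.succ_ne_zero i)
      obtain ⟨x, hx, hx1⟩ := hker.exists_fixed_point_of_prime_dvd_card_of_fixed_point W hdvd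
        (a := (1 : W)) (fun v => Subtype.ext (by show (v : G) * 1 * (v : G)⁻¹ = 1; simp))
      refine (Subgroup.ne_bot_iff_exists_ne_one).2 ⟨⟨x.1, x.2,
        Subgroup.mem_centralizer_iff.2 fun v hv => ?_⟩,
        fun e => hx1 (Subtype.ext (congrArg Subtype.val e).symm)⟩
      have h := congrArg Subtype.val (hx ⟨v, hv⟩)
      change v * x.1 * v⁻¹ = x.1 at h
      exact mul_inv_eq_iff_eq_mul.1 h
    intro v hv x hx
    rw [← hC] at hx
    exact Subgroup.mem_centralizer_iff.1 hx.2 v hv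
  have hW2 : ∀ x ∈ W, x * x = 1 := by
    let S : Subgroup G :=
      { carrier := {x | x ∈ W ∧ x * x = 1}
        one_mem' := ⟨W.one_mem, one_mul 1⟩
        mul_mem' := fun {a b} ha hb => ⟨W.mul_mem ha.1 hb.1, by
          rw [mul_assoc, ← mul_assoc b, ← hWc a (hWV ha.1) b hb.1, mul_assoc, hb.2, mul_one, ha.2]⟩
        inv_mem' := fun {a} ha => ⟨W.inv_mem ha.1, by rw [← _root_.mul_inv_rev, ha.2, inv_one]⟩ }
    have hS : S = W := by
      refine hmin S ⟨fun x hx g => ⟨hWn.conj_mem x hx.1 g, ?_⟩⟩ (fun x hx => hx.1) ?_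
      · rw [show g * x * g⁻¹ * (g * x * g⁻¹) = g * (x * x) * g⁻¹ by group, hx.2, mul_one,
          mul_inv_cancel]
      · haveI : Nontrivial W := (Subgroup.nontrivial_iff_ne_bot W).2 hWb
        obtain ⟨i, hi⟩ := (hker.to_le hWV).exists_card_eq
        have hd : 2 ∣ Nat.card W := by
          rcases i with _ | i
          · exact absurd (Subgroup.card_eq_one.1 (by rw [hi, pow_zero])) hWb
          · rw [hi]; exact dvd_pow_self 2 (Nat.succ_ne_zero i)
        obtain ⟨x, hx⟩ := exists_prime_orderOf_dvd_card' 2 hd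
        refine (Subgroup.ne_bot_iff_exists_ne_one).2 ⟨⟨x.1, x.2, ?_⟩, fun e => ?_⟩
        · have h := pow_orderOf_eq_one x
          rw [hx, pow_two] at h
          exact congrArg Subtype.val h
        · have e1 : x = 1 := Subtype.ext (show x.1 = 1 from congrArg Subtype.val e)
          rw [e1, orderOf_one] at hx
          omega
    intro x hx
    rw [← hS] at hx
    exact hx.2
  haveI : IsMulCommutative W := ⟨⟨fun a b => Subtype.ext (hWc a (hWV a.2) b b.2)⟩⟩
  let ρW := kerAct hπ W hWc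
  have hρW : Fpf ρW := kerAct_fpf hπ hker hfpf W hWV hWc
  haveI : Nontrivial (Additive W) := by
    haveI : Nontrivial W := (Subgroup.nontrivial_iff_ne_bot W).2 hWb
    exact inferInstanceAs (Nontrivial (Additive W))
  obtain ⟨E, hE⟩ := exists_natural hm hF (W := Additive W)
    (fun x => Additive.toMul.injective (Subtype.ext (hW2 _ x.toMul.2))) ρW hρW (fun Ω hΩ => by
      let S : Subgroup G := (AddSubgroup.toSubgroup' Ω).map W.subtype
      have hSn : S.Normal := ⟨fun x ⟨y, hy, e⟩ g => by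
        subst e
        exact ⟨(ρW (π g) (Additive.ofMul y)).toMul, hΩ _ _ hy, kerAct_apply hπ W hWc g _⟩⟩
      by_cases h : S = ⊥
      · refine Or.inl ((AddSubgroup.eq_bot_iff_forall _).2 fun x hx => ?_)
        have hmem : (x.toMul : G) ∈ S := ⟨x.toMul, hx, rfl⟩
        rw [h, Subgroup.mem_bot] at hmem
        exact Additive.toMul.injective (Subtype.ext hmem)
      · refine Or.inr ((AddSubgroup.eq_top_iff' Ω).2 fun x => ?_)
        obtain ⟨y, hy, e⟩ : (x.toMul : G) ∈ S := by
          rw [hmin S hSn (Subgroup.map_subtype_le _) h]; exact x.toMul.2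
        obtain rfl : y = x.toMul := Subtype.ext e
        exact hy)
  -- the quotient
  have hlt : Nat.card (G ⧸ W) < n := by
    rw [← hn, Subgroup.card_eq_card_quotient_mul_card_subgroup W]
    exact lt_mul_of_one_lt_right Nat.card_pos ((Subgroup.one_lt_card_iff_ne_bot W).2 hWb)
  set π' := QuotientGroup.lift W π hWV with hπ'
  have hπ's : Function.Surjective π' := fun y => by
    obtain ⟨g, rfl⟩ := hπ y; exact ⟨g, rfl⟩
  have hmk : ∀ q ∈ π'.ker, ∃ v ∈ π.ker, (v : G ⧸ W) = q := fun q hq => by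
    obtain ⟨v, rfl⟩ := QuotientGroup.mk_surjective q; exact ⟨v, hq, rfl⟩
  have hker' : IsPGroup 2 π'.ker := by
    have e : π'.ker = π.ker.map (QuotientGroup.mk' W) := QuotientGroup.ker_lift _ _ _
    rw [e]; exact hker.map _
  have hIH := ih _ hlt (G ⧸ W) rfl π' hπ's hker' (kerFpf_quot hker hfpf hWV)
  haveI : IsMulCommutative π'.ker := ⟨⟨fun a b => Subtype.ext ((hIH a a.2).2 b b.2)⟩⟩
  have hc' : ∀ v ∈ π'.ker, ∀ x ∈ π'.ker, v * x = x * v := fun v hv => (hIH v hv).2
  let ρA := kerAct hπ's π'.ker hc'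
  have hρA : Fpf ρA := kerAct_fpf hπ's hker' (kerFpf_quot hker hfpf hWV) _ le_rfl hc'
  -- commutators
  have hcmem : ∀ v ∈ π.ker, ∀ x ∈ π.ker, v * x * v⁻¹ * x⁻¹ ∈ W := by
    intro v hv x hx
    rw [← QuotientGroup.eq_one_iff, QuotientGroup.mk_mul, QuotientGroup.mk_mul, QuotientGroup.mk_mul,
      QuotientGroup.mk_inv, QuotientGroup.mk_inv, hc' (v : G ⧸ W) hv (x : G ⧸ W) hx,
      mul_inv_cancel_right, mul_inv_cancel]
  let cW : π.ker → π.ker → Additive W := fun v x =>
    Additive.ofMul ⟨(v : G) * x * (v : G)⁻¹ * (x : G)⁻¹, hcmem v v.2 x x.2⟩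
  have hc_l : ∀ a b x : π.ker, cW (a * b) x = cW a x + cW b x := by
    intro a b x
    refine Additive.toMul.injective (Subtype.ext ?_)
    show ((a : G) * b) * x * ((a : G) * b)⁻¹ * (x : G)⁻¹ =
      ((a : G) * x * (a : G)⁻¹ * (x : G)⁻¹) * ((b : G) * x * (b : G)⁻¹ * (x : G)⁻¹)
    have h1 := hWc a a.2 _ (hcmem b b.2 x x.2)
    have h2 := hWc _ (hWV (hcmem b b.2 x x.2)) _ (hcmem a a.2 x x.2)
    calc _ = (a : G) * ((b : G) * x * (b : G)⁻¹ * (x : G)⁻¹) * ((x : G) * (a : G)⁻¹ * (x : G)⁻¹) := by group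
      _ = ((b : G) * x * (b : G)⁻¹ * (x : G)⁻¹) * ((a : G) * x * (a : G)⁻¹ * (x : G)⁻¹) := by
        rw [h1]; group
      _ = _ := h2
  have hc_swap : ∀ a x : π.ker, cW a x = -cW x a := fun a x =>
    Additive.toMul.injective (Subtype.ext (by
      show (a : G) * x * (a : G)⁻¹ * (x : G)⁻¹ = ((x : G) * a * (x : G)⁻¹ * (a : G)⁻¹)⁻¹
      group))
  have hc_r : ∀ a x y : π.ker, cW a (x * y) = cW a x + cW a y := fun a x y => by
    rw [hc_swap a, hc_l, hc_swap a x, hc_swap a y, neg_add]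
  have hc_W : ∀ w x : π.ker, (w : G) ∈ W → cW w x = 0 := fun w x hw =>
    Additive.toMul.injective (Subtype.ext (by
      show (w : G) * x * (w : G)⁻¹ * (x : G)⁻¹ = 1
      rw [← hWc x x.2 _ hw, mul_inv_cancel_right, mul_inv_cancel]))
  have hc_eq : ∀ a b x : π.ker, ((a : G) : G ⧸ W) = (b : G) → cW a x = cW b x := by
    intro a b x e
    have hw : ((b⁻¹ * a : π.ker) : G) ∈ W := QuotientGroup.eq.1 e.symm
    have h := hc_l b (b⁻¹ * a) x
    rwa [mul_inv_cancel_left, hc_W _ x hw, add_zero] at h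
  choose rep hrepker hrep using fun a : Additive π'.ker => hmk _ a.toMul.2
  let ρV : Additive π'.ker → π.ker := fun a => ⟨rep a, hrepker a⟩
  have hval : ∀ (a b : Additive π'.ker) (v x : π.ker), ((v : G) : G ⧸ W) = a.toMul →
      ((x : G) : G ⧸ W) = b.toMul → cW (ρV a) (ρV b) = cW v x := by
    intro a b v x hv hx
    rw [hc_eq (ρV a) v _ ((hrep a).trans hv.symm), hc_swap v, hc_eq (ρV b) x _ ((hrep b).trans hx.symm),
      ← hc_swap]
  let β : Additive π'.ker →+ Additive π'.ker →+ (Fin 4 → F) :=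
    AddMonoidHom.mk' (fun a => AddMonoidHom.mk' (fun b => E (cW (ρV a) (ρV b))) fun b b' => by
      rw [← map_add, hval a (b + b') (ρV a) (ρV b * ρV b') (hrep a)
        (by show ((rep b * rep b' : G) : G ⧸ W) = _; rw [QuotientGroup.mk_mul, hrep, hrep]; rfl),
        hc_r]) fun a a' => AddMonoidHom.ext fun b => by
      show E _ = E _ + E _
      rw [← map_add, hval (a + a') b (ρV a * ρV a') (ρV b)
        (by show ((rep a * rep a' : G) : G ⧸ W) = _; rw [QuotientGroup.mk_mul, hrep, hrep]; rfl)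
        (hrep b), hc_l]
  have hA2 : ∀ a : Additive π'.ker, a + a = 0 := fun a =>
    Additive.toMul.injective (Subtype.ext (hIH _ a.toMul.2).1)
  have hβ : ∀ h a b, β (ρA h a) (ρA h b) = natAct h (β a b) := by
    intro h a b
    obtain ⟨g, rfl⟩ := hπ h
    have hconj : ∀ v : π.ker, g * (v : G) * g⁻¹ ∈ π.ker := fun v =>
      Subgroup.Normal.conj_mem inferInstance _ v.2 g
    have e : ∀ c : Additive π'.ker,
        ((g * rep c * g⁻¹ : G) : G ⧸ W) = ((ρA (π g) c).toMul : G ⧸ W) := fun c => by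
      rw [show π g = π' (g : G ⧸ W) from rfl, kerAct_apply hπ's _ hc', QuotientGroup.mk_mul,
        QuotientGroup.mk_mul, QuotientGroup.mk_inv, hrep]
    show E (cW (ρV _) (ρV _)) = natAct (π g) (E _)
    rw [hval _ _ ⟨_, hconj (ρV a)⟩ ⟨_, hconj (ρV b)⟩ (e a) (e b), ← hE]
    refine congrArg E (Additive.toMul.injective (Subtype.ext ?_))
    rw [kerAct_apply hπ W hWc]
    show g * rep a * g⁻¹ * (g * rep b * g⁻¹) * (g * rep a * g⁻¹)⁻¹ * (g * rep b * g⁻¹)⁻¹ =
      g * (rep a * rep b * (rep a)⁻¹ * (rep b)⁻¹) * g⁻¹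
    group
  have hzero := bilinear_module_zero hm hF _ (Additive π'.ker) (Additive π'.ker) rfl hA2 hA2 ρA ρA
    hρA hρA β hβ
  have hab : ∀ v ∈ π.ker, ∀ x ∈ π.ker, v * x = x * v := by
    intro v hv x hx
    have h : E (cW (ρV _) (ρV _)) = 0 :=
      hzero (Additive.ofMul ⟨(v : G ⧸ W), hv⟩) (Additive.ofMul ⟨(x : G ⧸ W), hx⟩)
    rw [hval _ _ ⟨v, hv⟩ ⟨x, hx⟩ rfl rfl, AddEquiv.map_eq_zero_iff] at h
    have h' : v * x * v⁻¹ * x⁻¹ = 1 := congrArg (fun z : Additive W => (z.toMul : G)) h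
    exact mul_inv_eq_iff_eq_mul.1 (mul_inv_eq_one.1 h')
  haveI : IsMulCommutative π.ker := ⟨⟨fun a b => Subtype.ext (hab a a.2 b b.2)⟩⟩
  let ρ := kerAct hπ π.ker hab
  let W' : AddSubgroup (Additive π.ker) := Subgroup.toAddSubgroup (W.subgroupOf π.ker)
  have hW' : ∀ g, ∀ w ∈ W', ρ g w ∈ W' := by
    intro h w hw
    obtain ⟨g, rfl⟩ := hπ h
    show ((ρ (π g) w).toMul : G) ∈ W
    rw [kerAct_apply hπ π.ker hab]
    exact hWn.conj_mem _ hw g
  let toW : W' ≃+ Additive W :=
    { toFun := fun w => Additive.ofMul ⟨(w.1.toMul : G), w.2⟩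
      invFun := fun x => ⟨Additive.ofMul ⟨x.toMul.1, hWV x.toMul.2⟩, x.toMul.2⟩
      left_inv := fun w => rfl
      right_inv := fun x => rfl
      map_add' := fun a b => rfl }
  have hexp := exponent_two hm hF ρ (kerAct_fpf hπ hker hfpf π.ker le_rfl hab) W' hW' (toW.trans E)
    (fun h w => by
      obtain ⟨g, rfl⟩ := hπ h
      show E _ = natAct (π g) (E (toW w))
      rw [← hE]
      refine congrArg E (Additive.toMul.injective (Subtype.ext ?_))
      show ((ρ (π g) w.1).toMul : G) = ((ρW (π g) (toW w)).toMul : G)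
      rw [kerAct_apply hπ π.ker hab, kerAct_apply hπ W hWc]
      rfl)
    (fun a => by
      show (a.toMul : G) * a.toMul ∈ W
      rw [← QuotientGroup.eq_one_iff, QuotientGroup.mk_mul]
      exact (hIH _ a.toMul.2).1)
  intro v hv
  refine ⟨?_, hab v hv⟩
  exact congrArg (fun z : Additive π.ker => (z.toMul : G)) (hexp (Additive.ofMul ⟨v, hv⟩))

end Group

end Cfsg.Agent.CIT.SzModule

namespace Cfsg.Agent.CIT.CN

open Subgroup Cfsg.Agent.Suzuki

universe u

/-- If a CIT group modulo its 2-core is a Suzuki group, the 2-core is elementary abelian. -/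
theorem suzukiModule : SuzukiModule.{u} := by
  intro G _ _ hC hSz
  obtain ⟨F, i1, i2, m, hm, hF, ⟨f⟩⟩ := hSz
  haveI : CharP F 2 := charTwo hF
  obtain ⟨e⟩ := lieEquiv hm hF
  set π : G →* Cfsg.Sz F m :=
    (f.trans e.symm).toMonoidHom.comp (QuotientGroup.mk' (Cfsg.pCore 2 G)) with hπ
  have hker : π.ker = Cfsg.pCore 2 G := by
    ext v
    rw [MonoidHom.mem_ker, hπ, MonoidHom.comp_apply, MulEquiv.coe_toMonoidHom,
      EmbeddingLike.map_eq_one_iff, QuotientGroup.mk'_apply, QuotientGroup.eq_one_iff]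
  haveI : Fact (Nat.Prime 2) := ⟨Nat.prime_two⟩
  have hp : IsPGroup 2 (Cfsg.pCore 2 G) := Cores.pCore_isPGroup 2
  have key := SzModule.core hm hF (Nat.card G) G rfl π
    ((f.trans e.symm).surjective.comp (QuotientGroup.mk'_surjective _)) (hker ▸ hp) (by
    intro g hg hg2 v hv hcomm
    by_contra hv1
    obtain ⟨i, hi⟩ := (hker ▸ hp : IsPGroup 2 π.ker) ⟨v, hv⟩
    have hvi : v ^ 2 ^ i = 1 := congrArg Subtype.val hi
    have hd : 2 ∣ orderOf v := by
      obtain ⟨j, -, hj⟩ := (Nat.dvd_prime_pow Nat.prime_two).1 (orderOf_dvd_of_pow_eq_one hvi)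
      rcases j with _ | j
      · exact absurd (orderOf_eq_one_iff.1 (by simpa using hj)) hv1
      · rw [hj]; exact dvd_pow_self 2 (Nat.succ_ne_zero j)
    have ht := orderOf_pow_orderOf_div (orderOf_pos v).ne' hd
    have hgc : g ∈ centralizer ({v ^ (orderOf v / 2)} : Set G) :=
      mem_centralizer_singleton_iff.2 (Commute.pow_right hcomm _)
    obtain ⟨j, hj⟩ := hC _ ht ⟨g, hgc⟩
    have hgj : g ^ 2 ^ j = 1 := congrArg Subtype.val hj
    exact hg2 ((Nat.prime_dvd_prime_iff_eq hg Nat.prime_two).1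
      (hg.dvd_of_dvd_pow (orderOf_dvd_of_pow_eq_one hgj))))
  rw [hker] at key
  exact ⟨⟨⟨fun a b => Subtype.ext ((key a a.2).2 b b.2)⟩⟩, fun a ha => by
    rw [pow_two]; exact (key a ha).1⟩

end Cfsg.Agent.CIT.CN
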