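import Cfsg.Agent.Lib.CIT.SuzukiFixed
import Cfsg.Agent.Lib.Suzuki.Solubilizer

/-!
# A fixed-point-free irreducible module of a Suzuki group is a twist of the natural module

An element of order five of `Sz(2)` fixes a vector in every product of at least two twists.
-/

set_option autoImplicit false
set_option linter.unusedSectionVars false
set_option linter.style.haveILetI false

namespace Cfsg.Agent.CIT.SuzukiTensor

open Matrix Kron

/-- An element of order five of `Sz(2)`. -/
def five : Matrix (Fin 4) (Fin 4) (ZMod 2) := !![1, 1, 0, 1; 1, 0, 1, 0; 0, 1, 0, 0; 1, 0, 0, 0]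

theorem five_pow : five * five * five * five * five = 1 := by decide +kernel

/-- A fixed vector in the square. -/
def fixTwo : (Fin 2 → Fin 4) → ZMod 2 := fun a => if (a 0 : ℕ) + (a 1 : ℕ) = 3 then 1 else 0

/-- The support of a fixed vector in the cube. -/
def cubeSupport : List (ℕ × ℕ × ℕ) :=
  [(0, 0, 2), (0, 0, 3), (0, 2, 0), (0, 2, 2), (0, 3, 0), (0, 3, 3), (1, 1, 3), (1, 3, 1), (1, 3, 3),
    (2, 0, 0), (2, 0, 2), (2, 2, 0), (3, 0, 0), (3, 0, 3), (3, 1, 1), (3, 1, 3), (3, 3, 0), (3, 3, 1)]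

/-- A fixed vector in the cube. -/
def fixThree : (Fin 3 → Fin 4) → ZMod 2 :=
  fun a => if ((a 0 : ℕ), (a 1 : ℕ), (a 2 : ℕ)) ∈ cubeSupport then 1 else 0

theorem fixTwo_fixed : kron (fun _ : Fin 2 => five) *ᵥ fixTwo = fixTwo ∧ fixTwo ≠ 0 := by
  decide +kernel

theorem fixThree_fixed : kron (fun _ : Fin 3 => five) *ᵥ fixThree = fixThree ∧ fixThree ≠ 0 := by
  decide +kernel

theorem exists_fixed_fin :
    ∀ k : ℕ, ∃ v : (Fin (k + 2) → Fin 4) → ZMod 2, kron (fun _ => five) *ᵥ v = v ∧ v ≠ 0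
  | 0 => ⟨fixTwo, fixTwo_fixed⟩
  | 1 => ⟨fixThree, fixThree_fixed⟩
  | k + 2 => by
    obtain ⟨v, hv, hv0⟩ := exists_fixed_fin k
    obtain ⟨a, ha⟩ := Function.ne_iff.1 hv0
    obtain ⟨b, hb⟩ := Function.ne_iff.1 fixTwo_fixed.2
    refine ⟨_, reindex_fixed finSumFinEquiv (sum_fixed hv fixTwo_fixed.1), Function.ne_iff.2
      ⟨Sum.elim a b ∘ finSumFinEquiv.symm, ?_⟩⟩
    simp only [sumVec, Function.comp_def, Equiv.symm_apply_apply, Sum.elim_inl, Sum.elim_inr]
    exact mul_ne_zero ha hb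

theorem exists_fixed_vec {ι : Type*} [Fintype ι] [DecidableEq ι] (h : 2 ≤ Fintype.card ι) :
    ∃ v : (ι → Fin 4) → ZMod 2, kron (fun _ => five) *ᵥ v = v ∧ v ≠ 0 := by
  obtain ⟨v, hv, hv0⟩ := exists_fixed_fin (Fintype.card ι - 2)
  obtain ⟨a, ha⟩ := Function.ne_iff.1 hv0
  let σ : Fin (Fintype.card ι - 2 + 2) ≃ ι :=
    (finCongr (by omega)).trans (Fintype.equivFin ι).symm
  refine ⟨_, reindex_fixed σ hv, Function.ne_iff.2 ⟨a ∘ σ.symm, ?_⟩⟩
  simp only [Function.comp_def, Equiv.symm_apply_apply]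
  exact ha

variable {F : Type*} [Field F] [Fintype F] [CharP F 2] {m : ℕ}

local notation "H" => Cfsg.Sz F m

variable (hm : 1 ≤ m) (hF : Fintype.card F = 2 ^ (2 * m + 1))

theorem mat_five : mat (Suzuki.tr hF 0 1 * Suzuki.sw hF : H) =
    five.map (ZMod.castHom (dvd_refl 2) F) := by
  rw [mat_mul]
  ext i j
  fin_cases i <;> fin_cases j <;>
    simp [five, mat, Suzuki.tr, Suzuki.transSL, Suzuki.transMat, Suzuki.sw, Suzuki.swapSL,
      Suzuki.swapMat, Suzuki.ovf, Matrix.mul_apply, Fin.sum_univ_four, zero_pow]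

theorem five_spec :
    Odd (orderOf (Suzuki.tr hF 0 1 * Suzuki.sw hF : H)) ∧
      (Suzuki.tr hF 0 1 * Suzuki.sw hF : H) ≠ 1 := by
  set g : H := Suzuki.tr hF 0 1 * Suzuki.sw hF with hg
  have h5 : g * g * g * g * g = 1 := by
    refine Subtype.ext (Subtype.ext ?_)
    show mat (g * g * g * g * g) = mat 1
    simp only [mat_mul, mat_one]
    rw [hg, mat_five, ← Matrix.map_mul, ← Matrix.map_mul, ← Matrix.map_mul, ← Matrix.map_mul, five_pow,
      Matrix.map_one _ (map_zero _) (map_one _)]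
  refine ⟨(show Odd 5 by decide).of_dvd_nat (orderOf_dvd_of_pow_eq_one ?_), fun h => ?_⟩
  · rw [← h5, pow_succ, pow_succ, pow_succ, pow_succ, pow_one]
  · have h1 := congrFun (congrFun (congrArg mat h) 0) 1
    rw [hg, mat_five, mat_one] at h1
    simp [five] at h1

theorem exists_fixed_rep {ι : Type*} [Fintype ι] [DecidableEq ι] (e : ι → ℕ)
    (h : 2 ≤ Fintype.card ι) :
    ∃ v : (ι → Fin 4) → F, v ≠ 0 ∧ rep e (Suzuki.tr hF 0 1 * Suzuki.sw hF : H) v = v := by
  obtain ⟨v, hv, hv0⟩ := exists_fixed_vec h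
  set φ := ZMod.castHom (dvd_refl 2) F with hφ
  refine ⟨φ ∘ v, fun hh => hv0 (funext fun a => φ.injective (by
    rw [Pi.zero_apply, map_zero]; exact congrFun hh a)), ?_⟩
  have htw : twists e (Suzuki.tr hF 0 1 * Suzuki.sw hF : H) = fun _ => five.map φ := by
    funext i
    rw [twists, mat_five, Matrix.map_map]
    congr 1
    exact congrArg DFunLike.coe (Subsingleton.elim ((frob (e i)).comp φ) φ)
  rw [rep_apply, htw]
  funext a
  conv_rhs => rw [Function.comp_apply, ← hv, RingHom.map_mulVec]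
  congr 1
  refine Matrix.ext fun x y => ?_
  simp [kron, map_prod]

include hF in
theorem wt_injective {s : Fˣ} (h : wt m s = 1) : s = 1 := by
  change (s : F) ^ 2 ^ (m + 1) * s = 1 at h
  rw [← Suzuki.theta_def] at h
  have h1 := congrArg (Suzuki.theta F m) h
  rw [map_mul, map_one, Suzuki.theta_theta hF] at h1
  exact Units.ext (by rw [Units.val_one]; linear_combination h1 - (s : F) * h)

include hF in
/-- Every non-trivial character of the torus is the weight of a product of distinct twists. -/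
theorem exists_weight_set (χ : Fˣ →* F) (hχ : ∃ s, χ s ≠ 1) :
    ∃ S : Finset (Fin (2 * m + 1)), ∀ s, χ s = ∏ i : S, wt m s ^ 2 ^ ((i : Fin (2 * m + 1)) : ℕ) := by
  classical
  let w : Fˣ →* Fˣ :=
    { toFun := fun s => s ^ 2 ^ (m + 1) * s
      map_one' := by simp
      map_mul' := fun a b => by rw [mul_pow]; ac_rfl }
  have hw : ∀ s, ((w s : Fˣ) : F) = wt m s := fun s => by simp [w, wt]
  have hinj : Function.Injective w := (injective_iff_map_eq_one w).2 fun s hs =>
    wt_injective hF (by rw [← hw, hs, Units.val_one])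
  let we : Fˣ ≃* Fˣ := MulEquiv.ofBijective w (Finite.injective_iff_bijective.1 hinj)
  obtain ⟨g, hg⟩ := IsCyclic.exists_generator (α := Fˣ)
  let χ' : Fˣ →* Fˣ := χ.toHomUnits
  have hmem : χ' (we.symm g) ∈ Subgroup.zpowers g := hg _
  obtain ⟨k, hk, hkg⟩ : ∃ k < Fintype.card Fˣ, g ^ k = χ' (we.symm g) := by
    obtain ⟨k, hk, hkg⟩ := Finset.mem_image.1 ((mem_zpowers_iff_mem_range_orderOf).1 hmem)
    rw [Finset.mem_range, orderOf_eq_card_of_forall_mem_zpowers hg, Nat.card_eq_fintype_card] at hk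
    exact ⟨k, hk, hkg⟩
  have hall : ∀ s, χ' s = w s ^ k := by
    intro s
    obtain ⟨j, hj⟩ := Subgroup.mem_zpowers_iff.1 (hg (w s))
    have hs : s = we.symm g ^ j := by
      rw [← map_zpow, hj]; exact (we.symm_apply_apply s).symm
    conv_lhs => rw [hs, map_zpow, ← hkg, ← zpow_natCast, ← _root_.zpow_mul, mul_comm, _root_.zpow_mul, hj, zpow_natCast]
  have hk2 : k < 2 ^ (2 * m + 1) := by
    rw [Fintype.card_units, hF] at hk
    omega
  have hbits : ∀ i ∈ k.bitIndices, i < 2 * m + 1 := fun i hi => by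
    have h1 := Nat.two_pow_le_of_mem_bitIndices hi
    exact (Nat.pow_lt_pow_iff_right (by norm_num)).1 (h1.trans_lt hk2)
  refine ⟨k.bitIndices.toFinset.attachFin fun i hi => hbits i (List.mem_toFinset.1 hi), fun s => ?_⟩
  rw [Finset.prod_coe_sort (f := fun i : Fin (2 * m + 1) => wt m s ^ 2 ^ (i : ℕ)),
    Finset.prod_pow_eq_pow_sum]
  have hsum : ∑ i ∈ k.bitIndices.toFinset.attachFin fun i hi => hbits i (List.mem_toFinset.1 hi),
      2 ^ (i : ℕ) = k := by
    conv_rhs => rw [← Nat.sum_map_two_pow_bitIndices k, ← List.sum_toFinset _ Nat.bitIndices_nodup]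
    refine Finset.sum_bij (fun i _ => (i : ℕ)) (fun i hi => (Finset.mem_attachFin _).1 hi)
      (fun i _ j _ h => Fin.ext h) (fun i hi => ⟨⟨i, hbits i (List.mem_toFinset.1 hi)⟩,
        (Finset.mem_attachFin _).2 hi, rfl⟩) (fun i _ => rfl)
  rw [hsum, ← hw, ← Units.val_pow_eq_pow_val, ← hall]
  rfl

include hm hF in
/-- A fixed-point-free irreducible module is a twist of the natural module. -/
theorem natural_of_fpf {M : Type*} [AddCommGroup M] [Module F M] [Finite M] [Nontrivial M]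
    (ρ : Representation F H M) (hirr : Hecke.Irreducible ρ)
    (hfpf : ∀ g : H, Odd (orderOf g) → g ≠ 1 → ∀ v : M, ρ g v = v → v = 0) :
    ∃ i : ℕ, i < 2 * m + 1 ∧ ∃ L : M ≃ₗ[F] (Fin 4 → F),
      ∀ g v, L (ρ g v) = (mat g).map (frob i) *ᵥ L v := by
  classical
  have hD := Hecke.suzuki_data hm hF
  obtain ⟨e₀, he₀⟩ := Hecke.exists_weight ρ hD
  choose x hx using fun s : Fˣ => he₀.eig (Suzuki.tor hF s) ⟨s, rfl⟩
  let χ : Fˣ →* F :=
    { toFun := x
      map_one' := smul_left_injective F he₀.ne (by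
        show x 1 • e₀ = (1 : F) • e₀
        rw [← hx, Suzuki.tor_one, map_one, one_smul]; rfl)
      map_mul' := fun a b => smul_left_injective F he₀.ne (by
        show x (a * b) • e₀ = (x a * x b) • e₀
        rw [← hx, Suzuki.tor_mul, map_mul, Module.End.mul_apply, hx, map_smul, hx, smul_smul, mul_comm]) }
  have hχ : ∃ s, χ s ≠ 1 := by
    obtain ⟨s, hs⟩ := Suzuki.exists_unit_ne_one (F := F) hm hF
    refine ⟨s, fun h => he₀.ne (hfpf _ (Suzuki.odd_orderOf_tor' hm hF s) (fun hh => hs ?_) _ ?_)⟩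
    · exact Suzuki.tor_injective hF (by rw [hh, Suzuki.tor_one])
    · rw [hx, show x s = 1 from h, one_smul]
  obtain ⟨S, hS⟩ := exists_weight_set hF χ hχ
  set e : S → ℕ := fun i => ((i : Fin (2 * m + 1)) : ℕ) with he
  have hinj : Function.Injective e := fun a b h => Subtype.ext (Fin.ext h)
  have hlt : ∀ i, e i < 2 * m + 1 := fun i => (i : Fin (2 * m + 1)).isLt
  have hirr' := irreducible hm hF hinj hlt
  have hw' : Hecke.Weight (rep (m := m) e) (Suzuki.U (m := m) hF) (Hecke.torHom (m := m) hF).range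
      (top S) := by
    refine ⟨top_ne_zero, ?_, ?_⟩
    · rintro _ ⟨a, b, rfl⟩
      exact rep_tr_top e hF a b
    · rintro _ ⟨s, rfl⟩
      exact ⟨_, rep_tor_top e hF s⟩
  obtain ⟨s, hs⟩ := hχ
  obtain ⟨L, hL, -⟩ := Hecke.exists_equiv ρ (rep e) hD hirr hirr' he₀ hw' (by
    rintro _ ⟨r, rfl⟩ c hc
    have hxc : x r = c := smul_left_injective F he₀.ne ((hx r).symm.trans hc)
    show rep e (Suzuki.tor hF r) (top S) = c • top S
    rw [rep_tor_top e hF, ← hxc, show x r = χ r from rfl, hS r]) (t := Suzuki.tor hF s) ⟨s, rfl⟩ (hx s)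
    (fun h => hs (by
      have : (x s - 1) ^ 2 = 0 := by linear_combination h - (x s - 1) * CharTwo.two_eq_zero (R := F)
      exact sub_eq_zero.1 (pow_eq_zero_iff two_ne_zero |>.1 this)))
  have hone : Fintype.card S = 1 := by
    have h0 : Fintype.card S ≠ 0 := fun h => hs (by
      haveI : IsEmpty S := Fintype.card_eq_zero_iff.1 h
      rw [hS s, Finset.univ_eq_empty, Finset.prod_empty])
    by_contra h1
    obtain ⟨v, hv0, hv⟩ := exists_fixed_rep hF e (by omega)
    obtain ⟨w, rfl⟩ := L.surjective v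
    refine hv0 ?_
    rw [hfpf _ (five_spec hF).1 (five_spec hF).2 w (L.injective (by rw [hL, hv])), map_zero]
  obtain ⟨i₀, hi₀⟩ := Fintype.card_eq_one_iff.1 hone
  haveI : Unique S := ⟨⟨i₀⟩, hi₀⟩
  refine ⟨e i₀, hlt i₀, L.trans (LinearEquiv.funCongrLeft F F (Equiv.funUnique S (Fin 4)).symm), fun g v => ?_⟩
  funext a
  show L (ρ g v) ((Equiv.funUnique S (Fin 4)).symm a) = _
  rw [hL, rep_apply]
  simp only [Matrix.mulVec, dotProduct]
  refine Fintype.sum_equiv (Equiv.funUnique S (Fin 4)) _ _ fun b => ?_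
  have hd : (default : S) = i₀ := hi₀ _
  simp only [kron, Fintype.prod_unique, twists, hd]
  congr 1
  · rw [← hd]; rfl
  show L v b = L v ((Equiv.funUnique S (Fin 4)).symm _)
  rw [Equiv.symm_apply_apply]

include hm hF in
/-- Two different twists: the matrix model is irreducible. -/
theorem irreducible_pair : ∀ i < 2 * m + 1, ∀ j < 2 * m + 1, i ≠ j →
    ∀ W : Submodule F (Matrix (Fin 4) (Fin 4) F),
      (∀ g : H, ∀ X ∈ W, (mat g).map (frob i) * X * ((mat g).map (frob j))ᵀ ∈ W) → W = ⊥ ∨ W = ⊤ := by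
  intro i hi j hj hij W hW
  let L : ((Fin 2 → Fin 4) → F) ≃ₗ[F] Matrix (Fin 4) (Fin 4) F :=
    { toFun := fun v => Matrix.of fun a b => v ![a, b]
      invFun := fun X a => X (a 0) (a 1)
      map_add' := fun _ _ => rfl
      map_smul' := fun _ _ => rfl
      left_inv := fun v => funext fun a => congrArg v (funext fun k => by fin_cases k <;> rfl)
      right_inv := fun X => rfl }
  have key : ∀ (g : H) v, L (rep ![i, j] g v) = (mat g).map (frob i) * L v * ((mat g).map (frob j))ᵀ := by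
    intro g v
    ext a b
    show rep ![i, j] g v ![a, b] = _
    rw [rep_apply]
    simp only [Matrix.mulVec, dotProduct, Matrix.mul_apply, Finset.sum_mul, Matrix.transpose_apply]
    rw [Finset.sum_comm, ← Fintype.sum_prod_type']
    refine Fintype.sum_equiv (piFinTwoEquiv fun _ => Fin 4) _ _ fun c => ?_
    simp only [kron, twists, Fin.prod_univ_two]
    show _ * v c = _ * v ![c 0, c 1] * _
    rw [show ![c 0, c 1] = c from funext fun k => by fin_cases k <;> rfl]
    simp only [Matrix.cons_val_zero, Matrix.cons_val_one, piFinTwoEquiv_apply]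
    ring
  have hinj : Function.Injective ![i, j] := by
    intro a b h
    fin_cases a <;> fin_cases b <;> simp at h <;> first | rfl | exact absurd h hij | exact absurd h.symm hij
  have hlt : ∀ k, ![i, j] k < 2 * m + 1 := fun k => by fin_cases k <;> assumption
  rcases irreducible hm hF hinj hlt (W.comap L.toLinearMap) (fun g v hv => by
    show L _ ∈ W
    rw [key]
    exact hW g _ hv) with h | h
  · left
    refine (Submodule.eq_bot_iff W).2 fun X hX => ?_
    obtain ⟨v, rfl⟩ := L.surjective X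
    have hv : v ∈ W.comap L.toLinearMap := hX
    rw [h, Submodule.mem_bot] at hv
    rw [hv, map_zero]
  · right
    refine (Submodule.eq_top_iff'.2 fun X => ?_)
    obtain ⟨v, rfl⟩ := L.surjective X
    exact (by rw [h]; trivial : v ∈ W.comap L.toLinearMap)

end Cfsg.Agent.CIT.SuzukiTensor
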