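import Cfsg.Agent.Lib.CIT.SuzukiData
import Cfsg.Agent.Lib.CIT.SuzukiKron
import Cfsg.Agent.Lib.Suzuki.Form

/-!
# Tensor products of twists of the natural module of a Suzuki group

For a set `ι` of pairwise distinct twists the vectors fixed by the translations form a line and the
module is irreducible.
-/

set_option autoImplicit false
set_option linter.unusedSectionVars false
set_option linter.style.haveILetI false

namespace Cfsg.Agent.CIT.SuzukiTensor

open Matrix Kron

variable {F : Type*} [Field F] [Fintype F] [CharP F 2] {m : ℕ}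

local notation "H" => Cfsg.Sz F m

/-- The twist by `x ↦ x ^ 2 ^ e`. -/
noncomputable def frob (e : ℕ) : F →+* F := iterateFrobenius F 2 e

theorem frob_def (e : ℕ) (x : F) : frob e x = x ^ 2 ^ e := iterateFrobenius_def 2 e x

/-- The matrix of `g`. -/
def mat (g : H) : Matrix (Fin 4) (Fin 4) F := (g.1 : Matrix (Fin 4) (Fin 4) F)

theorem mat_mul (g h : H) : mat (g * h) = mat g * mat h :=
  Matrix.SpecialLinearGroup.coe_mul g.1 h.1

theorem mat_one : mat (1 : H) = 1 := Matrix.SpecialLinearGroup.coe_one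

variable {ι : Type*} [Fintype ι] [DecidableEq ι] (e : ι → ℕ)

/-- The twisted matrices of `g`. -/
noncomputable def twists (g : H) : ι → Matrix (Fin 4) (Fin 4) F := fun i => (mat g).map (frob (e i))

theorem twists_mul (g h : H) : (fun i => twists e g i * twists e h i) = twists e (g * h) := by
  funext i
  simp only [twists, mat_mul, Matrix.map_mul]

/-- The tensor product of the twists `e i` of the natural module. -/
noncomputable def rep : Representation F H ((ι → Fin 4) → F) where
  toFun g := Matrix.toLin' (kron (twists e g))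
  map_one' := by
    have h : twists e (1 : H) = fun _ => (1 : Matrix (Fin 4) (Fin 4) F) := by
      funext i
      simp [twists, mat_one]
    rw [h, kron_one, Matrix.toLin'_one]
    rfl
  map_mul' g h := by
    rw [← twists_mul, ← kron_mul, Matrix.toLin'_mul]
    rfl

theorem rep_apply (g : H) (v : (ι → Fin 4) → F) : rep e g v = kron (twists e g) *ᵥ v :=
  Matrix.toLin'_apply _ _

theorem rep_pure (g : H) (v : ι → Fin 4 → F) :
    rep e g (prodVec v) = prodVec fun i => (mat g).map (frob (e i)) *ᵥ v i := by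
  rw [rep_apply, kron_mulVec_pure]
  rfl

/-- The highest vector. -/
def top (ι : Type*) [Fintype ι] : (ι → Fin 4) → F := prodVec fun _ => ![1, 0, 0, 0]

/-- The lowest vector. -/
def low (ι : Type*) [Fintype ι] : (ι → Fin 4) → F := prodVec fun _ => ![0, 0, 0, 1]

theorem top_apply : (top ι : (ι → Fin 4) → F) (fun _ => 0) = 1 := by simp [top, prodVec]

theorem top_ne_zero : (top ι : (ι → Fin 4) → F) ≠ 0 := fun h => by
  have := congrFun h fun _ => 0
  rw [top_apply] at this
  exact one_ne_zero this

variable (hm : 1 ≤ m) (hF : Fintype.card F = 2 ^ (2 * m + 1))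

include hF in
theorem rep_tr_top (a b : F) : rep e (Suzuki.tr hF a b) (top ι) = top ι := by
  rw [top, rep_pure]
  congr 1
  funext i j
  fin_cases j <;> simp [mat, Suzuki.tr, Suzuki.transSL, Suzuki.transMat, Matrix.mulVec, dotProduct,
    Fin.sum_univ_four]

/-- The character of the torus on the highest vector of the natural module. -/
def wt (m : ℕ) (s : Fˣ) : F := (s : F) ^ 2 ^ (m + 1) * s

theorem rep_tor_top (s : Fˣ) :
    rep e (Suzuki.tor hF s) (top ι) = (∏ i, wt m s ^ 2 ^ e i) • top ι := by
  rw [top, rep_pure, ← pure_smul]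
  congr 1
  funext i j
  fin_cases j <;> simp [mat, Suzuki.tor, Suzuki.torusSL, Suzuki.torusMat, Matrix.mulVec, dotProduct,
    Fin.sum_univ_four, Matrix.diagonal, wt, frob_def]

include hF in
theorem rep_sw_top : rep e (Suzuki.sw hF) (top ι) = low ι := by
  rw [top, rep_pure]
  refine congrArg prodVec (funext fun i => funext fun j => ?_)
  fin_cases j <;> simp [mat, Suzuki.sw, Suzuki.swapSL, Suzuki.swapMat, Matrix.mulVec, dotProduct,
    Fin.sum_univ_four]

/-- The invariant form. -/
def form (ι : Type*) [Fintype ι] : Matrix (ι → Fin 4) (ι → Fin 4) F :=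
  kron fun _ => Suzuki.swapMat

theorem form_mul_self : form ι * form ι = (1 : Matrix (ι → Fin 4) (ι → Fin 4) F) := by
  rw [form, kron_mul]
  simp only [Suzuki.swapMat_mul_self, kron_one]

theorem map_swapMat (φ : F →+* F) :
    (Suzuki.swapMat : Matrix (Fin 4) (Fin 4) F).map φ = Suzuki.swapMat := by
  ext i j
  fin_cases i <;> fin_cases j <;> simp [Suzuki.swapMat]

include hm hF in
theorem form_invariant (g : H) (v w : (ι → Fin 4) → F) :
    rep e g v ⬝ᵥ form ι *ᵥ rep e g w = v ⬝ᵥ form ι *ᵥ w := by
  have h : (kron (twists e g))ᵀ * form ι * kron (twists e g) = form ι := by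
    rw [form, kron_transpose, kron_mul, kron_mul]
    congr 1
    funext i
    have h0 := congrArg (fun M : Matrix (Fin 4) (Fin 4) F => M.map (frob (e i)))
      (Suzuki.preserves_form hm hF g.2)
    change ((mat g)ᵀ * Suzuki.swapMat * mat g).map (frob (e i)) =
      Suzuki.swapMat.map (frob (e i)) at h0
    rw [Matrix.map_mul, Matrix.map_mul, map_swapMat, Matrix.transpose_map] at h0
    exact h0
  rw [rep_apply, rep_apply, ← Matrix.vecMul_transpose, ← Matrix.dotProduct_mulVec, Matrix.mulVec_mulVec,
    Matrix.mulVec_mulVec, h]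

/-- An invariant subspace other than `⊥` contains a vector fixed by a subgroup of 2-power order. -/
theorem exists_fixed_mem {V : Type*} [AddCommGroup V] [Module F V] [Finite V] {G : Type*} [Group G]
    (ρ : Representation F G V) {U : Subgroup G} (hU : IsPGroup 2 U) {W : Submodule F V}
    (hW : ∀ g : G, ∀ w ∈ W, ρ g w ∈ W) (h0 : W ≠ ⊥) :
    ∃ v ∈ W, v ≠ 0 ∧ ∀ u ∈ U, ρ u v = v := by
  haveI : Fact (Nat.Prime 2) := ⟨Nat.prime_two⟩
  letI : MulAction U W :=
    { smul := fun u w => ⟨ρ (u : G) w, hW _ _ w.2⟩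
      one_smul := fun w => Subtype.ext (by
        show ρ ((1 : U) : G) w = w
        rw [OneMemClass.coe_one, map_one]; rfl)
      mul_smul := fun a b w => Subtype.ext (by
        show ρ ((a * b : U) : G) w = ρ (a : G) (ρ (b : G) w)
        rw [Subgroup.coe_mul, map_mul]; rfl) }
  haveI : Nontrivial W := (Submodule.nontrivial_iff_ne_bot).2 h0
  obtain ⟨x, hx⟩ := exists_ne (0 : W)
  have h2 : 2 ∣ Nat.card W := by
    rw [← addOrderOf_eq_prime (p := 2) (x := x) (by
      rw [← Nat.cast_smul_eq_nsmul F, Nat.cast_two, CharTwo.two_eq_zero, zero_smul]) hx]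
    exact addOrderOf_dvd_natCard x
  obtain ⟨v, hv, hne⟩ := hU.exists_fixed_point_of_prime_dvd_card_of_fixed_point W h2
    (a := (0 : W)) fun u => Subtype.ext (map_zero (ρ (u : G)))
  exact ⟨v, v.2, fun h => hne (Subtype.ext h.symm), fun u hu => congrArg Subtype.val (hv ⟨u, hu⟩)⟩

/-- The vectors fixed by the translations form the top line. -/
def FixedLine (e : ι → ℕ) : Prop :=
  ∀ v : (ι → Fin 4) → F, (∀ a b : F, rep e (Suzuki.tr hF a b) v = v) → ∃ x : F, v = x • top ι

include hm hF in
theorem irreducible_of_fixedLine (hfix : FixedLine hF e) :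
    Hecke.Irreducible (rep (m := m) (F := F) e) := by
  have hU := (Hecke.suzuki_data hm hF).pgroup
  have topMem : ∀ W : Submodule F ((ι → Fin 4) → F),
      (∀ g : H, ∀ w ∈ W, rep e g w ∈ W) → W ≠ ⊥ → top ι ∈ W := by
    intro W hW h0
    obtain ⟨v, hvW, hv0, hv⟩ := exists_fixed_mem (rep e) hU hW h0
    obtain ⟨x, rfl⟩ := hfix v fun a b => hv _ ⟨a, b, rfl⟩
    have hx : x ≠ 0 := fun h => hv0 (by rw [h, zero_smul])
    simpa [smul_smul, hx] using W.smul_mem x⁻¹ hvW
  intro W hW
  by_cases h0 : W = ⊥
  · exact Or.inl h0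
  right
  let Φ : ((ι → Fin 4) → F) →ₗ[F] Module.Dual F W :=
    { toFun := fun v =>
        { toFun := fun w => (w : (ι → Fin 4) → F) ⬝ᵥ form ι *ᵥ v
          map_add' := fun w w' => add_dotProduct _ _ _
          map_smul' := fun c w => smul_dotProduct c (w : (ι → Fin 4) → F) _ }
      map_add' := fun v v' => LinearMap.ext fun w => by
        show (w : (ι → Fin 4) → F) ⬝ᵥ form ι *ᵥ (v + v') = _
        rw [Matrix.mulVec_add, dotProduct_add]; rfl
      map_smul' := fun c v => LinearMap.ext fun w => by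
        show (w : (ι → Fin 4) → F) ⬝ᵥ form ι *ᵥ (c • v) = _
        rw [Matrix.mulVec_smul, dotProduct_smul]; rfl }
  have hker : Φ.ker = ⊥ := by
    by_contra hk
    have hinv : ∀ g : H, ∀ v ∈ Φ.ker, rep e g v ∈ Φ.ker := by
      intro g v hv
      rw [LinearMap.mem_ker] at hv ⊢
      refine LinearMap.ext fun w => ?_
      have h1 := LinearMap.congr_fun hv ⟨rep e g⁻¹ w, hW _ _ w.2⟩
      change rep e g⁻¹ w ⬝ᵥ form ι *ᵥ v = 0 at h1
      show (w : (ι → Fin 4) → F) ⬝ᵥ form ι *ᵥ rep e g v = 0
      rw [← h1, ← form_invariant e hm hF g⁻¹ (w : (ι → Fin 4) → F) (rep e g v),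
        ← Module.End.mul_apply, ← map_mul, inv_mul_cancel, map_one]
      rfl
    have h1 := LinearMap.congr_fun (LinearMap.mem_ker.1 (topMem _ hinv hk))
      ⟨rep e (Suzuki.sw hF) (top ι), hW _ _ (topMem W hW h0)⟩
    change rep e (Suzuki.sw hF) (top ι) ⬝ᵥ form ι *ᵥ top ι = 0 at h1
    rw [rep_sw_top, low, form, top, kron_mulVec_pure, pure_dotProduct] at h1
    refine one_ne_zero (α := F) (Eq.trans (Eq.symm ?_) h1)
    refine Finset.prod_eq_one fun i _ => ?_
    simp [Suzuki.swapMat, Matrix.mulVec, dotProduct, Fin.sum_univ_four]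
  refine Submodule.eq_top_of_finrank_eq (le_antisymm (Submodule.finrank_le W) ?_)
  rw [← Subspace.dual_finrank_eq (V := W)]
  exact LinearMap.finrank_le_finrank_of_injective (LinearMap.ker_eq_bot.1 hker)

end Cfsg.Agent.CIT.SuzukiTensor
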