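import Cfsg.Agent.Lib.CIT.SzModuleSection

/-!
# No equivariant biadditive maps on the natural module of `Sz(q)`
-/

set_option autoImplicit false
set_option linter.unusedSectionVars false
set_option linter.style.haveILetI false

namespace Cfsg.Agent.CIT.SzModule

open Cfsg.Agent.Suzuki Matrix

variable {F : Type*} [Field F] [Fintype F] [CharP F 2] {m : ℕ}
variable (hm : 1 ≤ m) (hF : Fintype.card F = 2 ^ (2 * m + 1))

/-- The absolute trace. -/
def tw (m : ℕ) (x : F) : F := ∑ i ∈ Finset.range (2 * m + 1), x ^ 2 ^ i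

theorem natAct_smul (g : Cfsg.Sz F m) (c : F) (v : Fin 4 → F) :
    natAct g (c • v) = c • natAct g v := by
  rw [natAct_apply, natAct_apply, Matrix.mulVec_smul]

include hF

theorem tw_eq (x : F) : tw m x = 0 ∨ tw m x = 1 := by
  have h : tw m x ^ 2 = tw m x := by
    haveI : Fact (Nat.Prime 2) := ⟨Nat.prime_two⟩
    rw [tw, sum_pow_char 2]
    have e1 := Finset.sum_range_succ (fun i => x ^ 2 ^ i) (2 * m + 1)
    have e2 := Finset.sum_range_succ' (fun i => x ^ 2 ^ i) (2 * m + 1)
    rw [e2] at e1
    simp only [← hF, FiniteField.pow_card, pow_zero, pow_one] at e1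
    simp only [← pow_mul, ← pow_succ]
    exact add_right_cancel e1
  have h' : tw m x * (tw m x - 1) = 0 := by linear_combination h
  rcases mul_eq_zero.1 h' with e | e
  · exact Or.inl e
  · exact Or.inr (sub_eq_zero.1 e)

theorem sum_tw_inv_mul [DecidableEq F] : ∑ c : Fˣ, tw m ((c⁻¹ : Fˣ) : F) * c = 1 := by
  simp only [tw, Finset.sum_mul]
  rw [Finset.sum_comm, Finset.sum_eq_single 0]
  · simp only [pow_zero, pow_one, Units.inv_mul, Finset.sum_const, Finset.card_univ, nsmul_one]
    rw [Fintype.card_units, hF, Nat.cast_sub Nat.one_le_two_pow]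
    push_cast
    rw [CharTwo.two_eq_zero, zero_pow (by omega), zero_sub, CharTwo.neg_eq]
  · intro i hi hi0
    have hin := Finset.mem_range.1 hi
    have e : ∀ c : Fˣ, ((c⁻¹ : Fˣ) : F) ^ 2 ^ i * c = ((c⁻¹ : Fˣ) : F) ^ (2 ^ i - 1) := fun c => by
      conv_lhs => rw [← Nat.sub_add_cancel (Nat.one_le_two_pow (n := i)), pow_succ, mul_assoc,
        Units.inv_mul, mul_one]
    simp only [e]
    rw [Fintype.sum_equiv (Equiv.inv Fˣ) (fun c => ((c⁻¹ : Fˣ) : F) ^ (2 ^ i - 1))
      (fun c => (c : F) ^ (2 ^ i - 1)) (fun c => rfl), FiniteField.sum_pow_units, if_neg]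
    intro hdvd
    have h1 : 2 ≤ 2 ^ i := Nat.le_self_pow hi0 2
    have h2 : 2 ^ i < Fintype.card F := by rw [hF]; exact Nat.pow_lt_pow_right one_lt_two hin
    have := Nat.le_of_dvd (by omega) hdvd
    omega
  · simp

/-- Averaging over the scalars recovers an additive map. -/
theorem sum_twist [DecidableEq F] (h : (Fin 4 → F) →+ (Fin 4 → F)) (u : Fin 4 → F) :
    ∑ i ∈ Finset.range (2 * m + 1), ∑ c : Fˣ, ((c⁻¹ : Fˣ) : F) ^ 2 ^ i • h ((c : F) • u) = h u := by
  rw [Finset.sum_comm]
  simp_rw [← Finset.sum_smul]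
  have e : ∀ c : Fˣ, tw m ((c⁻¹ : Fˣ) : F) • h ((c : F) • u) =
      h ((tw m ((c⁻¹ : Fˣ) : F) * c) • u) := by
    intro c
    rcases tw_eq hF ((c⁻¹ : Fˣ) : F) with e | e <;> rw [e] <;> simp
  show ∑ c : Fˣ, tw m _ • _ = _
  simp only [e]
  rw [← map_sum, ← Finset.sum_smul, sum_tw_inv_mul hF, one_smul]

include hm

/-- An equivariant biadditive map on the natural module is zero. -/
theorem bilinear_eq_zero (β : (Fin 4 → F) →+ (Fin 4 → F) →+ (Fin 4 → F))
    (hβ : ∀ (g : Cfsg.Sz F m) u v, β (natAct g u) (natAct g v) = natAct g (β u v))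
    (u v : Fin 4 → F) : β u v = 0 := by
  classical
  let B : ℕ → ℕ → (Fin 4 → F) → (Fin 4 → F) → (Fin 4 → F) := fun i j u v =>
    ∑ c : Fˣ, ∑ d : Fˣ,
      (((c⁻¹ : Fˣ) : F) ^ 2 ^ i * ((d⁻¹ : Fˣ) : F) ^ 2 ^ j) • β ((c : F) • u) ((d : F) • v)
  have hsum : β u v = ∑ i ∈ Finset.range (2 * m + 1), ∑ j ∈ Finset.range (2 * m + 1), B i j u v := by
    conv_lhs => rw [show β u v = β.flip v u from rfl, ← sum_twist hF (β.flip v) u]
    refine Finset.sum_congr rfl fun i _ => ?_
    rw [Finset.sum_comm]
    refine Finset.sum_congr rfl fun c _ => ?_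
    rw [AddMonoidHom.flip_apply, ← sum_twist hF (β ((c : F) • u)) v, Finset.smul_sum]
    refine Finset.sum_congr rfl fun j _ => ?_
    rw [Finset.smul_sum]
    simp_rw [smul_smul]
  rw [hsum]
  refine Finset.sum_eq_zero fun i hi => Finset.sum_eq_zero fun j hj => ?_
  have haddl : ∀ a b w, B i j (a + b) w = B i j a w + B i j b w := fun a b w => by
    simp [B, smul_add, Finset.sum_add_distrib]
  have haddr : ∀ a b w, B i j w (a + b) = B i j w a + B i j w b := fun a b w => by
    simp [B, smul_add, Finset.sum_add_distrib]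
  have hsmull : ∀ (y : F) a b, B i j (y • a) b = y ^ 2 ^ i • B i j a b := by
    intro y a b
    rcases eq_or_ne y 0 with rfl | hy
    · simp [B]
    show ∑ c : Fˣ, _ = _ • ∑ c : Fˣ, _
    rw [Finset.smul_sum]
    refine Fintype.sum_equiv (Equiv.mulRight (Units.mk0 y hy)) _ _ fun c => ?_
    rw [Finset.smul_sum]
    refine Finset.sum_congr rfl fun d _ => ?_
    simp only [Equiv.coe_mulRight, Units.val_inv_eq_inv_val, Units.val_mul, Units.val_mk0,
      smul_smul]
    congr 1
    have := pow_ne_zero (2 ^ i) hy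
    simp only [mul_inv, mul_pow, inv_pow y]
    field_simp
  have hsmulr : ∀ (y : F) a b, B i j a (y • b) = y ^ 2 ^ j • B i j a b := by
    intro y a b
    rcases eq_or_ne y 0 with rfl | hy
    · simp [B]
    show ∑ c : Fˣ, _ = _ • ∑ c : Fˣ, _
    rw [Finset.smul_sum]
    refine Finset.sum_congr rfl fun c _ => ?_
    rw [Finset.smul_sum]
    refine Fintype.sum_equiv (Equiv.mulRight (Units.mk0 y hy)) _ _ fun d => ?_
    simp only [Equiv.coe_mulRight, Units.val_inv_eq_inv_val, Units.val_mul, Units.val_mk0,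
      smul_smul]
    congr 1
    have := pow_ne_zero (2 ^ j) hy
    simp only [mul_inv, mul_pow, inv_pow y]
    field_simp
  have hequiv : ∀ (g : Cfsg.Sz F m) a b,
      B i j (natAct g a) (natAct g b) = natAct g (B i j a b) := by
    intro g a b
    simp only [B, map_sum, natAct_smul, ← hβ]
  have hexp : ∀ a b, B i j a b = ∑ k : Fin 4, ∑ l : Fin 4,
      (a k ^ 2 ^ i * b l ^ 2 ^ j) • B i j (Pi.single k 1) (Pi.single l 1) := by
    intro a b
    let Φ : (Fin 4 → F) →+ (Fin 4 → F) →+ (Fin 4 → F) :=
      AddMonoidHom.mk' (fun a => AddMonoidHom.mk' (B i j a) fun b c => haddr b c a)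
        fun a c => AddMonoidHom.ext fun b => haddl a c b
    have h1 : ∀ w : Fin 4 → F, w = ∑ k, w k • (Pi.single k (1 : F) : Fin 4 → F) := fun w => by
      funext x; simp [Pi.single_apply]
    show Φ a b = _
    conv_lhs => rw [h1 a, h1 b]
    simp only [map_sum, AddMonoidHom.finsetSum_apply]
    rw [Finset.sum_comm]
    refine Finset.sum_congr rfl fun k _ => Finset.sum_congr rfl fun l _ => ?_
    show B i j _ _ = _
    rw [hsmull, hsmulr, smul_smul]
  suffices hX : ∀ k l : Fin 4, B i j (Pi.single k 1) (Pi.single l 1) = 0 by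
    rw [hexp]
    exact Finset.sum_eq_zero fun k _ => Finset.sum_eq_zero fun l _ => by rw [hX, smul_zero]
  by_cases hij : i = j
  · subst hij
    obtain ⟨s, hs⟩ := exists_unit_ne_one (F := F) hm hF
    have hs1 : (s : F) ≠ 1 := fun e => hs (Units.ext e)
    have hS : (s : F) ^ 2 ^ (m + 1) * s ≠ 1 := fun e =>
      hs1 (eq_one_of_theta_mul hF (m := m) (by rw [theta_def]; exact e))
    have hS0 : (s : F) ^ 2 ^ (m + 1) * s ≠ 0 := mul_ne_zero (pow_ne_zero _ s.ne_zero) s.ne_zero
    have h03 : B i i (Pi.single 0 1) (Pi.single 3 1) = 0 := by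
      have h := hequiv (tor hF s) (Pi.single 0 1) (Pi.single 3 1)
      rw [natAct_tor_single, natAct_tor_single,
        show ∀ (k : Fin 4) (y : F), (Pi.single k (y * 1) : Fin 4 → F) = y • Pi.single k 1 from
          fun k y => by rw [← Pi.single_smul, smul_eq_mul],
        show ∀ (k : Fin 4) (y : F), (Pi.single k (y * 1) : Fin 4 → F) = y • Pi.single k 1 from
          fun k y => by rw [← Pi.single_smul, smul_eq_mul],
        hsmull, hsmulr, smul_smul, ← mul_pow] at h
      simp only [Matrix.cons_val_zero, Matrix.cons_val, mul_inv_cancel₀ hS0, one_pow, one_smul] at h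
      funext k
      have hk := congrFun h k
      rw [natAct_apply] at hk
      change _ = (torusMat m s *ᵥ _) k at hk
      rw [torusMat, Matrix.mulVec_diagonal] at hk
      refine Classical.byContradiction fun h0 => ?_
      have h1 := mul_right_cancel₀ h0 ((one_mul _).trans hk)
      fin_cases k <;> simp at h1
      · exact hS h1.symm
      · exact hs1 h1.symm
      · exact hs1 (by simp [h1])
      · exact hS (inv_eq_one.1 (by rw [_root_.mul_inv_rev]; exact h1.symm))
    have hcol : ∀ a b : F, B i i (Pi.single 0 1) ![ovf m a b, b, a, 1] = 0 := by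
      intro a b
      have h := hequiv (tr hF a b) (Pi.single 0 1) (Pi.single 3 1)
      rw [h03, map_zero, natAct_tr_single] at h
      simp only [mul_one] at h
      have e0 : natAct (tr hF a b : Cfsg.Sz F m) (Pi.single 0 1) = Pi.single 0 1 := by
        rw [natAct_apply, Matrix.mulVec_single_one]
        funext k
        rw [Matrix.col_apply, trans_col_zero hF, Matrix.one_apply, Pi.single_apply]
      rwa [e0] at h
    have hlin : ∀ a b : F,
        ovf m a b ^ 2 ^ i • B i i (Pi.single 0 1) (Pi.single 0 1) +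
        b ^ 2 ^ i • B i i (Pi.single 0 1) (Pi.single 1 1) +
        a ^ 2 ^ i • B i i (Pi.single 0 1) (Pi.single 2 1) = 0 := by
      intro a b
      rw [← hsmulr, ← hsmulr, ← hsmulr, ← haddr, ← haddr]
      have h := hcol a b
      rw [show ![ovf m a b, b, a, 1] = ovf m a b • (Pi.single 0 1 : Fin 4 → F) +
        b • Pi.single 1 1 + a • Pi.single 2 1 + Pi.single 3 1 by
          funext k; fin_cases k <;> simp, haddr, h03, add_zero] at h
      exact h
    have hovf : ∀ a : F, ovf m a 0 = a ^ (2 ^ (m + 1) + 2) := fun a => by simp [ovf]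
    have l1 := hlin 1 0
    have l2 := hlin s 0
    have l3 := hlin 0 1
    simp [hovf, ovf] at l1 l2 l3
    set X0 := B i i (Pi.single 0 1) (Pi.single 0 1) with hX0d
    have hX0 : X0 = 0 := by
      have hX2 : B i i (Pi.single 0 1) (Pi.single 2 1) = X0 := by
        funext k
        exact (CharTwo.add_eq_zero.1 (congrFun l1 k)).symm
      rw [hX2, ← add_smul] at l2
      refine (smul_eq_zero.1 l2).resolve_left fun e => hS ?_
      have e1 := iterateFrobenius_inj F 2 i (show iterateFrobenius F 2 i ((s : F) ^ (2 ^ (m + 1) + 2)) =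
        iterateFrobenius F 2 i (s : F) by
          rw [iterateFrobenius_def, iterateFrobenius_def]; exact CharTwo.add_eq_zero.1 e)
      apply mul_right_cancel₀ s.ne_zero
      rw [one_mul]
      conv_rhs => rw [← e1]
      ring
    have hX1 : B i i (Pi.single 0 1) (Pi.single 1 1) = 0 := by simpa [hX0] using l3
    have hX2 : B i i (Pi.single 0 1) (Pi.single 2 1) = 0 := by simpa [hX0] using l1
    have he0 : ∀ b, B i i (Pi.single 0 1) b = 0 := by
      intro b
      rw [hexp]
      refine Finset.sum_eq_zero fun k _ => Finset.sum_eq_zero fun l _ => ?_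
      by_cases hk : k = 0
      · subst hk
        fin_cases l <;> simp
        exacts [Or.inr hX0, Or.inr hX1, Or.inr hX2, Or.inr h03]
      · simp [Pi.single_apply, hk]
    let Ω : AddSubgroup (Fin 4 → F) :=
      { carrier := {a | ∀ b, B i i a b = 0}
        zero_mem' := fun b => by simp [B]
        add_mem' := fun {a c} ha hc b => by rw [haddl, ha b, hc b, add_zero]
        neg_mem' := fun {a} ha b => by rw [show -a = a from funext fun _ => CharTwo.neg_eq _]; exact ha b }
    have hΩ := stable_eq_top hF (Ω := Ω) (fun g a ha b => by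
      have h := hequiv g a (natAct g⁻¹ b)
      rw [ha, map_zero] at h
      rwa [show natAct g (natAct g⁻¹ b) = b by
        show (natAct g * natAct g⁻¹) b = b
        rw [← map_mul, mul_inv_cancel, map_one]; rfl] at h)
      (one_ne_zero (α := F)) he0
    intro k l
    exact (hΩ ▸ AddSubgroup.mem_top (Pi.single k 1) : Pi.single k 1 ∈ Ω) _
  · let J : Fin 2 → Fin (2 * m + 1) := ![⟨i, Finset.mem_range.1 hi⟩, ⟨j, Finset.mem_range.1 hj⟩]
    have hJ : Function.Injective J := by
      intro a b h
      have h' := congrArg Fin.val h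
      fin_cases a <;> fin_cases b <;> simp [J] at h' ⊢
      · exact hij h'
      · exact hij h'.symm
    set f := fun k => fr (RingHom.id F) (J k : ℕ) with hf
    let X : (Fin 2 → Fin 4) → Fin 4 → F := fun α => B i j (Pi.single (α 0) 1) (Pi.single (α 1) 1)
    let L : ((Fin 2 → Fin 4) → F) →ₗ[F] (Fin 4 → F) :=
      { toFun := fun w => ∑ α, w α • X α
        map_add' := fun w w' => by simp [add_smul, Finset.sum_add_distrib]
        map_smul' := fun y w => by simp [Finset.smul_sum, smul_smul] }
    have hpair : ∀ Y : Fin 4 → Fin 4 → (Fin 4 → F),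
        ∑ k, ∑ l, Y k l = ∑ α : Fin 2 → Fin 4, Y (α 0) (α 1) := by
      intro Y
      rw [← Fintype.sum_prod_type']
      exact (Fintype.sum_equiv (finTwoArrowEquiv (Fin 4)) _ _ fun α => rfl).symm
    have hL : ∀ (g : Cfsg.Sz F m) w, L (tens f g w) = natAct g (L w) := by
      intro g w
      have key : ∀ γ : Fin 2 → Fin 4, natAct g (X γ) =
          ∑ α, tmat f (g.1.1 : Matrix (Fin 4) (Fin 4) F) α γ • X α := by
        intro γ
        rw [← hequiv, hexp, hpair]
        refine Finset.sum_congr rfl fun α _ => ?_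
        congr 1
        rw [tmat_apply, Fin.prod_univ_two]
        simp [hf, fr_apply, J, natAct_apply, Matrix.mulVec_single_one]
      show ∑ α, (tmat f _ *ᵥ w) α • X α = natAct g (∑ α, w α • X α)
      simp only [map_sum, natAct_smul, key, Finset.smul_sum, Matrix.mulVec, dotProduct,
        Finset.sum_smul]
      rw [Finset.sum_comm]
      exact Finset.sum_congr rfl fun γ _ => Finset.sum_congr rfl fun α _ => by
        rw [smul_smul, mul_comm]
    have hker : LinearMap.ker L = ⊤ := by
      refine (irred_sub hm hF (RingHom.id F) hJ _ fun g w hw => ?_).resolve_left ?_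
      · rw [LinearMap.mem_ker] at hw ⊢
        rw [hL, hw, map_zero]
      · exact LinearMap.ker_ne_bot_of_finrank_lt (by simp [Module.finrank_pi])
    intro k l
    have h : L (Pi.single ![k, l] 1) = 0 :=
      LinearMap.mem_ker.1 (hker ▸ Submodule.mem_top)
    simpa [L, X, Pi.single_apply] using h

end Cfsg.Agent.CIT.SzModule
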