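import Cfsg.Agent.Lib.CIT.SzModuleBilinear

/-!
# A fixed-point-free abelian 2-group over `Sz(q)` with natural squares has exponent two
-/

set_option autoImplicit false
set_option linter.unusedSectionVars false
set_option linter.style.haveILetI false

namespace Cfsg.Agent.CIT.SzModule

open Cfsg.Agent.Suzuki Matrix

variable {F : Type*} [Field F] [Fintype F] [CharP F 2] {m : ℕ}
variable (hm : 1 ≤ m) (hF : Fintype.card F = 2 ^ (2 * m + 1))

include hF

theorem tw_add (x y : F) : tw m (x + y) = tw m x + tw m y := by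
  haveI : Fact (Nat.Prime 2) := ⟨Nat.prime_two⟩
  rw [tw, tw, tw, ← Finset.sum_add_distrib]
  exact Finset.sum_congr rfl fun i _ => add_pow_char_pow x y 2 i

theorem tw_sq (x : F) : tw m (x * x) = tw m x := by
  haveI : Fact (Nat.Prime 2) := ⟨Nat.prime_two⟩
  have h : tw m (x * x) = tw m x ^ 2 := by
    rw [tw, tw, sum_pow_char 2]
    exact Finset.sum_congr rfl fun i _ => by rw [← sq, ← pow_mul, ← pow_mul, mul_comm]
  rcases tw_eq hF x with e | e <;> simp [h, e]

omit hF in
theorem mul_self_add_eq_zero {x : F} (h : x * x + x = 0) : x = 0 ∨ x = 1 := by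
  have h' : x * (x + 1) = 0 := by linear_combination h
  rcases mul_eq_zero.1 h' with e | e
  · exact Or.inl e
  · exact Or.inr (CharTwo.add_eq_zero.1 e)

omit hF in
theorem fibre_eq {x y : F} (h : y * y + y = x * x + x) : y = x ∨ y = x + 1 := by
  have h2 : (2 : F) = 0 := CharTwo.two_eq_zero
  rcases mul_self_add_eq_zero (x := y + x)
    (by linear_combination h + (x * y + x * x + x) * h2) with e | e
  · exact Or.inl (CharTwo.add_eq_zero.1 e)
  · exact Or.inr (by linear_combination e - x * h2)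

/-- The trace-zero elements are the `x * x + x`. -/
theorem exists_of_tw_zero {z : F} (hz : tw m z = 0) : ∃ x : F, x * x + x = z := by
  classical
  let ψ : F →+ F := AddMonoidHom.mk' (fun x => x * x + x) fun x y => by
    have h2 : (2 : F) = 0 := CharTwo.two_eq_zero
    linear_combination x * y * h2
  let T : F →+ F := AddMonoidHom.mk' (tw m) (tw_add hF)
  have hle : ψ.range ≤ T.ker := by
    rintro _ ⟨x, rfl⟩
    show tw m (x * x + x) = 0
    rw [tw_add hF, tw_sq hF, CharTwo.add_self_eq_zero]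
  have hψ : Nat.card ψ.ker ≤ 2 := by
    refine le_trans (Nat.card_le_card_of_injective
      (fun x : ψ.ker => decide (x.1 = 0)) fun x y h => ?_) (by simp)
    rcases mul_self_add_eq_zero x.2 with ex | ex <;> rcases mul_self_add_eq_zero y.2 with ey | ey <;>
      simp [ex, ey] at h <;> exact Subtype.ext (ex.trans ey.symm)
  have hT : 2 ≤ Nat.card T.range := by
    haveI : Nontrivial T.range := by
      obtain ⟨c, hc⟩ : ∃ c : Fˣ, tw m ((c⁻¹ : Fˣ) : F) ≠ 0 := by
        by_contra hno
        push Not at hno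
        have h := sum_tw_inv_mul (m := m) hF
        simp only [hno, zero_mul, Finset.sum_const_zero] at h
        exact zero_ne_one h
      exact nontrivial_of_ne ⟨_, _, rfl⟩ 0 fun e => hc (congrArg Subtype.val e)
    exact Finite.one_lt_card
  have e1 : Nat.card ψ.ker * Nat.card ψ.range = Nat.card F := by
    rw [← AddSubgroup.index_ker, AddSubgroup.card_mul_index]
  have e2 : Nat.card T.ker * Nat.card T.range = Nat.card F := by
    rw [← AddSubgroup.index_ker, AddSubgroup.card_mul_index]
  have heq : ψ.range = T.ker := AddSubgroup.eq_of_le_of_card_ge hle (by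
    have h3 : Nat.card ψ.ker * Nat.card ψ.range ≤ 2 * Nat.card ψ.range := Nat.mul_le_mul_right _ hψ
    have h4 : Nat.card T.ker * 2 ≤ Nat.card T.ker * Nat.card T.range := Nat.mul_le_mul_left _ hT
    omega)
  exact (heq ▸ (show z ∈ T.ker from hz) : z ∈ ψ.range)

include hm

/-- The sum of the inverses of the trace-zero elements. -/
theorem sum_inv_tw_zero [DecidableEq F] :
    ∑ z ∈ Finset.univ.filter (fun z : F => tw m z = 0), z⁻¹ = 1 := by
  rw [Finset.sum_filter]
  have e : ∀ z : F, (if tw m z = 0 then z⁻¹ else 0) = z⁻¹ + tw m z * z⁻¹ := fun z => by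
    rcases tw_eq hF z with h | h <;> simp [h, CharTwo.add_self_eq_zero]
  simp only [e]
  rw [Finset.sum_add_distrib, Fintype.sum_bijective (fun x : F => x⁻¹) inv_involutive.bijective
    (fun x => x⁻¹) (fun x => x ^ 1) (fun x => (pow_one _).symm),
    FiniteField.sum_pow_lt_card_sub_one, zero_add,
    ← Fintype.sum_of_injective (fun c : Fˣ => (c : F)) Units.val_injective
      (fun c : Fˣ => tw m (c : F) * (c : F)⁻¹) (fun z => tw m z * z⁻¹) (fun z hz => ?_)
      (fun c => rfl)]
  · rw [← sum_tw_inv_mul (m := m) hF]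
    exact Fintype.sum_equiv (Equiv.inv Fˣ) _ _ fun c => by simp
  · have hz0 : z = 0 := Classical.byContradiction fun h => hz ⟨Units.mk0 z h, rfl⟩
    simp [hz0]
  · rw [hF]
    have : 8 ≤ 2 ^ (2 * m + 1) :=
      le_trans (by norm_num) (Nat.pow_le_pow_right two_pos (show 3 ≤ 2 * m + 1 by omega))
    omega

/-- Squares in the natural module force exponent two. -/
theorem exponent_two {A : Type*} [AddCommGroup A] [Finite A]
    (ρ : Cfsg.Sz F m →* AddMonoid.End A)
    (hfpf : ∀ g, Odd (orderOf g) → g ≠ 1 → ∀ a, ρ g a = a → a = 0)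
    (W : AddSubgroup A) (hW : ∀ g, ∀ w ∈ W, ρ g w ∈ W) (E : W ≃+ (Fin 4 → F))
    (hE : ∀ g (w : W), E ⟨ρ g w, hW g w w.2⟩ = natAct g (E w))
    (h2 : ∀ a : A, a + a ∈ W) (a : A) : a + a = 0 := by
  classical
  let D : A →+ (Fin 4 → F) := AddMonoidHom.mk' (fun a => E ⟨a + a, h2 a⟩) fun a b => by
    rw [← map_add]
    exact congrArg E (Subtype.ext (by simp only [AddSubgroup.coe_add]; abel))
  have hD : ∀ g a, D (ρ g a) = natAct g (D a) := fun g a => by
    show E _ = natAct g (E _)
    rw [← hE]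
    exact congrArg E (Subtype.ext (map_add (ρ g) a a).symm)
  by_contra ha
  obtain ⟨v, hv⟩ : ∃ v, D v = Pi.single 3 1 := by
    have hne : D a ≠ 0 := fun h => ha (congrArg Subtype.val (E.map_eq_zero_iff.1 h))
    have hst : ∀ g, ∀ w ∈ D.range, natAct g w ∈ D.range := fun g w ⟨b, hb⟩ =>
      ⟨ρ g b, by rw [hD, hb]⟩
    obtain ⟨w, hw, hw0, hwf⟩ := exists_fixed_add (fun x => funext fun _ => CharTwo.add_self_eq_zero _)
      natAct (isPGroup_U (m := m) hF) (Ω := D.range) (fun g _ => hst g) ⟨a, rfl⟩ hne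
    have hlow : w = Pi.single 0 (w 0) := eq_low_of_fixed (m := m) (RingHom.id F) (by
      rw [RingHom.coe_id, Matrix.map_id]
      exact hwf _ ⟨1, 0, rfl⟩)
    have htop := stable_eq_top hF hst (c := w 0) (fun h => hw0 (by rw [hlow, h, Pi.single_zero]))
      (by rw [← hlow]; exact hw)
    exact (htop ▸ AddSubgroup.mem_top _ : Pi.single 3 1 ∈ D.range)
  set P := 2 ^ m with hP
  set r := 2 ^ (m + 1) with hr
  have hr2 : r = 2 * P := by rw [hr, hP, pow_succ, mul_comm]
  have hq : Fintype.card F = 2 * (P * P) := by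
    rw [hF, hP, ← pow_add, ← pow_succ']; congr 1; omega
  obtain ⟨T, hT⟩ : ∃ T, r = T + 1 := ⟨r - 1, by have : 0 < r := pow_pos two_pos _; omega⟩
  set k := P * T with hk
  have hexp1 : ∀ b : Fˣ, ((b : F) ^ k) ^ r * ((b : F) ^ k) ^ 2 = b := by
    intro b
    have e : k * (r + 2) + r = r * Fintype.card F + Fintype.card F := by
      rw [hk, hq]; nlinarith [hT, hr2]
    have e2 := congrArg (fun n => (b : F) ^ n) e
    simp only [pow_add, mul_comm r, pow_mul, FiniteField.pow_card] at e2
    refine mul_right_cancel₀ (pow_ne_zero r b.ne_zero) ?_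
    rw [← pow_add, ← pow_mul] at *
    linear_combination e2
  have hexp2 : ∀ b : Fˣ, ((b : F) ^ k) ^ r * (b : F) ^ k = (b : F) ^ P := by
    intro b
    have e : k * (r + 1) + P = Fintype.card F * r := by rw [hk, hq]; nlinarith [hT, hr2]
    have e2 := congrArg (fun n => (b : F) ^ n) e
    simp only [pow_add, pow_mul, pow_one, FiniteField.pow_card] at e2
    refine mul_right_cancel₀ (pow_ne_zero P b.ne_zero) ?_
    rw [← pow_add, hr2, two_mul, pow_add] at *
    linear_combination e2
  let τ : Fˣ → Cfsg.Sz F m := fun b => tor hF (b ^ k)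
  have hτmul : ∀ b c, τ (b * c) = τ b * τ c := fun b c => by simp only [τ, mul_pow, tor_mul]
  have hconj : ∀ b : Fˣ, τ b * tr hF 0 1 = tr hF 0 (b : F) * τ b := fun b => by
    simp only [τ]
    rw [tor_mul_tr, Units.val_pow_eq_pow_val, mul_zero, mul_one, hexp1]
  have hnorm : ∀ y, ∑ b, ρ (τ b) y = 0 := by
    intro y
    obtain ⟨s, hs⟩ := exists_unit_ne_one (F := F) hm hF
    refine hfpf (τ s) (tor_odd_order hF _) (fun e => hs (Units.ext ?_)) _ ?_
    · have h := hconj s
      rw [e, one_mul, mul_one] at h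
      exact ((tr_injective hF h).2).symm
    · rw [map_sum]
      refine Fintype.sum_equiv (Equiv.mulLeft s) _ _ fun b => ?_
      rw [Equiv.coe_mulLeft, hτmul, map_mul]
      rfl
  have I1 : ∀ y, ∑ b : Fˣ, ρ (tr hF 0 (b : F) * τ b) y = 0 := fun y => by
    rw [← hnorm (ρ (tr hF 0 1) y)]
    refine Finset.sum_congr rfl fun b _ => ?_
    rw [← hconj, map_mul]
    rfl
  let G : Fˣ → Fˣ → A := fun a b => ρ (tr hF 0 ((a : F) + b) * τ (a * b)) v
  have I2 : ∑ p : Fˣ × Fˣ, G p.1 p.2 = 0 := by
    rw [Fintype.sum_prod_type]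
    refine Finset.sum_eq_zero fun a _ => ?_
    have e : ∀ b : Fˣ, G a b = ρ (tr hF 0 (a : F)) (ρ (tr hF 0 (b : F) * τ b) (ρ (τ a) v)) := by
      intro b
      show _ = (ρ _ * (ρ _ * ρ _) : AddMonoid.End A) v
      rw [← map_mul, ← map_mul, mul_assoc (tr hF 0 (b : F)), ← hτmul, mul_comm b a, ← mul_assoc,
        tr_mul, add_zero, mul_zero, add_zero]
    simp only [e]
    rw [← map_sum, I1, map_zero]
  let T' : Fˣ → F → A := fun c z =>
    if hz : z = 0 then 0 else ρ (tr hF 0 (c : F) * τ (c * c * Units.mk0 z hz)) v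
  set X := Finset.univ.filter (fun x : F => x ≠ 0 ∧ x ≠ 1) with hX
  have hoff : ∑ p ∈ Finset.univ.filter (fun p : Fˣ × Fˣ => p.1 ≠ p.2), G p.1 p.2 =
      ∑ c : Fˣ, ∑ x ∈ X, T' c (x * x + x) := by
    rw [← Finset.sum_product']
    have hne : ∀ p : Fˣ × Fˣ, p.1 ≠ p.2 → (p.1 : F) + p.2 ≠ 0 := fun p h e =>
      h (Units.ext (CharTwo.add_eq_zero.1 e))
    refine Finset.sum_bij'
      (i := fun p hp => (Units.mk0 _ (hne p (Finset.mem_filter.1 hp).2),
        (p.1 : F) / ((p.1 : F) + p.2)))
      (j := fun q hq => (q.1 * Units.mk0 q.2 (Finset.mem_filter.1 (Finset.mem_product.1 hq).2).2.1,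
        q.1 * Units.mk0 (q.2 + 1) fun e =>
          (Finset.mem_filter.1 (Finset.mem_product.1 hq).2).2.2 (CharTwo.add_eq_zero.1 e)))
      ?_ ?_ ?_ ?_ ?_
    · intro p hp
      have h0 := hne p (Finset.mem_filter.1 hp).2
      refine Finset.mem_product.2 ⟨Finset.mem_univ _, Finset.mem_filter.2 ⟨Finset.mem_univ _,
        div_ne_zero p.1.ne_zero h0, fun e => ?_⟩⟩
      simp only [div_eq_one_iff_eq h0] at e
      exact p.2.ne_zero (left_eq_add.1 e)
    · intro q hq
      refine Finset.mem_filter.2 ⟨Finset.mem_univ _, fun e => ?_⟩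
      have e' := congrArg Units.val (mul_left_cancel e)
      simp at e'
    · intro p hp
      have h0 := hne p (Finset.mem_filter.1 hp).2
      refine Prod.ext (Units.ext ?_) (Units.ext ?_) <;> simp only [Units.val_mul, Units.val_mk0]
      · field_simp
      · have h2' : (2 : F) = 0 := CharTwo.two_eq_zero
        field_simp
        linear_combination (p.1 : F) * h2'
    · intro q hq
      have h0 := q.1.ne_zero
      have e : ((q.1 : F) * q.2) + (q.1 : F) * (q.2 + 1) = q.1 := by
        linear_combination ((q.1 : F) * q.2) * (CharTwo.two_eq_zero : (2 : F) = 0)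
      refine Prod.ext (Units.ext ?_) ?_ <;> simp only [Units.val_mul, Units.val_mk0, e]
      field_simp
    · intro p hp
      have h0 := hne p (Finset.mem_filter.1 hp).2
      set c := Units.mk0 _ h0 with hc
      have h2' : (2 : F) = 0 := CharTwo.two_eq_zero
      have ez : (p.1 : F) / ((p.1 : F) + p.2) * ((p.1 : F) / ((p.1 : F) + p.2)) +
          (p.1 : F) / ((p.1 : F) + p.2) = (p.1 : F) * p.2 / ((p.1 : F) + p.2) ^ 2 := by
        field_simp
        linear_combination (p.1 : F) * h2'
      simp only [G, T', ez]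
      rw [dif_neg (div_ne_zero (mul_ne_zero p.1.ne_zero p.2.ne_zero) (pow_ne_zero 2 h0))]
      congr 4
      apply Units.ext
      simp only [hc, Units.val_mul, Units.val_mk0]
      field_simp
  have hdiag : ∑ p ∈ Finset.univ.filter (fun p : Fˣ × Fˣ => ¬ p.1 ≠ p.2), G p.1 p.2 = 0 := by
    rw [← hnorm v]
    refine Finset.sum_bij (fun p _ => p.1 * p.1) (fun _ _ => Finset.mem_univ _) ?_ ?_ ?_
    · intro p hp q hq h
      have h1 : (p.1 : F) ^ 2 = (q.1 : F) ^ 2 := by simpa [sq] using congrArg Units.val h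
      have e := Units.ext (CharTwo.sq_injective h1)
      simp only [Finset.mem_filter, not_not] at hp hq
      exact Prod.ext e (by rw [← hp.2, ← hq.2, e])
    · intro b _
      obtain ⟨a, ha⟩ := ((Finite.injective_iff_bijective (f := fun a : Fˣ => a * a)).1 fun x y h =>
        Units.ext (CharTwo.sq_injective (by simpa [sq] using congrArg Units.val h))).2 b
      exact ⟨(a, a), by simp, ha⟩
    · intro p hp
      have e : p.1 = p.2 := not_not.1 (Finset.mem_filter.1 hp).2
      simp only [G, ← e, CharTwo.add_self_eq_zero, tr_zero, one_mul]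
  rw [← Finset.sum_filter_add_sum_filter_not Finset.univ (fun p : Fˣ × Fˣ => p.1 ≠ p.2), hoff, hdiag,
    add_zero] at I2
  -- pair the two preimages of every trace-zero element
  set Z := Finset.univ.filter (fun z : F => tw m z = 0) with hZ
  have hfib : ∀ c, ∑ x ∈ X, T' c (x * x + x) = ∑ z ∈ Z, (T' c z + T' c z) := by
    intro c
    rw [← Finset.sum_fiberwise_of_maps_to (g := fun x : F => x * x + x) (t := Z) (fun x _ =>
      Finset.mem_filter.2 ⟨Finset.mem_univ _, show tw m (x * x + x) = 0 by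
        rw [tw_add hF, tw_sq hF, CharTwo.add_self_eq_zero]⟩)]
    refine Finset.sum_congr rfl fun z hz => ?_
    rw [Finset.sum_congr rfl (fun x hx => by rw [(Finset.mem_filter.1 hx).2])]
    rcases eq_or_ne z 0 with rfl | hz0
    · simp [T']
    obtain ⟨x, rfl⟩ := exists_of_tw_zero hF (Finset.mem_filter.1 hz).2
    have hset : X.filter (fun y => y * y + y = x * x + x) = {x, x + 1} := by
      ext y
      simp only [hX, Finset.mem_filter, Finset.mem_univ, true_and, Finset.mem_insert,
        Finset.mem_singleton]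
      refine ⟨fun h => fibre_eq h.2, fun h => ?_⟩
      have hy : y * y + y = x * x + x := by
        rcases h with rfl | rfl
        · rfl
        · linear_combination (x + 1) * (CharTwo.two_eq_zero : (2 : F) = 0)
      refine ⟨⟨fun e => hz0 ?_, fun e => hz0 ?_⟩, hy⟩ <;> rw [← hy, e] <;>
        simp [CharTwo.add_self_eq_zero]
    rw [hset, Finset.sum_pair (fun e => one_ne_zero (left_eq_add.1 e))]
  have h0 := congrArg (fun y => (y : Fin 4 → F) 0) (show D (∑ c : Fˣ, ∑ z ∈ Z, T' c z) = 0 from by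
    show E _ = 0
    rw [AddEquiv.map_eq_zero_iff]
    refine Subtype.ext ?_
    show (∑ c : Fˣ, ∑ z ∈ Z, T' c z) + _ = (0 : A)
    rw [← Finset.sum_add_distrib, ← I2]
    exact Finset.sum_congr rfl fun c _ => by rw [← Finset.sum_add_distrib, hfib])
  simp only [map_sum, Finset.sum_apply, Pi.zero_apply] at h0
  have hterm : ∀ c : Fˣ, ∀ z ∈ Z, D (T' c z) 0 = (z⁻¹) ^ P := by
    intro c z _
    by_cases hz : z = 0
    · subst hz
      simp [T', hP]
    · simp only [T', dif_neg hz, map_mul]
      rw [show ∀ g h : Cfsg.Sz F m, (ρ g * ρ h) v = ρ g (ρ h v) from fun _ _ => rfl, hD, hD, hv,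
        natAct_tor_single, natAct_tr_single]
      simp only [Matrix.cons_val_zero, mul_one]
      show ovf m 0 (c : F) * ((((c * c * Units.mk0 z hz) ^ k : Fˣ) : F) ^ 2 ^ (m + 1) *
        (((c * c * Units.mk0 z hz) ^ k : Fˣ) : F))⁻¹ = _
      rw [Units.val_pow_eq_pow_val, ← hr, hexp2, Units.val_mul, Units.val_mul, Units.val_mk0]
      have hc := c.ne_zero
      simp only [ovf, zero_mul, zero_pow (show (2 : ℕ) ^ (m + 1) + 2 ≠ 0 by omega), zero_add, ← hr,
        hr2, mul_pow, inv_pow]
      field_simp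
      ring
  rw [Finset.sum_congr rfl fun c _ => Finset.sum_congr rfl fun z hz => hterm c z hz] at h0
  rw [Finset.sum_const, Finset.card_univ, Fintype.card_units, hP] at h0
  simp only [← iterateFrobenius_def (p := 2)] at h0
  rw [← map_sum, hZ, sum_inv_tw_zero hm hF, map_one, nsmul_one, hF,
    Nat.cast_sub Nat.one_le_two_pow] at h0
  push_cast at h0
  rw [CharTwo.two_eq_zero, zero_pow (by omega), zero_sub, CharTwo.neg_eq] at h0
  exact one_ne_zero h0

end Cfsg.Agent.CIT.SzModule
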