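import Cfsg.Agent.Lib.Suzuki.Sylow
import Cfsg.Agent.Lib.Suzuki.Local

/-!
# Irreducible modules of `Sz(q)` in characteristic two

An irreducible module has one line of vectors fixed by the translations, and is determined by the
weight of the torus on it when this is not trivial.
-/

set_option autoImplicit false
set_option linter.unusedSectionVars false
set_option linter.style.haveILetI false

namespace Cfsg.Agent.CIT.SzModule

open Cfsg.Agent.Suzuki

variable {F : Type*} [Field F] [Fintype F] [CharP F 2] {m : ℕ}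
variable (hm : 1 ≤ m) (hF : Fintype.card F = 2 ^ (2 * m + 1))
variable {K : Type*} [Field K] [CharP K 2]
variable {M : Type*} [AddCommGroup M] [Module K M]
variable {M' : Type*} [AddCommGroup M'] [Module K M']

section Gen

variable {G : Type*} [Group G]

/-- The only invariant subspaces are the trivial ones. -/
def Irred (ρ : Representation K G M) : Prop :=
  ∀ D : Submodule K M, (∀ g, ∀ v ∈ D, ρ g v ∈ D) → D = ⊥ ∨ D = ⊤

/-- A finite 2-group fixes a nonzero vector of any nonzero invariant subspace. -/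
theorem exists_fixed (ρ : Representation K G M) {P : Subgroup G} [Finite P] (hP : IsPGroup 2 P)
    {D : Submodule K M} (hD : ∀ g ∈ P, ∀ v ∈ D, ρ g v ∈ D) {v : M} (hv : v ∈ D) (hv0 : v ≠ 0) :
    ∃ w ∈ D, w ≠ 0 ∧ ∀ g ∈ P, ρ g w = w := by
  haveI : Fact (Nat.Prime 2) := ⟨Nat.prime_two⟩
  haveI := Fintype.ofFinite P
  classical
  have h2 : ∀ x : M, x + x = 0 := fun x => by
    rw [← two_smul K x, CharTwo.two_eq_zero, zero_smul]
  let A : AddSubgroup M := AddSubgroup.closure (Set.range fun g : P => ρ (g : G) v)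
  haveI : AddGroup.FG A := by
    rw [AddGroup.fg_iff_addSubgroup_fg]
    exact ⟨(Set.finite_range fun g : P => ρ (g : G) v).toFinset, by simp [A]⟩
  haveI : Finite A := AddCommGroup.finite_of_fg_torsion A fun a => by
    refine isOfFinAddOrder_iff_nsmul_eq_zero.2 ⟨2, two_pos, ?_⟩
    exact Subtype.ext (by simp [two_nsmul, h2])
  have hAinv : ∀ g : P, ∀ x ∈ A, ρ (g : G) x ∈ A := by
    intro g x hx
    induction hx using AddSubgroup.closure_induction with
    | mem y hy =>
      obtain ⟨h, rfl⟩ := hy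
      refine AddSubgroup.subset_closure ⟨g * h, ?_⟩
      simp [map_mul]
    | zero => simp
    | add a b _ _ ha hb => rw [map_add]; exact A.add_mem ha hb
    | neg a _ ha => rw [map_neg]; exact A.neg_mem ha
  letI : MulAction P A :=
    { smul := fun g a => ⟨ρ (g : G) a.1, hAinv g a.1 a.2⟩
      one_smul := fun a => Subtype.ext (by
        show ρ ((1 : P) : G) a.1 = a.1
        simp)
      mul_smul := fun g h a => Subtype.ext (by
        show ρ ((g * h : P) : G) a.1 = ρ (g : G) (ρ (h : G) a.1)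
        simp [map_mul]) }
  have hsmul : ∀ (g : P) (a : A), (g • a : A).1 = ρ (g : G) a.1 := fun _ _ => rfl
  have hvA : v ∈ A := AddSubgroup.subset_closure ⟨1, by simp⟩
  have hdvd : 2 ∣ Nat.card A := by
    have h := addOrderOf_dvd_natCard (⟨v, hvA⟩ : A)
    rwa [addOrderOf_eq_prime (p := 2) (Subtype.ext (by simp [two_nsmul, h2]))
      (fun e => hv0 (congrArg Subtype.val e))] at h
  obtain ⟨b, hb, hne⟩ := hP.exists_fixed_point_of_prime_dvd_card_of_fixed_point A hdvd
    (a := (0 : A)) (fun g => Subtype.ext (by rw [hsmul]; simp))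
  have hAD : A ≤ D.toAddSubgroup := by
    rw [AddSubgroup.closure_le]
    rintro _ ⟨g, rfl⟩
    exact hD g.1 g.2 v hv
  refine ⟨b.1, hAD b.2, fun e => hne (Subtype.ext e.symm), fun g hg => ?_⟩
  have := congrArg Subtype.val (hb ⟨g, hg⟩)
  rwa [hsmul] at this

theorem Irred.dual [FiniteDimensional K M] {ρ : Representation K G M} (h : Irred ρ) :
    Irred ρ.dual := by
  intro D hD
  have hC : ∀ g, ∀ v ∈ D.dualCoannihilator, ρ g v ∈ D.dualCoannihilator := by
    intro g v hv
    rw [Submodule.mem_dualCoannihilator] at hv ⊢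
    intro φ hφ
    have h1 := hv _ (hD g⁻¹ φ hφ)
    rwa [Representation.dual_apply, inv_inv] at h1
  have hfr := Subspace.finrank_add_finrank_dualCoannihilator_eq D
  rcases h _ hC with e | e
  · refine Or.inr (Submodule.eq_top_of_finrank_eq ?_)
    rw [e, finrank_bot, add_zero] at hfr
    rw [hfr, Subspace.dual_finrank_eq]
  · refine Or.inl (Submodule.finrank_eq_zero.1 ?_)
    rw [e, finrank_top] at hfr
    omega

end Gen

/-- The translations fix `v`. -/
def IsFix (ρ : Representation K (Cfsg.Sz F m) M) (v : M) : Prop :=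
  ∀ a b : F, ρ (tr hF a b) v = v

/-- The sum of the translates of the opposite of `v`. -/
noncomputable def phi (ρ : Representation K (Cfsg.Sz F m) M) : M →ₗ[K] M :=
  ∑ p : F × F, ρ (tr hF p.1 p.2 * sw hF)

theorem phi_apply (ρ : Representation K (Cfsg.Sz F m) M) (v : M) :
    phi hF ρ v = ∑ p : F × F, ρ (tr hF p.1 p.2) (ρ (sw hF) v) := by
  simp [phi, LinearMap.sum_apply, map_mul]

variable {ρ : Representation K (Cfsg.Sz F m) M}
include hF

theorem isPGroup_U : IsPGroup 2 (U (m := m) hF) :=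
  IsPGroup.of_card (n := 2 * (2 * m + 1)) (by rw [card_U hF, hF, ← pow_mul, mul_comm])

theorem exists_isFix {D : Submodule K M} (hD : ∀ g, ∀ v ∈ D, ρ g v ∈ D) {v : M} (hv : v ∈ D)
    (hv0 : v ≠ 0) : ∃ w ∈ D, w ≠ 0 ∧ IsFix hF ρ w := by
  obtain ⟨w, hw, hw0, hwf⟩ := exists_fixed ρ (isPGroup_U hF) (fun g _ => hD g) hv hv0
  exact ⟨w, hw, hw0, fun a b => hwf _ ⟨a, b, rfl⟩⟩

theorem IsFix.smul {v : M} (h : IsFix hF ρ v) (c : K) : IsFix hF ρ (c • v) :=
  fun a b => by rw [map_smul, h a b]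

theorem weight_mul {e : M} (he0 : e ≠ 0) {χ : Fˣ → K} (hχ : ∀ s, ρ (tor hF s) e = χ s • e)
    (s t : Fˣ) : χ (s * t) = χ s * χ t := by
  refine smul_left_injective K he0 ?_
  show χ (s * t) • e = (χ s * χ t) • e
  rw [← hχ, tor_mul, map_mul, Module.End.mul_apply, hχ, map_smul, hχ, smul_smul, mul_comm]

theorem weight_one {e : M} (he0 : e ≠ 0) {χ : Fˣ → K} (hχ : ∀ s, ρ (tor hF s) e = χ s • e) :
    χ 1 = 1 := by
  refine smul_left_injective K he0 ?_
  show χ 1 • e = (1 : K) • e
  rw [← hχ, tor_one]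
  simp

theorem phi_isFix (v : M) : IsFix hF ρ (phi hF ρ v) := by
  intro a b
  rw [phi_apply, map_sum]
  simp_rw [← Module.End.mul_apply, ← map_mul, ← mul_assoc, tr_mul]
  refine Fintype.sum_bijective (fun p : F × F => (a + p.1, b + p.2 + a ^ 2 ^ (m + 1) * p.1))
    (Finite.injective_iff_bijective.1 fun p q h => ?_) _ _ fun p => rfl
  simp only [Prod.mk.injEq, add_right_inj] at h
  obtain ⟨h1, h2⟩ := h
  rw [h1] at h2
  exact Prod.ext h1 (by simpa using h2)

theorem phi_weight {e : M} {χ : Fˣ → K} (hχ : ∀ s, ρ (tor hF s) e = χ s • e) (s : Fˣ) :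
    ρ (tor hF s) (phi hF ρ e) = χ s⁻¹ • phi hF ρ e := by
  rw [phi_apply, map_sum, Finset.smul_sum]
  have hb : Function.Bijective (fun p : F × F =>
      ((s : F) ^ 2 ^ (m + 1) * p.1, (s : F) ^ 2 ^ (m + 1) * (s : F) ^ 2 * p.2)) :=
    Finite.injective_iff_bijective.1 fun p q h => by
      simp only [Prod.mk.injEq] at h
      have hs := s.ne_zero
      exact Prod.ext (mul_left_cancel₀ (pow_ne_zero _ hs) h.1)
        (mul_left_cancel₀ (mul_ne_zero (pow_ne_zero _ hs) (pow_ne_zero _ hs)) h.2)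
  refine Fintype.sum_bijective _ hb _ _ fun p => ?_
  have hts : tor hF s * sw hF = (sw hF * tor hF s⁻¹ : Cfsg.Sz F m) := by
    rw [← tor_swap hF s, ← mul_assoc, ← mul_assoc, sw_mul_self, one_mul]
  rw [← map_smul, ← map_smul, ← hχ]
  simp_rw [← Module.End.mul_apply, ← map_mul]
  congr 1
  rw [← mul_assoc, tor_mul_tr, mul_assoc, mul_assoc, hts]

include hm

/-- `sw * t * sw` for a nontrivial translation `t` is in the big cell. -/
theorem exists_swap_tr {p : F × F} (hp : p ≠ 0) :
    ∃ a b c d s, (sw hF * tr hF p.1 p.2 * sw hF : Cfsg.Sz F m) =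
      tr hF a b * sw hF * (tr hF c d * tor hF s) := by
  refine (bruhat hm hF _).resolve_left ?_
  rintro ⟨a, b, s, h⟩
  have h1 := congrArg (fun g : Cfsg.Sz F m => g • infty (F := F) m) h
  simp only [mul_smul, sw_smul_infty, tr_smul_zero, tor_smul_infty, tr_smul_infty] at h1
  have h2 := congrArg (fun x => sw hF • x) h1
  simp only [← mul_smul, sw_mul_self, one_smul, sw_smul_infty] at h2
  exact hp (Prod.ext (point_injective h2).1 (point_injective h2).2)

theorem phi_phi {e : M} (he : IsFix hF ρ e) {χ : Fˣ → K} (hχ : ∀ s, ρ (tor hF s) e = χ s • e) :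
    ∃ c : K, phi hF ρ (phi hF ρ e) = c • phi hF ρ e := by
  have key : ∀ p : F × F, ∃ c : K,
      ∑ q : F × F, ρ (tr hF q.1 q.2) (ρ (sw hF * tr hF p.1 p.2 * sw hF) e) = c • phi hF ρ e := by
    intro p
    by_cases hp : p = 0
    · subst hp
      refine ⟨0, ?_⟩
      have hval : (sw hF * tr hF (0 : F) 0 * sw hF : Cfsg.Sz F m) = 1 := by
        rw [tr_zero, mul_one, sw_mul_self]
      simp only [Prod.fst_zero, Prod.snd_zero, hval, map_one, Module.End.one_apply, zero_smul]
      simp_rw [show ∀ a b : F, ρ (tr hF a b) e = e from he]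
      rw [Finset.sum_const, ← Nat.cast_smul_eq_nsmul K, Finset.card_univ, Fintype.card_prod, hF]
      push_cast
      rw [CharTwo.two_eq_zero, zero_pow (by omega), mul_zero, zero_smul]
    · obtain ⟨a, b, c, d, s, h⟩ := exists_swap_tr hm hF hp
      refine ⟨χ s, ?_⟩
      rw [h]
      simp only [map_mul, Module.End.mul_apply, hχ, map_smul, show ρ (tr hF c d) e = e from he c d]
      rw [← Finset.smul_sum]
      congr 1
      simp only [← Module.End.mul_apply, ← map_mul, ← mul_assoc, tr_mul]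
      rw [phi_apply]
      refine Fintype.sum_bijective (fun q : F × F => (q.1 + a, q.2 + b + q.1 ^ 2 ^ (m + 1) * a))
        (Finite.injective_iff_bijective.1 fun q r h => ?_) _ _ fun q => by
          simp [← map_mul, ← Module.End.mul_apply]
      simp only [Prod.mk.injEq, add_left_inj] at h
      obtain ⟨h1, h2⟩ := h
      rw [h1] at h2
      exact Prod.ext h1 (by simpa using h2)
  choose c hc using key
  refine ⟨∑ p, c p, ?_⟩
  rw [Finset.sum_smul]
  simp_rw [← hc]
  rw [phi_apply, phi_apply, map_sum]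
  simp_rw [map_sum]
  rw [Finset.sum_comm]
  simp only [map_mul, Module.End.mul_apply]

omit hm in
/-- A common eigenvector of the torus among the fixed vectors. -/
theorem exists_weight [IsAlgClosed K] [FiniteDimensional K M] {v : M} (hv0 : v ≠ 0) :
    ∃ e : M, e ≠ 0 ∧ IsFix hF ρ e ∧ ∃ χ : Fˣ → K, ∀ s, ρ (tor hF s) e = χ s • e := by
  obtain ⟨w, -, hw0, hwf⟩ := exists_isFix hF (D := ⊤) (ρ := ρ) (by simp) (Submodule.mem_top (x := v)) hv0
  let E : Submodule K M :=
    { carrier := {x | IsFix hF ρ x}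
      zero_mem' := fun a b => map_zero _
      add_mem' := fun {x y} hx hy a b => by rw [map_add, hx a b, hy a b]
      smul_mem' := fun c x hx => hx.smul hF c }
  obtain ⟨g, hg⟩ := IsCyclic.exists_monoid_generator (α := Fˣ)
  have hE : ∀ x ∈ E, ρ (tor hF g) x ∈ E := by
    intro x hx a b
    obtain ⟨a', ha'⟩ : ∃ a', (g : F) ^ 2 ^ (m + 1) * a' = a :=
      ⟨_, mul_div_cancel₀ a (pow_ne_zero _ g.ne_zero)⟩
    obtain ⟨b', hb'⟩ : ∃ b', (g : F) ^ 2 ^ (m + 1) * (g : F) ^ 2 * b' = b :=
      ⟨_, mul_div_cancel₀ b (mul_ne_zero (pow_ne_zero _ g.ne_zero) (pow_ne_zero _ g.ne_zero))⟩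
    rw [← ha', ← hb', ← Module.End.mul_apply, ← map_mul, ← tor_mul_tr, map_mul,
      Module.End.mul_apply, hx a' b']
  haveI : Nontrivial E := nontrivial_of_ne ⟨w, hwf⟩ 0 fun e => hw0 (congrArg Subtype.val e)
  obtain ⟨μ, hμ⟩ := Module.End.exists_eigenvalue ((ρ (tor hF g)).restrict hE)
  obtain ⟨e, he⟩ := hμ.exists_hasEigenvector
  have hge : ρ (tor hF g) e.1 = μ • e.1 := congrArg Subtype.val he.apply_eq_smul
  refine ⟨e.1, fun h => he.2 (Subtype.ext h), e.2, ?_⟩
  have key : ∀ s : Fˣ, ∃ c : K, ρ (tor hF s) e.1 = c • e.1 := by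
    intro s
    obtain ⟨k, rfl⟩ := Submonoid.mem_powers_iff _ _ |>.1 (hg s)
    induction k with
    | zero => exact ⟨1, by simp [tor_one]⟩
    | succ k ih =>
      obtain ⟨c, hc⟩ := ih
      refine ⟨μ * c, ?_⟩
      rw [pow_succ, tor_mul, map_mul, Module.End.mul_apply, hge, map_smul, hc, smul_smul]
  choose χ hχ using key
  exact ⟨χ, hχ⟩

theorem exists_rank_one [IsAlgClosed K] [FiniteDimensional K M] {v : M} (hv0 : v ≠ 0) :
    ∃ e : M, e ≠ 0 ∧ IsFix hF ρ e ∧ (∃ χ : Fˣ → K, ∀ s, ρ (tor hF s) e = χ s • e) ∧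
      ∃ c : K, phi hF ρ e = c • e := by
  obtain ⟨e, he0, hef, χ, hχ⟩ := exists_weight hF (ρ := ρ) hv0
  by_cases h : phi hF ρ e = 0
  · exact ⟨e, he0, hef, ⟨χ, hχ⟩, 0, by rw [h, zero_smul]⟩
  · exact ⟨_, h, phi_isFix hF e, ⟨fun s => χ s⁻¹, phi_weight hF hχ⟩, phi_phi hm hF hef hχ⟩

/-- A translation invariant functional vanishing on the opposite of `e` vanishes on `e`. -/
theorem functional_eq_zero {e : M} (he : IsFix hF ρ e) {χ : Fˣ → K}
    (hχ : ∀ s, ρ (tor hF s) e = χ s • e) {c : K} (hc : phi hF ρ e = c • e)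
    {φ : Module.Dual K M} (hφ : ∀ a b x, φ (ρ (tr hF a b) x) = φ x) (h : φ (ρ (sw hF) e) = 0) :
    φ e = 0 := by
  classical
  by_contra h0
  have hs : ∀ p : F × F, φ (ρ (tr hF p.1 p.2) (ρ (sw hF) e)) = 0 := fun p => by rw [hφ, h]
  have hsum : ∑ p : F × F, ρ (tr hF p.1 p.2) (ρ (sw hF) e) = c • e := by rw [← phi_apply, hc]
  have hc0 : c = 0 := by
    have h1 := congrArg φ hsum
    rw [map_sum, Finset.sum_eq_zero (fun p _ => hs p), map_smul, smul_eq_mul] at h1
    exact (mul_eq_zero.1 h1.symm).resolve_right h0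
  rw [hc0, zero_smul] at hsum
  have h2 := congrArg (fun x => φ (ρ (sw hF) x)) hsum
  simp only [map_sum, map_zero] at h2
  rw [Finset.sum_eq_single (0 : F × F)] at h2
  · simp only [Prod.fst_zero, Prod.snd_zero, tr_zero, map_one, Module.End.one_apply] at h2
    rw [← Module.End.mul_apply, ← map_mul, sw_mul_self, map_one, Module.End.one_apply] at h2
    exact h0 h2
  · intro p _ hp
    obtain ⟨a, b, c', d, s, hd⟩ := exists_swap_tr hm hF hp
    rw [← Module.End.mul_apply, ← Module.End.mul_apply, ← map_mul, ← map_mul, hd]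
    simp only [map_mul, Module.End.mul_apply, hχ, map_smul, he c' d]
    rw [hφ, h, smul_zero]
  · simp

/-- The span of the translates of `e` is invariant, so a functional as above vanishes on it. -/
theorem functional_eq_zero_span {e : M} (he : IsFix hF ρ e) {χ : Fˣ → K}
    (hχ : ∀ s, ρ (tor hF s) e = χ s • e) {c : K} (hc : phi hF ρ e = c • e)
    {φ : Module.Dual K M} (hφ : ∀ a b x, φ (ρ (tr hF a b) x) = φ x) (h : φ (ρ (sw hF) e) = 0) :
    Submodule.span K (Set.range fun g => ρ g e) ≤ LinearMap.ker φ := by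
  rw [Submodule.span_le]
  rintro _ ⟨g, rfl⟩
  show φ (ρ g e) = 0
  rcases bruhat hm hF g with ⟨a, b, s, rfl⟩ | ⟨a, b, c', d, s, rfl⟩
  · rw [map_mul, Module.End.mul_apply, hχ, map_smul, map_smul, hφ,
      functional_eq_zero hm hF he hχ hc hφ h, smul_zero]
  · simp only [map_mul, Module.End.mul_apply, hχ, map_smul, he c' d]
    rw [hφ, h, smul_zero]

omit hm hF in
theorem span_invariant {G : Type*} [Group G] (ρ : Representation K G M) (e : M) (g : G) :
    ∀ v ∈ Submodule.span K (Set.range fun h => ρ h e),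
      ρ g v ∈ Submodule.span K (Set.range fun h => ρ h e) := by
  intro v hv
  refine (Submodule.map_span_le (ρ g) _ _).2 ?_ ⟨v, hv, rfl⟩
  rintro _ ⟨h, rfl⟩
  exact Submodule.subset_span ⟨g * h, by simp [map_mul]⟩

omit hm hF in
theorem span_eq_top {G : Type*} [Group G] {ρ : Representation K G M} (hirr : Irred ρ) {e : M}
    (he : e ≠ 0) : Submodule.span K (Set.range fun h => ρ h e) = ⊤ :=
  (hirr _ (span_invariant ρ e)).resolve_left fun h => he ((Submodule.eq_bot_iff _).1 h e
    (Submodule.subset_span ⟨1, by simp⟩))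

/-- In an irreducible module the translation invariant functionals form one line. -/
theorem functional_proportional [IsAlgClosed K] [FiniteDimensional K M] (hirr : Irred ρ)
    {φ ψ : Module.Dual K M} (hφ0 : φ ≠ 0) (hφ : ∀ a b x, φ (ρ (tr hF a b) x) = φ x)
    (hψ : ∀ a b x, ψ (ρ (tr hF a b) x) = ψ x) : ∃ a : K, ψ = a • φ := by
  obtain ⟨v, hv⟩ : ∃ v, φ v ≠ 0 := by
    by_contra h; push Not at h; exact hφ0 (LinearMap.ext h)
  obtain ⟨e, he0, hef, ⟨χ, hχ⟩, c, hc⟩ :=
    exists_rank_one hm hF (ρ := ρ) (v := v) (fun e => hv (by rw [e, map_zero]))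
  have key : ∀ θ : Module.Dual K M, (∀ a b x, θ (ρ (tr hF a b) x) = θ x) →
      θ (ρ (sw hF) e) = 0 → θ = 0 := by
    intro θ hθ h0
    have h1 := functional_eq_zero_span hm hF hef hχ hc hθ h0
    rw [span_eq_top hirr he0, top_le_iff, LinearMap.ker_eq_top] at h1
    exact h1
  have hb : φ (ρ (sw hF) e) ≠ 0 := fun h => hφ0 (key φ hφ h)
  refine ⟨ψ (ρ (sw hF) e) / φ (ρ (sw hF) e), sub_eq_zero.1 (key _ (fun a b x => ?_) ?_)⟩
  · simp [hφ a b x, hψ a b x]
  · simp [div_mul_cancel₀ _ hb]

/-- In an irreducible module the fixed vectors of the translations form one line. -/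
theorem fixed_proportional [IsAlgClosed K] [FiniteDimensional K M] (hirr : Irred ρ)
    {e v : M} (he0 : e ≠ 0) (he : IsFix hF ρ e) (hv : IsFix hF ρ v) : ∃ a : K, v = a • e := by
  have hinv : ∀ {x : M}, IsFix hF ρ x → ∀ a b φ,
      Module.Dual.eval K M x (ρ.dual (tr hF a b) φ) = Module.Dual.eval K M x φ := by
    intro x hx a b φ
    simp only [Module.Dual.eval_apply, Representation.dual_apply]
    show φ (ρ (tr hF a b)⁻¹ x) = φ x
    rw [tr_inv, hx]
  obtain ⟨a, ha⟩ := functional_proportional hm hF hirr.dual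
    (φ := Module.Dual.eval K M e)
    (fun h => he0 ((Module.eval_apply_eq_zero_iff K e).1 h)) (hinv he) (hinv hv)
  exact ⟨a, (Module.evalEquiv K M).injective (by
    simpa [Module.evalEquiv_apply, map_smul] using ha)⟩

omit hm in
theorem exists_functional [FiniteDimensional K M] {v : M} (hv0 : v ≠ 0) :
    ∃ φ : Module.Dual K M, φ ≠ 0 ∧ ∀ a b x, φ (ρ (tr hF a b) x) = φ x := by
  haveI : Nontrivial M := nontrivial_of_ne v 0 hv0
  obtain ⟨φ₀, hφ₀⟩ := exists_ne (0 : Module.Dual K M)
  obtain ⟨φ, -, hφ0, hφ⟩ := exists_isFix hF (ρ := ρ.dual) (D := ⊤) (by simp)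
    (Submodule.mem_top (x := φ₀)) hφ₀
  refine ⟨φ, hφ0, fun a b x => ?_⟩
  have h := LinearMap.congr_fun (hφ a b) (ρ (tr hF a b) x)
  rw [Representation.dual_apply] at h
  change φ (ρ (tr hF a b)⁻¹ (ρ (tr hF a b) x)) = _ at h
  rw [← Module.End.mul_apply, ← map_mul, inv_mul_cancel, map_one, Module.End.one_apply] at h
  exact h.symm

/-- For a nontrivial weight the operator `phi` kills the fixed vector. -/
theorem phi_eq_zero [IsAlgClosed K] [FiniteDimensional K M] (hirr : Irred ρ) {e : M} (he0 : e ≠ 0)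
    (he : IsFix hF ρ e) {χ : Fˣ → K} (hχ : ∀ s, ρ (tor hF s) e = χ s • e) (hne : ∃ s, χ s ≠ 1) :
    phi hF ρ e = 0 := by
  obtain ⟨c, hc⟩ := fixed_proportional hm hF hirr he0 he (phi_isFix hF e)
  by_contra h0
  have hc0 : c ≠ 0 := fun h => h0 (by rw [hc, h, zero_smul])
  have hinv : ∀ s, χ s⁻¹ = χ s := fun s => by
    have h := phi_weight hF hχ s
    rw [hc, map_smul, hχ, smul_smul, smul_smul] at h
    exact (mul_left_cancel₀ hc0 ((smul_left_injective K he0 h).trans (mul_comm _ _))).symm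
  obtain ⟨s, hs⟩ := hne
  obtain ⟨u, hu⟩ : ∃ u : Fˣ, u ^ 2 = s := by
    refine (Finite.injective_iff_bijective.1 fun x y h => Units.ext ?_).2 s
    have h' : (x : F) ^ 2 = (y : F) ^ 2 := by exact_mod_cast congrArg Units.val h
    exact CharTwo.sq_injective h'
  apply hs
  rw [← hu, sq, weight_mul hF he0 hχ]
  nth_rewrite 1 [← hinv u]
  rw [← weight_mul hF he0 hχ, inv_mul_cancel, weight_one hF he0 hχ]

/-- Irreducible modules of the same nontrivial weight are isomorphic. -/
theorem exists_intertwining [IsAlgClosed K] [FiniteDimensional K M] [FiniteDimensional K M']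
    {ρ' : Representation K (Cfsg.Sz F m) M'} (h1 : Irred ρ) (h2 : Irred ρ') {e : M} {e' : M'}
    (he0 : e ≠ 0) (he0' : e' ≠ 0) (he : IsFix hF ρ e) (he' : IsFix hF ρ' e') {χ : Fˣ → K}
    (hχ : ∀ s, ρ (tor hF s) e = χ s • e) (hχ' : ∀ s, ρ' (tor hF s) e' = χ s • e')
    (hne : ∃ s, χ s ≠ 1) :
    ∃ f : M ≃ₗ[K] M', ∀ g x, f (ρ g x) = ρ' g (f x) := by
  let σ : Representation K (Cfsg.Sz F m) (M × M') :=
    { toFun := fun g => (ρ g).prodMap (ρ' g)
      map_one' := LinearMap.ext fun x => by simp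
      map_mul' := fun g h => LinearMap.ext fun x => by simp [map_mul] }
  let D := Submodule.span K (Set.range fun g => σ g (e, e'))
  have hD : ∀ g, ∀ x ∈ D, σ g x ∈ D := span_invariant σ (e, e')
  have heD : (e, e') ∈ D := Submodule.subset_span ⟨1, by simp⟩
  have hs : IsFix hF σ (e, e') := fun a b => Prod.ext (he a b) (he' a b)
  have hsw : ∀ s, σ (tor hF s) (e, e') = χ s • (e, e') := fun s => Prod.ext (hχ s) (hχ' s)
  have hphi : phi hF σ (e, e') = (0 : K) • (e, e') := by
    rw [zero_smul, phi_apply]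
    have e1 := phi_eq_zero hm hF h1 he0 he hχ hne
    have e2 := phi_eq_zero hm hF h2 he0' he' hχ' hne
    rw [phi_apply] at e1 e2
    exact Prod.ext (by rw [Prod.fst_sum]; exact e1) (by rw [Prod.snd_sum]; exact e2)
  have hnot : ¬ ((e, (0 : M')) ∈ D) := by
    intro hmem
    have hmem' : ((0 : M), e') ∈ D := by
      have := D.sub_mem heD hmem
      simpa using this
    have hcom1 : D.comap (LinearMap.inl K M M') = ⊤ :=
      (h1 _ fun g x hx => by
        show (ρ g x, (0 : M')) ∈ D
        simpa [σ] using hD g _ hx).resolve_left fun h => he0 ((Submodule.eq_bot_iff _).1 h e hmem)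
    have hcom2 : D.comap (LinearMap.inr K M M') = ⊤ :=
      (h2 _ fun g x hx => by
        show ((0 : M), ρ' g x) ∈ D
        simpa [σ] using hD g _ hx).resolve_left fun h => he0' ((Submodule.eq_bot_iff _).1 h e' hmem')
    obtain ⟨φ, hφ0, hφ⟩ := exists_functional hF (ρ := ρ) he0
    obtain ⟨φ', hφ0', hφ'⟩ := exists_functional hF (ρ := ρ') he0'
    have hb : φ' (ρ' (sw hF) e') ≠ 0 := by
      intro h0
      apply hφ0'
      have hc := phi_eq_zero hm hF h2 he0' he' hχ' hne
      have := functional_eq_zero_span hm hF he' hχ' (c := 0) (by rw [hc, zero_smul]) hφ' h0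
      rwa [span_eq_top h2 he0', top_le_iff, LinearMap.ker_eq_top] at this
    let θ : Module.Dual K (M × M') :=
      φ' (ρ' (sw hF) e') • φ.comp (LinearMap.fst K M M') -
        φ (ρ (sw hF) e) • φ'.comp (LinearMap.snd K M M')
    have hθ : ∀ a b x, θ (σ (tr hF a b) x) = θ x := fun a b x => by
      simp [θ, σ, hφ, hφ']
    have hθ0 : θ (σ (sw hF) (e, e')) = 0 := by
      simp [θ, σ]; ring
    have h3 := functional_eq_zero_span hm hF hs hsw hphi hθ hθ0
    apply hφ0
    refine LinearMap.ext fun x => ?_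
    have hx : ((x, (0 : M')) : M × M') ∈ D := by
      have : x ∈ D.comap (LinearMap.inl K M M') := by rw [hcom1]; trivial
      simpa using this
    have h4 := h3 hx
    simp [θ] at h4
    simpa [hb] using h4
  have hinj1 : ∀ x : M, (x, (0 : M')) ∈ D → x = 0 := by
    intro x hx
    rcases h1 (D.comap (LinearMap.inl K M M')) (fun g x hx => by
      show (ρ g x, (0 : M')) ∈ D
      simpa [σ] using hD g _ hx) with h | h
    · exact (Submodule.eq_bot_iff _).1 h x hx
    · exact absurd (show e ∈ D.comap (LinearMap.inl K M M') by rw [h]; trivial) hnot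
  have hinj2 : ∀ x : M', ((0 : M), x) ∈ D → x = 0 := by
    intro x hx
    rcases h2 (D.comap (LinearMap.inr K M M')) (fun g x hx => by
      show ((0 : M), ρ' g x) ∈ D
      simpa [σ] using hD g _ hx) with h | h
    · exact (Submodule.eq_bot_iff _).1 h x hx
    · refine absurd ?_ hnot
      have h' : ((0 : M), e') ∈ D := by
        have : e' ∈ D.comap (LinearMap.inr K M M') := by rw [h]; trivial
        simpa using this
      simpa using D.sub_mem heD h'
  have hfst : Function.Bijective ((LinearMap.fst K M M').comp D.subtype) := by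
    refine ⟨(injective_iff_map_eq_zero _).2 fun x hx => ?_, ?_⟩
    · have hx1 : x.1.1 = 0 := hx
      refine Subtype.ext (Prod.ext hx1 (hinj2 _ ?_))
      have h' : (x.1.1, x.1.2) ∈ D := x.2
      rwa [hx1] at h'
    · rw [← LinearMap.range_eq_top, LinearMap.range_comp, Submodule.range_subtype]
      refine (h1 _ ?_).resolve_left fun h => he0 ((Submodule.eq_bot_iff _).1 h e ⟨_, heD, rfl⟩)
      rintro g _ ⟨x, hx, rfl⟩
      exact ⟨σ g x, hD g x hx, rfl⟩
  let E := LinearEquiv.ofBijective _ hfst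
  let f : M →ₗ[K] M' := ((LinearMap.snd K M M').comp D.subtype).comp E.symm.toLinearMap
  have hf : ∀ x : M, (x, f x) ∈ D := by
    intro x
    have h := (E.symm x).2
    have e1 : (E.symm x).1.1 = x := E.apply_symm_apply x
    have e2 : (E.symm x).1 = (x, f x) := Prod.ext e1 rfl
    rwa [e2] at h
  have hfu : ∀ x y, (x, y) ∈ D → f x = y := fun x y h => by
    have := D.sub_mem (hf x) h
    simp only [Prod.mk_sub_mk, sub_self] at this
    exact sub_eq_zero.1 (hinj2 _ this)
  have hbij : Function.Bijective f := by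
    refine ⟨(injective_iff_map_eq_zero f).2 fun x hx => hinj1 x (by simpa [hx] using hf x), ?_⟩
    rw [← LinearMap.range_eq_top]
    refine (h2 _ ?_).resolve_left fun h => he0' ((Submodule.eq_bot_iff _).1 h e' ⟨e, hfu e e' heD⟩)
    rintro g _ ⟨x, rfl⟩
    exact ⟨ρ g x, hfu _ _ (hD g _ (hf x))⟩
  exact ⟨LinearEquiv.ofBijective f hbij, fun g x => hfu _ _ (hD g _ (hf x))⟩

end Cfsg.Agent.CIT.SzModule
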