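import Cfsg.Agent.Lib.CIT.SzModuleTensor

/-!
# Minimal fixed-point-free sections of `Sz(q)` are natural modules
-/

set_option autoImplicit false
set_option linter.unusedSectionVars false
set_option linter.style.haveILetI false

namespace Cfsg.Agent.CIT.SzModule

open Cfsg.Agent.Suzuki Matrix

variable {F : Type*} [Field F] [Fintype F] [CharP F 2] {m : ℕ}
variable (hm : 1 ≤ m) (hF : Fintype.card F = 2 ^ (2 * m + 1))

/-- A finite 2-group fixes a nonzero element of any nontrivial invariant subgroup. -/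
theorem exists_fixed_add {G : Type*} [Group G] {W : Type*} [AddCommGroup W] [Finite W]
    (h2 : ∀ w : W, w + w = 0) (ρ : G →* AddMonoid.End W) {P : Subgroup G} [Finite P]
    (hP : IsPGroup 2 P) {Ω : AddSubgroup W} (hΩ : ∀ g ∈ P, ∀ w ∈ Ω, ρ g w ∈ Ω) {v : W}
    (hv : v ∈ Ω) (hv0 : v ≠ 0) : ∃ w ∈ Ω, w ≠ 0 ∧ ∀ g ∈ P, ρ g w = w := by
  haveI : Fact (Nat.Prime 2) := ⟨Nat.prime_two⟩
  letI : MulAction P Ω :=
    { smul := fun g a => ⟨ρ (g : G) a.1, hΩ g g.2 a.1 a.2⟩
      one_smul := fun a => Subtype.ext (by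
        show ρ ((1 : P) : G) a.1 = a.1
        simp)
      mul_smul := fun g h a => Subtype.ext (by
        show ρ ((g * h : P) : G) a.1 = ρ (g : G) (ρ (h : G) a.1)
        simp [map_mul]) }
  have hsmul : ∀ (g : P) (a : Ω), (g • a : Ω).1 = ρ (g : G) a.1 := fun _ _ => rfl
  have hdvd : 2 ∣ Nat.card Ω := by
    have h := addOrderOf_dvd_natCard (⟨v, hv⟩ : Ω)
    rwa [addOrderOf_eq_prime (p := 2) (Subtype.ext (by simp [two_nsmul, h2]))
      (fun e => hv0 (congrArg Subtype.val e))] at h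
  obtain ⟨b, hb, hne⟩ := hP.exists_fixed_point_of_prime_dvd_card_of_fixed_point Ω hdvd
    (a := (0 : Ω)) (fun g => Subtype.ext (by rw [hsmul]; simp))
  refine ⟨b.1, b.2, fun e => hne (Subtype.ext e.symm), fun g hg => ?_⟩
  have := congrArg Subtype.val (hb ⟨g, hg⟩)
  rwa [hsmul] at this

/-- The restriction to an invariant subspace. -/
def subRep {G : Type*} [Group G] {K : Type*} [Field K] {M : Type*} [AddCommGroup M] [Module K M]
    (ρ : Representation K G M) (D : Submodule K M) (hD : ∀ g, ∀ v ∈ D, ρ g v ∈ D) :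
    Representation K G D where
  toFun g := (ρ g).restrict (hD g)
  map_one' := LinearMap.ext fun x => Subtype.ext (by simp)
  map_mul' g h := LinearMap.ext fun x => Subtype.ext (by simp [map_mul])

theorem exists_irred_sub {G : Type*} [Group G] {K : Type*} [Field K] [CharP K 2] {M : Type*}
    [AddCommGroup M] [Module K M] [FiniteDimensional K M] (ρ : Representation K G M) {v : M}
    (hv : v ≠ 0) : ∃ (D : Submodule K M) (hD : ∀ g, ∀ v ∈ D, ρ g v ∈ D),
      D ≠ ⊥ ∧ Irred (subRep ρ D hD) := by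
  classical
  have hex : ∃ k, ∃ D : Submodule K M, (∀ g, ∀ v ∈ D, ρ g v ∈ D) ∧ D ≠ ⊥ ∧
      Module.finrank K D = k :=
    ⟨_, ⊤, fun _ _ _ => Submodule.mem_top,
      (Submodule.ne_bot_iff _).2 ⟨v, Submodule.mem_top, hv⟩, rfl⟩
  obtain ⟨D, hD, hD0, hDk⟩ := Nat.find_spec hex
  refine ⟨D, hD, hD0, fun D' hD' => ?_⟩
  by_cases hb : D' = ⊥
  · exact Or.inl hb
  refine Or.inr (Submodule.eq_top_of_finrank_eq (le_antisymm (Submodule.finrank_le D') ?_))
  rw [hDk, (Submodule.equivMapOfInjective D.subtype D.injective_subtype D').finrank_eq]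
  refine Nat.find_min' hex ⟨D'.map D.subtype, ?_, ?_, rfl⟩
  · rintro g _ ⟨x, hx, rfl⟩
    exact ⟨subRep ρ D hD g x, hD' g x hx, rfl⟩
  · exact fun e => hb (Submodule.map_injective_of_injective D.injective_subtype
      (e.trans (Submodule.map_bot _).symm))

/-- The natural module as an additive action. -/
def natAct : Cfsg.Sz F m →* AddMonoid.End (Fin 4 → F) where
  toFun g := (g.1.1 : Matrix (Fin 4) (Fin 4) F).mulVecLin.toAddMonoidHom
  map_one' := by ext v : 1; exact Matrix.one_mulVec v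
  map_mul' g h := by
    ext v : 1
    exact (Matrix.mulVec_mulVec v (g.1.1 : Matrix (Fin 4) (Fin 4) F) h.1.1).symm

theorem natAct_apply (g : Cfsg.Sz F m) (v : Fin 4 → F) :
    natAct g v = (g.1.1 : Matrix (Fin 4) (Fin 4) F) *ᵥ v := rfl

include hF

theorem natAct_tor_single (s : Fˣ) (i : Fin 4) (y : F) :
    natAct (tor hF s : Cfsg.Sz F m) (Pi.single i y) =
      Pi.single i (![(s : F) ^ 2 ^ (m + 1) * s, s, (s : F)⁻¹, ((s : F) ^ 2 ^ (m + 1) * s)⁻¹] i * y) := by
  rw [natAct_apply]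
  exact Matrix.diagonal_mulVec_single _ i y

theorem natAct_sw_single (y : F) :
    natAct (sw hF : Cfsg.Sz F m) (Pi.single 0 y) = Pi.single 3 y := by
  rw [natAct_apply]
  funext i
  show (swapMat *ᵥ Pi.single 0 y) i = _
  fin_cases i <;> simp [swapMat, Matrix.mulVec, dotProduct, Fin.sum_univ_four]

theorem natAct_tr_single (a b y : F) :
    natAct (tr hF a b : Cfsg.Sz F m) (Pi.single 3 y) = ![ovf m a b * y, b * y, a * y, y] := by
  rw [natAct_apply]
  funext i
  show (transMat m a b *ᵥ Pi.single 3 y) i = _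
  fin_cases i <;> simp [transMat, Matrix.mulVec, dotProduct, Fin.sum_univ_four]

theorem exists_pow_mul_self (u : Fˣ) : ∃ s : Fˣ, s ^ 2 ^ (m + 1) * s = u := by
  have hinj : Function.Injective fun s : Fˣ => s ^ 2 ^ (m + 1) * s := by
    intro s t h
    simp only at h
    have h1 : (s / t) ^ 2 ^ (m + 1) * (s / t) = 1 := by
      rw [div_pow, div_mul_div_comm, h, div_self']
    have h2 := congrArg Units.val h1
    rw [Units.val_mul, Units.val_pow_eq_pow_val, Units.val_one, ← theta_def (F := F)] at h2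
    exact div_eq_one.1 (Units.ext (eq_one_of_theta_mul hF h2))
  exact (Finite.injective_iff_bijective.1 hinj).2 u

/-- A stable subgroup of the natural module containing a low vector is everything. -/
theorem stable_eq_top {Ω : AddSubgroup (Fin 4 → F)}
    (h : ∀ g : Cfsg.Sz F m, ∀ v ∈ Ω, natAct g v ∈ Ω) {c : F} (hc : c ≠ 0)
    (he : Pi.single 0 c ∈ Ω) : Ω = ⊤ := by
  have h0 : ∀ y : F, Pi.single 0 y ∈ Ω := by
    intro y
    rcases eq_or_ne y 0 with rfl | hy
    · rw [Pi.single_zero]; exact Ω.zero_mem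
    obtain ⟨s, hs⟩ := exists_pow_mul_self (m := m) hF (Units.mk0 (y / c) (div_ne_zero hy hc))
    have h1 := h (tor hF s) _ he
    rw [natAct_tor_single] at h1
    have h2 := congrArg Units.val hs
    rw [Units.val_mul, Units.val_pow_eq_pow_val, Units.val_mk0] at h2
    simpa [h2, div_mul_cancel₀ _ hc] using h1
  have h3 : ∀ y : F, Pi.single 3 y ∈ Ω := fun y => natAct_sw_single hF y ▸ h (sw hF) _ (h0 y)
  have hcol : ∀ a b y : F, ![ovf m a b * y, b * y, a * y, y] ∈ Ω := fun a b y =>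
    natAct_tr_single hF a b y ▸ h (tr hF a b) _ (h3 y)
  have h2' : ∀ y : F, Pi.single 2 y ∈ Ω := by
    intro y
    have h1 := Ω.sub_mem (Ω.sub_mem (hcol 1 0 y) (h3 y)) (h0 (ovf m 1 0 * y))
    convert h1 using 1
    funext i; fin_cases i <;> simp [Pi.single_apply, Matrix.vecHead, Matrix.vecTail]
  have h1' : ∀ y : F, Pi.single 1 y ∈ Ω := by
    intro y
    have h1 := Ω.sub_mem (Ω.sub_mem (hcol 0 1 y) (h3 y)) (h0 (ovf m 0 1 * y))
    convert h1 using 1
    funext i; fin_cases i <;> simp [Pi.single_apply, Matrix.vecHead, Matrix.vecTail]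
  refine eq_top_iff.2 fun v _ => ?_
  rw [← Finset.univ_sum_single v, Fin.sum_univ_four]
  exact Ω.add_mem (Ω.add_mem (Ω.add_mem (h0 _) (h1' _)) (h2' _)) (h3 _)

omit hF in
theorem eq_low_of_fixed {R : Type*} [CommRing R] (ι₀ : F →+* R) {v : Fin 4 → R}
    (h : (transMat m (1 : F) 0).map ι₀ *ᵥ v = v) : v = Pi.single 0 (v 0) := by
  have e0 := congrFun h 0
  have e1 := congrFun h 1
  have e2 := congrFun h 2
  simp [transMat, Matrix.mulVec, dotProduct, Fin.sum_univ_four] at e0 e1 e2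
  funext i
  fin_cases i
  · simp
  · simpa [e1, e2] using e0
  · simpa [e2] using e1
  · simpa using e2

include hm

omit hm in
theorem tor_odd_order (s : Fˣ) : Odd (orderOf (tor hF s : Cfsg.Sz F m)) := by
  classical
  let φ : Fˣ →* Cfsg.Sz F m := MonoidHom.mk' (tor hF) (tor_mul hF)
  have hc : Odd (Fintype.card Fˣ) := by
    rw [Fintype.card_units, hF]
    exact Nat.Even.sub_odd Nat.one_le_two_pow (Nat.even_pow.2 ⟨even_two, by omega⟩) odd_one
  exact Odd.of_dvd_nat hc ((orderOf_map_dvd φ s).trans orderOf_dvd_card)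

set_option maxHeartbeats 1000000 in
/-- A minimal fixed-point-free elementary section is the natural module. -/
theorem exists_natural {W : Type*} [AddCommGroup W] [Finite W] [Nontrivial W]
    (h2 : ∀ w : W, w + w = 0) (ρW : Cfsg.Sz F m →* AddMonoid.End W)
    (hfpf : ∀ g, Odd (orderOf g) → g ≠ 1 → ∀ w, ρW g w = w → w = 0)
    (hmin : ∀ Ω : AddSubgroup W, (∀ g, ∀ w ∈ Ω, ρW g w ∈ Ω) → Ω = ⊥ ∨ Ω = ⊤) :
    ∃ E : W ≃+ (Fin 4 → F), ∀ g w, E (ρW g w) = natAct g (E w) := by
  classical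
  let K := AlgebraicClosure F
  let ι₀ : F →+* K := algebraMap F K
  haveI : CharP K 2 := charP_of_injective_ringHom ι₀.injective 2
  haveI : FiniteDimensional K (W →+ K) := by
    refine FiniteDimensional.of_injective (V₂ := W → K)
      { toFun := fun φ => ⇑φ, map_add' := fun _ _ => rfl, map_smul' := fun _ _ => rfl }
      DFunLike.coe_injective
  let ρM : Representation K (Cfsg.Sz F m) (W →+ K) :=
    { toFun := fun g =>
        { toFun := fun φ => φ.comp (ρW g⁻¹)
          map_add' := fun _ _ => rfl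
          map_smul' := fun _ _ => rfl }
      map_one' := LinearMap.ext fun φ => AddMonoidHom.ext fun w => by
        show φ (ρW 1⁻¹ w) = φ w
        simp
      map_mul' := fun g h => LinearMap.ext fun φ => AddMonoidHom.ext fun w => by
        show φ (ρW (g * h)⁻¹ w) = φ (ρW h⁻¹ (ρW g⁻¹ w))
        rw [_root_.mul_inv_rev, map_mul]; rfl }
  have hnofix : ∀ g, Odd (orderOf g) → g ≠ 1 → ∀ φ : W →+ K, ρM g φ = φ → φ = 0 := by
    intro g hg hg1 φ hφ
    let δ : W →+ W := AddMonoidHom.mk' (fun w => ρW g⁻¹ w - w) fun w w' => by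
      rw [map_add]; abel
    have hinj : Function.Injective δ := (injective_iff_map_eq_zero δ).2 fun w hw =>
      hfpf g⁻¹ (by rwa [orderOf_inv]) (by simpa using hg1) w (sub_eq_zero.1 hw)
    refine AddMonoidHom.ext fun w => ?_
    obtain ⟨u, rfl⟩ := Finite.surjective_of_injective hinj w
    show φ (ρW g⁻¹ u - u) = 0
    have := DFunLike.congr_fun hφ u
    rw [map_sub]
    exact sub_eq_zero.2 this
  -- an irreducible submodule
  obtain ⟨φ₀, hφ₀⟩ : ∃ φ : W →+ K, φ ≠ 0 := by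
    letI : Module (ZMod 2) W := AddCommGroup.zmodModule fun w => by rw [two_nsmul, h2]
    obtain ⟨w, hw⟩ := exists_ne (0 : W)
    obtain ⟨ψ, hψ⟩ : ∃ ψ : Module.Dual (ZMod 2) W, ψ w ≠ 0 := by
      by_contra hno
      push Not at hno
      exact hw ((Module.forall_dual_apply_eq_zero_iff (ZMod 2) w).1 hno)
    refine ⟨(ZMod.castHom (dvd_refl 2) K).toAddMonoidHom.comp ψ.toAddMonoidHom, fun e => hψ ?_⟩
    exact (map_eq_zero (ZMod.castHom (dvd_refl 2) K)).1 (DFunLike.congr_fun e w)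
  obtain ⟨D, hD, hD0, hirr⟩ := exists_irred_sub ρM hφ₀
  set ρ₁ := subRep ρM D hD
  obtain ⟨v₀, hv₀, hv₀0⟩ := (Submodule.ne_bot_iff D).1 hD0
  obtain ⟨e, he0, hef, χ, hχ⟩ := exists_weight hF (ρ := ρ₁) (v := ⟨v₀, hv₀⟩)
    (fun h => hv₀0 (congrArg Subtype.val h))
  have hne : ∃ s, χ s ≠ 1 := by
    by_contra hno
    push Not at hno
    obtain ⟨s, hs⟩ := exists_unit_ne_one (F := F) hm hF
    refine he0 (Subtype.ext (hnofix (tor hF s) (tor_odd_order hF s)
      (fun h => hs (tor_injective hF (h.trans (tor_one hF).symm))) e.1 ?_))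
    have h := congrArg Subtype.val (hχ s)
    rw [hno s, one_smul] at h
    exact h
  obtain ⟨S, hSne, hS⟩ := exists_twists hF ι₀ (weight_mul hF he0 hχ) (weight_one hF he0 hχ) hne
  set f := fun j : S => fr ι₀ ((j : Fin (2 * m + 1)) : ℕ) with hf
  obtain ⟨E, hE⟩ := exists_intertwining hm hF hirr (irred_sub hm hF ι₀ Subtype.val_injective) he0
    (e' := (Pi.single (fun _ => 0) 1 : (S → Fin 4) → K))
    (fun h => by simpa using congrFun h (fun _ => 0)) hef (low_isFix hF f) hχ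
    (fun s => by rw [low_weight, hS]) hne
  have hEs : ∀ g x, E.symm (tens f g x) = ρ₁ g (E.symm x) := fun g x =>
    E.injective (by rw [E.apply_symm_apply, hE, E.apply_symm_apply])
  obtain ⟨i₀, hi₀⟩ := hSne
  haveI : Subsingleton S := by
    constructor
    intro a b
    by_contra hab
    obtain ⟨x, hx5, hx1, v, hv0, hv⟩ := exists_five_fixed hF f hab
    refine hv0 (E.symm.injective ((Subtype.ext (hnofix x ?_ hx1 _ ?_)).trans (map_zero E.symm).symm))
    · exact Odd.of_dvd_nat (by decide) (orderOf_dvd_of_pow_eq_one hx5)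
    · exact congrArg Subtype.val ((hEs x v).symm.trans (by rw [hv]))
  let j₀ : S := ⟨i₀, hi₀⟩
  let σ := (iterateFrobeniusEquiv K 2 (i₀ : ℕ)).symm
  have hσ : ∀ x : F, σ (f j₀ x) = ι₀ x := fun x => by
    rw [RingEquiv.symm_apply_eq, iterateFrobeniusEquiv_def]
    exact fr_apply ι₀ _ x
  let Sw : Matrix (S → Fin 4) (S → Fin 4) K := tmat f (swapMat : Matrix (Fin 4) (Fin 4) F)
  let y : W → (S → Fin 4) → K := fun w => Sw *ᵥ fun α => (E.symm (Pi.single α 1)).1 w
  have hy : ∀ g w, y (ρW g w) = tmat f (g.1.1 : Matrix (Fin 4) (Fin 4) F) *ᵥ y w := by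
    intro g w
    have hgT : (fun α => (E.symm (Pi.single α 1)).1 (ρW g w)) =
        (tmat f ((g⁻¹ : Cfsg.Sz F m).1.1 : Matrix (Fin 4) (Fin 4) F))ᵀ *ᵥ
          fun α => (E.symm (Pi.single α 1)).1 w := by
      funext α
      have h : (E.symm (Pi.single α 1)).1 (ρW g w) =
          (ρ₁ g⁻¹ (E.symm (Pi.single α 1))).1 w := by
        show _ = (E.symm (Pi.single α 1)).1 (ρW g⁻¹⁻¹ w)
        rw [inv_inv]
      rw [h, ← hEs, tens_apply, Matrix.mulVec_single_one]
      conv_lhs => rw [← Finset.univ_sum_single (Matrix.col (tmat f _) α)]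
      rw [map_sum]
      show ((∑ β, E.symm _ : D) : W →+ K) w = _
      rw [Submodule.coe_sum, AddMonoidHom.finsetSum_apply]
      refine Finset.sum_congr rfl fun β _ => ?_
      rw [show (Pi.single β (Matrix.col (tmat f _) α β) : (S → Fin 4) → K) =
        Matrix.col (tmat f _) α β • Pi.single β 1 by rw [← Pi.single_smul, smul_eq_mul, mul_one],
        map_smul]
      rfl
    show Sw *ᵥ _ = _ *ᵥ (Sw *ᵥ _)
    rw [hgT, Matrix.mulVec_mulVec, Matrix.mulVec_mulVec, tmat_transpose, ← tmat_mul, ← tmat_mul]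
    congr 2
    have hform : ((g⁻¹ : Cfsg.Sz F m).1.1 : Matrix (Fin 4) (Fin 4) F)ᵀ * swapMat *
        (g⁻¹ : Cfsg.Sz F m).1.1 = swapMat := preserves_form hm hF (g⁻¹).2
    have hgg : ((g⁻¹ : Cfsg.Sz F m).1.1 : Matrix (Fin 4) (Fin 4) F) * g.1.1 = 1 :=
      congrArg (fun z : Cfsg.Sz F m => (z.1.1 : Matrix (Fin 4) (Fin 4) F)) (inv_mul_cancel g)
    have h1 : ((g⁻¹ : Cfsg.Sz F m).1.1 : Matrix (Fin 4) (Fin 4) F)ᵀ * swapMat =
        swapMat * g.1.1 := by
      have h := congrArg (fun Z => Z * (g.1.1 : Matrix (Fin 4) (Fin 4) F)) hform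
      simpa only [mul_assoc, hgg, mul_one] using h
    calc swapMat * ((g⁻¹ : Cfsg.Sz F m).1.1 : Matrix (Fin 4) (Fin 4) F)ᵀ
        = swapMat * (((g⁻¹ : Cfsg.Sz F m).1.1 : Matrix (Fin 4) (Fin 4) F)ᵀ * swapMat) * swapMat := by
          rw [mul_assoc, mul_assoc, swapMat_mul_self, mul_one]
      _ = swapMat * swapMat * (g.1.1 : Matrix (Fin 4) (Fin 4) F) * swapMat := by
          rw [h1, ← mul_assoc]
      _ = _ := by rw [swapMat_mul_self, one_mul]
  have hyadd : ∀ w w', y (w + w') = y w + y w' := fun w w' => by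
    simp only [y]
    rw [← Matrix.mulVec_add]
    congr 1
    funext α
    simp
  let Ψ : W →+ Fin 4 → K := AddMonoidHom.mk' (fun w a => σ (y w (fun _ => a))) fun w w' =>
    funext fun a => by simp [hyadd]
  have hconst : ∀ α : S → Fin 4, α = fun _ => α j₀ := fun α => funext fun j => by
    rw [Subsingleton.elim j j₀]
  have hΨ : ∀ g w, Ψ (ρW g w) = (g.1.1 : Matrix (Fin 4) (Fin 4) F).map ι₀ *ᵥ Ψ w := by
    intro g w
    funext a
    show σ (y (ρW g w) fun _ => a) = ∑ b, ι₀ _ * σ (y w fun _ => b)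
    rw [hy, Matrix.mulVec, dotProduct, map_sum]
    haveI : Unique S := uniqueOfSubsingleton j₀
    refine Fintype.sum_equiv (Equiv.funUnique S (Fin 4)) _ _ fun α => ?_
    rw [map_mul, tmat_apply, Fintype.prod_subsingleton _ j₀, hσ,
      show (Equiv.funUnique S (Fin 4)) α = α j₀ from by
        show α default = _
        rw [Subsingleton.elim default j₀]]
    congr 2
    exact congrArg (y w) (hconst α)
  have hΨinj : Function.Injective Ψ := by
    rw [injective_iff_map_eq_zero]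
    have hinv : ∀ g, ∀ w ∈ Ψ.ker, ρW g w ∈ Ψ.ker := fun g w hw => by
      rw [AddMonoidHom.mem_ker] at hw ⊢; rw [hΨ, hw, Matrix.mulVec_zero]
    intro w hw
    rcases hmin _ hinv with h | h
    · exact (AddSubgroup.eq_bot_iff_forall _).1 h w hw
    · exfalso
      have hall : ∀ w, y w = 0 := fun w => funext fun α => by
        have h' : Ψ w = 0 := (h ▸ AddSubgroup.mem_top w : w ∈ Ψ.ker)
        rw [hconst α]
        exact (map_eq_zero σ).1 (congrFun h' (α j₀))
      have h1 : E.symm (Pi.single (fun _ => 0) 1) = 0 := Subtype.ext (AddMonoidHom.ext fun w => by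
        have h' : Sw *ᵥ (Sw *ᵥ fun α => (E.symm (Pi.single α 1)).1 w) = 0 := by
          rw [show Sw *ᵥ (fun α => (E.symm (Pi.single α 1)).1 w) = 0 from hall w,
            Matrix.mulVec_zero]
        rw [Matrix.mulVec_mulVec, ← tmat_mul, swapMat_mul_self, tmat_one, Matrix.one_mulVec] at h'
        exact congrFun h' _)
      simpa using congrFun (E.symm.map_eq_zero_iff.1 h1) (fun _ => 0)
  obtain ⟨w₁, hw₁⟩ := exists_ne (0 : W)
  obtain ⟨w₀, -, hw₀, hw₀f⟩ := exists_fixed_add h2 ρW (isPGroup_U (m := m) hF) (Ω := ⊤)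
    (fun _ _ _ _ => AddSubgroup.mem_top _) (AddSubgroup.mem_top w₁) hw₁
  have hlow : Ψ w₀ = Pi.single 0 (Ψ w₀ 0) := by
    refine eq_low_of_fixed (m := m) ι₀ ?_
    have h := hΨ (tr hF 1 0) w₀
    rw [hw₀f _ ⟨1, 0, rfl⟩] at h
    exact h.symm
  set c := Ψ w₀ 0 with hcdef
  have hc : c ≠ 0 := fun h => hw₀ (hΨinj (by rw [hlow, h, Pi.single_zero, map_zero]))
  let Λ : (Fin 4 → F) →+ Fin 4 → K := AddMonoidHom.mk' (fun v a => c * ι₀ (v a)) fun v v' =>
    funext fun a => by simp [mul_add]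
  have hΛinj : Function.Injective Λ := fun v v' h => funext fun a =>
    ι₀.injective (mul_left_cancel₀ hc (congrFun h a))
  have hΛ : ∀ (g : Cfsg.Sz F m) v,
      (g.1.1 : Matrix (Fin 4) (Fin 4) F).map ι₀ *ᵥ Λ v = Λ (natAct g v) := by
    intro g v
    funext a
    simp [Λ, natAct_apply, Matrix.mulVec, dotProduct, map_sum, Finset.mul_sum, mul_left_comm]
  have hw₀Λ : Λ (Pi.single 0 1) = Ψ w₀ := by
    rw [hlow]
    funext a
    by_cases h : a = 0
    · subst h; simp [Λ, Pi.single_apply]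
    · simp [Λ, Pi.single_apply, h]
  have hsurj : ∀ w, ∃ v, Λ v = Ψ w := by
    have h := (hmin (Λ.range.comap Ψ) (fun g w ⟨v, hv⟩ =>
      ⟨natAct g v, by rw [← hΛ, hv, hΨ]⟩)).resolve_left fun h =>
        hw₀ ((AddSubgroup.eq_bot_iff_forall _).1 h w₀ ⟨_, hw₀Λ⟩)
    intro w
    exact (h ▸ AddSubgroup.mem_top w : w ∈ Λ.range.comap Ψ)
  choose V hV using hsurj
  let Ef : W →+ Fin 4 → F := AddMonoidHom.mk' V fun w w' => hΛinj (by simp only [map_add, hV])
  have hEf : ∀ g w, Ef (ρW g w) = natAct g (Ef w) := fun g w => hΛinj (by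
    show Λ (V _) = Λ (natAct g (V w))
    rw [hV, hΨ, ← hΛ, hV])
  have hbij : Function.Bijective Ef := by
    refine ⟨fun w w' h => hΨinj (by rw [← hV, ← hV]; exact congrArg Λ h), ?_⟩
    rw [← AddMonoidHom.range_eq_top]
    refine stable_eq_top hF (fun g v ⟨w, hw⟩ => ⟨ρW g w, by rw [hEf, hw]⟩) (one_ne_zero (α := F))
      ⟨w₀, hΛinj (by show Λ (V w₀) = _; rw [hV, hw₀Λ])⟩
  exact ⟨AddEquiv.ofBijective Ef hbij, hEf⟩

end Cfsg.Agent.CIT.SzModule
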