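import Cfsg.Agent.Lib.CIT.SzModuleRankOne
import Cfsg.Agent.Lib.Suzuki.Form

/-!
# Tensor products of twists of the natural module of `Sz(q)`
-/

set_option autoImplicit false
set_option linter.unusedSectionVars false
set_option linter.style.haveILetI false

namespace Cfsg.Agent.CIT.SzModule

open Cfsg.Agent.Suzuki Matrix

variable {F : Type*} [Field F] [Fintype F] [CharP F 2] {m : ℕ}
variable (hm : 1 ≤ m) (hF : Fintype.card F = 2 ^ (2 * m + 1))
variable {K : Type*} [Field K] [CharP K 2]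
variable {ι : Type*} [Fintype ι]

/-- The Kronecker product of twists of a matrix. -/
def tmat (f : ι → F →+* K) (A : Matrix (Fin 4) (Fin 4) F) : Matrix (ι → Fin 4) (ι → Fin 4) K :=
  Matrix.of fun α β => ∏ i, f i (A (α i) (β i))

theorem tmat_apply (f : ι → F →+* K) (A : Matrix (Fin 4) (Fin 4) F) (α β : ι → Fin 4) :
    tmat f A α β = ∏ i, f i (A (α i) (β i)) := rfl

theorem tmat_mul [DecidableEq ι] (f : ι → F →+* K) (A B : Matrix (Fin 4) (Fin 4) F) :
    tmat f (A * B) = tmat f A * tmat f B := by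
  ext α γ
  simp only [tmat_apply, Matrix.mul_apply, map_sum, map_mul, Fintype.prod_sum,
    Finset.prod_mul_distrib]

theorem tmat_one [DecidableEq ι] (f : ι → F →+* K) : tmat f (1 : Matrix (Fin 4) (Fin 4) F) = 1 := by
  ext α β
  rw [tmat_apply]
  by_cases h : α = β
  · subst h; simp
  · obtain ⟨i, hi⟩ := Function.ne_iff.1 h
    rw [Matrix.one_apply_ne h]
    exact Finset.prod_eq_zero (Finset.mem_univ i) (by rw [Matrix.one_apply_ne hi, map_zero])

theorem tmat_transpose (f : ι → F →+* K) (A : Matrix (Fin 4) (Fin 4) F) :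
    (tmat f A)ᵀ = tmat f Aᵀ := rfl

variable [DecidableEq ι]

/-- The tensor product of the twists `f i` of the natural module. -/
def tens (f : ι → F →+* K) : Representation K (Cfsg.Sz F m) ((ι → Fin 4) → K) where
  toFun g := (tmat f (g.1.1 : Matrix (Fin 4) (Fin 4) F)).mulVecLin
  map_one' := by
    show (tmat f (1 : Matrix (Fin 4) (Fin 4) F)).mulVecLin = _
    rw [tmat_one, Matrix.mulVecLin_one]; rfl
  map_mul' g h := by
    show (tmat f ((g.1.1 : Matrix (Fin 4) (Fin 4) F) * h.1.1)).mulVecLin = _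
    rw [tmat_mul, Matrix.mulVecLin_mul]; rfl

theorem tens_apply (f : ι → F →+* K) (g : Cfsg.Sz F m) (v : (ι → Fin 4) → K) :
    tens f g v = tmat f (g.1.1 : Matrix (Fin 4) (Fin 4) F) *ᵥ v := rfl

theorem tens_single (f : ι → F →+* K) (g : Cfsg.Sz F m) (α β : ι → Fin 4) :
    tens f g (Pi.single β 1) α = ∏ i, f i ((g.1.1 : Matrix (Fin 4) (Fin 4) F) (α i) (β i)) := by
  rw [tens_apply, Matrix.mulVec_single_one]; rfl

/-- A twist by a power of the squaring map. -/
noncomputable def fr (ι₀ : F →+* K) (i : ℕ) : F →+* K := ι₀.comp (iterateFrobenius F 2 i)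

theorem fr_apply (ι₀ : F →+* K) (i : ℕ) (x : F) : fr ι₀ i x = ι₀ x ^ 2 ^ i := by
  rw [fr, RingHom.comp_apply, iterateFrobenius_def, map_pow]

include hF

theorem trans_col_zero (a b : F) (i : Fin 4) :
    ((tr hF a b : Cfsg.Sz F m).1.1 : Matrix (Fin 4) (Fin 4) F) i 0 = (1 : Matrix (Fin 4) (Fin 4) F) i 0 := by
  show transMat m a b i 0 = _
  fin_cases i <;> simp [transMat, Matrix.one_apply]

theorem low_isFix (f : ι → F →+* K) : IsFix hF (tens f) (Pi.single (fun _ => 0) 1) := by
  intro a b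
  funext α
  rw [tens_single]
  simp only [trans_col_zero hF]
  rw [← tmat_apply, tmat_one, Matrix.one_apply, Pi.single_apply]

theorem low_weight (f : ι → F →+* K) (s : Fˣ) :
    tens (m := m) f (tor hF s) (Pi.single (fun _ => 0) 1) =
      (∏ i, f i ((s : F) ^ 2 ^ (m + 1) * s)) • Pi.single (fun _ => 0) 1 := by
  funext α
  rw [tens_single, Pi.smul_apply, Pi.single_apply, smul_eq_mul]
  have e : ∀ i, ((tor hF s : Cfsg.Sz F m).1.1 : Matrix (Fin 4) (Fin 4) F) (α i) 0 =
      if α i = 0 then (s : F) ^ 2 ^ (m + 1) * s else 0 := fun i => by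
    show torusMat m s (α i) 0 = _
    rw [torusMat, Matrix.diagonal_apply]
    split_ifs with h
    · rw [h]; rfl
    · rfl
  simp only [e]
  split_ifs with h
  · subst h; simp
  · obtain ⟨i, hi⟩ := Function.ne_iff.1 h
    rw [mul_zero]
    exact Finset.prod_eq_zero (Finset.mem_univ i) (by rw [if_neg hi, map_zero])

omit hF in
theorem sum_two_pow (n : ℕ) : ∑ i : Fin n, 2 ^ (i : ℕ) = 2 ^ n - 1 := by
  rw [Fin.sum_univ_eq_sum_range (fun i => 2 ^ i), Nat.geomSum_eq le_rfl]
  simp

/-- The product of all twists has one line of vectors fixed by the translations. -/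
theorem fixed_full (ι₀ : F →+* K) {v : (Fin (2 * m + 1) → Fin 4) → K}
    (hv : IsFix hF (tens fun i : Fin (2 * m + 1) => fr ι₀ i) v) :
    ∃ c : K, v = c • Pi.single (fun _ => 0) 1 := by
  classical
  set f := fun i : Fin (2 * m + 1) => fr ι₀ (i : ℕ) with hf
  letI := Fintype.ofFinite (U (m := m) hF)
  let top : (Fin (2 * m + 1) → Fin 4) → K := Pi.single (fun _ => 3) 1
  let L : ((U (m := m) hF) → K) →ₗ[K] ((Fin (2 * m + 1) → Fin 4) → K) :=
    { toFun := fun c => ∑ u, c u • tens f u.1 top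
      map_add' := fun c d => by simp [add_smul, Finset.sum_add_distrib]
      map_smul' := fun k c => by simp [Finset.smul_sum, smul_smul] }
  let σ : Representation K (U (m := m) hF) ((U (m := m) hF) → K) :=
    { toFun := fun g => LinearMap.funLeft K K fun w => g⁻¹ * w
      map_one' := by ext c w; simp [LinearMap.funLeft_apply]
      map_mul' := fun g h => by ext c w; simp [LinearMap.funLeft_apply, mul_assoc] }
  have hL : ∀ g c, L (σ g c) = tens f g.1 (L c) := by
    intro g c
    show ∑ u, c (g⁻¹ * u) • tens f u.1 top = tens f g.1 (∑ u, c u • tens f u.1 top)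
    rw [map_sum]
    refine (Fintype.sum_equiv (Equiv.mulLeft g) _ _ fun u => ?_).symm
    rw [map_smul, Equiv.coe_mulLeft, inv_mul_cancel_left, Subgroup.coe_mul, map_mul,
      Module.End.mul_apply]
  have hconst : ∀ c : (U (m := m) hF) → K, (∀ g, σ g c = c) → ∀ w, c w = c 1 := by
    intro c hc w
    have h : c (w⁻¹ * w) = c w := congrFun (hc w) w
    rw [inv_mul_cancel] at h
    exact h.symm
  have hone : ∀ u : U (m := m) hF,
      tens f u.1 top (fun _ => 0) = if u = 1 then 0 else 1 := by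
    intro u
    obtain ⟨a, b, rfl⟩ := ut_surjective hF u
    rw [tens_single]
    show ∏ i : Fin (2 * m + 1), fr ι₀ (i : ℕ) (ovf m a b) = _
    simp only [fr_apply]
    rw [Finset.prod_pow_eq_pow_sum, sum_two_pow, ← map_pow, ← hF]
    have hcard : 1 < Fintype.card F := Fintype.one_lt_card
    split_ifs with h
    · obtain ⟨rfl, rfl⟩ := ut_injective hF (h.trans (ut_zero hF).symm)
      rw [ovf_zero, zero_pow (by omega), map_zero]
    · rw [FiniteField.pow_card_sub_one_eq_one _ (fun e => h ?_), map_one]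
      obtain ⟨rfl, rfl⟩ := ovf_eq_zero hF e
      exact ut_zero hF
  have hsum : ∑ u : U (m := m) hF, tens f u.1 top (fun _ => 0) = 1 := by
    simp only [hone]
    rw [← Finset.sum_erase_add _ _ (Finset.mem_univ (1 : U (m := m) hF)), if_pos rfl, add_zero,
      Finset.sum_congr rfl (fun u hu => if_neg (Finset.ne_of_mem_erase hu)), Finset.sum_const,
      Finset.card_erase_of_mem (Finset.mem_univ _), Finset.card_univ, ← Nat.card_eq_fintype_card,
      card_U hF, hF, nsmul_one]
    rw [Nat.cast_sub (Nat.one_le_pow _ _ (by positivity))]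
    push_cast
    rw [CharTwo.two_eq_zero, zero_pow (by omega), zero_pow (by omega), zero_sub, CharTwo.neg_eq]
  have hinj : Function.Injective L := by
    rw [← LinearMap.ker_eq_bot, Submodule.eq_bot_iff]
    intro c hc
    by_contra h0
    obtain ⟨d, hd, hd0, hdf⟩ := exists_fixed σ (P := ⊤) ((isPGroup_U hF).to_subgroup _)
      (D := LinearMap.ker L) (fun g _ x hx => by
        rw [LinearMap.mem_ker] at hx ⊢; rw [hL, hx, map_zero]) hc h0
    have hd1 := hconst d fun g => hdf g trivial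
    have h : d 1 * ∑ u : U (m := m) hF, tens f u.1 top (fun _ => 0) = 0 := by
      have h' := congrFun (LinearMap.mem_ker.1 hd) (fun _ => 0)
      simp only [L, LinearMap.coe_mk, AddHom.coe_mk, Finset.sum_apply, Pi.smul_apply, smul_eq_mul,
        Pi.zero_apply] at h'
      rw [Finset.mul_sum]
      exact (Finset.sum_congr rfl fun u _ => by rw [hd1 u]).symm.trans h'
    rw [hsum, mul_one] at h
    exact hd0 (funext fun u => by rw [hd1 u, h]; rfl)
  have hsurj : Function.Surjective L := by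
    refine (LinearMap.injective_iff_surjective_of_finrank_eq_finrank ?_).1 hinj
    rw [Module.finrank_pi, Module.finrank_pi, ← Nat.card_eq_fintype_card, card_U hF, hF,
      Fintype.card_fun, Fintype.card_fin, Fintype.card_fin, ← pow_mul, mul_comm, pow_mul]
    norm_num
  have key : ∀ w, IsFix hF (tens f) w → ∃ c : K, w = c • L (fun _ => 1) := by
    intro w hw
    obtain ⟨c, rfl⟩ := hsurj w
    have hc := hconst c fun g => hinj (by
      rw [hL]
      obtain ⟨a, b, rfl⟩ := ut_surjective hF g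
      exact hw a b)
    refine ⟨c 1, ?_⟩
    rw [← map_smul]
    congr 1
    funext u
    simp [hc u]
  obtain ⟨c, hc⟩ := key v hv
  obtain ⟨d, hd⟩ := key _ (low_isFix hF f)
  have hd0 : d ≠ 0 := fun e => by
    rw [e, zero_smul] at hd
    simpa using congrFun hd (fun _ => 0)
  exact ⟨c / d, by rw [hd, smul_smul, div_mul_cancel₀ _ hd0, hc]⟩

/-- A product of distinct twists has one line of vectors fixed by the translations. -/
theorem fixed_sub (ι₀ : F →+* K) {J : ι → Fin (2 * m + 1)} (hJ : Function.Injective J)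
    {v : (ι → Fin 4) → K} (hv : IsFix hF (tens fun j => fr ι₀ (J j)) v) :
    ∃ c : K, v = c • Pi.single (fun _ => 0) 1 := by
  classical
  let ext' : (ι → Fin 4) → Fin (2 * m + 1) → Fin 4 := fun γ => Function.extend J γ 0
  have hext : ∀ γ j, ext' γ (J j) = γ j := fun γ j => hJ.extend_apply _ _ _
  have hext0 : ∀ γ k, k ∉ Set.range J → ext' γ k = 0 := fun γ k hk =>
    Function.extend_apply' _ _ _ hk
  have hinj : Function.Injective ext' := fun γ δ h => funext fun j => by rw [← hext γ, h, hext]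
  let w : (Fin (2 * m + 1) → Fin 4) → K := fun α => if α = ext' (α ∘ J) then v (α ∘ J) else 0
  have hcomp : ∀ γ, ext' γ ∘ J = γ := fun γ => funext (hext γ)
  have hw : ∀ γ, w (ext' γ) = v γ := fun γ => by simp only [w, hcomp, if_true]
  have hfix : IsFix hF (tens fun i : Fin (2 * m + 1) => fr ι₀ i) w := by
    intro a b
    funext α
    set A := ((tr hF a b : Cfsg.Sz F m).1.1 : Matrix (Fin 4) (Fin 4) F) with hA
    show ∑ β, tmat _ A α β * w β = w α
    rw [← Fintype.sum_of_injective ext' hinj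
      (fun γ => tmat (fun i : Fin (2 * m + 1) => fr ι₀ i) A α (ext' γ) * v γ)
      (fun β => tmat (fun i : Fin (2 * m + 1) => fr ι₀ i) A α β * w β)
      (fun β hβ => by
        simp only [w]
        rw [if_neg fun e => hβ ⟨_, e.symm⟩, mul_zero])
      (fun γ => by simp only [hw])]
    by_cases hα : α = ext' (α ∘ J)
    · rw [show w α = v (α ∘ J) from if_pos hα, ← congrFun (hv a b) (α ∘ J)]
      show _ = ∑ γ, tmat _ A (α ∘ J) γ * v γ
      refine Finset.sum_congr rfl fun γ _ => ?_
      congr 1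
      rw [tmat_apply, tmat_apply]
      refine (Fintype.prod_of_injective J hJ _ _ (fun k hk => ?_) fun j => ?_).symm
      · rw [hext0 γ k hk, hA, trans_col_zero hF, show α k = 0 by rw [hα, hext0 _ k hk],
          Matrix.one_apply_eq, map_one]
      · simp only [hext, Function.comp_apply]
    · rw [show w α = 0 from if_neg hα]
      obtain ⟨k, hk, hk0⟩ : ∃ k, k ∉ Set.range J ∧ α k ≠ 0 := by
        by_contra hno
        push Not at hno
        refine hα (funext fun k => ?_)
        by_cases hk : k ∈ Set.range J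
        · obtain ⟨j, rfl⟩ := hk; rw [hext]; rfl
        · rw [hext0 _ k hk, hno k hk]
      refine Finset.sum_eq_zero fun γ _ => ?_
      rw [tmat_apply, Finset.prod_eq_zero (Finset.mem_univ k) (by
        rw [hext0 γ k hk, hA, trans_col_zero hF, Matrix.one_apply_ne hk0, map_zero]), zero_mul]
  obtain ⟨c, hc⟩ := fixed_full hF ι₀ hfix
  refine ⟨c, funext fun γ => ?_⟩
  rw [← hw γ, hc, Pi.smul_apply, Pi.smul_apply, Pi.single_apply, Pi.single_apply]
  congr 1
  by_cases hγ : γ = fun _ => 0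
  · rw [if_pos hγ, if_pos]
    funext k
    by_cases hk : k ∈ Set.range J
    · obtain ⟨j, rfl⟩ := hk; rw [hext, hγ]
    · exact hext0 γ k hk
  · rw [if_neg hγ, if_neg fun e => hγ (funext fun j => by rw [← hext γ j, e])]

include hm

/-- A product of distinct twists is irreducible. -/
theorem irred_sub (ι₀ : F →+* K) {J : ι → Fin (2 * m + 1)} (hJ : Function.Injective J) :
    Irred (tens (m := m) fun j => fr ι₀ (J j)) := by
  classical
  set f := fun j => fr ι₀ (J j : ℕ) with hf
  let S : Matrix (ι → Fin 4) (ι → Fin 4) K := tmat f (swapMat : Matrix (Fin 4) (Fin 4) F)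
  let B : ((ι → Fin 4) → K) → ((ι → Fin 4) → K) → K := fun v w => v ⬝ᵥ (S *ᵥ w)
  have hB : ∀ (g : Cfsg.Sz F m) v w, B (tens f g v) (tens f g w) = B v w := by
    intro g v w
    have hform : (g.1.1 : Matrix (Fin 4) (Fin 4) F)ᵀ * swapMat * g.1.1 = swapMat :=
      preserves_form hm hF g.2
    show (_ *ᵥ v) ⬝ᵥ (S *ᵥ (_ *ᵥ w)) = v ⬝ᵥ (S *ᵥ w)
    rw [Matrix.mulVec_mulVec, dotProduct_comm, ← Matrix.dotProduct_transpose_mulVec,
      tmat_transpose, ← tmat_mul, Matrix.mulVec_mulVec, ← tmat_mul, ← mul_assoc, hform]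
  have hlow : ∀ D : Submodule K ((ι → Fin 4) → K), (∀ g : Cfsg.Sz F m, ∀ v ∈ D, tens f g v ∈ D) → D ≠ ⊥ →
      Pi.single (fun _ => 0) (1 : K) ∈ D := by
    intro D hD h0
    obtain ⟨v, hv, hv0⟩ := (Submodule.ne_bot_iff D).1 h0
    obtain ⟨w, hw, hw0, hwf⟩ := exists_isFix hF hD hv hv0
    obtain ⟨c, rfl⟩ := fixed_sub hF ι₀ hJ hwf
    have hc : c ≠ 0 := fun e => hw0 (by rw [e, zero_smul])
    simpa [smul_smul, inv_mul_cancel₀ hc] using D.smul_mem c⁻¹ hw
  intro D hD
  by_contra hcon
  push Not at hcon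
  obtain ⟨hbot, htop⟩ := hcon
  obtain ⟨φ, hφ0, hφ⟩ := Submodule.exists_le_ker_of_lt_top D (lt_top_iff_ne_top.2 htop)
  let u : (ι → Fin 4) → K := fun α => φ (Pi.single α 1)
  have hφu : ∀ v, φ v = v ⬝ᵥ u := by
    intro v
    conv_lhs => rw [pi_eq_sum_univ' v]
    simp [u, dotProduct, map_sum, map_smul, Pi.single_apply]
  let w := S *ᵥ u
  have hS2 : S * S = 1 := by rw [← tmat_mul, swapMat_mul_self, tmat_one]
  let E : Submodule K ((ι → Fin 4) → K) :=
    { carrier := {x | ∀ v ∈ D, B v x = 0}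
      zero_mem' := fun v _ => by simp [B]
      add_mem' := fun {x y} hx hy v hv => by
        have e1 := hx v hv; have e2 := hy v hv
        simp only [B] at e1 e2 ⊢
        rw [Matrix.mulVec_add, dotProduct_add, e1, e2, add_zero]
      smul_mem' := fun c x hx v hv => by
        have e1 := hx v hv
        simp only [B] at e1 ⊢
        rw [Matrix.mulVec_smul, dotProduct_smul, e1, smul_zero] }
  have hwE : w ∈ E := fun v hv => by
    show v ⬝ᵥ (S *ᵥ (S *ᵥ u)) = 0
    rw [Matrix.mulVec_mulVec, hS2, Matrix.one_mulVec, ← hφu]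
    exact hφ hv
  have hw0 : w ≠ 0 := fun e => by
    apply hφ0
    have : u = 0 := by
      rw [← Matrix.one_mulVec u, ← hS2, ← Matrix.mulVec_mulVec, show S *ᵥ u = 0 from e,
        Matrix.mulVec_zero]
    exact LinearMap.ext fun v => by rw [hφu, this, dotProduct_zero]; rfl
  have hE : ∀ g : Cfsg.Sz F m, ∀ x ∈ E, tens f g x ∈ E := by
    intro g x hx v hv
    have h := hx _ (hD g⁻¹ v hv)
    rw [← hB g] at h
    rwa [← Module.End.mul_apply, ← map_mul, mul_inv_cancel, map_one, Module.End.one_apply] at h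
  have h0E := hlow E hE ((Submodule.ne_bot_iff E).2 ⟨w, hwE, hw0⟩)
  have h3D := hD (sw hF) _ (hlow D hD hbot)
  have h := h0E _ h3D
  rw [← hB (sw hF)] at h
  rw [← Module.End.mul_apply, ← map_mul, sw_mul_self, map_one, Module.End.one_apply] at h
  simp only [B, single_dotProduct, one_mul, tens_apply, Matrix.mulVec_mulVec] at h
  rw [show tmat f ((sw hF : Cfsg.Sz F m).1.1 : Matrix (Fin 4) (Fin 4) F) = S from rfl, hS2,
    Matrix.one_mulVec, Pi.single_eq_same] at h
  exact one_ne_zero h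

omit hm in
/-- Every nontrivial character of the torus is the weight of a product of twists. -/
theorem exists_twists (ι₀ : F →+* K) {χ : Fˣ → K} (hmul : ∀ s t, χ (s * t) = χ s * χ t)
    (hone : χ 1 = 1) (hne : ∃ s, χ s ≠ 1) :
    ∃ S : Finset (Fin (2 * m + 1)), S.Nonempty ∧
      ∀ s : Fˣ, χ s = ∏ i : S, fr ι₀ (i : Fin (2 * m + 1)) ((s : F) ^ 2 ^ (m + 1) * s) := by
  classical
  set r := 2 ^ (m + 1) with hr
  set N := Fintype.card F - 1 with hN
  have hq : 1 < Fintype.card F := Fintype.one_lt_card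
  haveI : NeZero N := ⟨by omega⟩
  have hr1 : 1 ≤ r := Nat.one_le_two_pow
  have hrr : r * r = 2 * N + 2 := by
    have e : r * r = 2 * Fintype.card F := by rw [hr, hF, ← pow_add, ← pow_succ']; congr 1; omega
    omega
  obtain ⟨g, hg⟩ := IsCyclic.exists_monoid_generator (α := Fˣ)
  have hord : orderOf g = N := by
    rw [orderOf_eq_card_of_forall_mem_zpowers (fun x => ?_), Nat.card_units,
      Nat.card_eq_fintype_card]
    exact mem_powers_iff_mem_zpowers.1 (hg x)
  have hprim : IsPrimitiveRoot (ι₀ (g : F)) N :=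
    ((hord ▸ IsPrimitiveRoot.orderOf g).map_of_injective
      (f := ι₀.toMonoidHom.comp (Units.coeHom F)) (ι₀.injective.comp Units.val_injective))
  have hpow : ∀ (s : Fˣ) (n : ℕ), χ (s ^ n) = χ s ^ n := by
    intro s n
    induction n with
    | zero => simp [hone]
    | succ n ih => rw [pow_succ, hmul, ih, pow_succ]
  obtain ⟨k, hk, hkg⟩ := hprim.eq_pow_of_pow_eq_one (ξ := χ g) (by
    rw [← hpow, ← hord, pow_orderOf_eq_one, hone])
  set k' := k * (r - 1) % N with hk'
  have hk'lt : k' < 2 ^ (2 * m + 1) := by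
    have : k' < N := Nat.mod_lt _ (NeZero.pos N)
    omega
  have hmod : (r + 1) * k' % N = k % N := by
    rw [hk', Nat.mul_mod, Nat.mod_mod, ← Nat.mul_mod]
    obtain ⟨r', hr'⟩ : ∃ r', r = r' + 1 := ⟨r - 1, by omega⟩
    rw [hr'] at hrr ⊢
    have e : (r' + 1 + 1) * (k * r') = k + N * (2 * k) := by
      have e2 : (r' + 1 + 1) * r' = 2 * N + 1 := by nlinarith
      calc (r' + 1 + 1) * (k * r') = k * ((r' + 1 + 1) * r') := by ring
        _ = _ := by rw [e2]; ring
    rw [Nat.add_sub_cancel, e, Nat.add_mul_mod_self_left]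
  let S : Finset (Fin (2 * m + 1)) := Finset.univ.filter fun i => (i : ℕ) ∈ k'.bitIndices
  have hS : ∑ i : S, 2 ^ ((i : Fin (2 * m + 1)) : ℕ) = k' := by
    rw [Finset.sum_coe_sort S (fun i : Fin (2 * m + 1) => 2 ^ (i : ℕ))]
    conv_rhs => rw [← Nat.sum_map_two_pow_bitIndices k', ← List.sum_toFinset _ Nat.bitIndices_nodup]
    refine Finset.sum_bij' (fun i _ => (i : ℕ)) (fun a ha => ⟨a, ?_⟩) ?_ ?_ ?_ ?_ ?_
    · have h2 := Nat.two_pow_le_of_mem_bitIndices (List.mem_toFinset.1 ha)
      exact (Nat.pow_lt_pow_iff_right one_lt_two).1 (h2.trans_lt hk'lt)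
    · intro a ha
      exact List.mem_toFinset.2 (Finset.mem_filter.1 ha).2
    · intro a ha
      exact Finset.mem_filter.2 ⟨Finset.mem_univ _, List.mem_toFinset.1 ha⟩
    · intro a ha; rfl
    · intro a ha; rfl
    · intro a ha; rfl
  refine ⟨S, ?_, fun s => ?_⟩
  · rw [Finset.nonempty_iff_ne_empty]
    intro h0
    have h1 : k' = 0 := by
      rw [← hS]
      refine Finset.sum_eq_zero fun i _ => absurd i.2 ?_
      simp [h0]
    rw [h1, mul_zero, Nat.zero_mod, Nat.mod_eq_of_lt hk] at hmod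
    obtain ⟨s, hs⟩ := hne
    obtain ⟨j, rfl⟩ := (Submonoid.mem_powers_iff _ _).1 (hg s)
    exact hs (by rw [hpow, ← hkg, ← hmod, pow_zero, one_pow])
  · obtain ⟨j, rfl⟩ := (Submonoid.mem_powers_iff _ _).1 (hg s)
    have e : ((g ^ j : Fˣ) : F) ^ r * ((g ^ j : Fˣ) : F) = ((g : F) ^ (r + 1)) ^ j := by
      rw [Units.val_pow_eq_pow_val, ← pow_succ, ← pow_mul, ← pow_mul, mul_comm]
    simp only [e, fr_apply]
    rw [Finset.prod_pow_eq_pow_sum, hS, hpow, map_pow, map_pow, ← pow_mul, ← pow_mul, ← hkg,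
      ← pow_mul, pow_eq_pow_mod (k * j) hprim.pow_eq_one,
      pow_eq_pow_mod ((r + 1) * (j * k')) hprim.pow_eq_one,
      show (r + 1) * (j * k') = (r + 1) * k' * j by ring]
    conv_rhs => rw [Nat.mul_mod, hmod, ← Nat.mul_mod]

omit hm in
/-- An element of order five fixes a vector of a product of at least two twists. -/
theorem exists_five_fixed (f : ι → F →+* K) {i₀ i₁ : ι} (hne : i₀ ≠ i₁) :
    ∃ x : Cfsg.Sz F m, x ^ 5 = 1 ∧ x ≠ 1 ∧
      ∃ v : (ι → Fin 4) → K, v ≠ 0 ∧ tens f x v = v := by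
  classical
  let X : Matrix (Fin 4) (Fin 4) (ZMod 2) := !![1, 1, 0, 1; 1, 0, 1, 0; 0, 1, 0, 0; 1, 0, 0, 0]
  let c := ZMod.castHom (dvd_refl 2) F
  let cK := ZMod.castHom (dvd_refl 2) K
  set x : Cfsg.Sz F m := tr hF 0 1 * sw hF with hx
  have hX : (x.1.1 : Matrix (Fin 4) (Fin 4) F) = X.map c := by
    show transMat m (0 : F) 1 * swapMat = _
    ext i j
    fin_cases i <;> fin_cases j <;>
      simp [transMat, swapMat, ovf, X, c, Matrix.mul_apply, Fin.sum_univ_four]
  have hXk : ∀ k : ℕ, ((x ^ k).1.1 : Matrix (Fin 4) (Fin 4) F) = (X ^ k).map c := by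
    intro k
    induction k with
    | zero =>
      show (1 : Matrix (Fin 4) (Fin 4) F) = _
      simp
    | succ k ih =>
      rw [pow_succ, pow_succ, Matrix.map_mul, ← ih, ← hX]
      rfl
  have hx5 : x ^ 5 = 1 := by
    apply Subtype.ext; apply Subtype.ext
    rw [hXk 5, show X ^ 5 = 1 by decide +kernel]
    simp
  let α : ι → Fin 4 := fun i => if i = i₀ then 0 else 3
  have hent : ∀ k : ℕ, tens f (x ^ k) (Pi.single α 1) α =
      cK ((X ^ k) 0 0 * (X ^ k) 3 3) := by
    intro k
    rw [tens_single, hXk]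
    simp only [Matrix.map_apply]
    have e : ∀ i z, f i (c z) = cK z := fun i z =>
      congrFun (congrArg DFunLike.coe (RingHom.ext_zmod ((f i).comp c) cK)) z
    simp only [e]
    rw [← map_prod, ← Finset.mul_prod_erase _ _ (Finset.mem_univ i₀)]
    congr 1
    rw [show α i₀ = 0 from if_pos rfl, Finset.prod_congr rfl (fun i hi => by
      rw [show α i = 3 from if_neg (Finset.ne_of_mem_erase hi)]), Finset.prod_const]
    congr 1
    have hpos : (Finset.univ.erase i₀).card ≠ 0 :=
      Finset.card_ne_zero_of_mem (Finset.mem_erase.2 ⟨hne.symm, Finset.mem_univ i₁⟩)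
    generalize (X ^ k) 3 3 = z
    fin_cases z
    · exact zero_pow hpos
    · exact one_pow _
  let v : (ι → Fin 4) → K := ∑ k ∈ Finset.range 5, tens f (x ^ k) (Pi.single α 1)
  refine ⟨x, hx5, fun e => ?_, v, fun h => ?_, ?_⟩
  · have h1 := congrArg (fun y : Cfsg.Sz F m => (y.1.1 : Matrix (Fin 4) (Fin 4) F) 0 1) e
    simp [hX, X, c] at h1
  · have h1 := congrFun h α
    simp only [v, Finset.sum_apply, hent, Pi.zero_apply] at h1
    rw [← map_sum, show ∑ k ∈ Finset.range 5, (X ^ k) 0 0 * (X ^ k) 3 3 = 1 by decide +kernel,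
      map_one] at h1
    exact one_ne_zero h1
  · simp only [v, map_sum, ← Module.End.mul_apply, ← map_mul, ← pow_succ']
    have e1 := Finset.sum_range_succ (fun k => tens f (x ^ k) (Pi.single α 1)) 5
    have e2 := Finset.sum_range_succ' (fun k => tens f (x ^ k) (Pi.single α 1)) 5
    rw [e2, hx5, pow_zero] at e1
    exact add_right_cancel e1

end Cfsg.Agent.CIT.SzModule
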