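import Mathlib

/-!
# Arithmetic for the Sylow 2-subgroups of type `U₃(4)`

Five integer vectors of norm three with mutual products two, and the equations between the degrees
and the values at an involution which come from the principal 2-block.
-/

set_option autoImplicit false

namespace Cfsg.Agent.CIT.UFour

variable {ι : Type*} [Fintype ι] [DecidableEq ι]

theorem sq_eq_one_of_norm_three {v : ι → ℤ} (h : ∑ i, v i * v i = 3) {i : ι} (hi : v i ≠ 0) :
    v i = 1 ∨ v i = -1 := by
  have h1 : v i * v i ≤ 3 := h ▸ Finset.single_le_sum (f := fun j => v j * v j)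
    (fun j _ => mul_self_nonneg _) (Finset.mem_univ i)
  have h2 : -1 ≤ v i ∧ v i ≤ 1 := ⟨by nlinarith, by nlinarith⟩
  omega

theorem card_support {v : ι → ℤ} (h : ∑ i, v i * v i = 3) :
    (Finset.univ.filter fun i => v i ≠ 0).card = 3 := by
  have h1 : ∑ i, v i * v i = ∑ i, if v i ≠ 0 then (1 : ℤ) else 0 := Finset.sum_congr rfl fun i _ => by
    by_cases hi : v i = 0
    · simp [hi]
    · rw [if_pos hi]
      rcases sq_eq_one_of_norm_three h hi with e | e <;> rw [e] <;> norm_num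
  rw [h1, Finset.sum_boole] at h
  exact_mod_cast h

theorem inter_support {v w : ι → ℤ} (hv : ∑ i, v i * v i = 3) (hw : ∑ i, w i * w i = 3)
    (h : ∑ i, v i * w i = 2) :
    ((Finset.univ.filter fun i => v i ≠ 0) ∩ (Finset.univ.filter fun i => w i ≠ 0)).card = 2 ∧
      ∀ i, v i ≠ 0 → w i ≠ 0 → v i = w i := by
  set s := (Finset.univ.filter fun i => v i ≠ 0) ∩ (Finset.univ.filter fun i => w i ≠ 0) with hs
  have hsub : ∑ i ∈ s, v i * w i = 2 := by
    rw [← h]
    refine Finset.sum_subset (Finset.subset_univ s) fun i _ hi => ?_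
    simp only [hs, Finset.mem_inter, Finset.mem_filter, Finset.mem_univ, true_and] at hi
    by_cases h' : v i = 0
    · simp [h']
    · simp [not_not.1 fun h'' => hi ⟨h', h''⟩]
  have hterm : ∀ i ∈ s, v i * w i = 1 ∨ v i * w i = -1 := fun i hi => by
    simp only [hs, Finset.mem_inter, Finset.mem_filter, Finset.mem_univ, true_and] at hi
    rcases sq_eq_one_of_norm_three hv hi.1 with e | e <;>
      rcases sq_eq_one_of_norm_three hw hi.2 with e' | e' <;> simp [e, e']
  have hcard : s.card ≤ 3 := (Finset.card_le_card Finset.inter_subset_left).trans (card_support hv).le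
  have hparity : (2 : ℤ) ∣ (s.card : ℤ) - ∑ i ∈ s, v i * w i := by
    rw [Finset.card_eq_sum_ones, Nat.cast_sum, ← Finset.sum_sub_distrib]
    refine Finset.dvd_sum fun i hi => ?_
    rcases hterm i hi with e | e <;> rw [e] <;> norm_num
  have hle : ∑ i ∈ s, v i * w i ≤ (s.card : ℤ) := by
    rw [Finset.card_eq_sum_ones, Nat.cast_sum]
    refine Finset.sum_le_sum fun i hi => ?_
    rcases hterm i hi with e | e <;> rw [e] <;> norm_num
  rw [hsub] at hparity hle
  have h2 : s.card = 2 := by omega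
  refine ⟨h2, fun i hvi hwi => ?_⟩
  have hi : i ∈ s := by simp [hs, hvi, hwi]
  have hall : ∑ j ∈ s, (1 - v j * w j) = 0 := by
    rw [Finset.sum_sub_distrib, hsub]
    simp [h2]
  have := (Finset.sum_eq_zero_iff_of_nonneg (fun j hj => by
    rcases hterm j hj with e | e <;> rw [e] <;> norm_num)).1 hall i hi
  rcases sq_eq_one_of_norm_three hv hvi with e | e <;>
    rcases sq_eq_one_of_norm_three hw hwi with e' | e' <;> simp [e, e'] at this ⊢

/-- Five sets of three points meeting in pairs in two points have two points in common. -/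
theorem common_pair {s : Fin 5 → Finset ι} (h3 : ∀ k, (s k).card = 3)
    (h2 : ∀ k l, k ≠ l → (s k ∩ s l).card = 2) : ∀ k, s 0 ∩ s 1 ⊆ s k := by
  intro k
  by_contra hk
  have hP : (s 0 ∩ s 1).card = 2 := h2 0 1 (by decide)
  have hU : (s 0 ∪ s 1).card = 4 := by
    have := Finset.card_union_add_card_inter (s 0) (s 1)
    rw [h3, h3, hP] at this
    omega
  have hk0 : k ≠ 0 := fun e => hk (e ▸ Finset.inter_subset_left)
  have hk1 : k ≠ 1 := fun e => hk (e ▸ Finset.inter_subset_right)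
  have hout : ∀ l, ¬ s l ⊆ s 0 ∪ s 1 → s 0 ∩ s 1 ⊆ s l ∧ s l ∩ (s 0 ∪ s 1) = s 0 ∩ s 1 := by
    intro l hl
    have hl0 : l ≠ 0 := fun e => hl (e ▸ Finset.subset_union_left)
    have hl1 : l ≠ 1 := fun e => hl (e ▸ Finset.subset_union_right)
    have hlt : (s l ∩ (s 0 ∪ s 1)).card ≤ 2 := by
      have := Finset.card_lt_card (Finset.ssubset_iff_subset_ne.2
        ⟨Finset.inter_subset_left (s₁ := s l) (s₂ := s 0 ∪ s 1),
          fun e => hl (e ▸ Finset.inter_subset_right)⟩)
      rw [h3] at this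
      omega
    have e0 : s l ∩ s 0 = s l ∩ (s 0 ∪ s 1) := Finset.eq_of_subset_of_card_le
      (Finset.inter_subset_inter_left Finset.subset_union_left) (by rw [h2 l 0 hl0]; exact hlt)
    have e1 : s l ∩ s 1 = s l ∩ (s 0 ∪ s 1) := Finset.eq_of_subset_of_card_le
      (Finset.inter_subset_inter_left Finset.subset_union_right) (by rw [h2 l 1 hl1]; exact hlt)
    have e2 : s l ∩ (s 0 ∪ s 1) = s 0 ∩ s 1 := Finset.eq_of_subset_of_card_le
      (fun x hx => Finset.mem_inter.2 ⟨(Finset.mem_inter.1 (e0 ▸ hx)).2,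
        (Finset.mem_inter.1 (e1 ▸ hx)).2⟩) (by rw [hP, ← e0, h2 l 0 hl0])
    exact ⟨fun x hx => (Finset.mem_inter.1 (e2.symm ▸ hx)).1, e2⟩
  have hkU : s k ⊆ s 0 ∪ s 1 := by
    by_contra h
    exact hk (hout k h).1
  have hall : ∀ l, s l ⊆ s 0 ∪ s 1 := by
    intro l
    by_contra hl
    have hlk : l ≠ k := fun e => hl (e ▸ hkU)
    have hsub : s l ∩ s k ⊆ s 0 ∩ s 1 ∩ s k := fun x hx => by
      have hx' := Finset.mem_inter.1 hx
      exact Finset.mem_inter.2 ⟨(hout l hl).2 ▸ Finset.mem_inter.2 ⟨hx'.1, hkU hx'.2⟩, hx'.2⟩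
    have h' := Finset.card_le_card hsub
    rw [h2 l k hlk] at h'
    have e : s 0 ∩ s 1 ∩ s k = s 0 ∩ s 1 :=
      Finset.eq_of_subset_of_card_le Finset.inter_subset_left (hP.le.trans h')
    refine hk fun x hx => ?_
    rw [← e] at hx
    exact (Finset.mem_inter.1 hx).2
  have hinj : Function.Injective s := fun a b e => by
    by_contra hab
    have := h2 a b hab
    rw [e, Finset.inter_self, h3] at this
    omega
  have := Finset.card_le_card (s := Finset.univ.image s) (t := (s 0 ∪ s 1).powersetCard 3)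
    fun x hx => by
      obtain ⟨l, -, rfl⟩ := Finset.mem_image.1 hx
      exact Finset.mem_powersetCard.2 ⟨hall l, h3 l⟩
  rw [Finset.card_image_of_injective _ hinj, Finset.card_powersetCard, hU] at this
  simp [Nat.choose] at this

/-- Five vectors of norm three with mutual products two share two coordinates with the same
values and have one further coordinate each, all different. -/
theorem pattern (v : Fin 5 → ι → ℤ) (hn : ∀ k, ∑ i, v k i * v k i = 3)
    (hi : ∀ k l, k ≠ l → ∑ i, v k i * v l i = 2) :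
    ∃ (p q : ι) (g₁ g₂ : ℤ) (w : Fin 5 → ι), p ≠ q ∧ (g₁ = 1 ∨ g₁ = -1) ∧ (g₂ = 1 ∨ g₂ = -1) ∧
      Function.Injective w ∧ (∀ k, w k ≠ p ∧ w k ≠ q) ∧
      ∀ k, v k p = g₁ ∧ v k q = g₂ ∧ (v k (w k) = 1 ∨ v k (w k) = -1) ∧
        ∀ i, i ≠ p → i ≠ q → i ≠ w k → v k i = 0 := by
  set s : Fin 5 → Finset ι := fun k => Finset.univ.filter fun i => v k i ≠ 0 with hs
  have hmem : ∀ k i, i ∈ s k ↔ v k i ≠ 0 := fun k i => by simp [hs]
  have h3 : ∀ k, (s k).card = 3 := fun k => card_support (hn k)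
  have hpair := common_pair h3 fun k l hkl => (inter_support (hn k) (hn l) (hi k l hkl)).1
  obtain ⟨p, q, hpq, hP⟩ :=
    Finset.card_eq_two.1 (inter_support (hn 0) (hn 1) (hi 0 1 (by decide))).1
  have hp : ∀ k, v k p ≠ 0 := fun k => (hmem k p).1 (hpair k (by rw [hP]; simp))
  have hq : ∀ k, v k q ≠ 0 := fun k => (hmem k q).1 (hpair k (by rw [hP]; simp))
  have hval : ∀ k i, v 0 i ≠ 0 → v k i ≠ 0 → v k i = v 0 i := fun k i h0 hk => by
    by_cases e : k = 0
    · rw [e]
    · exact (inter_support (hn k) (hn 0) (hi k 0 e)).2 i hk h0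
  have hw : ∀ k, ∃ x, s k \ {p, q} = {x} := fun k => Finset.card_eq_one.1 (by
    rw [Finset.card_sdiff, h3, Finset.inter_eq_left.2 (hP ▸ hpair k), Finset.card_pair hpq])
  choose w hw using hw
  have hwk : ∀ k, w k ∈ s k ∧ w k ≠ p ∧ w k ≠ q := fun k => by
    have : w k ∈ s k \ {p, q} := by rw [hw]; exact Finset.mem_singleton_self _
    simpa [Finset.mem_sdiff] using this
  refine ⟨p, q, v 0 p, v 0 q, w, hpq, sq_eq_one_of_norm_three (hn 0) (hp 0),
    sq_eq_one_of_norm_three (hn 0) (hq 0), fun a b e => ?_, fun k => (hwk k).2, fun k =>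
      ⟨hval k p (hp 0) (hp k), hval k q (hq 0) (hq k),
        sq_eq_one_of_norm_three (hn k) ((hmem _ _).1 (hwk k).1), fun i h1 h2 h3 => ?_⟩⟩
  · by_contra hab
    have hsub : ({p, q, w a} : Finset ι) ⊆ s a ∩ s b := by
      intro x hx
      simp only [Finset.mem_insert, Finset.mem_singleton] at hx
      rw [Finset.mem_inter]
      rcases hx with rfl | rfl | rfl
      · exact ⟨(hmem _ _).2 (hp a), (hmem _ _).2 (hp b)⟩
      · exact ⟨(hmem _ _).2 (hq a), (hmem _ _).2 (hq b)⟩
      · exact ⟨(hwk a).1, e ▸ (hwk b).1⟩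
    have h' := Finset.card_le_card hsub
    rw [(inter_support (hn a) (hn b) (hi a b hab)).1, Finset.card_insert_of_notMem (by
      simp [hpq, (hwk a).2.1.symm]), Finset.card_pair (hwk a).2.2.symm] at h'
    omega
  · by_contra hne
    have : i ∈ s k \ {p, q} := by simp [hmem, hne, h1, h2]
    rw [hw, Finset.mem_singleton] at this
    exact h3 this

omit [Fintype ι] [DecidableEq ι] in
theorem ne_zero_of_large {A B E c₁ c₂ c₃ p q r : ℤ} (hA : p ≤ |A|) (hB : q ≤ |B|) (hE : r ≤ |E|)
    (hp : 0 < p) (hq : 0 < q) (hr : 0 < r) (h₁ : 0 ≤ c₁) (h₂ : 0 ≤ c₂) (h₃ : 0 ≤ c₃)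
    (h : c₁ * q * r + c₂ * p * r + c₃ * p * q < p * q * r) :
    A * B * E + c₁ * (B * E) + c₂ * (A * E) + c₃ * (A * B) ≠ 0 := by
  intro he
  have hX : 0 < |A| := hp.trans_le hA
  have hY : 0 < |B| := hq.trans_le hB
  have hZ : 0 < |E| := hr.trans_le hE
  have e : |A| * |B| * |E| ≤ c₁ * (|B| * |E|) + c₂ * (|A| * |E|) + c₃ * (|A| * |B|) := by
    rw [← abs_mul, ← abs_mul, show A * B * E = -(c₁ * (B * E) + c₂ * (A * E) + c₃ * (A * B)) by
      linarith, abs_neg]
    refine (abs_add_three _ _ _).trans (le_of_eq ?_)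
    simp only [abs_mul, abs_of_nonneg h₁, abs_of_nonneg h₂, abs_of_nonneg h₃]
  have k1 : p * (|B| * |E|) ≤ |A| * |B| * |E| := by
    rw [mul_assoc |A|]; exact mul_le_mul_of_nonneg_right hA (by positivity)
  have k2 : q * (|A| * |E|) ≤ |A| * |B| * |E| := by
    rw [show |A| * |B| * |E| = |B| * (|A| * |E|) by ring]
    exact mul_le_mul_of_nonneg_right hB (by positivity)
  have k3 : r * (|A| * |B|) ≤ |A| * |B| * |E| := by
    rw [show |A| * |B| * |E| = |E| * (|A| * |B|) by ring]
    exact mul_le_mul_of_nonneg_right hE (by positivity)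
  nlinarith [mul_le_mul_of_nonneg_left k1 (mul_nonneg (mul_nonneg h₁ hq.le) hr.le),
    mul_le_mul_of_nonneg_left k2 (mul_nonneg (mul_nonneg h₂ hp.le) hr.le),
    mul_le_mul_of_nonneg_left k3 (mul_nonneg (mul_nonneg h₃ hp.le) hq.le),
    mul_le_mul_of_nonneg_left e (mul_nonneg (mul_nonneg hp.le hq.le) hr.le),
    mul_lt_mul_of_pos_right h (mul_pos (mul_pos hX hY) hZ)]

omit [Fintype ι] [DecidableEq ι] in
/-- The equations have no solution other than those coming from a linear character. -/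
theorem no_solution {A B E a b m : ℤ} (hdeg : 1 + A + B + E = 0) (hval : 1 + a + b + m = 0)
    (heq : A * B * E + a ^ 2 * (B * E) + b ^ 2 * (A * E) + m ^ 2 * (A * B) = 0)
    (hnorm : 1 + a ^ 2 + b ^ 2 + 5 * m ^ 2 ≤ 64) (hA : (64 : ℤ) ∣ A + 3 * a + 60)
    (hB : (64 : ℤ) ∣ B + 3 * b + 60) (hA16 : (16 : ℤ) ∣ A - a) (hB16 : (16 : ℤ) ∣ B - b)
    (hA1 : A ≠ 1) (hB1 : B ≠ 1) : False := by
  obtain ⟨i, hi⟩ := hA
  obtain ⟨j, hj⟩ := hB
  obtain ⟨i', hi'⟩ := hA16
  obtain ⟨j', hj'⟩ := hB16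
  have ha : a % 4 = 1 := by omega
  have hb : b % 4 = 1 := by omega
  have ha7 : -7 ≤ a ∧ a ≤ 7 := ⟨by nlinarith, by nlinarith⟩
  have hb7 : -7 ≤ b ∧ b ≤ 7 := ⟨by nlinarith, by nlinarith⟩
  obtain ⟨ha7, ha7'⟩ := ha7
  obtain ⟨hb7, hb7'⟩ := hb7
  obtain rfl : m = -1 - a - b := by omega
  interval_cases a <;> first
    | omega
    | (interval_cases b <;> first
        | omega
        | (norm_num at hnorm; done)
        | skip)
  all_goals norm_num at heq
  · exact ne_zero_of_large (A := A) (B := B) (E := E) (c₁ := 9) (c₂ := 1) (c₃ := 1) (p := 13) (q := 63) (r := 15)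
      (by rw [le_abs]; omega) (by rw [le_abs]; omega) (by rw [le_abs]; omega)
      (by norm_num) (by norm_num) (by norm_num) (by norm_num) (by norm_num) (by norm_num)
      (by norm_num) (by linarith)
  · exact ne_zero_of_large (A := A) (B := B) (E := E) (c₁ := 1) (c₂ := 9) (c₃ := 1) (p := 63) (q := 13) (r := 15)
      (by rw [le_abs]; omega) (by rw [le_abs]; omega) (by rw [le_abs]; omega)
      (by norm_num) (by norm_num) (by norm_num) (by norm_num) (by norm_num) (by norm_num)
      (by norm_num) (by linarith)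
  · rcases eq_or_ne E (-3) with rfl | hE
    · have hAB : (2 * A - 1) * (2 * B - 1) = 1 := by nlinarith
      rcases Int.eq_one_or_neg_one_of_mul_eq_one hAB with h | h <;> omega
    · exact ne_zero_of_large (A := A) (B := B) (E := E) (c₁ := 1) (c₂ := 1) (c₃ := 9) (p := 63) (q := 63) (r := 61)
        (by rw [le_abs]; omega) (by rw [le_abs]; omega) (by rw [le_abs]; omega)
        (by norm_num) (by norm_num) (by norm_num) (by norm_num) (by norm_num) (by norm_num)
        (by norm_num) (by linarith)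

end Cfsg.Agent.CIT.UFour
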