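import Cfsg.Agent.Lib.CIT.UFourGroup
import Cfsg.Agent.Lib.CIT.UFourPattern
import Cfsg.Agent.Lib.Blocks.BrauerHomocyclic
import Cfsg.Agent.BlocksChars.SectionOrth

/-!
# No simple group with 2-nilpotent involution centralisers has a Sylow 2-subgroup of type `U₃(4)`

The characters of the principal 2-block give five vectors of norm three with mutual products two,
and with them equations between degrees which have no solution. See `notes/s3214-gap2-h9.md`.
-/

set_option autoImplicit false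
set_option linter.style.haveILetI false
set_option linter.unusedSectionVars false

namespace Cfsg.Agent.CIT.UFour

open Subgroup Cfsg.Agent.Characters Cfsg.Agent.Blocks
open scoped ComplexConjugate

universe u

variable {G : Type u} [Group G] [Finite G] {S : Sylow 2 G} {Z : Subgroup G}

open scoped Classical in
theorem sum_split [Fintype (S : Subgroup G)] (f : ↥(S : Subgroup G) → ℂ) :
    ∑ s, f s = f 1 +
      ∑ s ∈ Finset.univ.filter (fun s : (S : Subgroup G) => (s : G) ∈ Z ∧ s ≠ 1), f s +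
      ∑ s ∈ Finset.univ.filter (fun s : (S : Subgroup G) => (s : G) ∉ Z), f s := by
  rw [← Finset.sum_filter_add_sum_filter_not Finset.univ (fun s : (S : Subgroup G) => (s : G) ∈ Z),
    show Finset.univ.filter (fun s : (S : Subgroup G) => (s : G) ∈ Z) =
      insert 1 (Finset.univ.filter (fun s : (S : Subgroup G) => (s : G) ∈ Z ∧ s ≠ 1)) by
        ext s; by_cases e : s = 1 <;> simp [e],
    Finset.sum_insert (by simp)]

open scoped Classical in
theorem card_involutions (h : UFourSylow S Z) [Fintype (S : Subgroup G)] :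
    (Finset.univ.filter (fun s : (S : Subgroup G) => (s : G) ∈ Z ∧ s ≠ 1)).card = 3 := by
  have h4 : Nat.card (Z.subgroupOf (S : Subgroup G)) = 4 := by
    rw [← h.card_Z]; exact Nat.card_congr (subgroupOfEquivOfLe h.Z_le).toEquiv
  rw [Nat.card_eq_fintype_card, Fintype.card_subtype] at h4
  rw [show Finset.univ.filter (fun s : (S : Subgroup G) => (s : G) ∈ Z ∧ s ≠ 1) =
    (Finset.univ.filter (fun s : (S : Subgroup G) => s ∈ Z.subgroupOf (S : Subgroup G))).erase 1 by
      ext s; simp [mem_subgroupOf, and_comm], Finset.card_erase_of_mem (by simp), h4]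

/-- A value at an involution is an integer. -/
theorem exists_int_value (χ : Cfsg.IrrCharacter G) {z : G} (hz : z * z = 1) (hz1 : z ≠ 1) :
    ∃ a : ℤ, (χ : G → ℂ) z = a := by
  classical
  haveI := Fintype.ofFinite (zpowers z)
  obtain ⟨n, hn⟩ := classInner_char_nat (isCharacter_restrict (zpowers z) (irr_isCharacter χ))
    (isCharacter_one (G := zpowers z))
  obtain ⟨d, hd⟩ := char_one_nat (irr_isCharacter χ)
  have hcard : Nat.card (zpowers z) = 2 := by
    rw [Nat.card_zpowers]; exact orderOf_eq_prime (by rw [sq, hz]) hz1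
  have hu : (Finset.univ : Finset (zpowers z)) = {1, ⟨z, mem_zpowers z⟩} := by
    refine (Finset.eq_univ_of_card _ ?_).symm
    rw [← Nat.card_eq_fintype_card, hcard,
      Finset.card_pair fun e => hz1 (congrArg Subtype.val e).symm]
  rw [classInner_def, hcard, hu, Finset.sum_pair fun e => hz1 (congrArg Subtype.val e).symm] at hn
  simp only [OneMemClass.coe_one, map_one, mul_one, hd, Nat.cast_ofNat] at hn
  exact ⟨2 * (n : ℤ) - d, by push_cast; linear_combination 2 * hn⟩

/-- The degree and the value at an involution agree modulo sixteen. -/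
theorem sixteen_dvd (h : UFourSylow S Z) [hn : (Z.subgroupOf (S : Subgroup G)).Normal]
    {χ : G → ℂ} (hχ : Cfsg.IsCharacter G χ) {c : ℂ}
    (hc : ∀ z ∈ Z, z ≠ 1 → χ z = c) : ∃ n : ℤ, χ 1 - c = 16 * n := by
  classical
  haveI := Fintype.ofFinite (S : Subgroup G)
  haveI := Fintype.ofFinite (Cfsg.IrrCharacter (S : Subgroup G))
  haveI : Nontrivial Z := Finite.one_lt_card_iff_nontrivial.1 (by rw [h.card_Z]; norm_num)
  obtain ⟨z, hz⟩ := exists_ne (1 : Z)
  set z' : (S : Subgroup G) := ⟨z, h.Z_le z.2⟩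
  have hz' : z' ≠ 1 := fun e => hz (Subtype.ext (congrArg Subtype.val e :))
  obtain ⟨θ, hθ⟩ : ∃ θ : Cfsg.IrrCharacter (S : Subgroup G),
      (θ : ↥(S : Subgroup G) → ℂ) z' ≠ (θ : ↥(S : Subgroup G) → ℂ) 1 := by
    by_contra! hall
    exact hz' (isConj_one_left.1 (isConj_of_forall_irr_eq hall))
  set V := (S : Subgroup G) ⧸ Z.subgroupOf (S : Subgroup G)
  have hcomm : ∀ a b : V, a * b = b * a := by
    intro a b
    obtain ⟨s, rfl⟩ := QuotientGroup.mk_surjective a
    obtain ⟨t, rfl⟩ := QuotientGroup.mk_surjective b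
    rw [← QuotientGroup.mk_mul, ← QuotientGroup.mk_mul, QuotientGroup.eq, mem_subgroupOf]
    have h' := comm_mem h (inv_mem t.2) (inv_mem s.2)
    push_cast
    rw [mul_inv_rev]
    rw [show ((t : G)⁻¹ * (s : G)⁻¹ * ((t : G) * s)) =
      ((s : G)⁻¹ * (t : G)⁻¹ * ((s : G)⁻¹)⁻¹ * ((t : G)⁻¹)⁻¹)⁻¹ by group]
    exact inv_mem h'
  haveI := Star.finite_dual hcomm
  haveI := Fintype.ofFinite (V →* ℂ)
  let lift : (V →* ℂ) → Cfsg.IrrCharacter (S : Subgroup G) := fun μ =>
    ⟨fun s => μ (QuotientGroup.mk s), isIrrCharacter_monoidHom (μ.comp (QuotientGroup.mk' _))⟩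
  have hlift : ∀ (μ : V →* ℂ) (s : (S : Subgroup G)),
      (lift μ : ↥(S : Subgroup G) → ℂ) s = μ (QuotientGroup.mk s) := fun _ _ => rfl
  have hinj : Function.Injective lift := fun μ ν e => MonoidHom.ext fun q => by
    obtain ⟨s, rfl⟩ := QuotientGroup.mk_surjective q
    rw [← hlift, ← hlift, e]
  have hV : Nat.card (V →* ℂ) = 16 := by
    rw [Star.card_dual hcomm]
    have : Nat.card (S : Subgroup G) = Nat.card V * Nat.card (Z.subgroupOf (S : Subgroup G)) :=
      card_eq_card_quotient_mul_card_subgroup _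
    rw [Nat.card_congr (subgroupOfEquivOfLe h.Z_le).toEquiv, h.card_Z, h.card_S] at this
    omega
  have hθne : ∀ μ, lift μ ≠ θ := by
    intro μ e
    refine hθ ?_
    rw [← e, hlift, hlift, show (QuotientGroup.mk z' : V) = QuotientGroup.mk 1 from
      QuotientGroup.eq.2 (by simpa [mem_subgroupOf, z'] using z.2)]
  have hun : ∀ (μ : V →* ℂ) (q : V), μ q * conj (μ q) = 1 := fun μ q => by
    rw [Star.conj_linear, ← map_mul, mul_inv_cancel, map_one]
  have hvan : ∀ s : (S : Subgroup G), (s : G) ∉ Z → (θ : ↥(S : Subgroup G) → ℂ) s = 0 := by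
    intro s hs
    have h2 := second_orthogonality s s
    rw [if_pos (IsConj.refl s), card_centralizer_outside h s.2 hs,
      ← Finset.sum_compl_add_sum (Finset.univ.image lift), Finset.sum_image hinj.injOn] at h2
    simp only [hlift, hun, Finset.sum_const, Finset.card_univ, ← Nat.card_eq_fintype_card, hV,
      nsmul_eq_mul, mul_one, add_eq_right] at h2
    simp only [Complex.mul_conj] at h2
    rw [← Complex.ofReal_sum, Complex.ofReal_eq_zero,
      Finset.sum_eq_zero_iff_of_nonneg (fun _ _ => Complex.normSq_nonneg _)] at h2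
    exact Complex.normSq_eq_zero.1 (h2 θ (Finset.mem_compl.2 (by simpa using hθne)))
  obtain ⟨d, hd0, hd⟩ := irr_one_pos θ.2
  set I := Finset.univ.filter (fun s : (S : Subgroup G) => (s : G) ∈ Z ∧ s ≠ 1) with hI
  have hIcard : I.card = 3 := card_involutions h
  have hout : ∀ f : ↥(S : Subgroup G) → ℂ, (∀ s, (θ : ↥(S : Subgroup G) → ℂ) s = 0 → f s = 0) →
      ∑ s, f s = f 1 + ∑ s ∈ I, f s := fun f hf => by
    rw [sum_split (Z := Z) f, Finset.sum_eq_zero (s := Finset.univ.filter _) fun s hs =>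
      hf s (hvan s (Finset.mem_filter.1 hs).2), add_zero]
  have hsum : ∑ s ∈ I, (θ : ↥(S : Subgroup G) → ℂ) s = -(d : ℂ) := by
    have h2 := classInner_irr θ (trivIrr (S : Subgroup G))
    rw [if_neg fun e => hθ (by rw [e]; simp)] at h2
    simp only [classInner_def, trivIrr_coe, map_one, mul_one, mul_eq_zero,
      inv_eq_zero, natCard_ne_zero, false_or] at h2
    rw [hout _ fun s hs => hs, hd] at h2
    linear_combination h2
  have hnorm : (d : ℂ) * d + ∑ s ∈ I, (θ : ↥(S : Subgroup G) → ℂ) s *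
      conj ((θ : ↥(S : Subgroup G) → ℂ) s) = 64 := by
    have h2 := classInner_irr θ θ
    rw [if_pos rfl, classInner_def, hout _ fun s hs => by rw [hs, zero_mul], hd,
      Complex.conj_natCast, h.card_S, inv_mul_eq_iff_eq_mul₀ (by norm_num)] at h2
    rw [h2]; norm_num
  have hd4 : d = 4 := by
    simp only [Complex.mul_conj] at hnorm
    rw [← Complex.ofReal_sum] at hnorm
    have hr : (d : ℝ) * d + ∑ s ∈ I, Complex.normSq ((θ : ↥(S : Subgroup G) → ℂ) s) = 64 := by
      exact_mod_cast hnorm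
    have hle : ∑ s ∈ I, Complex.normSq ((θ : ↥(S : Subgroup G) → ℂ) s) ≤ 3 * ((d : ℝ) * d) := by
      refine le_of_le_of_eq (Finset.sum_le_card_nsmul _ _ ((d : ℝ) * d) fun s _ => ?_)
        (by rw [hIcard, nsmul_eq_mul]; norm_num)
      have h' := char_norm_le (irr_isCharacter θ) s
      rw [hd, Complex.norm_natCast] at h'
      rw [Complex.normSq_eq_norm_sq, sq]
      exact mul_le_mul h' h' (norm_nonneg _) (Nat.cast_nonneg _)
    have h16 : 16 ≤ d * d := by
      have : (16 : ℝ) ≤ (d : ℝ) * d := by linarith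
      exact_mod_cast this
    have h48 : d * d ≤ 48 := by
      have h2 := sum_degree_sq (G := (S : Subgroup G))
      rw [h.card_S] at h2
      choose m hm using fun ξ : Cfsg.IrrCharacter (S : Subgroup G) =>
        char_one_nat (irr_isCharacter ξ)
      simp only [hm] at h2
      have h2' : ∑ ξ, m ξ ^ 2 = 64 := by exact_mod_cast h2
      have hm1 : ∀ μ, m (lift μ) = 1 := fun μ => by
        have h' := hm (lift μ)
        rw [hlift, QuotientGroup.mk_one, map_one] at h'
        exact_mod_cast h'.symm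
      have hle' : ∑ ξ ∈ insert θ (Finset.univ.image lift), m ξ ^ 2 ≤ 64 :=
        h2' ▸ Finset.sum_le_sum_of_subset (Finset.subset_univ _)
      rw [Finset.sum_insert (by simpa using hθne), Finset.sum_image hinj.injOn,
        show m θ = d by exact_mod_cast (hm θ).symm.trans hd] at hle'
      simp only [hm1, one_pow, Finset.sum_const, Finset.card_univ, ← Nat.card_eq_fintype_card, hV,
        smul_eq_mul, mul_one, sq] at hle'
      omega
    obtain ⟨m, hm, hm'⟩ := irr_degree_dvd_card θ.2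
    have hdm : m = d := by exact_mod_cast (hm.symm.trans hd)
    rw [h.card_S, hdm] at hm'
    have h3 : 3 < d := by nlinarith
    have h7 : d < 7 := by nlinarith
    interval_cases d <;> omega
  obtain ⟨n, hn'⟩ := classInner_char_nat (isCharacter_restrict (S : Subgroup G) hχ)
    (irr_isCharacter θ)
  refine ⟨n, ?_⟩
  rw [classInner_def, hout _ fun s hs => by rw [hs, map_zero, mul_zero],
    Finset.sum_congr rfl (g := fun s => c * conj ((θ : ↥(S : Subgroup G) → ℂ) s)) fun s hs => by
      obtain ⟨-, hs1, hs2⟩ := Finset.mem_filter.1 hs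
      rw [hc _ hs1 fun e => hs2 (Subtype.ext e)],
    ← Finset.mul_sum, ← map_sum, hsum, hd, map_neg, Complex.conj_natCast, hd4, h.card_S] at hn'
  simp only [OneMemClass.coe_one, Nat.cast_ofNat, Int.cast_natCast] at hn' ⊢
  linear_combination 16 * hn'

open scoped Classical in
/-- The block norm at an element of `S`. -/
theorem column_norm [Fintype (Cfsg.IrrCharacter G)] {M : Ideal Cfsg.AlgInt}
    (hM : Cfsg.IsPModular 2 M) {u : G} (hu : u ∈ (S : Subgroup G))
    (hK : ∃ K : Subgroup (centralizer ({u} : Set G)), K.Normal ∧ Odd (Nat.card K) ∧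
      K.index = Nat.card (centralizer ({⟨u, hu⟩} : Set (S : Subgroup G)))) :
    ∑ χ ∈ Finset.univ.filter (fun χ => χ ∈ Cfsg.principalBlock M G),
      (χ : G → ℂ) u * conj ((χ : G → ℂ) u) =
      (Nat.card (centralizer ({⟨u, hu⟩} : Set (S : Subgroup G))) : ℂ) := by
  haveI : Fact (Nat.Prime 2) := ⟨Nat.prime_two⟩
  obtain ⟨K, hKn, hodd, hidx⟩ := hK
  haveI := hKn
  haveI := Fintype.ofFinite (Cfsg.IrrCharacter (centralizer ({u} : Set G)))
  have hK2 : ¬ 2 ∣ Nat.card K := fun h2 => Nat.not_even_iff_odd.2 hodd (even_iff_two_dvd.2 h2)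
  obtain ⟨k, hk⟩ := IsPGroup.iff_card.1 (S.2.to_subgroup (centralizer
    ({⟨u, hu⟩} : Set (S : Subgroup G))))
  have h0 := BlocksChars.SectionOrth.norm_principal_pElement hM
    (BlocksChars.SectionOrth.exists_orderOf_eq S.2 ⟨u, hu⟩)
  have h1 := norm_principal_pnilpotent hM hK2 ⟨k, hidx.trans hk⟩
    (y := (1 : centralizer ({u} : Set G))) (by simp)
  have hfac : 2 ^ (Nat.card (centralizer ({u} : Set G))).factorization 2 = K.index := by
    rw [← K.index_mul_card, Nat.factorization_mul K.index_ne_zero_of_finite Nat.card_pos.ne',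
      hidx, hk, Nat.prime_two.factorization_pow, Finsupp.add_apply, Finsupp.single_eq_same,
      Nat.factorization_eq_zero_of_not_dvd hK2, add_zero]
  rw [hfac] at h1
  have h2 : ∀ ψ : Cfsg.IrrCharacter (centralizer ({u} : Set G)),
      ‖(ψ : centralizer ({u} : Set G) → ℂ) 1‖ ^ 2 =
        ((Cfsg.charDegree (ψ : centralizer ({u} : Set G) → ℂ) ^ 2 : ℕ) : ℝ) := fun ψ => by
    rw [← charDegree_cast, Complex.norm_natCast, Nat.cast_pow]
  simp only [h2] at h1
  rw [ZStar.Principal.finsum_mem_eq_sum_filter] at h0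
  refine Eq.trans (by congr!) (h0.trans ?_)
  rw [← hidx]
  norm_cast
  rw [finsum_mem_def, finsum_eq_sum_of_fintype] at h1 ⊢
  simp only [Set.indicator_apply] at h1 ⊢
  exact_mod_cast h1

/-- The square of a class sum avoids what the class does not invert. -/
theorem classSum_sq_eq_zero {j x : G} (hj : j * j = 1)
    (h : ∀ i : G, i * i = 1 → i * x * i⁻¹ ≠ x⁻¹) : (classSum j * classSum j).coeff x = 0 := by
  classical
  haveI := Fintype.ofFinite G
  rw [coeff_mul']
  refine Finset.sum_eq_zero fun a _ => ?_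
  rw [coeff_classSum, coeff_classSum]
  by_cases ha : IsConj j a
  swap
  · rw [if_neg ha, zero_mul]
  by_cases hb : IsConj j (a⁻¹ * x)
  swap
  · rw [if_neg hb, mul_zero]
  exfalso
  obtain ⟨c, rfl⟩ := isConj_iff.1 ha
  obtain ⟨d, hd⟩ := isConj_iff.1 hb
  have hinv : ∀ t : G, (t * j * t⁻¹) * (t * j * t⁻¹) = 1 := fun t => by
    rw [show t * j * t⁻¹ * (t * j * t⁻¹) = t * (j * j) * t⁻¹ by group, hj, mul_one, mul_inv_cancel]
  set a := c * j * c⁻¹ with ha'
  refine h a (hinv c) ?_
  set b := d * j * d⁻¹ with hb'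
  have hx : x = a * b := by rw [hd, mul_inv_cancel_left]
  have hai : a⁻¹ = a := inv_eq_of_mul_eq_one_right (hinv c)
  have hbi : b⁻¹ = b := inv_eq_of_mul_eq_one_right (hinv d)
  rw [hx, hai, mul_inv_rev, hbi, hai]
  calc a * (a * b) * a = a * a * b * a := by group
    _ = b * a := by rw [hinv c, one_mul]

open scoped Classical in
/-- Class multiplication on the section of an element of `S` outside `Z`. -/
theorem section_equation [Fintype (Cfsg.IrrCharacter G)] {M : Ideal Cfsg.AlgInt}
    (hM : Cfsg.IsPModular 2 M) (h : UFourSylow S Z)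
    (hI : ∀ t : G, orderOf t = 2 → Cfsg.HasNormalPComplement 2 ↥(centralizer ({t} : Set G)))
    {j s : G} (hj : j ∈ Z) (hs : s ∈ (S : Subgroup G)) (hsZ : s ∉ Z) :
    ∑ χ ∈ Finset.univ.filter (fun χ => χ ∈ Cfsg.principalBlock M G),
      (χ : G → ℂ) j ^ 2 / (χ : G → ℂ) 1 * (χ : G → ℂ) s = 0 := by
  haveI := Fintype.ofFinite G
  haveI : Fact (Nat.Prime 2) := ⟨Nat.prime_two⟩
  let F : G → ℂ := fun g => (classSum j * classSum j).coeff g⁻¹
  have hF0 : ∀ g z, Cfsg.IsPPart 2 g z → IsConj s z → F g = 0 := by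
    intro g z hgz hsz
    refine classSum_sq_eq_zero (mul_self_eq_one h hj) fun i hi he => ?_
    obtain ⟨d, hd⟩ := isConj_iff.1 hsz
    rw [inv_inv] at he
    -- the same involution inverts the 2-part
    have hp := isPPart_conj hgz i
    obtain ⟨y, hgy, hcom, ⟨k, hk⟩, hy⟩ := id hgz
    have hp1 : Cfsg.IsPPart 2 g⁻¹ z⁻¹ :=
      ⟨y⁻¹, by rw [← mul_inv_rev, ← hcom.eq, hgy], hcom.inv_inv, ⟨k, by rw [orderOf_inv, hk]⟩,
        by rwa [orderOf_inv]⟩
    have hg' : i * g * i⁻¹ = g⁻¹ := by
      calc i * g * i⁻¹ = (i * g⁻¹ * i⁻¹)⁻¹ := by group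
        _ = g⁻¹ := by rw [he]
    rw [hg'] at hp
    have hzz : i * z * i⁻¹ = z⁻¹ := ppart_unique Nat.prime_two hp hp1
    refine not_inverted h hI hs hsZ (i := d⁻¹ * i * d) ?_ ?_
    · rw [show d⁻¹ * i * d * (d⁻¹ * i * d) = d⁻¹ * (i * i) * d by group, hi]; group
    · calc d⁻¹ * i * d * s * (d⁻¹ * i * d)⁻¹ = d⁻¹ * (i * (d * s * d⁻¹) * i⁻¹) * d := by group
        _ = s⁻¹ := by rw [hd, hzz, ← hd]; group
  have hFexp : ∀ g, F g = ∑ χ : Cfsg.IrrCharacter G, (Nat.card G : ℂ)⁻¹ *
      ((((centralizer ({j} : Set G)).index : ℂ) * (χ : G → ℂ) j) ^ 2 /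
        (χ : G → ℂ) 1) * (χ : G → ℂ) g := by
    intro g
    simp only [F]
    conv_lhs => rw [← fourier_omega (central_mul (central_classSum j) (central_classSum j)),
      coeff_fourier, Finset.mul_sum]
    refine Finset.sum_congr rfl fun χ _ => ?_
    rw [omega_mul χ (central_classSum j), omega_classSum (irr_isClassFunction χ), Cfsg.centralChar,
      char_inv (irr_isCharacter χ), Complex.conj_conj]
    field_simp [irr_one_ne_zero χ.2]
  have hinner : ∀ ψ : Cfsg.IrrCharacter G, Cfsg.classInner F (ψ : G → ℂ) = (Nat.card G : ℂ)⁻¹ *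
      ((((centralizer ({j} : Set G)).index : ℂ) * (ψ : G → ℂ) j) ^ 2 / (ψ : G → ℂ) 1) := by
    intro ψ
    have hF : F = ∑ χ : Cfsg.IrrCharacter G, ((Nat.card G : ℂ)⁻¹ *
        ((((centralizer ({j} : Set G)).index : ℂ) * (χ : G → ℂ) j) ^ 2 /
          (χ : G → ℂ) 1)) • (χ : G → ℂ) := funext fun g => by
      simp only [hFexp g, Finset.sum_apply, Pi.smul_apply, smul_eq_mul]
    rw [hF]
    refine (classInner_sum_smul_irr (c := fun χ : Cfsg.IrrCharacter G => (Nat.card G : ℂ)⁻¹ *
      ((((centralizer ({j} : Set G)).index : ℂ) * (χ : G → ℂ) j) ^ 2 /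
          (χ : G → ℂ) 1)) Finset.univ ψ).trans ?_
    rw [if_pos (Finset.mem_univ _)]
  have hsum := BrauerHomocyclic.blockPart_section_zero hM (isPBlock_principal M G)
    (BlocksChars.SectionOrth.isPPart_self Nat.prime_two
      (BlocksChars.SectionOrth.exists_orderOf_eq S.2 ⟨s, hs⟩)) hF0
  have hne : (Nat.card G : ℂ)⁻¹ * ((centralizer ({j} : Set G)).index : ℂ) ^ 2 ≠ 0 :=
    mul_ne_zero (inv_ne_zero natCard_ne_zero)
      (pow_ne_zero _ (Nat.cast_ne_zero.2 index_ne_zero_of_finite))
  refine mul_left_cancel₀ hne ?_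
  rw [mul_zero, Finset.mul_sum]
  refine Eq.trans (Finset.sum_congr rfl fun χ _ => ?_) hsum
  rw [hinner, mul_pow]
  ring

end Cfsg.Agent.CIT.UFour
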