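import Cfsg.Agent.Lib.CIT.UFourBlock

/-!
# Sylow 2-subgroups of type `U₃(4)`: the contradiction
-/

set_option autoImplicit false
set_option linter.style.haveILetI false
set_option linter.unusedSectionVars false

namespace Cfsg.Agent.CIT

open Subgroup Cfsg.Agent.Characters Cfsg.Agent.Blocks
open scoped ComplexConjugate

universe u

namespace UFour

section Dual

variable {V : Type u} [Group V] [Finite V] (hsq : ∀ q : V, q * q = 1)
include hsq

theorem comm_of_sq (a b : V) : a * b = b * a := by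
  have h := hsq (a * b)
  rw [← inv_eq_of_mul_eq_one_right h, mul_inv_rev, inv_eq_of_mul_eq_one_right (hsq a),
    inv_eq_of_mul_eq_one_right (hsq b)]

theorem conj_value (μ : V →* ℂ) (q : V) : conj (μ q) = μ q := by
  rw [Star.conj_linear, inv_eq_of_mul_eq_one_right (hsq q)]

/-- A linear character fixed by an automorphism without fixed points is trivial. -/
theorem eq_one_of_fixed {β : MulAut V} (hβ : ∀ q, q ≠ 1 → β q ≠ q) {μ : V →* ℂ}
    (h : ∀ q, μ (β q) = μ q) : μ = 1 := by
  have hinj : Function.Injective fun q => q * β q := by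
    intro a b e
    simp only at e
    have h1 : β (a * b) = a * b := by
      rw [map_mul]
      calc β a * β b = a * (a * β a) * β b := by rw [← mul_assoc a, hsq, one_mul]
        _ = a * b * (β b * β b) := by rw [e]; group
        _ = a * b := by rw [hsq, mul_one]
    by_contra hne
    exact hβ _ (fun e1 => hne (by
      rw [← inv_eq_of_mul_eq_one_right e1, inv_eq_of_mul_eq_one_right (hsq a)])) h1
  refine MonoidHom.ext fun q => ?_
  obtain ⟨r, rfl⟩ := Finite.surjective_of_injective hinj q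
  rw [MonoidHom.one_apply, map_mul, h, ← map_mul, hsq, map_one]

theorem sum_one_sub_mul [Fintype V] {μ ν : V →* ℂ} (hμ : μ ≠ 1) (hν : ν ≠ 1)
    [Decidable (μ = ν)] : ∑ q, (1 - μ q) * (1 - ν q) =
      (Nat.card V : ℂ) + if μ = ν then (Nat.card V : ℂ) else 0 := by
  rw [← Star.sum_hom_conj μ ν]
  simp only [sub_mul, mul_sub, one_mul, mul_one, conj_value hsq, Finset.sum_sub_distrib,
    Star.sum_hom_zero hμ, Star.sum_hom_zero hν, Finset.sum_const, Finset.card_univ, nsmul_eq_mul,
    Nat.card_eq_fintype_card]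
  ring

end Dual

variable {G : Type u} [Group G] [Finite G] {S : Sylow 2 G} {Z : Subgroup G}

theorem pow_fin_ne {V : Type u} [Group V] {α : MulAut V} (h3 : α ^ 3 = 1)
    (hα : ∀ q, q ≠ 1 → α q ≠ q) {i j : Fin 3} (hij : i ≠ j) {q : V} (hq : q ≠ 1) :
    (α ^ (i : ℕ)) q ≠ (α ^ (j : ℕ)) q := by
  have h2 : (α ^ 2) q ≠ q := fun e => hα q hq (by
    have h' := congrArg α e
    rw [← MulAut.mul_apply, ← pow_succ', h3, MulAut.one_apply] at h'
    exact h'.symm)
  have h21 : (α ^ 2) q ≠ α q := fun e => hα (α q) (by simpa using hq) (by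
    rwa [pow_two, MulAut.mul_apply] at e)
  fin_cases i <;> fin_cases j <;>
    first
      | exact absurd rfl hij
      | simpa using hα q hq
      | simpa using (hα q hq).symm
      | simpa using h2
      | simpa using h2.symm
      | simpa using h21
      | simpa using h21.symm

/-- No simple group with 2-nilpotent involution centralisers has such a Sylow subgroup. -/
theorem false_of_uFourSylow [IsSimpleGroup G] (hG : ¬ IsMulCommutative G) (h : UFourSylow S Z)
    (hI : ∀ t : G, orderOf t = 2 → Cfsg.HasNormalPComplement 2 ↥(centralizer ({t} : Set G))) :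
    False := by
  classical
  haveI : Fact (Nat.Prime 2) := ⟨Nat.prime_two⟩
  haveI := normal_subgroupOf h
  haveI := Fintype.ofFinite G
  haveI := Fintype.ofFinite (S : Subgroup G)
  haveI := Fintype.ofFinite (Cfsg.IrrCharacter G)
  obtain ⟨α, hα3, hαfix, hfus⟩ := exists_fusion h hI
  set V := (S : Subgroup G) ⧸ Z.subgroupOf (S : Subgroup G)
  haveI := Fintype.ofFinite V
  set π : (S : Subgroup G) →* V := QuotientGroup.mk' _
  have hsq : ∀ q : V, q * q = 1 := by
    intro q
    obtain ⟨s, rfl⟩ := QuotientGroup.mk_surjective q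
    rw [← QuotientGroup.mk_mul, QuotientGroup.eq_one_iff, mem_subgroupOf]
    exact h.sq s s.2
  have hπ1 : ∀ s, π s = 1 ↔ (s : G) ∈ Z := fun s => by
    rw [QuotientGroup.mk'_apply, QuotientGroup.eq_one_iff, mem_subgroupOf]
  have hsub : Nat.card (Z.subgroupOf (S : Subgroup G)) = 4 :=
    (Nat.card_congr (subgroupOfEquivOfLe h.Z_le).toEquiv).trans h.card_Z
  have hV : Nat.card V = 16 := by
    have : Nat.card (S : Subgroup G) = Nat.card V * Nat.card (Z.subgroupOf (S : Subgroup G)) :=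
      card_eq_card_quotient_mul_card_subgroup _
    rw [hsub, h.card_S] at this
    omega
  haveI := Star.finite_dual (comm_of_sq hsq)
  haveI := Fintype.ofFinite (V →* ℂ)
  have hfib : ∀ f : V → ℂ, ∑ s, f (π s) = 4 * ∑ q, f q := by
    intro f
    rw [← Finset.sum_fiberwise' Finset.univ π f, Finset.mul_sum]
    refine Finset.sum_congr rfl fun q _ => ?_
    obtain ⟨s₀, rfl⟩ := QuotientGroup.mk'_surjective (Z.subgroupOf (S : Subgroup G)) q
    rw [Finset.sum_const, nsmul_eq_mul]
    congr 1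
    rw [← Fintype.card_subtype, ← Nat.card_eq_fintype_card]
    exact_mod_cast ((Nat.card_congr (α := {s : (S : Subgroup G) // π s = QuotientGroup.mk' (Z.subgroupOf (S : Subgroup G)) s₀})
      (β := Z.subgroupOf (S : Subgroup G))
      { toFun := fun s => ⟨s₀⁻¹ * s.1, QuotientGroup.eq.1 s.2.symm⟩
        invFun := fun z => ⟨s₀ * z.1, (QuotientGroup.eq.2 (by
          rw [inv_mul_cancel_left]; exact z.2)).symm⟩
        left_inv := fun s => Subtype.ext (mul_inv_cancel_left _ _)
        right_inv := fun z => Subtype.ext (inv_mul_cancel_left _ _) }).trans hsub)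
  obtain ⟨M, hM⟩ := BlockCharsA.DefectZeroVanish.exists_modular Nat.prime_two
  set B := Finset.univ.filter (fun χ => χ ∈ Cfsg.principalBlock M G) with hB
  have htriv : trivIrr G ∈ B :=
    Finset.mem_filter.2 ⟨Finset.mem_univ _, trivIrr_mem_principal hM⟩
  obtain ⟨z, hz, hz1⟩ : ∃ z ∈ Z, z ≠ 1 := by
    haveI : Nontrivial Z := Finite.one_lt_card_iff_nontrivial.1 (by rw [h.card_Z]; norm_num)
    obtain ⟨z, hz⟩ := exists_ne (1 : Z)
    exact ⟨z, z.2, fun e => hz (Subtype.ext e)⟩
  have hzz := mul_self_eq_one h hz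
  choose a ha using fun χ : Cfsg.IrrCharacter G => exists_int_value χ hzz hz1
  choose d hd0 hd using fun χ : Cfsg.IrrCharacter G => irr_one_pos χ.2
  have hval : ∀ (χ : Cfsg.IrrCharacter G), ∀ w ∈ Z, w ≠ 1 → (χ : G → ℂ) w = a χ := by
    intro χ w hw hw1
    obtain ⟨g, hg⟩ := isConj_iff.1 (h.fused z hz w hw hz1 hw1)
    rw [← hg, irr_isClassFunction χ, ha]
  -- values outside `Z` are real
  have hreal : ∀ (χ : Cfsg.IrrCharacter G) (s : (S : Subgroup G)), (s : G) ∉ Z →
      conj ((χ : G → ℂ) s) = (χ : G → ℂ) s := by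
    intro χ s hs
    obtain ⟨t, -, ht⟩ := h.conj_full s s.2 hs _ (h.sq _ (inv_mem s.2))
    rw [← char_inv (irr_isCharacter χ), show (s : G)⁻¹ = t * s * t⁻¹ by rw [ht]; group,
      irr_isClassFunction χ]
  set K : ↥(S : Subgroup G) → ↥(S : Subgroup G) → ℂ := fun s t =>
    ∑ χ ∈ B, (χ : G → ℂ) s * conj ((χ : G → ℂ) t) with hKdef
  have hpel : ∀ s : (S : Subgroup G), ∃ k : ℕ, orderOf (s : G) = 2 ^ k :=
    BlocksChars.SectionOrth.exists_orderOf_eq S.2
  have horth : ∀ {u v : G}, (∃ k : ℕ, orderOf u = 2 ^ k) → (∃ k : ℕ, orderOf v = 2 ^ k) →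
      ¬ IsConj u v → ∑ χ ∈ B, (χ : G → ℂ) u * conj ((χ : G → ℂ) v) = 0 := by
    intro u v hu hv huv
    have h0 := BlocksChars.SectionOrth.sum_pElement_eq_zero hM (isPBlock_principal M G) hu hv huv
    rw [ZStar.Principal.finsum_mem_eq_sum_filter] at h0
    exact Eq.trans (by congr!) h0
  have hK : ∀ s t : (S : Subgroup G), (s : G) ∉ Z → (t : G) ∉ Z →
      K s t = 16 * ∑ i : Fin 3, if (α ^ (i : ℕ)) (π s) = π t then (1 : ℂ) else 0 := by
    intro s t hs ht
    by_cases hst : IsConj (s : G) t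
    · obtain ⟨i, hi⟩ : ∃ i : Fin 3, (α ^ (i : ℕ)) (π s) = π t := (hfus s t hs ht).1 hst
      have hone1 : (∑ j : Fin 3, if (α ^ (j : ℕ)) (π s) = π t then (1 : ℂ) else 0) = 1 := by
        refine (Finset.sum_eq_single (f := fun j : Fin 3 =>
          if (α ^ (j : ℕ)) (π s) = π t then (1 : ℂ) else 0) i (fun j _ hj => if_neg fun e1 =>
            pow_fin_ne hα3 hαfix hj (fun e2 => hs ((hπ1 s).1 e2)) (e1.trans hi.symm))
          (by simp)).trans (if_pos hi)
      rw [hone1, mul_one]
      obtain ⟨g, hg⟩ := isConj_iff.1 hst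
      have he : K s t = K s s := Finset.sum_congr rfl fun χ _ => by
        rw [← hg, irr_isClassFunction χ]
      rw [he]
      have hle := centralizer_le_sq h (s : G)
      have hn := column_norm hM s.2 (exists_centralizer_core h hI s.2 (h.sq _ s.2)
        (sq_ne_one h s.2 hs) hle)
      rw [card_centralizer_outside h s.2 hs, Nat.cast_ofNat] at hn
      exact hn
    · rw [Finset.sum_eq_zero (f := fun j : Fin 3 => if (α ^ (j : ℕ)) (π s) = π t then (1 : ℂ) else 0)
        (fun i _ => if_neg fun e => hst ((hfus s t hs ht).2 ⟨i, e⟩)), mul_zero]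
      exact horth (hpel s) (hpel t) hst
  -- the coefficients
  have hint : ∀ (μ : V →* ℂ) (χ : Cfsg.IrrCharacter G), ∃ e : ℤ,
      ∑ s : (S : Subgroup G), (χ : G → ℂ) (s : G) * (1 - μ (π s)) = 64 * (e : ℂ) := by
    intro μ χ
    obtain ⟨m, hm⟩ := classInner_char_nat (isCharacter_restrict (S : Subgroup G) (irr_isCharacter χ))
      (isCharacter_one (G := (S : Subgroup G)))
    obtain ⟨n, hn⟩ := classInner_char_nat (isCharacter_restrict (S : Subgroup G) (irr_isCharacter χ))
      (isCharacter_of_isIrr (isIrrCharacter_monoidHom (μ.comp π)))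
    refine ⟨(m : ℤ) - n, ?_⟩
    rw [classInner_def, h.card_S] at hm hn
    simp only [map_one, mul_one, MonoidHom.comp_apply, conj_value hsq] at hm hn
    simp only [mul_sub, mul_one, Finset.sum_sub_distrib]
    push_cast at hm hn ⊢
    linear_combination 64 * hm - 64 * hn
  choose e he using hint
  have hzero : ∀ (μ : V →* ℂ) (s : (S : Subgroup G)), (s : G) ∈ Z → 1 - μ (π s) = 0 := fun μ s hs => by
    rw [(hπ1 s).2 hs, map_one, sub_self]
  set r : (V →* ℂ) → (V →* ℂ) → Finset (Fin 3) := fun μ ν =>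
    Finset.univ.filter fun i => ν.comp (α ^ ((i : Fin 3) : ℕ)).toMonoidHom = μ with hrdef
  have hcomp : ∀ ν : V →* ℂ, ν ≠ 1 → ∀ i : Fin 3,
      ν.comp (α ^ (i : ℕ)).toMonoidHom ≠ 1 := fun ν hν i e1 => hν (MonoidHom.ext fun q => by
    obtain ⟨r, rfl⟩ := (α ^ (i : ℕ)).surjective q
    exact DFunLike.congr_fun e1 r)
  have hGram : ∀ μ ν : V →* ℂ, μ ≠ 1 → ν ≠ 1 →
      ∑ χ ∈ B, e μ χ * e ν χ = 3 + ((r μ ν).card : ℤ) := by
    intro μ ν hμ hν
    refine Int.cast_injective (α := ℂ) (mul_left_cancel₀ (show (4096 : ℂ) ≠ 0 by norm_num) ?_)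
    have hconj : ∀ χ : Cfsg.IrrCharacter G, conj (∑ t : (S : Subgroup G), (χ : G → ℂ) (t : G) * (1 - ν (π t))) =
        ∑ t : (S : Subgroup G), (χ : G → ℂ) (t : G) * (1 - ν (π t)) := fun χ => by
      rw [he, map_mul, map_intCast, Complex.conj_ofNat]
    calc (4096 : ℂ) * ((∑ χ ∈ B, e μ χ * e ν χ : ℤ) : ℂ)
        = ∑ χ ∈ B, (∑ s : (S : Subgroup G), (χ : G → ℂ) (s : G) * (1 - μ (π s))) *
            conj (∑ t : (S : Subgroup G), (χ : G → ℂ) (t : G) * (1 - ν (π t))) := by
          push_cast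
          rw [Finset.mul_sum]
          refine Finset.sum_congr rfl fun χ _ => ?_
          rw [hconj, he, he]; ring
      _ = ∑ s, ∑ t, (1 - μ (π s)) * (1 - ν (π t)) * K s t := by
          simp only [map_sum, map_mul, map_sub, map_one, conj_value hsq, Finset.sum_mul,
            Finset.mul_sum, hKdef]
          conv_rhs => rw [Finset.sum_comm]
          rw [Finset.sum_comm]
          refine Finset.sum_congr rfl fun s _ => ?_
          rw [Finset.sum_comm]
          exact Finset.sum_congr rfl fun t _ => Finset.sum_congr rfl fun χ _ => by ring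
      _ = ∑ s, ∑ t, (1 - μ (π s)) * (1 - ν (π t)) *
            (16 * ∑ i : Fin 3, if (α ^ (i : ℕ)) (π s) = π t then (1 : ℂ) else 0) := by
          refine Finset.sum_congr rfl fun s _ => Finset.sum_congr rfl fun t _ => ?_
          by_cases hs : (s : G) ∈ Z
          · simp [hzero μ s hs]
          by_cases ht : (t : G) ∈ Z
          · simp [hzero ν t ht]
          rw [hK s t hs ht]
      _ = ∑ i : Fin 3, ∑ s, ∑ t, 16 * (1 - μ (π s)) *
            ((fun q => if (α ^ (i : ℕ)) (π s) = q then 1 - ν q else 0) (π t)) := by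
          simp only [Finset.mul_sum]
          rw [Finset.sum_comm (γ := Fin 3)]
          refine Finset.sum_congr rfl fun s _ => ?_
          rw [Finset.sum_comm]
          refine Finset.sum_congr rfl fun i _ => Finset.sum_congr rfl fun t _ => ?_
          split_ifs <;> ring
      _ = ∑ i : Fin 3, ∑ s, (fun q => 64 * ((1 - μ q) *
            (1 - ν.comp (α ^ (i : ℕ)).toMonoidHom q))) (π s) := by
          refine Finset.sum_congr rfl fun i _ => Finset.sum_congr rfl fun s _ => ?_
          rw [← Finset.mul_sum, hfib (fun q => if (α ^ (i : ℕ)) (π s) = q then 1 - ν q else 0),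
            Finset.sum_ite_eq, if_pos (Finset.mem_univ _)]
          show _ = 64 * ((1 - μ (π s)) * (1 - ν ((α ^ (i : ℕ)) (π s))))
          ring
      _ = ∑ i : Fin 3, 4096 * (1 + if ν.comp (α ^ (i : ℕ)).toMonoidHom = μ then 1 else 0) := by
          refine Finset.sum_congr rfl fun i _ => ?_
          rw [hfib (fun q => 64 * ((1 - μ q) * (1 - ν.comp (α ^ (i : ℕ)).toMonoidHom q))),
            ← Finset.mul_sum, sum_one_sub_mul hsq hμ (hcomp ν hν i), hV,
            if_congr (eq_comm (a := μ)) rfl rfl]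
          split_ifs <;> norm_num
      _ = (4096 : ℂ) * ((3 + ((r μ ν).card : ℤ) : ℤ) : ℂ) := by
          rw [← Finset.mul_sum, Finset.sum_add_distrib, Finset.sum_boole]
          simp [hrdef]
  have hr1 : ∀ μ ν : V →* ℂ, ν ≠ 1 → (r μ ν).card ≤ 1 := by
    intro μ ν hν
    refine Finset.card_le_one.2 fun i hi j hj => ?_
    by_contra hij
    rw [Finset.mem_filter] at hi hj
    refine hν (eq_one_of_fixed hsq
      (β := (α ^ (j : ℕ)) * (α ^ (i : ℕ))⁻¹) (fun q hq e1 => ?_) fun q => ?_)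
    · refine pow_fin_ne hα3 hαfix (Ne.symm hij) (q := ((α ^ (i : ℕ))⁻¹) q) (by simpa using hq) ?_
      rw [MulAut.mul_apply] at e1
      rw [e1, MulAut.apply_inv_self]
    · have h1 := DFunLike.congr_fun (hj.2.trans hi.2.symm) (((α ^ (i : ℕ))⁻¹) q)
      simpa [MulAut.mul_apply] using h1
  have hrself : ∀ μ : V →* ℂ, μ ≠ 1 → (r μ μ).card = 1 := fun μ hμ =>
    le_antisymm (hr1 μ μ hμ) (Finset.card_pos.2
      ⟨0, Finset.mem_filter.2 ⟨Finset.mem_univ _, MonoidHom.ext fun q => by simp⟩⟩)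
  have hetriv : ∀ μ : V →* ℂ, μ ≠ 1 → e μ (trivIrr G) = 1 := by
    intro μ hμ
    have h1 := he μ (trivIrr G)
    simp only [trivIrr_coe, one_mul] at h1
    rw [hfib (fun q => 1 - μ q), Finset.sum_sub_distrib, Star.sum_hom_zero hμ, sub_zero,
      Finset.sum_const, Finset.card_univ, ← Nat.card_eq_fintype_card, hV] at h1
    norm_num at h1
    exact_mod_cast h1
  -- the vectors
  let ι := {χ : Cfsg.IrrCharacter G // χ ∈ B.erase (trivIrr G)}
  let vec : (V →* ℂ) → ι → ℤ := fun μ χ => e μ χ.1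
  have hvec : ∀ μ ν : V →* ℂ, μ ≠ 1 → ν ≠ 1 →
      ∑ i, vec μ i * vec ν i = 2 + ((r μ ν).card : ℤ) := by
    intro μ ν hμ hν
    have h1 := hGram μ ν hμ hν
    rw [← Finset.add_sum_erase B _ htriv, hetriv μ hμ, hetriv ν hν] at h1
    rw [Finset.sum_coe_sort (B.erase (trivIrr G)) fun χ => e μ χ * e ν χ]
    omega
  set Ω := (Finset.univ : Finset (V →* ℂ)).erase 1
  have hΩ : Ω.card = 15 := by
    rw [Finset.card_erase_of_mem (Finset.mem_univ _), Finset.card_univ, ← Nat.card_eq_fintype_card,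
      Star.card_dual (comm_of_sq hsq), hV]
  have hsame : ∀ μ ν : V →* ℂ, μ ≠ 1 → ν ≠ 1 → (vec μ = vec ν ↔ (r μ ν).card = 1) := by
    intro μ ν hμ hν
    constructor
    · intro heq
      have h1 := hvec μ ν hμ hν
      rw [← heq, hvec μ μ hμ hμ, hrself μ hμ] at h1
      omega
    · intro hr
      have h0 : ∑ i, (vec μ i - vec ν i) * (vec μ i - vec ν i) = 0 := by
        simp only [sub_mul, mul_sub, Finset.sum_sub_distrib, hvec μ μ hμ hμ, hvec ν ν hν hν,
          hvec μ ν hμ hν, hrself μ hμ, hrself ν hν, hr,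
          show ∑ i, vec ν i * vec μ i = ∑ i, vec μ i * vec ν i from
            Finset.sum_congr rfl fun i _ => mul_comm _ _]
        norm_num
      exact funext fun i => sub_eq_zero.1 (mul_self_eq_zero.1
        ((Finset.sum_eq_zero_iff_of_nonneg fun i _ => mul_self_nonneg _).1 h0 i (Finset.mem_univ i)))
  have hW : (Ω.image vec).card = 5 := by
    have hfibre : ∀ w ∈ Ω.image vec, (Ω.filter fun ν => vec ν = w).card = 3 := by
      intro w hw
      obtain ⟨μ, hμΩ, rfl⟩ := Finset.mem_image.1 hw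
      have hμ := (Finset.mem_erase.1 hμΩ).1
      have hback : ∀ i : Fin 3, (μ.comp ((α ^ (i : ℕ))⁻¹).toMonoidHom).comp
          (α ^ (i : ℕ)).toMonoidHom = μ := fun i => MonoidHom.ext fun q => by simp
      have hne : ∀ i : Fin 3, μ.comp ((α ^ (i : ℕ))⁻¹).toMonoidHom ≠ 1 := fun i e1 => hμ (by
        rw [← hback i, e1]; rfl)
      rw [show Ω.filter (fun ν => vec ν = vec μ) = Finset.univ.image
          (fun i : Fin 3 => μ.comp ((α ^ (i : ℕ))⁻¹).toMonoidHom) from ?_,
        Finset.card_image_of_injective, Finset.card_univ, Fintype.card_fin]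
      · intro i j hij
        by_contra hne'
        simp only at hij
        exact hne' (Finset.card_le_one.1 (hr1 μ _ (hne j)) i
          (Finset.mem_filter.2 ⟨Finset.mem_univ _, by rw [← hij]; exact hback i⟩) j
          (Finset.mem_filter.2 ⟨Finset.mem_univ _, hback j⟩))
      · ext ν
        constructor
        · intro hνm
          obtain ⟨hνΩ, hν'⟩ := Finset.mem_filter.1 hνm
          have hν := (Finset.mem_erase.1 hνΩ).1
          obtain ⟨i, hi⟩ := Finset.card_pos.1
            (by rw [(hsame μ ν hμ hν).1 hν'.symm]; norm_num : 0 < (r μ ν).card)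
          refine Finset.mem_image.2 ⟨i, Finset.mem_univ _, MonoidHom.ext fun q => ?_⟩
          rw [← (Finset.mem_filter.1 hi).2]
          simp
        · intro hνm
          obtain ⟨i, -, rfl⟩ := Finset.mem_image.1 hνm
          refine Finset.mem_filter.2 ⟨Finset.mem_erase.2 ⟨hne i, Finset.mem_univ _⟩, ?_⟩
          exact ((hsame μ _ hμ (hne i)).2 (le_antisymm (hr1 μ _ (hne i)) (Finset.card_pos.2
            ⟨i, Finset.mem_filter.2 ⟨Finset.mem_univ _, hback i⟩⟩))).symm
    have h1 := Finset.card_eq_sum_card_image vec Ω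
    rw [Finset.sum_congr rfl hfibre, Finset.sum_const, smul_eq_mul, hΩ] at h1
    omega
  obtain ⟨f⟩ : Nonempty (Fin 5 ≃ {w // w ∈ Ω.image vec}) := ⟨(Finset.equivFinOfCardEq hW).symm⟩
  choose lam hlamΩ hlam using fun k => Finset.mem_image.1 (f k).2
  have hlam1 : ∀ k, lam k ≠ 1 := fun k => (Finset.mem_erase.1 (hlamΩ k)).1
  obtain ⟨p, q, g₁, g₂, w, hpq, hg₁, hg₂, hwinj, hwne, hpat⟩ :=
    pattern (fun k => vec (lam k))
      (fun k => by rw [hvec _ _ (hlam1 k) (hlam1 k), hrself _ (hlam1 k)]; norm_num)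
      (fun k l hkl => by
        have hne : ¬ (r (lam k) (lam l)).card = 1 := fun h1 => hkl (f.injective (Subtype.ext (by
          rw [← hlam k, ← hlam l, (hsame _ _ (hlam1 k) (hlam1 l)).2 h1])))
        have := hr1 (lam k) (lam l) (hlam1 l)
        rw [hvec _ _ (hlam1 k) (hlam1 l), show (r (lam k) (lam l)).card = 0 by omega]
        norm_num)
  have hall : ∀ μ ∈ Ω, ∃ k, vec μ = vec (lam k) := fun μ hμ =>
    ⟨f.symm ⟨vec μ, Finset.mem_image_of_mem _ hμ⟩, by rw [hlam]; simp⟩
  -- the three linear equations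
  have hlin : ∀ c : Cfsg.IrrCharacter G → ℂ,
      (∀ s : (S : Subgroup G), (s : G) ∉ Z → ∑ χ ∈ B, c χ * (χ : G → ℂ) s = 0) →
      ∀ k, c (trivIrr G) + c p.1 * g₁ + c q.1 * g₂ + c (w k).1 * (vec (lam k) (w k) : ℂ) = 0 := by
    intro c hc k
    have h1 : ∑ χ ∈ B, c χ * (64 * (e (lam k) χ : ℂ)) = 0 := by
      simp only [← he, Finset.mul_sum]
      rw [Finset.sum_comm]
      refine Finset.sum_eq_zero fun s _ => ?_
      by_cases hs : (s : G) ∈ Z
      · simp [hzero _ s hs]
      · simp only [← mul_assoc]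
        rw [← Finset.sum_mul, hc s hs, zero_mul]
    rw [Finset.sum_congr rfl (fun χ _ => show c χ * (64 * (e (lam k) χ : ℂ)) =
      64 * (c χ * (e (lam k) χ : ℂ)) by ring), ← Finset.mul_sum, mul_eq_zero,
      or_iff_right (by norm_num), ← Finset.add_sum_erase B _ htriv, hetriv _ (hlam1 k),
      ← Finset.sum_coe_sort (B.erase (trivIrr G)),
      ← Finset.sum_subset (Finset.subset_univ ({p, q, w k} : Finset ι)) (fun i _ hi => by
        simp only [Finset.mem_insert, Finset.mem_singleton, not_or] at hi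
        have h2 : e (lam k) i.1 = 0 := (hpat k).2.2.2 i hi.1 hi.2.1 hi.2.2
        rw [h2, Int.cast_zero, mul_zero]),
      Finset.sum_insert (by simp [hpq, (hwne k).1.symm]),
      Finset.sum_pair (hwne k).2.symm] at h1
    rw [show e (lam k) p.1 = g₁ from (hpat k).1, show e (lam k) q.1 = g₂ from (hpat k).2.1,
      Int.cast_one, mul_one] at h1
    linear_combination h1
  have hnot : ∀ s : (S : Subgroup G), (s : G) ∉ Z → ¬ IsConj (1 : G) s := fun s hs h1 =>
    hs ((isConj_one_right.1 h1) ▸ one_mem Z)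
  have hdeg := hlin (fun χ => (χ : G → ℂ) 1) fun s hs => by
    rw [← horth ⟨0, by simp⟩ (hpel s) (hnot s hs)]
    exact Finset.sum_congr rfl fun χ _ => by rw [hreal χ s hs]
  have hcz : ∀ s : (S : Subgroup G), (s : G) ∉ Z → ¬ IsConj z (s : G) := fun s hs h1 => by
    obtain ⟨g, hg⟩ := isConj_iff.1 h1
    exact sq_ne_one h s.2 hs (by
      rw [← hg, show g * z * g⁻¹ * (g * z * g⁻¹) = g * (z * z) * g⁻¹ by group, hzz]; group)
  have hvz := hlin (fun χ => (χ : G → ℂ) z) fun s hs => by
    rw [← horth ⟨1, by rw [pow_one]; exact orderOf_eq_prime (by rw [sq, hzz]) hz1⟩ (hpel s)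
      (hcz s hs)]
    exact Finset.sum_congr rfl fun χ _ => by rw [hreal χ s hs]
  have hsec := hlin (fun χ => (χ : G → ℂ) z ^ 2 / (χ : G → ℂ) 1) fun s hs =>
    section_equation hM h hI hz s.2 hs
  have hd1 : d (trivIrr G) = 1 := by
    have h1 : ((d (trivIrr G) : ℕ) : ℂ) = 1 := (hd (trivIrr G)).symm.trans (by simp)
    exact_mod_cast h1
  have ha1 : a (trivIrr G) = 1 := by
    have h1 : ((a (trivIrr G) : ℤ) : ℂ) = 1 := (ha (trivIrr G)).symm.trans (by simp)
    exact_mod_cast h1
  simp only [hd, ha, hd1, ha1, Nat.cast_one, Int.cast_one, div_one, one_pow] at hdeg hvz hsec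
  -- in integers
  set ε := fun k => vec (lam k) (w k)
  have hε : ∀ k, ε k * ε k = 1 := fun k => by
    rcases (hpat k).2.2.1 with h1 | h1 <;> simp [ε, h1]
  set A := g₁ * (d p.1 : ℤ)
  set A' := g₂ * (d q.1 : ℤ)
  set E := fun k => ε k * (d (w k).1 : ℤ)
  have e1 : ∀ k, 1 + A + A' + E k = 0 := fun k => by
    have h1 := hdeg k
    refine Int.cast_injective (α := ℂ) ?_
    simp only [A, A', E, ε]
    push_cast
    linear_combination h1
  have e2 : ∀ k, 1 + g₁ * a p.1 + g₂ * a q.1 + ε k * a (w k).1 = 0 := fun k => by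
    have h1 := hvz k
    refine Int.cast_injective (α := ℂ) ?_
    simp only [ε]
    push_cast
    linear_combination h1
  have hsq1 : g₁ * g₁ = 1 ∧ g₂ * g₂ = 1 := by
    rcases hg₁ with rfl | rfl <;> rcases hg₂ with rfl | rfl <;> norm_num
  have e3 : A * A' * E 0 + (g₁ * a p.1) ^ 2 * (A' * E 0) + (g₂ * a q.1) ^ 2 * (A * E 0) +
      (ε 0 * a (w 0).1) ^ 2 * (A * A') = 0 := by
    have h1 := hsec 0
    have hp0 : (d p.1 : ℂ) ≠ 0 := Nat.cast_ne_zero.2 (hd0 _).ne'
    have hq0 : (d q.1 : ℂ) ≠ 0 := Nat.cast_ne_zero.2 (hd0 _).ne'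
    have hw0 : (d (w 0).1 : ℂ) ≠ 0 := Nat.cast_ne_zero.2 (hd0 _).ne'
    field_simp at h1
    refine Int.cast_injective (α := ℂ) ?_
    simp only [A, A', E, ε] at *
    push_cast
    have c1 : (g₁ : ℂ) * g₁ = 1 := by exact_mod_cast hsq1.1
    have c2 : (g₂ : ℂ) * g₂ = 1 := by exact_mod_cast hsq1.2
    have c3 : (vec (lam 0) (w 0) : ℂ) * (vec (lam 0) (w 0)) = 1 := by exact_mod_cast hε 0
    linear_combination ((g₁ : ℂ) * g₂ * (vec (lam 0) (w 0))) * h1
  -- the column of the involution
  have hcol : ∑ χ ∈ B, a χ * a χ = 64 := by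
    have hn := column_norm hM (h.Z_le hz)
      (exists_centralizer_core h hI (h.Z_le hz) hz hz1 le_rfl)
    rw [card_centralizer_Z h hz] at hn
    refine Int.cast_injective (α := ℂ) ?_
    simp only [ha, map_intCast, Nat.cast_ofNat] at hn
    push_cast
    exact hn
  have e4 : 1 + (g₁ * a p.1) ^ 2 + (g₂ * a q.1) ^ 2 + 5 * (ε 0 * a (w 0).1) ^ 2 ≤ 64 := by
    have hm : ∀ k, a (w k).1 * a (w k).1 = (ε 0 * a (w 0).1) ^ 2 := fun k => by
      have h1 : ε k * a (w k).1 = ε 0 * a (w 0).1 := by linarith [e2 k, e2 0]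
      rw [← h1, sq, mul_mul_mul_comm, hε, one_mul]
    have hsub : ∑ i ∈ insert p (insert q (Finset.univ.image w)), a i.1 * a i.1 ≤
        ∑ i : ι, a i.1 * a i.1 :=
      Finset.sum_le_sum_of_subset_of_nonneg (Finset.subset_univ _) fun i _ _ => mul_self_nonneg _
    rw [Finset.sum_insert (by simp [hpq, fun k => (hwne k).1]),
      Finset.sum_insert (by simp [fun k => (hwne k).2]), Finset.sum_image hwinj.injOn] at hsub
    simp only [hm, Finset.sum_const, Finset.card_univ, Fintype.card_fin, nsmul_eq_mul] at hsub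
    rw [← Finset.add_sum_erase B _ htriv, ← Finset.sum_coe_sort (B.erase (trivIrr G))] at hcol
    have ht : a (trivIrr G) = 1 := ha1
    rw [mul_pow, mul_pow, sq g₁, sq g₂, hsq1.1, hsq1.2]
    push_cast at hsub
    rw [ht] at hcol
    linarith
  -- congruences
  have hcong : ∀ (x : ι) (g : ℤ), g * g = 1 → (∀ μ ∈ Ω, e μ x.1 = g) →
      (64 : ℤ) ∣ g * (d x.1 : ℤ) + 3 * (g * a x.1) + 60 ∧
        (16 : ℤ) ∣ g * (d x.1 : ℤ) - g * a x.1 := by
    intro x g hg hge
    set χ := x.1
    set O := Finset.univ.filter (fun s : (S : Subgroup G) => (s : G) ∉ Z)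
    have hT : ∑ s ∈ O, (χ : G → ℂ) (s : G) = 60 * (g : ℂ) := by
      have h1 : ∑ μ ∈ Ω, ∑ s : (S : Subgroup G), (χ : G → ℂ) (s : G) * (1 - μ (π s)) = 64 * (15 * (g : ℂ)) := by
        rw [Finset.sum_congr rfl fun μ hμ => (he μ χ).trans (by rw [hge μ hμ]), Finset.sum_const,
          hΩ, nsmul_eq_mul]
        push_cast; ring
      have hin : ∀ s : (S : Subgroup G),
          ∑ μ ∈ Ω, (1 - μ (π s)) = if π s = 1 then (0 : ℂ) else 16 := fun s => by
        rw [Finset.sum_erase _ (by simp), Finset.sum_sub_distrib,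
          Star.sum_dual_apply (comm_of_sq hsq), Finset.sum_const, Finset.card_univ,
          ← Nat.card_eq_fintype_card, Star.card_dual (comm_of_sq hsq), hV, nsmul_eq_mul, mul_one]
        split_ifs <;> simp
      rw [Finset.sum_comm] at h1
      simp only [← Finset.mul_sum, hin, mul_ite, mul_zero] at h1
      rw [Finset.sum_ite, Finset.sum_const_zero, zero_add, ← Finset.sum_mul,
        show (Finset.univ.filter fun s => ¬ π s = 1) = O from
          Finset.filter_congr fun s _ => by rw [hπ1]] at h1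
      linear_combination h1 / 16
    constructor
    · obtain ⟨n, hn⟩ := classInner_char_nat (isCharacter_restrict (S : Subgroup G) (irr_isCharacter χ))
        (isCharacter_one (G := (S : Subgroup G)))
      simp only [classInner_def, h.card_S, map_one, mul_one] at hn
      rw [sum_split (Z := Z) (fun s : (S : Subgroup G) => (χ : G → ℂ) (s : G)),
        Finset.sum_congr rfl (g := fun _ => (a χ : ℂ)) fun s hs => by
          obtain ⟨-, hs1, hs2⟩ := Finset.mem_filter.1 hs
          exact hval χ _ hs1 fun e1 => hs2 (Subtype.ext e1),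
        Finset.sum_const, card_involutions h, hT, OneMemClass.coe_one, hd, nsmul_eq_mul] at hn
      refine ⟨g * n, Int.cast_injective (α := ℂ) ?_⟩
      have hg' : (g : ℂ) * g = 1 := by exact_mod_cast hg
      push_cast at hn ⊢
      linear_combination 64 * (g : ℂ) * hn - 60 * hg'
    · obtain ⟨n, hn⟩ := sixteen_dvd h (irr_isCharacter χ) (hval χ)
      refine ⟨g * n, Int.cast_injective (α := ℂ) ?_⟩
      rw [hd] at hn
      push_cast at hn ⊢
      linear_combination (g : ℂ) * hn
  have hp := hcong p g₁ hsq1.1 fun μ hμ => by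
    obtain ⟨k, hk⟩ := hall μ hμ
    exact (congrFun hk p).trans (hpat k).1
  have hq := hcong q g₂ hsq1.2 fun μ hμ => by
    obtain ⟨k, hk⟩ := hall μ hμ
    exact (congrFun hk q).trans (hpat k).2.1
  -- a linear character
  have hone : ∀ (x : ι) (g : ℤ), (g = 1 ∨ g = -1) → g * (d x.1 : ℤ) ≠ 1 := by
    intro x g hg h1
    have hd1 : d x.1 = 1 := by rcases hg with rfl | rfl <;> omega
    have hdeg1 : (x.1 : G → ℂ) 1 = 1 := by rw [hd, hd1, Nat.cast_one]
    set l := linearOfDegreeOne (irr_isCharacter x.1) hdeg1 with hl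
    have hker : l.ker = ⊤ := (l.normal_ker.eq_bot_or_eq_top).resolve_left fun hb => hG
      ⟨⟨fun b c => (MonoidHom.ker_eq_bot_iff l).1 hb (by rw [map_mul, map_mul, mul_comm])⟩⟩
    refine (Finset.mem_erase.1 x.2).1 (Subtype.ext (funext fun g' => ?_))
    have hm : g' ∈ l.ker := hker ▸ mem_top g'
    rw [MonoidHom.mem_ker] at hm
    rw [← linearOfDegreeOne_apply (irr_isCharacter x.1) hdeg1, ← hl, hm, Units.val_one,
      trivIrr_coe]
  exact no_solution (e1 0) (e2 0) e3 e4 hp.1 hq.1 hp.2 hq.2 (hone p g₁ hg₁) (hone q g₂ hg₂)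

end UFour

/-- A simple group all whose involution centralisers are 2-nilpotent has no Sylow 2-subgroup of
type `U₃(4)`. -/
theorem not_uFourSylow {G : Type u} [Group G] [Finite G] [IsSimpleGroup G]
    (hG : ¬ IsMulCommutative G)
    (hI : ∀ t : G, orderOf t = 2 →
      Cfsg.HasNormalPComplement 2 ↥(Subgroup.centralizer ({t} : Set G)))
    {S : Sylow 2 G} {Z : Subgroup G} (h : UFourSylow S Z) : False :=
  UFour.false_of_uFourSylow hG h hI

end Cfsg.Agent.CIT
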